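import Groth.Agent.FBase64.Primary
import Mathlib.RingTheory.Spectrum.Prime.Chevalley
import Mathlib.RingTheory.Spectrum.Prime.Homeomorph
import Mathlib.RingTheory.LocalRing.ResidueField.Fiber
import Mathlib.Topology.Connected.Clopen
import Mathlib.RingTheory.IntegralClosure.IntegrallyClosed
import Mathlib.FieldTheory.IsSepClosed

/-!
Tensor products over a field with a geometrically connected, irreducible or integral factor.
-/

set_option autoImplicit false

universe u v w

open TensorProduct

namespace Groth.Agent.CAlg6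

/-- The spectrum is connected iff the ring is nontrivial with only trivial idempotents. -/
theorem connectedSpace_iff_idempotent (A : Type u) [CommRing A] :
    ConnectedSpace (PrimeSpectrum A) ↔
      Nontrivial A ∧ ∀ e : A, IsIdempotentElem e → e = 0 ∨ e = 1 := by
  constructor
  · intro h
    refine ⟨PrimeSpectrum.nonempty_iff_nontrivial.1 h.toNonempty, fun e he => ?_⟩
    have hc : IsClopen (PrimeSpectrum.basicOpen e : Set (PrimeSpectrum A)) :=
      PrimeSpectrum.isClopen_iff.2 ⟨e, he, rfl⟩
    rcases isClopen_iff.1 hc with h0 | h1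
    · left
      exact PrimeSpectrum.basicOpen_injOn_isIdempotentElem he IsIdempotentElem.zero
        (SetLike.ext' (by simpa using h0))
    · right
      exact PrimeSpectrum.basicOpen_injOn_isIdempotentElem he IsIdempotentElem.one
        (SetLike.ext' (by simpa using h1))
  · rintro ⟨h1, h2⟩
    rw [connectedSpace_iff_clopen]
    refine ⟨inferInstance, fun s hs => ?_⟩
    obtain ⟨e, he, rfl⟩ := PrimeSpectrum.isClopen_iff.1 hs
    rcases h2 e he with rfl | rfl <;> simp

/-- The fibre of `R → R ⊗[k] S` at a prime is the base change of `S` to the residue field. -/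
theorem fibre_homeo (k R S : Type u) [Field k] [CommRing R] [CommRing S] [Algebra k R] [Algebra k S]
    (p : PrimeSpectrum R) :
    Nonempty (↥(PrimeSpectrum.comap (algebraMap R (R ⊗[k] S)) ⁻¹' {p}) ≃ₜ
      PrimeSpectrum (p.asIdeal.ResidueField ⊗[k] S)) :=
  ⟨(PrimeSpectrum.preimageHomeomorphFiber R (R ⊗[k] S) p).trans
    (PrimeSpectrum.homeomorphOfRingEquiv
      (Algebra.TensorProduct.cancelBaseChange k R R p.asIdeal.ResidueField S).toRingEquiv)⟩

theorem includeLeft_injective (k R S : Type u) [Field k] [CommRing R] [CommRing S] [Algebra k R]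
    [Algebra k S] [Nontrivial S] : Function.Injective (algebraMap R (R ⊗[k] S)) :=
  Algebra.TensorProduct.includeLeft_injective (S := R) (algebraMap k S).injective

/-- Idempotents of `R ⊗[k] S` come from `R` when the fibres of `R → R ⊗[k] S` are connected. -/
theorem existsUnique_idempotent (k R S : Type u) [Field k] [CommRing R] [CommRing S] [Algebra k R]
    [Algebra k S] [Nontrivial S]
    (h : ∀ p : PrimeSpectrum R, ConnectedSpace (PrimeSpectrum (p.asIdeal.ResidueField ⊗[k] S)))
    (x : R ⊗[k] S) (hx : IsIdempotentElem x) :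
    ∃! e : R, IsIdempotentElem e ∧ algebraMap R (R ⊗[k] S) e = x := by
  let φ := PrimeSpectrum.comap (algebraMap R (R ⊗[k] S))
  have hopen : IsOpenMap φ := PrimeSpectrum.isOpenMap_comap_algebraMap_tensorProduct_of_field
  have hfib : ∀ p, IsConnected (φ ⁻¹' {p}) := fun p => by
    obtain ⟨e⟩ := fibre_homeo k R S p
    have := h p
    exact isConnected_iff_connectedSpace.2 (e.symm.surjective.connectedSpace e.symm.continuous)
  let U : Set (PrimeSpectrum (R ⊗[k] S)) := PrimeSpectrum.basicOpen x
  have hU : IsClopen U := PrimeSpectrum.isClopen_iff.2 ⟨x, hx, rfl⟩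
  have hsat : φ ⁻¹' (φ '' U) = U := by
    refine Set.Subset.antisymm (fun q hq => ?_) (Set.subset_preimage_image φ U)
    obtain ⟨q', hq', hqq'⟩ := hq
    exact (hfib (φ q)).isPreconnected.subset_isClopen hU ⟨q', hqq', hq'⟩ rfl
  have himg : φ '' U = (φ '' Uᶜ)ᶜ := by
    ext p
    constructor
    · rintro hp ⟨q, hq, rfl⟩
      have : q ∈ φ ⁻¹' (φ '' U) := hp
      rw [hsat] at this
      exact hq this
    · intro hp
      obtain ⟨q, hq⟩ := (hfib p).nonempty
      by_cases hqU : q ∈ U
      · exact ⟨q, hqU, hq⟩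
      · exact absurd ⟨q, hqU, hq⟩ hp
  have hc : IsClopen (φ '' U) :=
    ⟨himg ▸ (hopen _ hU.compl.isOpen).isClosed_compl, hopen _ hU.isOpen⟩
  obtain ⟨e, he, hee⟩ := PrimeSpectrum.isClopen_iff.1 hc
  have hex : algebraMap R (R ⊗[k] S) e = x := by
    refine PrimeSpectrum.basicOpen_injOn_isIdempotentElem (he.map _) hx (SetLike.ext' ?_)
    show _ = U
    rw [← hsat, hee]
    rfl
  exact ⟨e, ⟨he, hex⟩, fun e' he' => includeLeft_injective k R S (he'.2.trans hex.symm)⟩

theorem connectedSpace_tensor (k R S : Type u) [Field k] [CommRing R] [CommRing S] [Algebra k R]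
    [Algebra k S] [Nontrivial S] [ConnectedSpace (PrimeSpectrum R)]
    (h : ∀ p : PrimeSpectrum R, ConnectedSpace (PrimeSpectrum (p.asIdeal.ResidueField ⊗[k] S))) :
    ConnectedSpace (PrimeSpectrum (R ⊗[k] S)) := by
  obtain ⟨hR, hidem⟩ := (connectedSpace_iff_idempotent R).1 ‹_›
  refine (connectedSpace_iff_idempotent _).2 ⟨(includeLeft_injective k R S).nontrivial, fun x hx => ?_⟩
  obtain ⟨e, ⟨he, rfl⟩, -⟩ := existsUnique_idempotent k R S h x hx
  rcases hidem e he with rfl | rfl
  · exact Or.inl (map_zero _)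
  · exact Or.inr (map_one _)

theorem irreducibleSpace_tensor (k R S : Type u) [Field k] [CommRing R] [CommRing S] [Algebra k R]
    [Algebra k S] [IrreducibleSpace (PrimeSpectrum R)]
    (h : ∀ p : PrimeSpectrum R, IrreducibleSpace (PrimeSpectrum (p.asIdeal.ResidueField ⊗[k] S))) :
    IrreducibleSpace (PrimeSpectrum (R ⊗[k] S)) := by
  let φ := PrimeSpectrum.comap (algebraMap R (R ⊗[k] S))
  have hopen : IsOpenMap φ := PrimeSpectrum.isOpenMap_comap_algebraMap_tensorProduct_of_field
  have hfib : ∀ p, IrreducibleSpace ↥(φ ⁻¹' {p}) := fun p => by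
    obtain ⟨e⟩ := fibre_homeo k R S p
    exact e.irreducibleSpace_iff.2 (h p)
  obtain ⟨p⟩ := (inferInstance : Nonempty (PrimeSpectrum R))
  obtain ⟨q, -⟩ := (hfib p).toNonempty
  have : PreirreducibleSpace (PrimeSpectrum (R ⊗[k] S)) := by
    refine ⟨fun U V hU hV hUne hVne => ?_⟩
    rw [Set.univ_inter] at hUne hVne
    obtain ⟨p, ⟨a, ha, hap⟩, ⟨b, hb, hbp⟩⟩ :=
      nonempty_preirreducible_inter (hopen U hU) (hopen V hV) (hUne.image _) (hVne.image _)
    have := hfib p
    obtain ⟨z, hz⟩ := nonempty_preirreducible_inter (X := ↥(φ ⁻¹' {p}))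
      (hU.preimage continuous_subtype_val) (hV.preimage continuous_subtype_val)
      ⟨⟨a, hap⟩, ha⟩ ⟨⟨b, hbp⟩, hb⟩
    exact ⟨z.1, trivial, hz⟩
  exact { this with toNonempty := ⟨q⟩ }

/-- Over an algebraically closed field, irreducibility of the spectrum passes to tensor products. -/
theorem isPrime_nilradical_tensor_of_isAlgClosed (k A B : Type u) [Field k] [IsAlgClosed k]
    [CommRing A] [CommRing B] [Algebra k A] [Algebra k B] [IsDomain A]
    (hB : (nilradical B).IsPrime) : (nilradical (A ⊗[k] B)).IsPrime := by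
  have := hB
  have := FBase64.isDomain_tensor_of_isAlgClosed k A (B ⧸ nilradical B)
  let f := Algebra.TensorProduct.map (AlgHom.id k A) (Ideal.Quotient.mkₐ k (nilradical B))
  refine FBase64.isPrime_nilradical_of_surjective f.toRingHom ?_
  show RingHom.ker f ≤ _
  rw [Algebra.TensorProduct.lTensor_ker (R := k) (A := A) (Ideal.Quotient.mkₐ k (nilradical B))
    Ideal.Quotient.mk_surjective, Ideal.map_le_iff_le_comap]
  intro b hb
  rw [RingHom.mem_ker, Ideal.Quotient.mkₐ_eq_mk, Ideal.Quotient.eq_zero_iff_mem,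
    mem_nilradical] at hb
  exact mem_nilradical.2 (hb.map Algebra.TensorProduct.includeRight)

/-- Base change of irreducibility from an algebraic closure to any field. -/
theorem irreducibleSpace_of_algebraicClosure (k S : Type u) [Field k] [CommRing S] [Algebra k S]
    (h : IrreducibleSpace (PrimeSpectrum (AlgebraicClosure k ⊗[k] S))) (K : Type u) [Field K]
    [Algebra k K] : IrreducibleSpace (PrimeSpectrum (K ⊗[k] S)) := by
  rw [PrimeSpectrum.irreducibleSpace_iff_isPrime_nilradical] at h ⊢
  let Ω := AlgebraicClosure K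
  let kb := AlgebraicClosure k
  let i : kb →ₐ[k] Ω := IsAlgClosed.lift
  letI : Algebra kb Ω := i.toRingHom.toAlgebra
  haveI : IsScalarTower k kb Ω := IsScalarTower.of_algHom i
  have h1 : (nilradical (Ω ⊗[kb] (kb ⊗[k] S))).IsPrime :=
    isPrime_nilradical_tensor_of_isAlgClosed kb Ω _ h
  let e : Ω ⊗[k] S ≃ₐ[kb] Ω ⊗[kb] (kb ⊗[k] S) :=
    (Algebra.TensorProduct.cancelBaseChange k kb kb Ω S).symm
  have h2 : (nilradical (Ω ⊗[k] S)).IsPrime :=
    FBase64.isPrime_nilradical_of_injective e.toAlgHom.toRingHom e.injective h1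
  exact FBase64.isPrime_nilradical_of_injective
    (Algebra.TensorProduct.map (IsScalarTower.toAlgHom k K Ω) (AlgHom.id k S)).toRingHom
    (FBase64.map_injective_left _ (algebraMap K Ω).injective) h2

/-- Base change of integrality from an algebraic closure to any field. -/
theorem isDomain_of_algebraicClosure (k S : Type u) [Field k] [CommRing S] [Algebra k S]
    (h : IsDomain (AlgebraicClosure k ⊗[k] S)) (K : Type u) [Field K] [Algebra k K] :
    IsDomain (K ⊗[k] S) := by
  let Ω := AlgebraicClosure K
  let kb := AlgebraicClosure k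
  let i : kb →ₐ[k] Ω := IsAlgClosed.lift
  letI : Algebra kb Ω := i.toRingHom.toAlgebra
  haveI : IsScalarTower k kb Ω := IsScalarTower.of_algHom i
  have h1 : IsDomain (Ω ⊗[kb] (kb ⊗[k] S)) := FBase64.isDomain_tensor_of_isAlgClosed kb Ω _
  let e : Ω ⊗[k] S ≃ₐ[kb] Ω ⊗[kb] (kb ⊗[k] S) :=
    (Algebra.TensorProduct.cancelBaseChange k kb kb Ω S).symm
  have h2 : IsDomain (Ω ⊗[k] S) := e.toMulEquiv.isDomain
  exact Function.Injective.isDomain
    (Algebra.TensorProduct.map (IsScalarTower.toAlgHom k K Ω) (AlgHom.id k S))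
    (FBase64.map_injective_left _ (algebraMap K Ω).injective)

/-- Over a separably closed field a connected algebra is geometrically connected. -/
theorem connectedSpace_baseChange_of_isSepClosed (k S : Type u) [Field k] [IsSepClosed k]
    [CommRing S] [Algebra k S] [ConnectedSpace (PrimeSpectrum S)] (K : Type u) [Field K]
    [Algebra k K] : ConnectedSpace (PrimeSpectrum (K ⊗[k] S)) := by
  have h : ConnectedSpace (PrimeSpectrum (S ⊗[k] K)) := connectedSpace_tensor k S K fun p => by
    have := FBase64.irreducibleSpace_tensor (L := p.asIdeal.ResidueField)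
      (FBase64.separableClosure_eq_bot_of_isSepClosed (k := k)) K
    have e := PrimeSpectrum.homeomorphOfRingEquiv
      (Algebra.TensorProduct.comm k K p.asIdeal.ResidueField).toRingEquiv
    exact e.surjective.connectedSpace e.continuous
  have e := PrimeSpectrum.homeomorphOfRingEquiv (Algebra.TensorProduct.comm k S K).toRingEquiv
  exact e.surjective.connectedSpace e.continuous

end Groth.Agent.CAlg6
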