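import Mathlib
import Groth.Agent.FlatMor67.SmoothRegular
import Groth.Agent.Open62.SmoothFibre

/-! Spreading properties out from the generic point of an integral scheme. -/

set_option autoImplicit false
universe u
open CategoryTheory CategoryTheory.Limits AlgebraicGeometry Topology TopologicalSpace

namespace Groth.Agent.CAlg6.GenSpread

variable {X S : Scheme.{u}}

/-- a constructible set missing the generic fibre misses the fibres over an open set -/
theorem exists_open_disjoint [IsIntegral S] (f : X ⟶ S) [QuasiCompact f] [LocallyOfFinitePresentation f]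
    {E : Set X} (hE : IsLocallyConstructible E) (h : ∀ x, f x = genericPoint S → x ∉ E) :
    ∃ U : S.Opens, genericPoint S ∈ U ∧ ∀ x, f x ∈ U → x ∉ E := by
  have hc : IsLocallyConstructible (f '' E) := f.isLocallyConstructible_image hE
  obtain ⟨_, ⟨V, hV, rfl⟩, hηV, -⟩ :=
    S.isBasis_affineOpens.exists_subset_of_mem_open (Set.mem_univ (genericPoint S)) isOpen_univ
  let V' : S.Opens := V
  let Vs : Scheme.{u} := V'.toScheme
  let j : Vs ⟶ S := V'.ι
  let η' : Vs := ⟨genericPoint S, hηV⟩
  have hgen : IsGenericPoint η' Set.univ := by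
    rw [isGenericPoint_iff_specializes]
    intro y
    simp only [Set.mem_univ, iff_true]
    exact j.isOpenEmbedding.isInducing.specializes_iff.1 ((genericPoint_spec S).specializes trivial)
  have hcons : IsConstructible (j ⁻¹' (f '' E)) := by
    have : CompactSpace Vs := isCompact_iff_compactSpace.1 hV.isCompact
    have : IsAffine Vs := hV
    exact (hc.preimage_of_isOpenEmbedding j.isOpenEmbedding).isConstructible
  obtain ⟨W, hW, hηW, hW'⟩ := FlatMor67.exists_open_mem_nhds_of_isConstructible hgen hcons
  replace hW' := hW'.resolve_left fun hs => by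
    obtain ⟨x, hxE, hx⟩ := hs hηW
    exact h x hx hxE
  refine ⟨⟨j '' W, j.isOpenEmbedding.isOpenMap _ hW⟩, ⟨η', hηW, rfl⟩, ?_⟩
  rintro x ⟨y, hyW, hyx⟩ hxE
  exact hW' hyW ⟨x, hxE, hyx.symm⟩

lemma isLocallyConstructible_compl {Z : Type*} [TopologicalSpace Z] {E : Set Z} (h : IsLocallyConstructible E) :
    IsLocallyConstructible Eᶜ := fun x => by
  obtain ⟨U, hU, hUo, hc⟩ := h x
  exact ⟨U, hU, hUo, by rw [Set.preimage_compl]; exact hc.compl⟩

/-- smoothness of the generic fibre spreads to nearby fibres -/
theorem exists_open_smooth_fibres [IsIntegral S] (f : X ⟶ S) [QuasiCompact f] [LocallyOfFinitePresentation f]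
    (h : Smooth (pullback.snd f (S.fromSpecResidueField (genericPoint S)))) :
    ∃ U : S.Opens, genericPoint S ∈ U ∧ ∀ s ∈ U, Smooth (pullback.snd f (S.fromSpecResidueField s)) := by
  have : ∀ s : S, LocallyOfFinitePresentation (f.fiberToSpecResidueField s) := fun s =>
    MorphismProperty.pullback_snd _ _ inferInstance
  obtain ⟨U, hU, hU'⟩ := exists_open_disjoint f (isLocallyConstructible_compl (Open62.isLocallyConstructible_fibreSmooth f)) fun x hx => by
    simp only [Set.mem_compl_iff, not_not]
    rw [Open62.mem_fibreSmooth_iff]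
    have : Smooth (f.fiberToSpecResidueField (f x)) := by rw [hx]; exact h
    rw [Scheme.Hom.smoothLocus_eq_top]
    trivial
  refine ⟨U, hU, fun s hs => ?_⟩
  have := this s
  rw [← Scheme.Hom.smoothLocus_eq_top_iff, top_le_iff.symm]
  intro p _
  have hp : f (pullback.fst f (S.fromSpecResidueField s) p) = s := by
    rw [← Scheme.Hom.comp_apply, pullback.condition, Scheme.Hom.comp_apply]
    exact Scheme.fromSpecResidueField_apply _ _
  have := hU' (pullback.fst f (S.fromSpecResidueField s) p) (by rw [hp]; exact hs)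
  simp only [Set.mem_compl_iff, not_not] at this
  exact this (S.residueField s) (S.fromSpecResidueField s) p rfl

/-- the fibre of a base change to an open is the fibre -/
theorem smooth_fibre_open_iff (f : X ⟶ S) (U : S.Opens) (u : U.toScheme) :
    Smooth (pullback.snd (pullback.snd f U.ι) (U.toScheme.fromSpecResidueField u)) ↔
      Smooth (pullback.snd f (S.fromSpecResidueField (U.ι u))) := by
  let e := Spec.map (U.ι.residueFieldMap u)
  have he : e ≫ S.fromSpecResidueField (U.ι u) = U.toScheme.fromSpecResidueField u ≫ U.ι :=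
    U.ι.SpecMap_residueFieldMap_fromSpecResidueField u
  have h1 := (IsPullback.of_hasPullback (pullback.snd f U.ι) (U.toScheme.fromSpecResidueField u)).paste_horiz
    (IsPullback.of_hasPullback f U.ι)
  have h3 : IsPullback (pullback.fst f (S.fromSpecResidueField (U.ι u)))
      (pullback.snd f (S.fromSpecResidueField (U.ι u))) f (S.fromSpecResidueField (U.ι u)) :=
    IsPullback.of_hasPullback _ _
  let m := h3.lift (pullback.fst (pullback.snd f U.ι) (U.toScheme.fromSpecResidueField u) ≫ pullback.fst f U.ι)
    (pullback.snd (pullback.snd f U.ι) (U.toScheme.fromSpecResidueField u) ≫ e)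
    (by rw [Category.assoc (pullback.snd (pullback.snd f U.ι) _) e, he]; exact h1.w)
  have h4 : IsPullback m (pullback.snd (pullback.snd f U.ι) (U.toScheme.fromSpecResidueField u))
      (pullback.snd f (S.fromSpecResidueField (U.ι u))) e := by
    refine IsPullback.of_right ?_ (h3.lift_snd _ _ _) h3
    rw [h3.lift_fst, he]
    exact h1
  have : IsIso m := h4.isIso_fst_of_isIso
  exact ((MorphismProperty.arrow_mk_iso_iff (P := @Smooth)
    (Arrow.isoMk (asIso m) (asIso e) (by simp only [Arrow.mk_hom, asIso_hom]; exact h4.w))))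

theorem apply_genericPoint_open [IsIntegral S] (U : S.Opens) (u : U.toScheme) (hu : U.ι u = genericPoint S) :
    IsGenericPoint u Set.univ := by
  rw [isGenericPoint_iff_specializes]
  intro y
  simp only [Set.mem_univ, iff_true]
  refine U.ι.isOpenEmbedding.isInducing.specializes_iff.1 ?_
  rw [hu]
  exact (genericPoint_spec S).specializes trivial

/-- like `exists_open_disjoint`, with finiteness only over an open -/
theorem exists_open_disjoint' [IsIntegral S] (f : X ⟶ S) [QuasiCompact f] (U : S.Opens) (hU : genericPoint S ∈ U)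
    [LocallyOfFinitePresentation (pullback.snd f U.ι)]
    {E : Set X} (hE : IsLocallyConstructible (pullback.fst f U.ι ⁻¹' E)) (h : ∀ x, f x = genericPoint S → x ∉ E) :
    ∃ V : S.Opens, genericPoint S ∈ V ∧ V ≤ U ∧ ∀ x, f x ∈ V → x ∉ E := by
  let η' : U.toScheme := ⟨genericPoint S, hU⟩
  haveI : Nonempty U.toScheme := ⟨η'⟩
  haveI : IsIntegral U.toScheme := inferInstance
  have hgen : genericPoint U.toScheme = η' :=
    (genericPoint_spec U.toScheme).eq (apply_genericPoint_open U η' rfl)
  obtain ⟨W, hW, hW'⟩ := exists_open_disjoint (pullback.snd f U.ι) hE fun x hx => by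
    refine h _ ?_
    rw [← Scheme.Hom.comp_apply, pullback.condition, Scheme.Hom.comp_apply, hx, hgen]
    rfl
  refine ⟨U.ι ''ᵁ W, ⟨η', hgen ▸ hW, rfl⟩, ?_, ?_⟩
  · rintro _ ⟨w, -, rfl⟩
    exact w.2
  · rintro x ⟨w, hw, hwx⟩ hxE
    obtain ⟨x', hx', hx''⟩ := Scheme.Pullback.exists_preimage_pullback (f := f) (g := U.ι) x w hwx.symm
    exact hW' x' (show pullback.snd f U.ι x' ∈ W by rw [hx'']; exact hw) (by rw [Set.mem_preimage, hx']; exact hxE)

/-- smoothness of the generic fibre spreads, with finiteness only over an open -/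
theorem exists_open_smooth_fibres' [IsIntegral S] (f : X ⟶ S) [QuasiCompact f] (U : S.Opens) (hU : genericPoint S ∈ U)
    [LocallyOfFinitePresentation (pullback.snd f U.ι)]
    (h : Smooth (pullback.snd f (S.fromSpecResidueField (genericPoint S)))) :
    ∃ V : S.Opens, genericPoint S ∈ V ∧ V ≤ U ∧
      ∀ s ∈ V, Smooth (pullback.snd f (S.fromSpecResidueField s)) := by
  let η' : U.toScheme := ⟨genericPoint S, hU⟩
  haveI : Nonempty U.toScheme := ⟨η'⟩
  haveI : IsIntegral U.toScheme := inferInstance
  have hgen : genericPoint U.toScheme = η' :=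
    (genericPoint_spec U.toScheme).eq (apply_genericPoint_open U η' rfl)
  obtain ⟨W, hW, hW'⟩ := exists_open_smooth_fibres (pullback.snd f U.ι) (by
    rw [hgen]; exact (smooth_fibre_open_iff f U η').2 h)
  refine ⟨U.ι ''ᵁ W, ⟨η', hgen ▸ hW, rfl⟩, ?_, ?_⟩
  · rintro _ ⟨w, -, rfl⟩
    exact w.2
  · rintro _ ⟨w, hw, rfl⟩
    exact (smooth_fibre_open_iff f U w).1 (hW' w hw)

end Groth.Agent.CAlg6.GenSpread
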