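import Mathlib

/-! Baer: normal subgroups with finitely many mutual commutators have finite commutator subgroup. -/

set_option autoImplicit false

namespace Groth.Agent.CAlg6.GrpBaer

open scoped commutatorElement

variable {M : Type*} [Group M]

lemma comm_mul_right (g m n : M) : ⁅g, m * n⁆ = ⁅g, m⁆ * (m * ⁅g, n⁆ * m⁻¹) := by
  simp only [commutatorElement_def]; group

lemma comm_mul_left (g h n : M) : ⁅g * h, n⁆ = (g * ⁅h, n⁆ * g⁻¹) * ⁅g, n⁆ := by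
  simp only [commutatorElement_def]; group

/-- the case of a commutative commutator group -/
theorem finite_of_comm (H K : Subgroup M) [H.Normal] [K.Normal]
    (hfin : {c | ∃ h ∈ H, ∃ k ∈ K, ⁅h, k⁆ = c}.Finite)
    (hcomm : ∀ x ∈ ⁅H, K⁆, ∀ y ∈ ⁅H, K⁆, Commute x y) : ((⁅H, K⁆ : Subgroup M) : Set M).Finite := by
  have hleH : ⁅H, K⁆ ≤ H := Subgroup.commutator_le_left H K
  have hleK : ⁅H, K⁆ ≤ K := Subgroup.commutator_le_right H K
  -- commutators with the commutator group are torsion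
  have htor : ∀ g : M, (g ∈ H ∨ g ∈ K) → ∀ m ∈ ⁅H, K⁆, IsOfFinOrder ⁅g, m⁆ := by
    intro g hg m hm
    have hmem : ∀ n ∈ ⁅H, K⁆, ⁅g, n⁆ ∈ ⁅H, K⁆ := fun n hn => by
      rw [commutatorElement_def]
      exact mul_mem ((inferInstance : (⁅H, K⁆).Normal).conj_mem n hn g) (inv_mem hn)
    have hpow : ∀ j : ℕ, ⁅g, m ^ j⁆ = ⁅g, m⁆ ^ j := fun j => by
      induction j with
      | zero => simp
      | succ j ih =>
        rw [pow_succ, comm_mul_right, ih, pow_succ, (hcomm _ (pow_mem hm j) _ (hmem m hm)).eq, mul_inv_cancel_right]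
    have hin : ∀ j : ℕ, ⁅g, m ^ j⁆ ∈ {c | ∃ h ∈ H, ∃ k ∈ K, ⁅h, k⁆ = c} ∪ {c | ∃ h ∈ H, ∃ k ∈ K, ⁅h, k⁆ = c}⁻¹ := by
      intro j
      rcases hg with hg | hg
      · exact Or.inl ⟨g, hg, _, hleK (pow_mem hm j), rfl⟩
      · refine Or.inr ⟨_, hleH (pow_mem hm j), g, hg, ?_⟩
        exact (commutatorElement_inv g (m ^ j)).symm
    obtain ⟨a, b, hab, he⟩ : ∃ a b : ℕ, a < b ∧ ⁅g, m⁆ ^ a = ⁅g, m⁆ ^ b := by
      have h := (hfin.union hfin.inv)
      obtain ⟨a, -, b, -, hne, he⟩ := Set.infinite_univ.exists_ne_map_eq_of_mapsTo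
        (f := fun j : ℕ => ⁅g, m⁆ ^ j) (fun j _ => by show ⁅g, m⁆ ^ j ∈ _; rw [← hpow]; exact hin j) h
      rcases lt_or_gt_of_ne hne with h | h
      · exact ⟨a, b, h, he⟩
      · exact ⟨b, a, h, he.symm⟩
    rw [isOfFinOrder_iff_pow_eq_one]
    exact ⟨b - a, Nat.sub_pos_of_lt hab, by rw [pow_sub _ hab.le, he, mul_inv_cancel]⟩
  -- every commutator is torsion
  have hS : ∀ h ∈ H, ∀ k ∈ K, IsOfFinOrder ⁅h, k⁆ := by
    intro h hh k hk
    have hs : ⁅h, k⁆ ∈ ⁅H, K⁆ := Subgroup.commutator_mem_commutator hh hk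
    have hr : ∀ j : ℕ, ⁅h ^ j, k⁆ ∈ ⁅H, K⁆ ∧
        ∃ r ∈ ⁅H, K⁆, IsOfFinOrder r ∧ ⁅h ^ j, k⁆ = r * ⁅h, k⁆ ^ j := fun j => by
      refine ⟨Subgroup.commutator_mem_commutator (pow_mem hh j) hk, ?_⟩
      induction j with
      | zero => exact ⟨1, one_mem _, IsOfFinOrder.one, by simp⟩
      | succ j ih =>
        obtain ⟨r, hr, hrt, he⟩ := ih
        have ht : ⁅h ^ j, k⁆ ∈ ⁅H, K⁆ := Subgroup.commutator_mem_commutator (pow_mem hh j) hk
        have hc : ⁅h, ⁅h ^ j, k⁆⁆ ∈ ⁅H, K⁆ := by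
          rw [commutatorElement_def h]
          exact mul_mem ((inferInstance : (⁅H, K⁆).Normal).conj_mem _ ht h) (inv_mem ht)
        refine ⟨⁅h, ⁅h ^ j, k⁆⁆ * r, mul_mem hc hr,
          (hcomm _ hc _ hr).isOfFinOrder_mul (htor h (Or.inl hh) _ ht) hrt, ?_⟩
        rw [pow_succ' h, comm_mul_left, pow_succ ⁅h, k⁆, mul_assoc _ r, ← mul_assoc r, ← he, ← mul_assoc]
        congr 1
        simp only [commutatorElement_def]; group
    obtain ⟨a, -, b, -, hne, he⟩ := Set.infinite_univ.exists_ne_map_eq_of_mapsTo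
      (f := fun j : ℕ => ⁅h ^ j, k⁆) (fun j _ => (⟨_, pow_mem hh j, k, hk, rfl⟩ : _ ∈ {c | ∃ h ∈ H, ∃ k ∈ K, ⁅h, k⁆ = c})) hfin
    have key : ∀ a b : ℕ, a < b → ⁅h ^ a, k⁆ = ⁅h ^ b, k⁆ → IsOfFinOrder ⁅h, k⁆ := by
      intro a b hab he
      obtain ⟨r, hr₁, hr₁t, ha⟩ := (hr a).2
      obtain ⟨r', hr₂, hr₂t, hb⟩ := (hr b).2
      have : ⁅h, k⁆ ^ (b - a) = r'⁻¹ * r := by
        rw [pow_sub _ hab.le, eq_inv_mul_iff_mul_eq, ← mul_assoc, ← hb, ← he, ha, mul_inv_cancel_right]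
      have ht := (hcomm _ (inv_mem hr₂) _ hr₁).isOfFinOrder_mul hr₂t.inv hr₁t
      rw [← this] at ht
      exact ht.of_pow (Nat.sub_pos_of_lt hab).ne'
    rcases lt_or_gt_of_ne hne with h' | h'
    · exact key a b h' he
    · exact key b a h' he.symm
  letI : CommGroup ↥⁅H, K⁆ :=
    { (⁅H, K⁆).toGroup with mul_comm := fun x y => Subtype.ext (hcomm x x.2 y y.2).eq }
  have htors : ∀ x ∈ ⁅H, K⁆, IsOfFinOrder x := by
    intro x hx
    rw [Subgroup.commutator_def] at hx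
    have : x ∈ ⁅H, K⁆ ∧ IsOfFinOrder x := by
      induction hx using Subgroup.closure_induction with
      | mem y hy =>
        obtain ⟨h, hh, k, hk, rfl⟩ := hy
        exact ⟨Subgroup.commutator_mem_commutator hh hk, hS h hh k hk⟩
      | one => exact ⟨one_mem _, IsOfFinOrder.one⟩
      | mul a b _ _ ha hb => exact ⟨mul_mem ha.1 hb.1, (hcomm _ ha.1 _ hb.1).isOfFinOrder_mul ha.2 hb.2⟩
      | inv a _ ha => exact ⟨inv_mem ha.1, ha.2.inv⟩
    exact this.2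
  have : Group.FG ↥⁅H, K⁆ := by
    rw [Group.fg_iff_subgroup_fg, Subgroup.fg_iff]
    exact ⟨_, (Subgroup.commutator_def H K).symm, hfin.subset (by rintro c ⟨h, hh, k, hk, rfl⟩; exact ⟨h, hh, k, hk, rfl⟩)⟩
  have : Finite ↥⁅H, K⁆ := CommGroup.finite_of_fg_isMulTorsion (G := ↥⁅H, K⁆) (fun x => Submonoid.isOfFinOrder_coe.1 (htors x x.2))
  exact Set.toFinite _

/-- Baer's theorem -/
theorem finite_commutator (H K : Subgroup M) [H.Normal] [K.Normal]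
    (hfin : {c | ∃ h ∈ H, ∃ k ∈ K, ⁅h, k⁆ = c}.Finite) : ((⁅H, K⁆ : Subgroup M) : Set M).Finite := by
  classical
  -- the centre of the commutator group has finite index
  have hconj : ∀ c ∈ {c | ∃ h ∈ H, ∃ k ∈ K, ⁅h, k⁆ = c}, ∀ g : M, g * c * g⁻¹ ∈ {c | ∃ h ∈ H, ∃ k ∈ K, ⁅h, k⁆ = c} := by
    rintro _ ⟨h, hh, k, hk, rfl⟩ g
    exact ⟨g * h * g⁻¹, ‹H.Normal›.conj_mem h hh g, g * k * g⁻¹, ‹K.Normal›.conj_mem k hk g,
      by simp only [commutatorElement_def]; group⟩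
  have : Finite {c | ∃ h ∈ H, ∃ k ∈ K, ⁅h, k⁆ = c} := hfin.to_subtype
  let act : ↥⁅H, K⁆ → ({c | ∃ h ∈ H, ∃ k ∈ K, ⁅h, k⁆ = c} → {c | ∃ h ∈ H, ∃ k ∈ K, ⁅h, k⁆ = c}) :=
    fun g c => ⟨g * c.1 * (g : M)⁻¹, hconj c.1 c.2 g⟩
  have hact : ∀ g g' : ↥⁅H, K⁆, act g = act g' → ∀ x : ↥⁅H, K⁆, (g : M) * x * (g : M)⁻¹ = g' * x * (g' : M)⁻¹ := by
    intro g g' e x
    let φ := (MulAut.conj (g : M)).toMonoidHom
    let ψ := (MulAut.conj (g' : M)).toMonoidHom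
    have hle : ⁅H, K⁆ ≤ φ.eqLocus ψ := by
      rw [Subgroup.commutator_le]
      intro h hh k hk
      exact congrArg Subtype.val (congrFun e ⟨⁅h, k⁆, h, hh, k, hk, rfl⟩)
    exact hle x.2
  have hcs : Finite (commutatorSet ↥⁅H, K⁆) := by
    have hrep : ∀ r : Set.range act, ∃ g, act g = r.1 := fun r => r.2
    choose rep hrep using hrep
    have hcomm : ∀ g g' x : ↥⁅H, K⁆, act g = act g' → ⁅g, x⁆ = ⁅g', x⁆ := fun g g' x e => Subtype.ext (by
      simp [commutatorElement_def, hact g g' e x])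
    refine Set.Finite.to_subtype ((Set.toFinite (Set.range fun p : Set.range act × Set.range act =>
      ⁅rep p.1, rep p.2⁆)).subset ?_)
    rintro _ ⟨a, b, rfl⟩
    refine ⟨(⟨act a, a, rfl⟩, ⟨act b, b, rfl⟩), ?_⟩
    show ⁅rep ⟨act a, a, rfl⟩, rep ⟨act b, b, rfl⟩⁆ = ⁅a, b⁆
    rw [hcomm _ a _ (hrep ⟨act a, a, rfl⟩), ← commutatorElement_inv, hcomm _ b _ (hrep ⟨act b, b, rfl⟩),
      commutatorElement_inv]
  have hCC : ((⁅⁅H, K⁆, ⁅H, K⁆⁆ : Subgroup M) : Set M).Finite := by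
    rw [← Subgroup.map_subtype_commutator]
    have : Finite ↥(commutator ↥⁅H, K⁆) := inferInstance
    exact (Set.finite_coe_iff.1 this).image _
  -- pass to the quotient by the derived group
  let q := QuotientGroup.mk' ⁅⁅H, K⁆, ⁅H, K⁆⁆
  have := Subgroup.Normal.map ‹H.Normal› q (QuotientGroup.mk'_surjective _)
  have := Subgroup.Normal.map ‹K.Normal› q (QuotientGroup.mk'_surjective _)
  have hab := finite_of_comm (H.map q) (K.map q) ((hfin.image q).subset (by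
      rintro c ⟨_, ⟨h, hh, rfl⟩, _, ⟨k, hk, rfl⟩, rfl⟩
      exact ⟨_, ⟨h, hh, k, hk, rfl⟩, map_commutatorElement q h k⟩)) (by
      rw [← Subgroup.map_commutator]
      rintro _ ⟨x, hx, rfl⟩ _ ⟨y, hy, rfl⟩
      rw [commute_iff_eq, ← commutatorElement_eq_one_iff_mul_comm, ← map_commutatorElement]
      exact (QuotientGroup.eq_one_iff _).2 (Subgroup.commutator_mem_commutator hx hy))
  rw [← Subgroup.map_commutator, Subgroup.coe_map] at hab
  refine Set.Finite.subset (hab.biUnion (t := fun x => q ⁻¹' {x}) fun x hx => ?_) (fun y hy =>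
    Set.mem_biUnion (Set.mem_image_of_mem q hy) (show y ∈ q ⁻¹' {q y} from rfl))
  obtain ⟨y, -, rfl⟩ := hx
  refine (hCC.image fun c => y * c).subset fun z hz => ⟨y⁻¹ * z, ?_, mul_inv_cancel_left _ _⟩
  exact (QuotientGroup.eq).1 (Eq.symm hz)

end Groth.Agent.CAlg6.GrpBaer
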