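import Mathlib
import Groth.Agent.SpecSp50.Basic
import Groth.Agent.LimTop61.Diag

set_option autoImplicit false
universe u
open CategoryTheory CategoryTheory.Limits MonoidalCategory CartesianMonoidalCategory MonObj AlgebraicGeometry

namespace Groth.Agent.CAlg6.GrpWord

variable {C : Type*} [Category C] [CartesianMonoidalCategory C]

def pow (X : C) : ℕ → C
  | 0 => 𝟙_ C
  | n + 1 => X ⊗ pow X n

def proj (X : C) : ∀ n, Fin n → (pow X n ⟶ X)
  | 0 => fun j => j.elim0
  | n + 1 => Fin.cases (fst X (pow X n)) fun j => snd X (pow X n) ≫ proj X n j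

def tuple {T : C} (X : C) : ∀ {n}, (Fin n → (T ⟶ X)) → (T ⟶ pow X n)
  | 0, _ => toUnit T
  | _ + 1, x => lift (x 0) (tuple X fun j => x j.succ)

@[simp] lemma tuple_proj {T X : C} : ∀ {n} (x : Fin n → (T ⟶ X)) (j : Fin n), tuple X x ≫ proj X n j = x j
  | 0, _, j => j.elim0
  | n + 1, x, j => by
    refine Fin.cases ?_ ?_ j
    · simp only [tuple, proj, Fin.cases_zero]
      exact lift_fst _ _
    · intro i
      simp only [tuple, proj, Fin.cases_succ]
      exact (lift_snd_assoc _ _ _).trans (tuple_proj _ i)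

variable {G : C} [GrpObj G]

noncomputable def precomp {T T' : C} (l : T' ⟶ T) : (T ⟶ G) →* (T' ⟶ G) where
  toFun g := l ≫ g
  map_one' := MonObj.comp_one _
  map_mul' g h := MonObj.comp_mul _ _ _

lemma precomp_apply {T T' : C} (l : T' ⟶ T) (g : T ⟶ G) : precomp l g = l ≫ g := rfl

noncomputable def word {X T : C} (f : X ⟶ G) {n : ℕ} (x : Fin n → (T ⟶ X)) (ε : Fin n → Bool) : T ⟶ G :=
  (List.ofFn fun j : Fin n => if ε j then x j ≫ f else (x j ≫ f)⁻¹).prod

lemma comp_word {X T T' : C} (f : X ⟶ G) (l : T' ⟶ T) {n : ℕ} (x : Fin n → (T ⟶ X)) (ε : Fin n → Bool) :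
    l ≫ word f x ε = word f (fun j => l ≫ x j) ε := by
  rw [word, word, ← precomp_apply, map_list_prod, List.map_ofFn]
  refine congrArg (fun v => (List.ofFn v).prod) (funext fun j => ?_)
  simp only [Function.comp]
  split
  · rw [precomp_apply, Category.assoc]
  · rw [map_inv, precomp_apply, Category.assoc]

lemma tuple_word {X T : C} (f : X ⟶ G) {n : ℕ} (x : Fin n → (T ⟶ X)) (ε : Fin n → Bool) :
    tuple X x ≫ word f (proj X n) ε = word f x ε := by
  rw [comp_word]; simp

section Sch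
variable {S : Scheme.{u}}

lemma lfp_tensor (X Y : Over S) [hX : LocallyOfFinitePresentation X.hom] [LocallyOfFinitePresentation Y.hom] :
    LocallyOfFinitePresentation (X ⊗ Y).hom := by
  show LocallyOfFinitePresentation (pullback.fst X.hom Y.hom ≫ X.hom)
  exact MorphismProperty.comp_mem _ _ _ (MorphismProperty.pullback_fst _ _ ‹_›) hX

lemma lft_tensor (X Y : Over S) [hX : LocallyOfFiniteType X.hom] [LocallyOfFiniteType Y.hom] :
    LocallyOfFiniteType (X ⊗ Y).hom := by
  show LocallyOfFiniteType (pullback.fst X.hom Y.hom ≫ X.hom)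
  exact MorphismProperty.comp_mem _ _ _ (MorphismProperty.pullback_fst _ _ ‹_›) hX

lemma lfp_pow (X : Over S) [LocallyOfFinitePresentation X.hom] : ∀ n, LocallyOfFinitePresentation (pow X n).hom
  | 0 => by
    show LocallyOfFinitePresentation (𝟙 S)
    infer_instance
  | n + 1 => @lfp_tensor S X (pow X n) _ (lfp_pow X n)

lemma lft_pow (X : Over S) [LocallyOfFiniteType X.hom] : ∀ n, LocallyOfFiniteType (pow X n).hom
  | 0 => by
    show LocallyOfFiniteType (𝟙 S)
    infer_instance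
  | n + 1 => @lft_tensor S X (pow X n) _ (lft_pow X n)

/-- if lfp images of schemes cover a quasi-compact scheme, finitely many do -/
theorem exists_finset_cover {H : Scheme.{u}} [CompactSpace H] {κ : Type*} (Y : κ → Scheme.{u}) (w : ∀ i, Y i ⟶ H)
    [∀ i, LocallyOfFinitePresentation (w i)] (hw : ∀ h : H, ∃ i, h ∈ Set.range (w i)) :
    ∃ s : Finset κ, ∀ h : H, ∃ i ∈ s, h ∈ Set.range (w i) := by
  classical
  have key : ∀ U : H.affineOpens, ∃ s : Finset κ, ∀ h ∈ U.1, ∃ i ∈ s, h ∈ Set.range (w i) := by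
    rintro ⟨U, hU⟩
    have : IsAffine (U : Scheme.{u}) := hU
    choose i q hq using fun h : U => hw h.1
    have hb : ∀ h : U, ∃ V : (Y (i h)).Opens, IsAffineOpen V ∧ q h ∈ V ∧ V ≤ (w (i h)) ⁻¹ᵁ U := fun h => by
      obtain ⟨_, ⟨V, hV, rfl⟩, hqV, hVU⟩ := (Y (i h)).isBasis_affineOpens.exists_subset_of_mem_open
        (show q h ∈ (w (i h)) ⁻¹ᵁ U by show w (i h) (q h) ∈ U; rw [hq h]; exact h.2) ((w (i h)) ⁻¹ᵁ U).2
      exact ⟨V, hV, hqV, hVU⟩
    choose V hV hqV hVU using hb
    let Cs : U → Set (U : Scheme.{u}) := fun h => Set.range ((w (i h)).resLE U (V h) (hVU h))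
    have hcons : ∀ h, Topology.IsConstructible (Cs h) := fun h => by
      have : IsAffine (V h : Scheme.{u}) := hV h
      have hl : LocallyOfFinitePresentation ((w (i h)).resLE U (V h) (hVU h)) := by
        have : LocallyOfFinitePresentation ((w (i h)).resLE U (V h) (hVU h) ≫ U.ι) := by
          rw [Scheme.Hom.resLE_comp_ι]; infer_instance
        exact LimTop61.locallyOfFinitePresentation_of_comp _ U.ι
      simpa [Cs, Set.image_univ] using
        ((w (i h)).resLE U (V h) (hVU h)).isConstructible_image Topology.IsConstructible.univ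
    have hmem : ∀ h : U, h ∈ Cs h := fun h => ⟨⟨q h, hqV h⟩, Subtype.ext (by
      rw [← hq h]
      exact congr($(Scheme.Hom.resLE_comp_ι (w (i h)) (hVU h)) (⟨q h, hqV h⟩ : V h)))⟩
    have : SpectralSpace (U : Scheme.{u}) := { }
    have hK : @IsCompact (U : Scheme.{u}) (constructibleTopology (U : Scheme.{u})) Set.univ :=
      (Groth.Agent.SpecSp50.compactSpace_cons (X := (U : Scheme.{u}))).isCompact_univ
    obtain ⟨t, ht⟩ := @IsCompact.elim_finite_subcover (U : Scheme.{u}) (constructibleTopology (U : Scheme.{u})) _ _ hK Cs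
      (fun h => (Groth.Agent.SpecSp50.isConstructible_cons_isClopen (hcons h)).2)
      (fun h _ => Set.mem_iUnion.2 ⟨h, hmem h⟩)
    refine ⟨t.image i, fun h hh => ?_⟩
    obtain ⟨a, hat, ⟨v, hv⟩⟩ := Set.mem_iUnion₂.1 (ht (Set.mem_univ ⟨h, hh⟩))
    refine ⟨i a, Finset.mem_image_of_mem i hat, (V a).ι v, ?_⟩
    have := congr($(Scheme.Hom.resLE_comp_ι (w (i a)) (hVU a)) v)
    simp only [Scheme.Hom.comp_apply] at this
    rw [← this, hv]; rfl
  have hb : ∀ h : H, ∃ U : H.Opens, h ∈ U ∧ IsAffineOpen U := fun h => by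
    obtain ⟨_, ⟨U, hU, rfl⟩, hh, -⟩ := H.isBasis_affineOpens.exists_subset_of_mem_open (Set.mem_univ h) isOpen_univ
    exact ⟨U, hh, hU⟩
  choose U hUmem hU using hb
  obtain ⟨t, ht⟩ := isCompact_univ.elim_finite_subcover (fun h : H => (U h : Set H)) (fun h => (U h).2)
    (fun h _ => Set.mem_iUnion.2 ⟨h, hUmem h⟩)
  choose s hs using fun h : H => key ⟨U h, hU h⟩
  refine ⟨t.biUnion s, fun h => ?_⟩
  obtain ⟨a, hat, ha⟩ := Set.mem_iUnion₂.1 (ht (Set.mem_univ h))
  obtain ⟨j, hj, hr⟩ := hs a h ha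
  exact ⟨j, Finset.mem_biUnion.2 ⟨a, hat, hj⟩, hr⟩

end Sch
end Groth.Agent.CAlg6.GrpWord
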