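import Mathlib
import Groth.Agent.AlgGrp79.SepDense
import Groth.Agent.CAlg6.GrpWord

set_option autoImplicit false
universe u v
open CategoryTheory MonoidalCategory CartesianMonoidalCategory MonObj AlgebraicGeometry
open scoped commutatorElement

namespace Groth.Agent.CAlg6.GrpSolv

section Grp
variable (M : Type v) [Group M]

def derWord : ℕ → Set M
  | 0 => Set.univ
  | n + 1 => {z | ∃ a ∈ derWord n, ∃ b ∈ derWord n, ⁅a, b⁆ = z}

def lcsWord : ℕ → Set M
  | 0 => Set.univ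
  | n + 1 => {z | ∃ a ∈ lcsWord n, ∃ b : M, ⁅a, b⁆ = z}

variable {M}

lemma derWord_conj : ∀ n (x g : M), x ∈ derWord M n → g * x * g⁻¹ ∈ derWord M n
  | 0, _, _, _ => trivial
  | n + 1, _, g, h => by
    obtain ⟨a, ha, b, hb, rfl⟩ := h
    exact ⟨_, derWord_conj n a g ha, _, derWord_conj n b g hb, by simp [commutatorElement_def]; group⟩

lemma lcsWord_conj : ∀ n (x g : M), x ∈ lcsWord M n → g * x * g⁻¹ ∈ lcsWord M n
  | 0, _, _, _ => trivial
  | n + 1, _, g, h => by
    obtain ⟨a, ha, b, rfl⟩ := h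
    exact ⟨_, lcsWord_conj n a g ha, g * b * g⁻¹, by simp [commutatorElement_def]; group⟩

lemma commutator_closure_le (A B : Set M) (N : Subgroup M) [N.Normal] (h : ∀ a ∈ A, ∀ b ∈ B, ⁅a, b⁆ ∈ N) :
    ⁅Subgroup.closure A, Subgroup.closure B⁆ ≤ N := by
  let π := QuotientGroup.mk' N
  have key : ⁅Subgroup.closure (π '' A), Subgroup.closure (π '' B)⁆ = ⊥ := by
    rw [Subgroup.commutator_eq_bot_iff_le_centralizer, Subgroup.centralizer_closure, Subgroup.closure_le]
    rintro _ ⟨a, ha, rfl⟩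
    rw [SetLike.mem_coe, Subgroup.mem_centralizer_iff]
    rintro _ ⟨b, hb, rfl⟩
    have : π ⁅a, b⁆ = 1 := (QuotientGroup.eq_one_iff _).2 (h a ha b hb)
    rw [map_commutatorElement, commutatorElement_eq_one_iff_mul_comm] at this
    exact this.symm
  rw [← MonoidHom.map_closure, ← MonoidHom.map_closure, ← Subgroup.map_commutator,
    Subgroup.map_eq_bot_iff, QuotientGroup.ker_mk'] at key
  exact key

lemma normal_closure_of_conj {S : Set M} (h : ∀ x ∈ S, ∀ g : M, g * x * g⁻¹ ∈ S) : (Subgroup.closure S).Normal :=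
  ⟨fun n hn g => by
    have hle : (Subgroup.closure S).map (MulAut.conj g).toMonoidHom ≤ Subgroup.closure S := by
      rw [MonoidHom.map_closure, Subgroup.closure_le]
      rintro _ ⟨x, hx, rfl⟩
      exact Subgroup.subset_closure (h x hx g)
    exact hle ⟨n, hn, rfl⟩⟩

lemma derivedSeries_eq : ∀ n, derivedSeries M n = Subgroup.closure (derWord M n)
  | 0 => (Subgroup.closure_univ).symm
  | n + 1 => by
    have : (Subgroup.closure (derWord M (n + 1))).Normal :=
      normal_closure_of_conj fun x hx g => derWord_conj _ x g hx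
    rw [derivedSeries_succ, derivedSeries_eq n]
    refine le_antisymm (commutator_closure_le _ _ _ fun a ha b hb => Subgroup.subset_closure ⟨a, ha, b, hb, rfl⟩) ?_
    rw [Subgroup.closure_le]
    rintro _ ⟨a, ha, b, hb, rfl⟩
    exact Subgroup.commutator_mem_commutator (Subgroup.subset_closure ha) (Subgroup.subset_closure hb)

lemma lowerCentralSeries_eq : ∀ n, Subgroup.lowerCentralSeries (⊤ : Subgroup M) n = Subgroup.closure (lcsWord M n)
  | 0 => by simp [lcsWord]
  | n + 1 => by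
    have : (Subgroup.closure (lcsWord M (n + 1))).Normal :=
      normal_closure_of_conj fun x hx g => lcsWord_conj _ x g hx
    rw [show Subgroup.lowerCentralSeries (⊤ : Subgroup M) (n + 1) = ⁅Subgroup.lowerCentralSeries (⊤ : Subgroup M) n, ⊤⁆ from rfl,
      lowerCentralSeries_eq n, ← Subgroup.closure_univ]
    refine le_antisymm (commutator_closure_le _ _ _ fun a ha b _ => Subgroup.subset_closure ⟨a, ha, b, rfl⟩) ?_
    rw [Subgroup.closure_le]
    rintro _ ⟨a, ha, b, rfl⟩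
    exact Subgroup.commutator_mem_commutator (Subgroup.subset_closure ha) (Subgroup.subset_closure (Set.mem_univ b))

lemma derivedSeries_eq_bot_iff (n : ℕ) : derivedSeries M n = ⊥ ↔ derWord M n ⊆ {1} := by
  rw [derivedSeries_eq, Subgroup.closure_eq_bot_iff]

lemma lowerCentralSeries_eq_bot_iff (n : ℕ) :
    Subgroup.lowerCentralSeries (⊤ : Subgroup M) n = ⊥ ↔ lcsWord M n ⊆ {1} := by
  rw [lowerCentralSeries_eq, Subgroup.closure_eq_bot_iff]

end Grp

section Repr
variable {k : Type u} [Field k] {G : Over (Spec (CommRingCat.of k))} [GrpObj G]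

/-- a family of subsets of the groups of points is the image of a smooth scheme -/
def IsWord (E : ∀ T : Over (Spec (CommRingCat.of k)), Set (T ⟶ G)) : Prop :=
  ∃ (P : Over (Spec (CommRingCat.of k))) (_ : Smooth P.hom) (δ : P ⟶ G), ∀ T, E T = Set.range fun t : T ⟶ P => t ≫ δ

lemma smooth_tensor (X Y : Over (Spec (CommRingCat.of k))) [hX : Smooth X.hom] [Smooth Y.hom] : Smooth (X ⊗ Y).hom := by
  show Smooth (Limits.pullback.fst X.hom Y.hom ≫ X.hom)
  exact MorphismProperty.comp_mem _ _ _ (MorphismProperty.pullback_fst _ _ ‹_›) hX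

lemma comp_commutator {T T' : Over (Spec (CommRingCat.of k))} (t : T' ⟶ T) (a b : T ⟶ G) :
    t ≫ ⁅a, b⁆ = ⁅t ≫ a, t ≫ b⁆ :=
  map_commutatorElement (GrpWord.precomp (G := G) t) a b

lemma isWord_univ [Smooth G.hom] : IsWord (G := G) fun _ => Set.univ :=
  ⟨G, ‹_›, 𝟙 G, fun T => (Set.range_eq_univ.2 fun t => ⟨t, Category.comp_id t⟩).symm⟩

lemma IsWord.comm {E F : ∀ T : Over (Spec (CommRingCat.of k)), Set (T ⟶ G)} (hE : IsWord E) (hF : IsWord F) :
    IsWord fun T => {z : T ⟶ G | ∃ a ∈ E T, ∃ b ∈ F T, ⁅a, b⁆ = z} := by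
  obtain ⟨P, hP, δ, hδ⟩ := hE
  obtain ⟨Q, hQ, d', hd'⟩ := hF
  refine ⟨P ⊗ Q, smooth_tensor P Q, ⁅fst P Q ≫ δ, snd P Q ≫ d'⁆, fun T => ?_⟩
  ext z
  simp only [hδ, hd', Set.mem_setOf_eq, Set.mem_range]
  constructor
  · rintro ⟨_, ⟨t, rfl⟩, _, ⟨t', rfl⟩, rfl⟩
    refine ⟨lift t t', ?_⟩
    rw [comp_commutator, lift_fst_assoc, lift_snd_assoc]
  · rintro ⟨t, rfl⟩
    exact ⟨_, ⟨t ≫ fst P Q, rfl⟩, _, ⟨t ≫ snd P Q, rfl⟩, by rw [comp_commutator, Category.assoc, Category.assoc]⟩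

lemma isWord_derWord [Smooth G.hom] : ∀ n, IsWord (G := G) fun T => derWord (T ⟶ G) n
  | 0 => isWord_univ
  | n + 1 => (isWord_derWord n).comm (isWord_derWord n)

lemma isWord_lcsWord [Smooth G.hom] : ∀ n, IsWord (G := G) fun T => lcsWord (T ⟶ G) n
  | 0 => isWord_univ
  | n + 1 => by
    have h := (isWord_lcsWord n).comm (isWord_univ (G := G))
    simp only [Set.mem_univ, true_and] at h
    exact h

lemma IsWord.trivial_iff {E : ∀ T : Over (Spec (CommRingCat.of k)), Set (T ⟶ G)} (hE : IsWord E)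
    (Ω : Type u) [Field Ω] [Algebra k Ω] [IsAlgClosed Ω] :
    (∀ T, E T ⊆ {1}) ↔ E (AlgGrp79.Pt k Ω) ⊆ {1} := by
  refine ⟨fun h => h _, fun h T => ?_⟩
  obtain ⟨P, hP, δ, hδ⟩ := hE
  have := AlgGrp79.isSeparated_grp G
  have : δ = 1 := (AlgGrp79.ptsDense_of_smooth (K' := Ω) P).hom_ext δ 1 fun x => by
    rw [MonObj.comp_one]
    exact h (by rw [hδ]; exact ⟨x, rfl⟩)
  rw [hδ]
  rintro _ ⟨t, rfl⟩
  simp [this, MonObj.comp_one]

end Repr
end Groth.Agent.CAlg6.GrpSolv
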