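import Mathlib
import Groth.Agent.CAlg6.GrpWord

set_option autoImplicit false
universe u
open CategoryTheory CategoryTheory.Limits MonoidalCategory CartesianMonoidalCategory MonObj AlgebraicGeometry

namespace Groth.Agent.CAlg6.GrpWord

variable {k : Type u} [Field k] [IsAlgClosed k]

lemma kpt_comp {X : Over (Spec (CommRingCat.of k))} (g : 𝟙_ (Over (Spec (CommRingCat.of k))) ⟶ X) :
    (g.left : Spec (CommRingCat.of k) ⟶ X.left) ≫ X.hom = 𝟙 _ := Over.w g

lemma kpt_ext {X : Over (Spec (CommRingCat.of k))} [LocallyOfFiniteType X.hom]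
    (g g' : 𝟙_ (Over (Spec (CommRingCat.of k))) ⟶ X)
    (p p' : (𝟙_ (Over (Spec (CommRingCat.of k)))).left) (h : g.left.base p = g'.left.base p') : g = g' := by
  apply Over.OverMorphism.ext
  refine ext_of_apply_closedPoint_eq (f := (g.left : Spec (CommRingCat.of k) ⟶ X.left))
    (g := (g'.left : Spec (CommRingCat.of k) ⟶ X.left)) X.hom (kpt_comp g) (kpt_comp g') ?_
  have e : ∀ q : Spec (CommRingCat.of k), q = IsLocalRing.closedPoint k := fun q => Subsingleton.elim _ _
  rw [e p, e p'] at h
  exact h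

lemma isClosed_kpt {X : Over (Spec (CommRingCat.of k))} [LocallyOfFiniteType X.hom]
    (g : 𝟙_ (Over (Spec (CommRingCat.of k))) ⟶ X) (p : (𝟙_ (Over (Spec (CommRingCat.of k)))).left) :
    IsClosed ({g.left.base p} : Set X.left) := by
  have h := ((pointEquivClosedPoint X.hom) ⟨(g.left : Spec (CommRingCat.of k) ⟶ X.left), kpt_comp g⟩).2
  have e : p = IsLocalRing.closedPoint k := @Subsingleton.elim (Spec (CommRingCat.of k)) _ _ _
  rw [e]
  exact h

/-- a rational point of the target in the image lifts to a rational point -/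
lemma exists_lift_kpt {X Y : Over (Spec (CommRingCat.of k))} [LocallyOfFiniteType X.hom] [LocallyOfFiniteType Y.hom]
    (w : X ⟶ Y) (g : 𝟙_ (Over (Spec (CommRingCat.of k))) ⟶ Y) (p : (𝟙_ (Over (Spec (CommRingCat.of k)))).left)
    (q : X.left) (h : w.left.base q = g.left.base p) :
    ∃ s : 𝟙_ (Over (Spec (CommRingCat.of k))) ⟶ X, s ≫ w = g := by
  have : JacobsonSpace X.left := LocallyOfFiniteType.jacobsonSpace X.hom
  obtain ⟨y, hy, hyc⟩ := nonempty_inter_closedPoints (Z := w.left.base ⁻¹' {g.left.base p}) ⟨q, h⟩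
    ((isClosed_kpt g p).preimage w.left.continuous).isLocallyClosed
  let s : 𝟙_ (Over (Spec (CommRingCat.of k))) ⟶ X :=
    Over.homMk (pointOfClosedPoint X.hom y hyc) (pointOfClosedPoint_comp X.hom y hyc)
  refine ⟨s, kpt_ext _ _ p p ?_⟩
  show w.left.base (s.left.base p) = _
  rw [show s.left.base p = y from pointOfClosedPoint_apply X.hom y hyc p]
  exact hy

end Groth.Agent.CAlg6.GrpWord
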