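import Mathlib
import Groth.Agent.CAlg6.GrpWord

/-! The sets of points of a group scheme lying under words of given length in a morphism. -/

set_option autoImplicit false
universe u
open CategoryTheory CategoryTheory.Limits MonoidalCategory CartesianMonoidalCategory MonObj AlgebraicGeometry

namespace Groth.Agent.CAlg6.GrpWord

variable {S : Scheme.{u}} {G X : Over S} [GrpObj G]

/-- the words of length `n` with values in `T` -/
def Wd (f : X ⟶ G) (T : Over S) (n : ℕ) : Set (T ⟶ G) :=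
  {z | ∃ (x : Fin n → (T ⟶ X)) (ε : Fin n → Bool), word f x ε = z}

/-- the points of `G` under words of length `n` -/
def WSet (f : X ⟶ G) (n : ℕ) : Set G.left :=
  {g | ∃ (T : Over S) (p : T.left) (z : T ⟶ G), z ∈ Wd f T n ∧ z.left.base p = g}

lemma wset_eq (f : X ⟶ G) (n : ℕ) :
    {g : G.left | ∃ (T : Over S) (p : T.left) (x : Fin n → (T ⟶ X)) (ε : Fin n → Bool),
      ((List.ofFn fun j : Fin n => if ε j then x j ≫ f else (x j ≫ f)⁻¹).prod : T ⟶ G).left.base p = g} = WSet f n := by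
  ext g
  exact ⟨fun ⟨T, p, x, ε, h⟩ => ⟨T, p, _, ⟨x, ε, rfl⟩, h⟩, fun ⟨T, p, _, ⟨x, ε, rfl⟩, h⟩ => ⟨T, p, x, ε, h⟩⟩

variable {f : X ⟶ G}

lemma wd_zero (T : Over S) : (1 : T ⟶ G) ∈ Wd f T 0 := ⟨fun j => j.elim0, fun j => j.elim0, by simp [word]⟩

lemma wd_mul {T : Over S} {m n : ℕ} {a b : T ⟶ G} (ha : a ∈ Wd f T m) (hb : b ∈ Wd f T n) :
    a * b ∈ Wd f T (m + n) := by
  obtain ⟨x, ε, rfl⟩ := ha
  obtain ⟨y, δ, rfl⟩ := hb
  refine ⟨Fin.append x y, Fin.append ε δ, ?_⟩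
  rw [word, word, word, ← List.prod_append, ← List.ofFn_fin_append]
  refine congrArg (fun v => (List.ofFn v).prod) (funext fun j => ?_)
  refine Fin.addCases (fun i => ?_) (fun i => ?_) j <;> simp

lemma wd_of {T : Over S} (x : T ⟶ X) : x ≫ f ∈ Wd f T 1 := ⟨fun _ => x, fun _ => true, by simp [word]⟩

lemma wd_of_inv {T : Over S} (x : T ⟶ X) : (x ≫ f)⁻¹ ∈ Wd f T 1 := ⟨fun _ => x, fun _ => false, by simp [word]⟩

lemma wd_inv {T : Over S} : ∀ {n : ℕ} {a : T ⟶ G}, a ∈ Wd f T n → a⁻¹ ∈ Wd f T n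
  | 0, a, ha => by
    obtain ⟨x, ε, rfl⟩ := ha
    simpa [word] using wd_zero (f := f) T
  | n + 1, a, ha => by
    obtain ⟨x, ε, rfl⟩ := ha
    have h1 : (word f (fun j => x (Fin.succ j)) (fun j => ε (Fin.succ j)))⁻¹ ∈ Wd f T n := wd_inv ⟨_, _, rfl⟩
    rw [word, List.ofFn_succ, List.prod_cons, mul_inv_rev]
    refine wd_mul h1 ?_
    cases ε 0
    · rw [if_neg Bool.false_ne_true]
      exact (_root_.inv_inv (x 0 ≫ f)).symm ▸ wd_of (x 0)
    · rw [if_pos rfl]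
      exact wd_of_inv (x 0)

lemma wd_comp {T T' : Over S} (l : T' ⟶ T) {n : ℕ} {a : T ⟶ G} (ha : a ∈ Wd f T n) : l ≫ a ∈ Wd f T' n := by
  obtain ⟨x, ε, rfl⟩ := ha
  exact ⟨_, ε, (comp_word f l x ε).symm⟩

lemma wd_list (n : ℕ) {T : Over S} (x : Fin n → (T ⟶ X)) (ε : Fin n → Bool) : word f x ε ∈ Wd f T n := ⟨x, ε, rfl⟩

lemma wset_eq_iUnion (n : ℕ) : WSet f n = ⋃ ε : Fin n → Bool, Set.range (word f (proj X n) ε).left := by
  ext g
  rw [Set.mem_iUnion]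
  constructor
  · rintro ⟨T, p, _, ⟨x, ε, rfl⟩, rfl⟩
    exact ⟨ε, (tuple X x).left p, congr(($(tuple_word f x ε)).left p)⟩
  · rintro ⟨ε, q, rfl⟩
    exact ⟨_, q, _, ⟨_, ε, rfl⟩, rfl⟩

lemma mem_wset_of_mem {T : Over S} {n : ℕ} {z : T ⟶ G} (h : z ∈ Wd f T n) (p : T.left) :
    z.left.base p ∈ WSet f n := ⟨T, p, z, h, rfl⟩

/-- a point over a word point is, after a base change, a word -/
lemma exists_wd_of_mem {T : Over S} {z : T ⟶ G} {p : T.left} {n : ℕ} (h : z.left.base p ∈ WSet f n) :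
    ∃ (T' : Over S) (l : T' ⟶ T) (p' : T'.left), l.left.base p' = p ∧ l ≫ z ∈ Wd f T' n := by
  obtain ⟨T₁, p₁, z₁, hz₁, he⟩ := h
  obtain ⟨q, hq, hq₁⟩ := Scheme.Pullback.exists_preimage_pullback (f := z.left) (g := z₁.left) p p₁ he.symm
  let T' : Over S := Over.mk (pullback.fst z.left z₁.left ≫ T.hom)
  let l : T' ⟶ T := Over.homMk (pullback.fst z.left z₁.left) rfl
  let l₁ : T' ⟶ T₁ := Over.homMk (pullback.snd z.left z₁.left) (by
    show pullback.snd z.left z₁.left ≫ T₁.hom = pullback.fst z.left z₁.left ≫ T.hom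
    rw [← Over.w z₁, ← pullback.condition_assoc, Over.w])
  refine ⟨T', l, q, hq, ?_⟩
  rw [show l ≫ z = l₁ ≫ z₁ by ext1; exact pullback.condition]
  exact wd_comp l₁ hz₁

lemma mul_mem_wset {T : Over S} {a b : T ⟶ G} {p : T.left} {m n : ℕ} (ha : a.left.base p ∈ WSet f m)
    (hb : b.left.base p ∈ WSet f n) : (a * b).left.base p ∈ WSet f (m + n) := by
  obtain ⟨T₁, l₁, p₁, hp₁, h₁⟩ := exists_wd_of_mem ha
  have hb₁ : (l₁ ≫ b).left.base p₁ ∈ WSet f n := by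
    show b.left.base (l₁.left.base p₁) ∈ _
    rw [hp₁]; exact hb
  obtain ⟨T₂, l₂, p₂, hp₂, h₂⟩ := exists_wd_of_mem hb₁
  refine ⟨T₂, p₂, (l₂ ≫ l₁) ≫ (a * b), ?_, ?_⟩
  · rw [MonObj.comp_mul, Category.assoc, Category.assoc]
    exact wd_mul (wd_comp l₂ h₁) h₂
  · show (a * b).left.base (l₁.left.base (l₂.left.base p₂)) = _
    rw [hp₂, hp₁]

lemma inv_mem_wset {T : Over S} {a : T ⟶ G} {p : T.left} {n : ℕ} (ha : a.left.base p ∈ WSet f n) :
    (a⁻¹).left.base p ∈ WSet f n := by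
  obtain ⟨T₁, l₁, p₁, hp₁, h₁⟩ := exists_wd_of_mem ha
  refine ⟨T₁, p₁, l₁ ≫ a⁻¹, ?_, ?_⟩
  · rw [GrpObj.comp_inv]; exact wd_inv h₁
  · show (a⁻¹).left.base (l₁.left.base p₁) = _
    rw [hp₁]

/-- the unit lies everywhere under a word of length one -/
def UnitWord (f : X ⟶ G) : Prop := ∀ (T : Over S) (p : T.left), (1 : T ⟶ G).left.base p ∈ WSet f 1

lemma wset_mono_succ (h1 : UnitWord f) (n : ℕ) : WSet f n ⊆ WSet f (n + 1) := by
  rintro _ ⟨T, p, z, hz, rfl⟩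
  have := mul_mem_wset (mem_wset_of_mem hz p) (h1 T p)
  rwa [_root_.mul_one] at this

lemma wset_mono (h1 : UnitWord f) {m n : ℕ} (h : m ≤ n) : WSet f m ⊆ WSet f n := by
  induction h with
  | refl => exact Set.Subset.rfl
  | step _ ih => exact ih.trans (wset_mono_succ h1 _)

lemma range_subset_wset_one : Set.range f.left ⊆ WSet f 1 := by
  rintro _ ⟨x, rfl⟩
  exact ⟨X, x, _, wd_of (𝟙 X), by rw [Category.id_comp]⟩

/-- words factor through any subgroup through which `f` factors -/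
lemma wset_subset_range {Γ : Over S} [GrpObj Γ] (i : Γ ⟶ G) [IsMonHom i] (hf : ∃ f' : X ⟶ Γ, f' ≫ i = f) (n : ℕ) :
    WSet f n ⊆ Set.range i.left := by
  obtain ⟨f', rfl⟩ := hf
  rintro _ ⟨T, p, _, ⟨x, ε, rfl⟩, rfl⟩
  let φ : (T ⟶ Γ) →* (T ⟶ G) :=
    { toFun := fun v => v ≫ i, map_one' := MonObj.one_comp i, map_mul' := fun a b => MonObj.mul_comp a b i }
  have e : word (f' ≫ i) x ε = word f' x ε ≫ i := by
    change _ = φ _
    rw [word, word, map_list_prod, List.map_ofFn]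
    refine congrArg (fun v => (List.ofFn v).prod) (funext fun j => ?_)
    simp only [Function.comp]
    cases ε j
    · simp only [Bool.false_eq_true, if_false, map_inv]
      exact congrArg (·⁻¹) (Category.assoc _ _ _).symm
    · simp only [if_true]
      exact (Category.assoc _ _ _).symm
  exact ⟨(word f' x ε).left p, congr(($e).left p).symm⟩

lemma word_comp_iso {Y : Over S} (e : Y ≅ X) (T : Over S) (n : ℕ) : Wd (e.hom ≫ f) T n = Wd f T n := by
  ext z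
  constructor
  · rintro ⟨x, ε, rfl⟩
    exact ⟨fun j => x j ≫ e.hom, ε, by simp [word]⟩
  · rintro ⟨x, ε, rfl⟩
    exact ⟨fun j => x j ≫ e.inv, ε, by simp [word]⟩

end Groth.Agent.CAlg6.GrpWord
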