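import Mathlib
import Groth.Agent.CAlg6.GrpWordSet
import Groth.Agent.AlgGrp79.Image
import Groth.Agent.AlgGrp79.RatDense
import Groth.Agent.FBase64.Geometric

/-! The closure of the image of a morphism which is stable under division is a closed subgroup scheme. -/

set_option autoImplicit false
universe u
open CategoryTheory CategoryTheory.Limits MonoidalCategory CartesianMonoidalCategory MonObj AlgebraicGeometry

namespace Groth.Agent.CAlg6.GrpWord

variable {k : Type u} [Field k]

lemma geomRed_tensor (X Y : Over (Spec (CommRingCat.of k))) [LocallyOfFiniteType X.hom] [GeometricallyReduced X.hom]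
    [GeometricallyReduced Y.hom] : GeometricallyReduced (X ⊗ Y).hom := by
  show GeometricallyReduced (pullback.fst X.hom Y.hom ≫ X.hom)
  refine ⟨geometrically_iff_of_commRing_of_isClosedUnderIsomorphisms.mpr fun K _ _ => ?_⟩
  let t := Spec.map (CommRingCat.ofHom (algebraMap k K))
  haveI : LocallyOfFiniteType (pullback.snd X.hom t) := MorphismProperty.pullback_snd _ _ inferInstance
  haveI : IsLocallyNoetherian (pullback X.hom t) :=
    LocallyOfFiniteType.isLocallyNoetherian (pullback.snd X.hom t)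
  haveI : IsReduced (pullback X.hom t) :=
    pullback_of_geometrically GeometricallyReduced.geometrically_isReduced _ _
  haveI : GeometricallyReduced (pullback.fst X.hom Y.hom) := inferInstance
  haveI : Flat (pullback.fst X.hom Y.hom) := MorphismProperty.pullback_fst _ _ inferInstance
  haveI : IsReduced (pullback (pullback.fst X.hom Y.hom) (pullback.fst X.hom t)) := inferInstance
  exact isReduced_of_isOpenImmersion (pullbackRightPullbackFstIso X.hom t (pullback.fst X.hom Y.hom)).inv

lemma isReduced_of_geomRed (X : Over (Spec (CommRingCat.of k))) [LocallyOfFiniteType X.hom]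
    [GeometricallyReduced X.hom] : IsReduced X.left :=
  GeometricallyReduced.isReduced_of_flat_of_isLocallyNoetherian X.hom

lemma geomRed_one : GeometricallyReduced (𝟙_ (Over (Spec (CommRingCat.of k)))).hom := by
  show GeometricallyReduced (𝟙 (Spec (CommRingCat.of k)))
  refine ⟨geometrically_iff_of_commRing_of_isClosedUnderIsomorphisms.mpr fun K _ _ => ?_⟩
  exact isReduced_of_isOpenImmersion
    (pullback.snd (𝟙 (Spec (CommRingCat.of k))) (Spec.map (CommRingCat.ofHom (algebraMap k K))))

lemma geomRed_pow (X : Over (Spec (CommRingCat.of k))) [LocallyOfFiniteType X.hom] [GeometricallyReduced X.hom] :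
    ∀ n, GeometricallyReduced (pow X n).hom
  | 0 => geomRed_one
  | n + 1 => @geomRed_tensor k _ X (pow X n) _ _ (geomRed_pow X n)

lemma qc_tensor (X Y : Over (Spec (CommRingCat.of k))) [hX : QuasiCompact X.hom] [QuasiCompact Y.hom] :
    QuasiCompact (X ⊗ Y).hom := by
  show QuasiCompact (pullback.fst X.hom Y.hom ≫ X.hom)
  exact MorphismProperty.comp_mem _ _ _ (MorphismProperty.pullback_fst _ _ ‹_›) hX

lemma qc_pow (X : Over (Spec (CommRingCat.of k))) [QuasiCompact X.hom] : ∀ n, QuasiCompact (pow X n).hom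
  | 0 => by
    show QuasiCompact (𝟙 (Spec (CommRingCat.of k)))
    infer_instance
  | n + 1 => @qc_tensor k _ X (pow X n) _ (qc_pow X n)

lemma qc_left {X G : Over (Spec (CommRingCat.of k))} [LocallyOfFiniteType G.hom] [QuasiCompact X.hom] (f : X ⟶ G) :
    QuasiCompact f.left := by
  have : IsLocallyNoetherian G.left := LocallyOfFiniteType.isLocallyNoetherian G.hom
  have : QuasiCompact (f.left ≫ G.hom) := by rw [Over.w]; infer_instance
  exact QuasiCompact.of_comp f.left G.hom

variable {G : Over (Spec (CommRingCat.of k))} [GrpObj G]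

/-- a division stable closure of an image carries a reduced closed subgroup -/
theorem exists_subgroup_closure' {P : Over (Spec (CommRingCat.of k))} (w : P ⟶ G) [QuasiCompact w.left]
    [IsReduced P.left] [IsReduced (P ⊗ P).left]
    (hone : Set.range (1 : 𝟙_ (Over (Spec (CommRingCat.of k))) ⟶ G).left ⊆ closure (Set.range w.left))
    (hdiv : Set.range ((fst P P ≫ w)⁻¹ * (snd P P ≫ w)).left ⊆ closure (Set.range w.left)) :
    ∃ (K : Over (Spec (CommRingCat.of k))) (_ : GrpObj K) (i : K ⟶ G), IsMonHom i ∧ IsClosedImmersion i.left ∧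
      IsReduced K.left ∧ Set.range i.left = closure (Set.range w.left) ∧
      (GeometricallyReduced P.hom → GeometricallyReduced K.hom) := by
  let K : Over (Spec (CommRingCat.of k)) := Over.mk (w.left.imageι ≫ G.hom)
  let i : K ⟶ G := Over.homMk w.left.imageι rfl
  let g : P ⟶ K := Over.homMk w.left.toImage (by
    show w.left.toImage ≫ w.left.imageι ≫ G.hom = _
    rw [← Category.assoc, Scheme.Hom.toImage_imageι, Over.w])
  have hgi : g ≫ i = w := by ext1; exact w.left.toImage_imageι
  haveI : IsClosedImmersion i.left := inferInstanceAs (IsClosedImmersion w.left.imageι)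
  haveI : IsSchemeTheoreticallyDominant g.left := AlgGrp79.schDominant_toImage w.left
  haveI : QuasiCompact g.left := inferInstanceAs (QuasiCompact w.left.toImage)
  have hrange : Set.range i.left = closure (Set.range w.left) := by
    show Set.range (w.left.ker.subschemeι) = _
    rw [Scheme.IdealSheafData.range_subschemeι, Scheme.Hom.support_ker]
  haveI : Mono i := Over.mono_of_mono_left i
  haveI := (AlgGrp79.schDominant_tensor g g).1
  haveI := (AlgGrp79.schDominant_tensor g g).2
  obtain ⟨e, he⟩ := @AlgGrp79.exists_lift_of_range_subset k _ K G (𝟙_ (Over (Spec (CommRingCat.of k)))) i _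
    (inferInstanceAs (IsReduced (Spec (CommRingCat.of k)))) 1 (hrange ▸ hone)
  obtain ⟨y, hy⟩ := AlgGrp79.exists_lift_of_range_subset i ((fst P P ≫ w)⁻¹ * (snd P P ≫ w)) (hrange ▸ hdiv)
  obtain ⟨m, hm⟩ := AlgGrp79.exists_lift_of_dominant (g ⊗ₘ g) ((fst K K ≫ i)⁻¹ * (snd K K ≫ i)) i y (by
    rw [hy, MonObj.comp_mul, GrpObj.comp_inv, tensorHom_fst_assoc, tensorHom_snd_assoc, hgi])
  obtain ⟨hK, hK'⟩ := AlgGrp79.exists_grpObj_closed i ⟨e, by rw [he]; simp [Hom.one_def]⟩
    (fun T k₁ k₂ => ⟨lift k₁ k₂ ≫ m, by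
      rw [Category.assoc, hm, MonObj.comp_mul, GrpObj.comp_inv, lift_fst_assoc, lift_snd_assoc]⟩)
  refine ⟨K, hK, i, hK', ‹_›, IsSchemeTheoreticallyDominant.isReduced g.left, hrange, fun hP => ?_⟩
  refine ⟨geometrically_iff_of_commRing_of_isClosedUnderIsomorphisms.mpr fun L _ _ => ?_⟩
  let t := Spec.map (CommRingCat.ofHom (algebraMap k L))
  haveI : IsReduced (pullback P.hom t) :=
    pullback_of_geometrically GeometricallyReduced.geometrically_isReduced _ _
  haveI : IsReduced (pullback (g.left ≫ K.hom) t) := by rw [Over.w]; infer_instance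
  haveI : IsReduced (pullback g.left (pullback.fst K.hom t)) :=
    isReduced_of_isOpenImmersion (pullbackRightPullbackFstIso K.hom t g.left).hom
  haveI : Flat t := inferInstance
  haveI : Flat (pullback.fst K.hom t) := MorphismProperty.pullback_fst _ _ inferInstance
  haveI : QuasiCompact (pullback.snd g.left (pullback.fst K.hom t)) := MorphismProperty.pullback_snd _ _ inferInstance
  haveI : IsSchemeTheoreticallyDominant (pullback.snd g.left (pullback.fst K.hom t)) :=
    IsSchemeTheoreticallyDominant.of_isPullback (IsPullback.of_hasPullback g.left (pullback.fst K.hom t))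
  exact IsSchemeTheoreticallyDominant.isReduced (pullback.snd g.left (pullback.fst K.hom t))

/-- a division stable closure of an image carries a reduced closed subgroup -/
theorem exists_subgroup_closure {P : Over (Spec (CommRingCat.of k))} (w : P ⟶ G) [QuasiCompact w.left]
    [IsReduced P.left] [IsReduced (P ⊗ P).left]
    (hone : Set.range (1 : 𝟙_ (Over (Spec (CommRingCat.of k))) ⟶ G).left ⊆ closure (Set.range w.left))
    (hdiv : Set.range ((fst P P ≫ w)⁻¹ * (snd P P ≫ w)).left ⊆ closure (Set.range w.left)) :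
    ∃ (K : Over (Spec (CommRingCat.of k))) (_ : GrpObj K) (i : K ⟶ G), IsMonHom i ∧ IsClosedImmersion i.left ∧
      IsReduced K.left ∧ Set.range i.left = closure (Set.range w.left) := by
  obtain ⟨K, hK, i, h1, h2, h3, h4, -⟩ := exists_subgroup_closure' w hone hdiv
  exact ⟨K, hK, i, h1, h2, h3, h4⟩

section Pairs
variable {X : Over (Spec (CommRingCat.of k))} (f : X ⟶ G)

/-- the difference map of `f` -/
noncomputable def dmap : X ⊗ X ⟶ G := (fst X X ≫ f) * (snd X X ≫ f)⁻¹

/-- products of `n` differences -/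
noncomputable def pw : ∀ n, pow (X ⊗ X) n ⟶ G
  | 0 => 1
  | n + 1 => (fst _ _ ≫ dmap f) * (snd _ _ ≫ pw n)

lemma pw_wd : ∀ n, pw f n ∈ Wd f (pow (X ⊗ X) n) (2 * n)
  | 0 => wd_zero _
  | n + 1 => by
    rw [show 2 * (n + 1) = 2 + 2 * n by ring]
    refine wd_mul (wd_comp _ ?_) (wd_comp _ (pw_wd n))
    exact wd_mul (wd_of (fst X X)) (wd_of_inv (snd X X))

lemma exists_pw_lift {T : Over (Spec (CommRingCat.of k))} (x₀ : T ⟶ X) (hx₀ : x₀ ≫ f = 1) :
    ∀ (n : ℕ) (z : T ⟶ G), z ∈ Wd f T n → ∃ s : T ⟶ pow (X ⊗ X) n, s ≫ pw f n = z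
  | 0, z, ⟨x, ε, h⟩ => ⟨toUnit T, by rw [← h]; simp [word, pw]⟩
  | n + 1, z, ⟨x, ε, h⟩ => by
    obtain ⟨s, hs⟩ := exists_pw_lift x₀ hx₀ n (word f (fun j => x j.succ) (fun j => ε j.succ)) (wd_list n _ _)
    refine ⟨lift (if ε 0 then lift (x 0) x₀ else lift x₀ (x 0)) s, ?_⟩
    show lift (if ε 0 then lift (x 0) x₀ else lift x₀ (x 0)) s ≫ ((fst _ _ ≫ dmap f) * (snd _ _ ≫ pw f n)) = _
    rw [MonObj.comp_mul, lift_fst_assoc, lift_snd_assoc, hs, ← h, word, word, List.ofFn_succ, List.prod_cons]
    congr 1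
    cases ε 0 <;> simp [dmap, MonObj.comp_mul, GrpObj.comp_inv, hx₀]

end Pairs

/-- a bounded family generates a reduced closed subgroup -/
theorem exists_generated_field [LocallyOfFiniteType G.hom] {X : Over (Spec (CommRingCat.of k))} [LocallyOfFiniteType X.hom]
    [QuasiCompact X.hom] [GeometricallyReduced X.hom] (f : X ⟶ G) (h1 : UnitWord f) (N : ℕ)
    (hcl : IsClosed (WSet f N)) (hmax : ∀ n, WSet f n ⊆ WSet f N) :
    ∃ (K : Over (Spec (CommRingCat.of k))) (_ : GrpObj K) (j : K ⟶ G), IsMonHom j ∧ IsClosedImmersion j.left ∧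
      IsReduced K.left ∧ Set.range j.left = WSet f N ∧ GeometricallyReduced K.hom ∧ (∃ f' : X ⟶ K, f' ≫ j = f) ∧
      ∀ (Γ' : Over (Spec (CommRingCat.of k))) (_ : GrpObj Γ') (i' : Γ' ⟶ G), IsMonHom i' → IsClosedImmersion i'.left →
        (∃ f'' : X ⟶ Γ', f'' ≫ i' = f) → ∃ m : K ⟶ Γ', m ≫ i' = j := by
  let X2 := X ⊗ X
  have : LocallyOfFiniteType X2.hom := lft_tensor X X
  have : GeometricallyReduced X2.hom := geomRed_tensor X X
  have : QuasiCompact X2.hom := qc_tensor X X
  let P := pow X2 N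
  have : LocallyOfFiniteType P.hom := lft_pow X2 N
  have : GeometricallyReduced P.hom := geomRed_pow X2 N
  have : QuasiCompact P.hom := qc_pow X2 N
  have : LocallyOfFiniteType (P ⊗ P).hom := lft_tensor P P
  have : GeometricallyReduced (P ⊗ P).hom := geomRed_tensor P P
  have := isReduced_of_geomRed P
  have := isReduced_of_geomRed (P ⊗ P)
  let w : P ⟶ G := pw f N
  have : QuasiCompact w.left := qc_left w
  have hsub : Set.range w.left ⊆ WSet f N := by
    rintro _ ⟨q, rfl⟩
    exact hmax _ (mem_wset_of_mem (pw_wd f N) q)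
  have hsup : ∀ {T : Over (Spec (CommRingCat.of k))} (z : T ⟶ G) (p : T.left), z.left.base p ∈ WSet f N →
      z.left.base p ∈ Set.range w.left := by
    intro T z p hz
    obtain ⟨T₁, l₁, p₁, hp₁, hz₁⟩ := exists_wd_of_mem hz
    obtain ⟨T₂, l₂, p₂, hp₂, x, ε, he⟩ := exists_wd_of_mem (h1 T₁ p₁)
    have hx : x 0 ≫ f = 1 := by
      rw [MonObj.comp_one] at he
      cases hε : ε 0
      · simp [word, hε] at he; exact he
      · simpa [word, hε] using he
    obtain ⟨s, hs⟩ := exists_pw_lift f (x 0) hx N _ (wd_comp l₂ hz₁)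
    refine ⟨s.left.base p₂, ?_⟩
    show (s ≫ w).left.base p₂ = _
    rw [hs]
    show z.left.base (l₁.left.base (l₂.left.base p₂)) = _
    rw [hp₂, hp₁]
  have heq : Set.range w.left = WSet f N := by
    refine hsub.antisymm ?_
    rintro _ ⟨T, p, z, hz, rfl⟩
    exact hsup z p (mem_wset_of_mem hz p)
  have hcl' : closure (Set.range w.left) = WSet f N := by rw [heq, hcl.closure_eq]
  obtain ⟨K, hK, j, hjm, hj, hKred, hjr, hKgr⟩ := exists_subgroup_closure' w
    (by
      rw [hcl']
      rintro _ ⟨q, rfl⟩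
      exact hmax 1 (h1 _ q))
    (by
      rw [hcl']
      rintro _ ⟨q, rfl⟩
      exact hmax _ (mul_mem_wset
        (inv_mem_wset (a := fst P P ≫ w) (hsub ⟨(fst P P).left q, rfl⟩))
        (show ((snd P P ≫ w).left.base q) ∈ _ from hsub ⟨(snd P P).left q, rfl⟩)))
  have := isReduced_of_geomRed X
  obtain ⟨f'', hf''⟩ := AlgGrp79.exists_lift_of_range_subset j f (by
    rw [hjr, hcl']; exact range_subset_wset_one.trans (hmax 1))
  refine ⟨K, hK, j, hjm, hj, hKred, hjr.trans hcl', hKgr ‹_›, ⟨f'', hf''⟩, fun Γ' _ i' _ hi' hf' => ?_⟩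
  have := hi'
  exact AlgGrp79.exists_lift_of_range_subset i' j (by
    rw [hjr, hcl']; exact wset_subset_range i' hf' N)

/-- the subgroup generated by a geometrically reduced family of bounded length -/
theorem range_eq_wset [LocallyOfFiniteType G.hom] {X : Over (Spec (CommRingCat.of k))} [LocallyOfFiniteType X.hom]
    [QuasiCompact X.hom] [GeometricallyReduced X.hom] (f : X ⟶ G) (h1 : UnitWord f) (N : ℕ)
    (hcl : IsClosed (WSet f N)) (hmax : ∀ n, WSet f n ⊆ WSet f N)
    (Γ : Over (Spec (CommRingCat.of k))) [GrpObj Γ] (i : Γ ⟶ G) [IsMonHom i]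
    (hf : ∃ f' : X ⟶ Γ, f' ≫ i = f)
    (hmin : ∀ (Γ' : Over (Spec (CommRingCat.of k))) (_ : GrpObj Γ') (i' : Γ' ⟶ G), IsMonHom i' → IsClosedImmersion i'.left →
        (∃ f'' : X ⟶ Γ', f'' ≫ i' = f) → ∃ j : Γ ⟶ Γ', j ≫ i' = i) :
    Set.range i.left = WSet f N := by
  refine Set.Subset.antisymm ?_ (wset_subset_range i hf N)
  obtain ⟨K, _, j, _, hj, -, hjr, -, hf', -⟩ := exists_generated_field f h1 N hcl hmax
  obtain ⟨m, hm⟩ := hmin K inferInstance j inferInstance hj hf'
  rw [← hjr]
  rintro _ ⟨q, rfl⟩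
  exact ⟨m.left q, congr(($hm).left q)⟩

end Groth.Agent.CAlg6.GrpWord
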