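import Mathlib
import Groth.Agent.CAlg6.GrpWordSub
import Groth.Agent.CAlg6.GrpWordPts
import Groth.Agent.AlgGrp79.GenSubgroup
import Groth.Agent.Grp57.IdentityComponent
import Groth.Agent.SchBasics.Reduced

/-! Over an algebraically closed field the differences inside the irreducible components of a family
generate a closed irreducible subgroup, all of whose points lie under words of bounded length. -/

set_option autoImplicit false
universe u
open CategoryTheory CategoryTheory.Limits MonoidalCategory CartesianMonoidalCategory MonObj AlgebraicGeometry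
open Groth.Agent.AlgGrp79

namespace Groth.Agent.CAlg6.GrpWord

variable {k : Type u} [Field k] [IsAlgClosed k]

/-- rational points -/
abbrev Pt (X : Over (Spec (CommRingCat.of k))) := (𝟙_ (Over (Spec (CommRingCat.of k)))) ⟶ X

/-- the point of a rational point -/
noncomputable abbrev pv {X : Over (Spec (CommRingCat.of k))} (z : Pt X) : X.left :=
  z.left (IsLocalRing.closedPoint k)

/-- two rational points lie in one irreducible set -/
def RelIrr (X : Over (Spec (CommRingCat.of k))) (a b : Pt X) : Prop :=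
  ∃ Z : Set X.left, IsIrreducible Z ∧ pv a ∈ Z ∧ pv b ∈ Z

variable {G X : Over (Spec (CommRingCat.of k))} [GrpObj G]

/-- the differences inside irreducible sets -/
def dPts (f : X ⟶ G) : Set (Pt G) := {z | ∃ a b : Pt X, RelIrr X a b ∧ (a ≫ f) * (b ≫ f)⁻¹ = z}

lemma pv_comp {X Y : Over (Spec (CommRingCat.of k))} (p : Pt X) (g : X ⟶ Y) : pv (p ≫ g) = g.left (pv p) := by
  rw [pv, Over.comp_left, Scheme.Hom.comp_apply]

lemma eq_pv {X : Over (Spec (CommRingCat.of k))} (z : Pt X) (q : (𝟙_ (Over (Spec (CommRingCat.of k)))).left) :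
    z.left q = pv z := by
  rw [show q = IsLocalRing.closedPoint k from @Subsingleton.elim (Spec (CommRingCat.of k)) _ _ _]

lemma exists_lift_pv {X Y : Over (Spec (CommRingCat.of k))} [LocallyOfFiniteType X.hom] [LocallyOfFiniteType Y.hom]
    (w : X ⟶ Y) (z : Pt Y) (h : pv z ∈ Set.range w.left) : ∃ s : Pt X, s ≫ w = z := by
  obtain ⟨q, hq⟩ := h
  exact exists_lift_kpt w z (IsLocalRing.closedPoint k) q hq

section Bound
variable {D : Over (Spec (CommRingCat.of k))} [GrpObj D]

/-- a bound for the length of the words in a family generating an irreducible group -/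
theorem exists_word_bound [LocallyOfFiniteType D.hom] [QuasiCompact D.hom] [IrreducibleSpace D.left] (A : Fam D)
    (hA : ∀ d : Pt D, d ∈ Subgroup.closure A.pts) :
    ∃ n, Function.Surjective ((A.word n).mul (A.word n)).f.left := by
  classical
  let W := fun n => A.word n
  have := fun n => (W n).lft
  have := fun n => (W n).qc
  have := fun n => (W n).irr
  let gen : ℕ → D.left := fun n => (W n).f.left (genericPoint (W n).X.left)
  have hr : ∀ n (q : (W n).X.left), gen n ⤳ (W n).f.left q := fun n q =>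
    ((genericPoint_spec (W n).X.left).specializes trivial).map (W n).f.left.continuous
  have hmono : ∀ n, gen (n + 1) ⤳ gen n := by
    intro n
    let c : (W n).X ⟶ (W (n + 1)).X := lift (𝟙 _) (toUnit _ ≫ (A.mul A.inv).x)
    have hc : c ≫ (W (n + 1)).f = (W n).f := by
      show lift (𝟙 _) (toUnit _ ≫ (A.mul A.inv).x) ≫ ((fst _ _ ≫ (W n).f) * (snd _ _ ≫ (A.mul A.inv).f)) = _
      rw [MonObj.comp_mul, lift_fst_assoc, lift_snd_assoc, Category.id_comp, Category.assoc, (A.mul A.inv).hx,
        MonObj.comp_one, _root_.mul_one]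
    have h := hr (n + 1) (c.left (genericPoint (W n).X.left))
    rwa [← Scheme.Hom.comp_apply, ← Over.comp_left, hc] at h
  have hmono' : ∀ n m, n ≤ m → gen m ⤳ gen n := by
    intro n m h
    induction h with
    | refl => exact specializes_rfl
    | step _ ih => exact (hmono _).trans ih
  have := Var76.FibreBound.noetherianSpace D.hom
  have hb : BddAbove (Set.range fun n => WC97.tdegN D.hom (gen n)) := by
    obtain ⟨z, -, hz⟩ := @Var76.FibreBound.exists_tdegN_eq_dim k _ D.left D.hom _ ⟨gen 0⟩ _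
    refine ⟨WC97.tdegN D.hom z, ?_⟩
    rintro _ ⟨n, rfl⟩
    exact_mod_cast (Var76.FibreBound.tdegN_le_dim D.hom (gen n)).trans hz.le
  obtain ⟨N, hN⟩ := Nat.sSup_mem (Set.range_nonempty _) hb
  simp only at hN
  refine ⟨N, ?_⟩
  have hstab : ∀ n, gen N ⤳ gen n := by
    intro n
    have h1 := hmono' N (max N n) (le_max_left _ _)
    have h2 : gen (max N n) = gen N :=
      Var76.FibreBound.eq_of_tdegN_le D.hom h1 (hN ▸ le_csSup hb ⟨_, rfl⟩)
    exact h2 ▸ hmono' n (max N n) (le_max_right _ _)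
  have : JacobsonSpace D.left := LocallyOfFiniteType.jacobsonSpace D.hom
  have hgen : ∀ q : D.left, gen N ⤳ q := by
    have hcl : IsClosed (closure {gen N}) := isClosed_closure
    have hpts : ∀ d : Pt D, pv d ∈ closure {gen N} := fun d => by
      obtain ⟨n, p, hp⟩ : d ∈ A.subgroup := (Fam.subgroup_eq_closure A).symm ▸ hA d
      rw [← hp, pv_comp]
      exact specializes_iff_mem_closure.1 ((hstab n).trans (hr n (pv p)))
    intro q
    rw [specializes_iff_mem_closure]
    by_contra hq
    obtain ⟨z, hz, hzc⟩ := nonempty_inter_closedPoints ⟨q, hq⟩ hcl.isOpen_compl.isLocallyClosed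
    obtain ⟨d, hd⟩ := ptVal_eq z hzc
    exact hz (hd ▸ hpts d)
  have hdense : closure {gen N} = Set.univ := Set.eq_univ_of_forall fun q => specializes_iff_mem_closure.1 (hgen q)
  have hqc : ∀ {P : Over (Spec (CommRingCat.of k))} [LocallyOfFiniteType P.hom] [QuasiCompact P.hom] (w : P ⟶ D),
      Topology.IsConstructible (Set.range w.left) := by
    intro P _ _ w
    have := Var76.FibreBound.noetherianSpace P.hom
    have : IsLocallyNoetherian D.left := LocallyOfFiniteType.isLocallyNoetherian D.hom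
    have := qc_left w
    have : LocallyOfFiniteType (w.left ≫ D.hom) := by rw [Over.w]; infer_instance
    have : LocallyOfFiniteType w.left := locallyOfFiniteType_of_comp w.left D.hom
    rw [← Set.image_univ]
    exact Var76.FibreBound.isConstructible_image w.left isOpen_univ
  obtain ⟨O, hO, hgO, hsub⟩ := Var76.FibreBound.exists_nhd_inter_closure (gen N) (hqc (W N).f)
  replace hsub : O ⊆ Set.range (W N).f.left := by
    have := hsub.resolve_right fun h => h ⟨hgO, subset_closure rfl⟩ ⟨genericPoint (W N).X.left, rfl⟩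
    rwa [hdense, Set.inter_univ] at this
  have := ((W N).mul (W N)).lft
  have := ((W N).mul (W N)).qc
  -- every rational point is a product of two points in the open set
  have hall : ∀ d : Pt D, pv d ∈ Set.range ((W N).mul (W N)).f.left := by
    intro d
    let h : D ⟶ D := (toUnit D ≫ d) * (𝟙 D)⁻¹
    have hh : ∀ u : Pt D, u ≫ h = d * u⁻¹ := fun u => by
      simp [h, MonObj.comp_mul, GrpObj.comp_inv, toUnit_unique (u ≫ toUnit D) (𝟙 _)]
    obtain ⟨v₀, hv₀, hv₀c⟩ := nonempty_inter_closedPoints ⟨_, hgO⟩ hO.isLocallyClosed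
    obtain ⟨v, hv⟩ := ptVal_eq v₀ hv₀c
    have hne : (h.left ⁻¹' O).Nonempty := ⟨pv (v⁻¹ * d), by
      show h.left (pv (v⁻¹ * d)) ∈ O
      rw [← pv_comp, hh, mul_inv_rev, _root_.inv_inv, mul_inv_cancel_left]
      rw [pv, hv]; exact hv₀⟩
    obtain ⟨w, hw1, hw2⟩ := nonempty_preirreducible_inter hO (hO.preimage h.left.continuous) ⟨_, hgO⟩ hne
    obtain ⟨u₀, ⟨hu1, hu2⟩, huc⟩ := nonempty_inter_closedPoints (Z := O ∩ h.left ⁻¹' O) ⟨w, hw1, hw2⟩
      (hO.inter (hO.preimage h.left.continuous)).isLocallyClosed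
    obtain ⟨u, hu⟩ := ptVal_eq u₀ huc
    obtain ⟨s, hs⟩ := exists_lift_pv (W N).f u (hsub (by rw [pv, hu]; exact hu1))
    obtain ⟨t, ht⟩ := exists_lift_pv (W N).f (u ≫ h) (hsub (by rw [pv_comp, pv, hu]; exact hu2))
    refine ⟨pv (lift t s), ?_⟩
    show ((fst _ _ ≫ (W N).f) * (snd _ _ ≫ (W N).f)).left (pv (lift t s)) = pv d
    rw [← pv_comp, MonObj.comp_mul, lift_fst_assoc, lift_snd_assoc, hs, ht, hh, inv_mul_cancel_right]
  intro q
  by_contra hq
  obtain ⟨O', hO', hqO', hsub'⟩ := Var76.FibreBound.exists_nhd_inter_closure q (hqc ((W N).mul (W N)).f)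
  replace hsub' := hsub'.resolve_left fun h => hq (h ⟨hqO', subset_closure rfl⟩)
  obtain ⟨z, hz, hzc⟩ := nonempty_inter_closedPoints (Z := O' ∩ closure {q}) ⟨q, hqO', subset_closure rfl⟩
    (hO'.isLocallyClosed.inter isClosed_closure.isLocallyClosed)
  obtain ⟨d, hd⟩ := ptVal_eq z hzc
  exact hsub' hz (hd ▸ hall d)

end Bound

/-- a family built out of words in `f` -/
def IsWdFam (f : X ⟶ G) (A : Fam G) : Prop := ∃ n, A.f ∈ Wd f A.X n

lemma IsWdFam.mul {f : X ⟶ G} {A B : Fam G} (hA : IsWdFam f A) (hB : IsWdFam f B) : IsWdFam f (A.mul B) := by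
  obtain ⟨m, hm⟩ := hA
  obtain ⟨n, hn⟩ := hB
  exact ⟨m + n, wd_mul (wd_comp (fst A.X B.X) hm) (wd_comp (snd A.X B.X) hn)⟩

lemma exists_fam [LocallyOfFiniteType X.hom] [QuasiCompact X.hom] (f : X ⟶ G) :
    ∃ A : Fam G, IsWdFam f A ∧ A.pts ⊆ (Subgroup.closure (dPts f) : Set (Pt G)) ∧ dPts f ⊆ A.pts := by
  classical
  have : TopologicalSpace.NoetherianSpace X.left := Var76.FibreBound.noetherianSpace X.hom
  have key : ∀ s : Finset (Set X.left), (∀ Z ∈ s, Z ∈ irreducibleComponents X.left) →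
      ∃ A : Fam G, IsWdFam f A ∧ A.pts ⊆ (Subgroup.closure (dPts f) : Set (Pt G)) ∧
        ∀ Z ∈ s, ∀ a b : Pt X, pv a ∈ Z → pv b ∈ Z → (a ≫ f) * (b ≫ f)⁻¹ ∈ A.pts := by
    intro s
    induction s using Finset.induction with
    | empty =>
      intro _
      refine ⟨⟨𝟙_ _, 1, 𝟙 _, by simp, inferInstanceAs (IsReduced (Spec (CommRingCat.of k))),
        inferInstanceAs (IrreducibleSpace (Spec (CommRingCat.of k))), inferInstanceAs (LocallyOfFiniteType (𝟙 _)),
        inferInstanceAs (QuasiCompact (𝟙 _))⟩, ⟨0, wd_zero _⟩, ?_, by simp⟩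
      rintro _ ⟨p, rfl⟩
      simp only [MonObj.comp_one]
      exact one_mem _
    | insert Z s hZs ih =>
      intro hs
      obtain ⟨A, hA, hA1, hA2⟩ := ih fun W hW => hs W (Finset.mem_insert_of_mem hW)
      have hZ := hs Z (Finset.mem_insert_self _ _)
      let V : TopologicalSpace.Closeds X.left := ⟨Z, isClosed_of_mem_irreducibleComponents Z hZ⟩
      let ZS : Over (Spec (CommRingCat.of k)) :=
        Over.mk ((Scheme.IdealSheafData.vanishingIdeal V).subschemeι ≫ X.hom)
      let c : ZS ⟶ X := Over.homMk (Scheme.IdealSheafData.vanishingIdeal V).subschemeι rfl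
      haveI : IsClosedImmersion c.left :=
        inferInstanceAs (IsClosedImmersion (Scheme.IdealSheafData.vanishingIdeal V).subschemeι)
      haveI : IsReduced ZS.left := SchBasics.isReduced_vanishingIdeal_subscheme V
      have hrange : Set.range c.left = Z := by
        show Set.range (Scheme.IdealSheafData.vanishingIdeal V).subschemeι = _
        rw [Scheme.IdealSheafData.range_subschemeι]
        simp [V]
      haveI : LocallyOfFiniteType ZS.hom :=
        inferInstanceAs (LocallyOfFiniteType ((Scheme.IdealSheafData.vanishingIdeal V).subschemeι ≫ X.hom))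
      haveI : QuasiCompact ZS.hom :=
        inferInstanceAs (QuasiCompact ((Scheme.IdealSheafData.vanishingIdeal V).subschemeι ≫ X.hom))
      haveI : IrreducibleSpace ZS.left := by
        have h1 : IsIrreducible Z := hZ.1
        have h2 : IsPreirreducible (Set.univ : Set ZS.left) := by
          intro u v hu hv ⟨x, _, hx⟩ ⟨y, _, hy⟩
          obtain ⟨U, hU, rfl⟩ := c.left.isClosedEmbedding.isInducing.isOpen_iff.1 hu
          obtain ⟨U', hU', rfl⟩ := c.left.isClosedEmbedding.isInducing.isOpen_iff.1 hv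
          obtain ⟨w, hwZ, hwU, hwU'⟩ := h1.2 U U' hU hU' ⟨_, hrange ▸ ⟨x, rfl⟩, hx⟩ ⟨_, hrange ▸ ⟨y, rfl⟩, hy⟩
          rw [← hrange] at hwZ
          obtain ⟨q, rfl⟩ := hwZ
          exact ⟨q, trivial, hwU, hwU'⟩
        exact { isPreirreducible_univ := h2, toNonempty := by
                  obtain ⟨z, hz⟩ := h1.1
                  rw [← hrange] at hz
                  exact ⟨hz.choose⟩ }
      haveI : JacobsonSpace ZS.left := LocallyOfFiniteType.jacobsonSpace ZS.hom
      obtain ⟨z₀, -, hz₀⟩ := nonempty_inter_closedPoints (Z := (Set.univ : Set ZS.left)) Set.univ_nonempty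
        isClosed_univ.isLocallyClosed
      obtain ⟨z, -⟩ := ptVal_eq z₀ hz₀
      let B : Fam G :=
        { X := ZS ⊗ ZS
          f := (fst _ _ ≫ c ≫ f) * (snd _ _ ≫ c ≫ f)⁻¹
          x := lift z z
          hx := by rw [MonObj.comp_mul, GrpObj.comp_inv, lift_fst_assoc, lift_snd_assoc, mul_inv_cancel]
          red := reduced_prod ZS ZS
          irr := AlgGrp79.irreducible_prod ZS ZS
          lft := lft_prod ZS ZS
          qc := AlgGrp79.qc_prod ZS ZS }
      have hB : IsWdFam f B := ⟨1 + 1, by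
        refine wd_mul ?_ ?_
        · simpa using wd_of (f := f) (fst ZS ZS ≫ c)
        · simpa using wd_of_inv (f := f) (snd ZS ZS ≫ c)⟩
      have hB1 : ∀ w ∈ B.pts, w ∈ Subgroup.closure (dPts f) := by
        rintro _ ⟨p, rfl⟩
        refine Subgroup.subset_closure ⟨p ≫ fst _ _ ≫ c, p ≫ snd _ _ ≫ c,
          ⟨Z, hZ.1, ?_, ?_⟩, ?_⟩
        · rw [← Category.assoc, pv_comp, ← hrange]; exact ⟨_, rfl⟩
        · rw [← Category.assoc, pv_comp, ← hrange]; exact ⟨_, rfl⟩
        · simp only [B, MonObj.comp_mul, GrpObj.comp_inv, Category.assoc]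
      refine ⟨B.mul A, hB.mul hA, ?_, ?_⟩
      · intro w hw
        obtain ⟨u, hu, v, hv, rfl⟩ := (Fam.mem_mul_pts _ _ _).1 hw
        exact mul_mem (hB1 u hu) (hA1 hv)
      · intro W hW a b ha hb
        rw [Fam.mem_mul_pts]
        rcases Finset.mem_insert.1 hW with rfl | hW
        · have : IsReduced (𝟙_ (Over (Spec (CommRingCat.of k)))).left := inferInstanceAs (IsReduced (Spec (CommRingCat.of k)))
          obtain ⟨a', rfl⟩ := AlgGrp79.exists_lift_of_range_subset c a (by
            rintro _ ⟨q, rfl⟩; rw [eq_pv, hrange]; exact ha)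
          obtain ⟨b', rfl⟩ := AlgGrp79.exists_lift_of_range_subset c b (by
            rintro _ ⟨q, rfl⟩; rw [eq_pv, hrange]; exact hb)
          refine ⟨_, ⟨lift a' b', rfl⟩, 1, Fam.one_mem A, ?_⟩
          simp [B, MonObj.comp_mul, GrpObj.comp_inv]
        · exact ⟨1, Fam.one_mem B, _, hA2 W hW a b ha hb, _root_.one_mul _⟩
  have hfin := TopologicalSpace.NoetherianSpace.finite_irreducibleComponents (α := X.left)
  obtain ⟨A, hA, hA1, hA2⟩ := key hfin.toFinset fun Z hZ => hfin.mem_toFinset.1 hZ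
  refine ⟨A, hA, hA1, ?_⟩
  rintro _ ⟨a, b, ⟨Z, hZ, ha, hb⟩, rfl⟩
  obtain ⟨U, hU, hZU⟩ := exists_mem_irreducibleComponents_subset_of_isIrreducible Z hZ
  exact hA2 U (hfin.mem_toFinset.2 hU) a b (hZU ha) (hZU hb)

/-- the subgroup generated by the differences inside components -/
theorem exists_dsub [LocallyOfFiniteType G.hom] [LocallyOfFiniteType X.hom] [QuasiCompact X.hom] (f : X ⟶ G) :
    ∃ (D : Over (Spec (CommRingCat.of k))) (_ : GrpObj D) (i : D ⟶ G), IsMonHom i ∧ IsClosedImmersion i.left ∧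
      IrreducibleSpace D.left ∧
      (Set.range fun d : Pt D => d ≫ i) = (Subgroup.closure (dPts f) : Set (Pt G)) ∧
      ∃ L, Set.range i.left ⊆ WSet f L := by
  classical
  obtain ⟨A, hA, hA1, hA2⟩ := exists_fam f
  obtain ⟨G₀, _, incl, _, hcl, -, hrange, -, hcpt⟩ := Grp57.exists_identityComponent (G := G)
  have := hcl
  have : LocallyOfFiniteType G₀.hom := by rw [← Over.w incl]; infer_instance
  have : QuasiCompact G₀.hom := by
    rw [← Over.w incl]
    exact (quasiCompact_iff_compactSpace _).2 hcpt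
  have := A.red
  have := A.irr
  obtain ⟨f₀, hf₀⟩ := AlgGrp79.exists_lift_of_range_subset incl A.f (by
    rw [hrange]
    refine (isPreconnected_range A.f.left.continuous).subset_connectedComponent ⟨pv A.x, ?_⟩
    rw [← pv_comp, A.hx]
    simp [pv, Hom.one_def, toUnit_unique (toUnit (𝟙_ (Over (Spec (CommRingCat.of k))))) (𝟙 _)])
  have := Over.mono_of_mono_left incl
  let A₀ : Fam G₀ := { A with f := f₀, hx := by rw [← cancel_mono incl, Category.assoc, hf₀, A.hx, MonObj.one_comp] }
  obtain ⟨D, _, j, _, hj, -, hirr, hjr⟩ := AlgGrp79.exists_generated A₀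
  have := hj
  have := hirr
  have : LocallyOfFiniteType D.hom := by rw [← Over.w j]; infer_instance
  have : QuasiCompact D.hom := by rw [← Over.w j]; infer_instance
  have := Over.mono_of_mono_left j
  let Φ : Pt D →* Pt G :=
    { toFun := fun d => (d ≫ j) ≫ incl
      map_one' := by rw [MonObj.one_comp, MonObj.one_comp]
      map_mul' := fun a b => by rw [MonObj.mul_comp, MonObj.mul_comp] }
  have hj0 : ∀ p : Pt A₀.X, ∃ d : Pt D, d ≫ j = p ≫ f₀ := fun p => by
    have : p ≫ f₀ ∈ (Subgroup.closure A₀.pts : Set (Pt G₀)) := Subgroup.subset_closure ⟨p, rfl⟩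
    rwa [← hjr] at this
  obtain ⟨fD, hfD⟩ := AlgGrp79.exists_lift_of_range_subset j f₀
    (@range_subset_of_pts k _ _ A₀.X G₀ A.lft f₀ _ j.left.isClosedEmbedding.isClosed_range fun p => by
      obtain ⟨d, hd⟩ := hj0 p
      rw [← hd]
      exact ⟨pv d, rfl⟩)
  let AD : Fam D := { A with f := fD, hx := by rw [← cancel_mono j, Category.assoc, hfD, A₀.hx, MonObj.one_comp] }
  have hΦinj : Function.Injective Φ := fun a b h => by
    have h' : (a ≫ j) ≫ incl = (b ≫ j) ≫ incl := h
    rwa [cancel_mono, cancel_mono] at h'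
  have hpts : Φ '' AD.pts = A.pts := by
    rw [Fam.pts, Fam.pts, ← Set.range_comp]
    refine congrArg Set.range (funext fun p => ?_)
    show ((p ≫ fD) ≫ j) ≫ incl = p ≫ A.f
    rw [Category.assoc p, hfD, Category.assoc, hf₀]
  let ψ : Pt G₀ →* Pt G :=
    { toFun := fun d => d ≫ incl, map_one' := MonObj.one_comp _, map_mul' := fun a b => MonObj.mul_comp a b _ }
  have hψ : ψ '' A₀.pts = A.pts := by
    rw [Fam.pts, Fam.pts, ← Set.range_comp]
    refine congrArg Set.range (funext fun p => ?_)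
    show (p ≫ f₀) ≫ incl = p ≫ A.f
    rw [Category.assoc, hf₀]
  have hrangeΦ : (Set.range Φ) = (Subgroup.closure A.pts : Set (Pt G)) := by
    rw [← hψ, ← MonoidHom.map_closure, Subgroup.coe_map, ← hjr, ← Set.range_comp]
    rfl
  have hgen : ∀ d : Pt D, d ∈ Subgroup.closure AD.pts := fun d => by
    have h1 : Φ d ∈ Subgroup.closure A.pts := by
      rw [← SetLike.mem_coe, ← hrangeΦ]; exact ⟨d, rfl⟩
    rw [← hpts, ← MonoidHom.map_closure] at h1
    obtain ⟨d', hd', he⟩ := h1
    exact hΦinj he ▸ hd'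
  obtain ⟨n, hn⟩ := exists_word_bound AD hgen
  refine ⟨D, inferInstance, j ≫ incl, inferInstance, by rw [Over.comp_left]; infer_instance, hirr, ?_, ?_⟩
  · have e : (Subgroup.closure A.pts) = Subgroup.closure (dPts f) :=
      le_antisymm ((Subgroup.closure_le _).2 hA1) (Subgroup.closure_mono hA2)
    rw [← e, ← hrangeΦ]
    exact congrArg Set.range (funext fun d => (Category.assoc _ _ _).symm)
  · -- words
    let P : Fam D → Prop := fun B => ∃ m, B.f ≫ j ≫ incl ∈ Wd f B.X m
    have hmul : ∀ B C, P B → P C → P (B.mul C) := by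
      rintro B C ⟨m, hm⟩ ⟨l, hl⟩
      refine ⟨m + l, ?_⟩
      have e : ∀ (u v : B.X ⊗ C.X ⟶ D), (u * v) ≫ j ≫ incl = (u ≫ j ≫ incl) * (v ≫ j ≫ incl) :=
        fun u v => MonObj.mul_comp u v (j ≫ incl)
      have e' := wd_mul (wd_comp (fst B.X C.X) hm) (wd_comp (snd B.X C.X) hl)
      rw [← Category.assoc (fst B.X C.X), ← Category.assoc (snd B.X C.X), ← e] at e'
      exact e'
    have h0 : P AD := by
      obtain ⟨m, hm⟩ := hA
      exact ⟨m, by show fD ≫ j ≫ incl ∈ _; rw [← Category.assoc, hfD, hf₀]; exact hm⟩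
    have h0' : P AD.inv := by
      obtain ⟨m, hm⟩ := h0
      exact ⟨m, by show AD.f⁻¹ ≫ j ≫ incl ∈ _; rw [GrpObj.inv_comp]; exact wd_inv hm⟩
    have hword : ∀ m, P (AD.word m) := fun m => by
      induction m with
      | zero => exact hmul _ _ h0 h0'
      | succ m ih => exact hmul _ _ ih (hmul _ _ h0 h0')
    obtain ⟨L, hL⟩ := hmul _ _ (hword n) (hword n)
    refine ⟨L, ?_⟩
    rintro _ ⟨q, rfl⟩
    obtain ⟨p, rfl⟩ := hn q
    exact mem_wset_of_mem hL p

end Groth.Agent.CAlg6.GrpWord
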