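import Mathlib
import Groth.Agent.CAlg6.GrpFamGen

/-! Bounded word length over an algebraically closed field. -/

set_option autoImplicit false
universe u
open CategoryTheory CategoryTheory.Limits MonoidalCategory CartesianMonoidalCategory MonObj AlgebraicGeometry
open Groth.Agent.AlgGrp79

namespace Groth.Agent.CAlg6.GrpWord

variable {k : Type u} [Field k] [IsAlgClosed k]
variable {G X : Over (Spec (CommRingCat.of k))} [GrpObj G]

/-- the group generated by the values at rational points -/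
noncomputable abbrev genPts (f : X ⟶ G) : Subgroup (Pt G) := Subgroup.closure (Set.range fun x : Pt X => x ≫ f)

lemma exists_wd_of_genPts (f : X ⟶ G) {a : Pt G} (ha : a ∈ genPts f) : ∃ n, a ∈ Wd f (𝟙_ _) n := by
  induction ha using Subgroup.closure_induction with
  | mem y hy => obtain ⟨x, rfl⟩ := hy; exact ⟨1, wd_of x⟩
  | one => exact ⟨0, wd_zero _⟩
  | mul a b _ _ ha hb =>
    obtain ⟨m, hm⟩ := ha
    obtain ⟨n, hn⟩ := hb
    exact ⟨m + n, wd_mul hm hn⟩
  | inv a _ ha =>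
    obtain ⟨m, hm⟩ := ha
    exact ⟨m, wd_inv hm⟩

lemma wd_mem_genPts (f : X ⟶ G) {n : ℕ} {a : Pt G} (ha : a ∈ Wd f (𝟙_ _) n) : a ∈ genPts f := by
  obtain ⟨x, ε, rfl⟩ := ha
  refine Subgroup.list_prod_mem _ fun z hz => ?_
  obtain ⟨j, rfl⟩ := List.mem_ofFn.1 hz
  have h : x j ≫ f ∈ genPts f := Subgroup.subset_closure ⟨x j, rfl⟩
  show (if ε j = true then x j ≫ f else (x j ≫ f)⁻¹) ∈ genPts f
  cases ε j
  · simpa using inv_mem h
  · simpa using h

lemma dPts_subset (f : X ⟶ G) : Subgroup.closure (dPts f) ≤ genPts f := by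
  rw [Subgroup.closure_le]
  rintro _ ⟨a, b, -, rfl⟩
  exact mul_mem (Subgroup.subset_closure ⟨a, rfl⟩) (inv_mem (Subgroup.subset_closure ⟨b, rfl⟩))

variable [LocallyOfFiniteType G.hom] [LocallyOfFiniteType X.hom] [QuasiCompact X.hom]

/-- bounded word length when the differences have finite index -/
theorem exists_bound (f : X ⟶ G) (h1 : UnitWord f) (F : Finset (Pt G)) (hFm : ∀ a ∈ F, a ∈ genPts f)
    (hF : ∀ z ∈ genPts f, ∃ a ∈ F, z * a⁻¹ ∈ Subgroup.closure (dPts f)) :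
    ∃ N, IsClosed (WSet f N) ∧ (∀ n, WSet f n ⊆ WSet f N) ∧
      (∀ z : Pt G, pv z ∈ WSet f N ↔ z ∈ genPts f) ∧ (F = {1} → IsIrreducible (WSet f N)) := by
  classical
  obtain ⟨D, _, i, _, hi, hirr, hir, L, hL⟩ := exists_dsub f
  have := hi
  choose n hn using fun a : F => exists_wd_of_genPts f (hFm a.1 a.2)
  let M := L + Finset.univ.sup n
  let τ : Pt G → (D ⟶ G) := fun a => i * (toUnit D ≫ a)
  have hτ : ∀ (a : Pt G) (d : Pt D), d ≫ τ a = (d ≫ i) * a := fun a d => by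
    simp [τ, MonObj.comp_mul, toUnit_unique (d ≫ toUnit D) (𝟙 _)]
  let Z : Set G.left := ⋃ a ∈ F, Set.range (τ a).left
  have hZcl : IsClosed Z := by
    refine F.finite_toSet.isClosed_biUnion fun a _ => ?_
    let R : G ≅ G :=
      { hom := 𝟙 G * (toUnit G ≫ a)
        inv := 𝟙 G * (toUnit G ≫ a)⁻¹
        hom_inv_id := by simp [MonObj.comp_mul, GrpObj.comp_inv, toUnit_unique (_ ≫ toUnit G) (toUnit G)]
        inv_hom_id := by simp [MonObj.comp_mul, GrpObj.comp_inv, toUnit_unique (_ ≫ toUnit G) (toUnit G)] }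
    have e : τ a = i ≫ R.hom := by
      simp [R, τ, MonObj.comp_mul, toUnit_unique (i ≫ toUnit G) (toUnit D)]
    have hR : IsIso R.hom.left := ((Over.forget _).mapIso R).isIso_hom
    rw [e, Over.comp_left]
    exact (i.left ≫ R.hom.left).isClosedEmbedding.isClosed_range
  have hZN : Z ⊆ WSet f M := by
    intro g hg
    obtain ⟨a, ha, q, rfl⟩ := Set.mem_iUnion₂.1 hg
    have hq : (toUnit D ≫ a).left q ∈ WSet f (n ⟨a, ha⟩) := by
      rw [Over.comp_left, Scheme.Hom.comp_apply]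
      exact mem_wset_of_mem (hn ⟨a, ha⟩) _
    refine wset_mono h1 ?_ (mul_mem_wset (hL ⟨q, rfl⟩) hq)
    exact Nat.add_le_add_left (Finset.le_sup (f := n) (Finset.mem_univ _)) L
  have hpts : ∀ z : Pt G, z ∈ genPts f → pv z ∈ Z := by
    intro z hz
    obtain ⟨a, ha, hza⟩ := hF z hz
    obtain ⟨d, hd⟩ : z * a⁻¹ ∈ (Set.range fun d : Pt D => d ≫ i) := by rw [hir]; exact hza
    refine Set.mem_iUnion₂.2 ⟨a, ha, pv d, ?_⟩
    rw [← pv_comp, hτ]
    exact congrArg pv (mul_inv_eq_iff_eq_mul.1 hd.symm).symm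
  have hWZ : ∀ m, WSet f m ⊆ Z := by
    intro m
    rw [wset_eq_iUnion, Set.iUnion_subset_iff]
    intro ε
    have := lft_pow X m
    exact range_subset_of_pts _ hZcl fun s => hpts _ (wd_mem_genPts f (wd_comp s (wd_list m _ ε)))
  have heq : WSet f M = Z := (hWZ M).antisymm hZN
  refine ⟨M, heq ▸ hZcl, fun m => heq ▸ hWZ m, fun z => ⟨fun hz => ?_, fun hz => heq ▸ hpts z hz⟩, fun hF1 => ?_⟩
  · rw [wset_eq_iUnion, Set.mem_iUnion] at hz
    obtain ⟨ε, hε⟩ := hz
    have := lft_pow X M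
    obtain ⟨s, rfl⟩ := exists_lift_pv _ z hε
    exact wd_mem_genPts f (wd_comp s (wd_list M _ ε))
  · have e : Z = Set.range i.left := by
      simp [Z, τ, hF1]
    rw [heq, e, ← Set.image_univ]
    exact (IrreducibleSpace.isIrreducible_univ D.left).image _ i.left.continuous.continuousOn

/-- for a connected source all differences lie in the generated group -/
theorem diff_mem_of_connected [ConnectedSpace X.left] (f : X ⟶ G) (a b : Pt X) :
    (a ≫ f) * (b ≫ f)⁻¹ ∈ Subgroup.closure (dPts f) := by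
  classical
  have : TopologicalSpace.NoetherianSpace X.left := Var76.FibreBound.noetherianSpace X.hom
  have : JacobsonSpace X.left := LocallyOfFiniteType.jacobsonSpace X.hom
  have hfin := TopologicalSpace.NoetherianSpace.finite_irreducibleComponents (α := X.left)
  have hrel : ∀ Z ∈ irreducibleComponents X.left, ∀ x y : Pt X, pv x ∈ Z → pv y ∈ Z →
      (x ≫ f) * (y ≫ f)⁻¹ ∈ Subgroup.closure (dPts f) := fun Z hZ x y hx hy =>
    Subgroup.subset_closure ⟨x, y, ⟨Z, hZ.1, hx, hy⟩, rfl⟩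
  let good : Set (Set X.left) := {Z | Z ∈ irreducibleComponents X.left ∧
    ∃ y : Pt X, pv y ∈ Z ∧ (a ≫ f) * (y ≫ f)⁻¹ ∈ Subgroup.closure (dPts f)}
  let bad : Set (Set X.left) := irreducibleComponents X.left \ good
  have hcl : ∀ Z ∈ irreducibleComponents X.left, IsClosed Z := isClosed_of_mem_irreducibleComponents
  have hU : IsClosed (⋃₀ good) :=
    Set.sUnion_eq_biUnion ▸ (hfin.subset fun Z h => h.1).isClosed_biUnion fun Z h => hcl Z h.1
  have hV : IsClosed (⋃₀ bad) :=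
    Set.sUnion_eq_biUnion ▸ (hfin.subset fun Z h => h.1).isClosed_biUnion fun Z h => hcl Z h.1
  have hcover : ∀ x, x ∈ ⋃₀ good ∨ x ∈ ⋃₀ bad := fun x => by
    by_cases h : irreducibleComponent x ∈ good
    · exact Or.inl ⟨_, h, mem_irreducibleComponent⟩
    · exact Or.inr ⟨_, ⟨irreducibleComponent_mem_irreducibleComponents x, h⟩, mem_irreducibleComponent⟩
  have hdisj : ∀ x, x ∈ ⋃₀ good → x ∉ ⋃₀ bad := by
    rintro x ⟨Z, ⟨hZ, y, hy, hyC⟩, hxZ⟩ ⟨Z', ⟨hZ', hbad⟩, hxZ'⟩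
    obtain ⟨c₀, ⟨hc, hc'⟩, hcc⟩ := nonempty_inter_closedPoints (Z := Z ∩ Z') ⟨x, hxZ, hxZ'⟩
      ((hcl Z hZ).inter (hcl Z' hZ')).isLocallyClosed
    obtain ⟨c, hc₀⟩ := ptVal_eq c₀ hcc
    refine hbad ⟨hZ', c, by rw [pv, hc₀]; exact hc', ?_⟩
    have := mul_mem hyC (hrel Z hZ y c hy (by rw [pv, hc₀]; exact hc))
    simpa [_root_.mul_assoc] using this
  have hclopen : IsClopen (⋃₀ good) := ⟨hU, by
    have e : (⋃₀ good) = (⋃₀ bad)ᶜ := Set.ext fun x => ⟨hdisj x, fun h => (hcover x).resolve_right h⟩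
    rw [e]; exact hV.isOpen_compl⟩
  have huniv : ⋃₀ good = Set.univ := hclopen.eq_univ ⟨pv a, irreducibleComponent (pv a),
    ⟨irreducibleComponent_mem_irreducibleComponents _, a, mem_irreducibleComponent, by
      rw [mul_inv_cancel]; exact one_mem _⟩, mem_irreducibleComponent⟩
  obtain ⟨Z, ⟨hZ, y, hy, hyC⟩, hb⟩ := (huniv.symm ▸ Set.mem_univ (pv b) : pv b ∈ ⋃₀ good)
  simpa [_root_.mul_assoc] using mul_mem hyC (hrel Z hZ y b hy hb)

/-- connected source with the unit in the image -/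
theorem exists_bound_connected [ConnectedSpace X.left] (f : X ⟶ G) (h1 : UnitWord f) :
    ∃ N, IsClosed (WSet f N) ∧ (∀ n, WSet f n ⊆ WSet f N) ∧
      (∀ z : Pt G, pv z ∈ WSet f N ↔ z ∈ genPts f) ∧ IsIrreducible (WSet f N) := by
  classical
  obtain ⟨T', l, p', -, x, ε, hx⟩ := exists_wd_of_mem (h1 (𝟙_ _) (IsLocalRing.closedPoint k))
  have hf1 : x 0 ≫ f = 1 := by
    rw [MonObj.comp_one] at hx
    cases hε : ε 0
    · simp [word, hε] at hx; exact hx
    · simpa [word, hε] using hx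
  have hp : pv (1 : Pt G) ∈ Set.range f.left := ⟨(x 0).left p', by
    rw [← Scheme.Hom.comp_apply, ← Over.comp_left, hf1, Hom.one_def, Over.comp_left, Scheme.Hom.comp_apply,
      Hom.one_def, pv, Over.comp_left, Scheme.Hom.comp_apply]
    exact congrArg η[G].left (@Subsingleton.elim (Spec (CommRingCat.of k)) _ _ _)⟩
  obtain ⟨b, hb⟩ := exists_lift_pv f 1 hp
  have hle : genPts f ≤ Subgroup.closure (dPts f) := by
    rw [Subgroup.closure_le]
    rintro _ ⟨a, rfl⟩
    have := diff_mem_of_connected f a b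
    rwa [hb, inv_one, _root_.mul_one] at this
  obtain ⟨N, hN1, hN2, hN3, hN4⟩ := exists_bound f h1 {1} (by simp [one_mem])
    (fun z hz => ⟨1, Finset.mem_singleton_self _, by simpa using hle hz⟩)
  exact ⟨N, hN1, hN2, hN3, hN4 rfl⟩

end Groth.Agent.CAlg6.GrpWord
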