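import Mathlib
import Groth.Prelude.Def_AlgGrp
import Groth.Agent.CAlg6.GrpWordBound
import Groth.Agent.CAlg6.GrpSolv
import Groth.Agent.CAlg6.GrpBaer

/-! Commutator words have bounded length. -/

set_option autoImplicit false
universe u
open CategoryTheory CategoryTheory.Limits MonoidalCategory CartesianMonoidalCategory MonObj AlgebraicGeometry
open Groth.Agent.AlgGrp79
open scoped commutatorElement

namespace Groth.Agent.CAlg6.GrpWord

section Defs
variable {S : Scheme.{u}} {G A B : Over S} [GrpObj G]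

/-- the commutator map -/
noncomputable def cmap (a : A ⟶ G) (b : B ⟶ G) : A ⊗ B ⟶ G :=
  ((fst A B) ≫ a) * ((snd A B) ≫ b) * ((fst A B) ≫ a)⁻¹ * ((snd A B) ≫ b)⁻¹

lemma lift_cmap {T : Over S} (a : A ⟶ G) (b : B ⟶ G) (x : T ⟶ A) (y : T ⟶ B) :
    lift x y ≫ cmap a b = ⁅x ≫ a, y ≫ b⁆ := by
  simp only [cmap, MonObj.comp_mul, GrpObj.comp_inv, lift_fst_assoc, lift_snd_assoc, commutatorElement_def]

lemma unitWord_cmap [GrpObj A] [GrpObj B] (a : A ⟶ G) [IsMonHom a] (b : B ⟶ G) : UnitWord (cmap a b) := by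
  intro T p
  have h := wd_of (f := cmap a b) (lift (1 : T ⟶ A) (1 : T ⟶ B))
  rw [lift_cmap, MonObj.one_comp, commutatorElement_one_left] at h
  exact mem_wset_of_mem h p

end Defs

variable {k : Type u} [Field k] [IsAlgClosed k]
variable {G A B : Over (Spec (CommRingCat.of k))} [GrpObj G] [GrpObj A] [GrpObj B]

/-- a connected group over an algebraically closed field is irreducible and quasi-compact -/
lemma irreducible_of_connected [LocallyOfFiniteType A.hom] [ConnectedSpace A.left] :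
    IrreducibleSpace A.left ∧ QuasiCompact A.hom := by
  obtain ⟨A₀, _, incl, -, -, -, hr, hirr, hcpt⟩ := Grp57.exists_identityComponent (G := A)
  rw [PreconnectedSpace.connectedComponent_eq_univ] at hr
  have := hirr
  have h₀ : IrreducibleSpace A₀.left := by
    have : Nonempty A₀.left := ⟨η[A₀].left (IsLocalRing.closedPoint k)⟩
    exact GeometricallyIrreducible.irreducibleSpace_of_subsingleton A₀.hom
  constructor
  · have h := (IrreducibleSpace.isIrreducible_univ A₀.left).image _ incl.left.continuous.continuousOn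
    rw [Set.image_univ, hr] at h
    exact { isPreirreducible_univ := h.2, toNonempty := ⟨h.1.some⟩ }
  · have : CompactSpace A.left := ⟨hr ▸ isCompact_range incl.left.continuous⟩
    exact (quasiCompact_iff_compactSpace _).2 this

/-- the commutator map generates, in bounded word length, the commutator group -/
theorem exists_bound_comm [LocallyOfFiniteType G.hom] (a : A ⟶ G) [IsMonHom a] (b : B ⟶ G) [IsMonHom b]
    [IsClosedImmersion a.left] [IsClosedImmersion b.left] [QuasiCompact B.hom]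
    (hcase : (AlgGrp.IsNormalHom a ∧ AlgGrp.IsNormalHom b ∧ QuasiCompact A.hom) ∨ ConnectedSpace A.left) :
    ∃ N, IsClosed (WSet (cmap a b) N) ∧ (∀ n, WSet (cmap a b) n ⊆ WSet (cmap a b) N) ∧
      (∀ z : Pt G, pv z ∈ WSet (cmap a b) N ↔ z ∈ genPts (cmap a b)) ∧
      (ConnectedSpace A.left → IsIrreducible (WSet (cmap a b) N)) := by
  classical
  have : LocallyOfFiniteType A.hom := by rw [← Over.w a]; infer_instance
  have : LocallyOfFiniteType B.hom := by rw [← Over.w b]; infer_instance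
  have : QuasiCompact A.hom := hcase.elim (fun h => h.2.2) (fun h => (irreducible_of_connected).2)
  have : LocallyOfFiniteType (A ⊗ B).hom := lft_tensor A B
  have : QuasiCompact (A ⊗ B).hom := qc_tensor A B
  set c := cmap a b
  have h1 : UnitWord c := unitWord_cmap a b
  by_cases hconn : ConnectedSpace A.left
  · have hirr := (irreducible_of_connected (A := A)).1
    have hle : genPts c ≤ Subgroup.closure (dPts c) := by
      rw [Subgroup.closure_le]
      rintro _ ⟨p, rfl⟩
      let s : A ⟶ A ⊗ B := lift (𝟙 A) (toUnit A ≫ p ≫ snd A B)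
      refine Subgroup.subset_closure ⟨p, lift 1 (p ≫ snd A B), ⟨Set.range s.left, ?_, ⟨pv (p ≫ fst A B), ?_⟩,
        ⟨pv (1 : Pt A), ?_⟩⟩, ?_⟩
      · rw [← Set.image_univ]
        exact (IrreducibleSpace.isIrreducible_univ A.left).image _ s.left.continuous.continuousOn
      · rw [← pv_comp]
        congr 1
        ext <;> simp [s, toUnit_unique (p ≫ fst A B ≫ toUnit A) (𝟙 _)]
      · rw [← pv_comp]
        congr 1
        ext <;> simp [s, toUnit_unique ((1 : Pt A) ≫ toUnit A) (𝟙 _)]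
      · rw [lift_cmap, MonObj.one_comp, commutatorElement_one_left, inv_one, _root_.mul_one]
    obtain ⟨N, hN1, hN2, hN3, hN4⟩ := exists_bound c h1 {1} (by simp [one_mem])
      (fun z hz => ⟨1, Finset.mem_singleton_self _, by simpa using hle hz⟩)
    exact ⟨N, hN1, hN2, hN3, fun _ => hN4 rfl⟩
  obtain ⟨ha, hb, -⟩ := hcase.resolve_right hconn
  let φa : Pt A →* Pt G :=
    { toFun := fun x => x ≫ a, map_one' := MonObj.one_comp a, map_mul' := fun x y => MonObj.mul_comp x y a }
  let φb : Pt B →* Pt G :=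
    { toFun := fun x => x ≫ b, map_one' := MonObj.one_comp b, map_mul' := fun x y => MonObj.mul_comp x y b }
  have : φa.range.Normal := ⟨by
    rintro _ ⟨x, rfl⟩ g
    obtain ⟨x', hx'⟩ := ha _ g x
    exact ⟨x', hx'.symm⟩⟩
  have : φb.range.Normal := ⟨by
    rintro _ ⟨x, rfl⟩ g
    obtain ⟨x', hx'⟩ := hb _ g x
    exact ⟨x', hx'.symm⟩⟩
  have hN : (Subgroup.closure (dPts c)).Normal := Groth.Agent.CAlg6.GrpSolv.normal_closure_of_conj (by
    rintro _ ⟨p, q, ⟨Z, hZ, hp, hq⟩, rfl⟩ g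
    obtain ⟨σa, hσa⟩ := ha A (toUnit A ≫ g) (𝟙 A)
    obtain ⟨σb, hσb⟩ := hb B (toUnit B ≫ g) (𝟙 B)
    let σ : A ⊗ B ⟶ A ⊗ B := lift (fst A B ≫ σa) (snd A B ≫ σb)
    have hσ : ∀ r : Pt (A ⊗ B), (r ≫ σ) ≫ c = g * (r ≫ c) * g⁻¹ := by
      intro r
      have e1 : r ≫ σ = lift ((r ≫ fst A B) ≫ σa) ((r ≫ snd A B) ≫ σb) := by ext <;> simp [σ]
      have e2 : r = lift (r ≫ fst A B) (r ≫ snd A B) := by ext <;> simp
      conv_rhs => rw [e2]
      rw [e1, lift_cmap, lift_cmap, Category.assoc _ σa, Category.assoc _ σb, ← hσa, ← hσb]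
      simp only [MonObj.comp_mul, GrpObj.comp_inv, Category.id_comp, ← Category.assoc _ (toUnit _) g,
        toUnit_unique ((r ≫ fst A B) ≫ toUnit A) (𝟙 _), toUnit_unique ((r ≫ snd A B) ≫ toUnit B) (𝟙 _)]
      simp only [commutatorElement_def]; group
    refine ⟨p ≫ σ, q ≫ σ, ⟨σ.left '' Z, hZ.image _ σ.left.continuous.continuousOn, ?_, ?_⟩, ?_⟩
    · rw [pv_comp]; exact Set.mem_image_of_mem _ hp
    · rw [pv_comp]; exact Set.mem_image_of_mem _ hq
    · rw [hσ, hσ]; group)
  let mk := QuotientGroup.mk' (Subgroup.closure (dPts c))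
  have := Subgroup.Normal.map ‹φa.range.Normal› mk (QuotientGroup.mk'_surjective _)
  have := Subgroup.Normal.map ‹φb.range.Normal› mk (QuotientGroup.mk'_surjective _)
  have : TopologicalSpace.NoetherianSpace (A ⊗ B).left := Var76.FibreBound.noetherianSpace (A ⊗ B).hom
  have : Finite ↥(irreducibleComponents ↥(A ⊗ B).left) :=
    (TopologicalSpace.NoetherianSpace.finite_irreducibleComponents).to_subtype
  let pick : ↥(irreducibleComponents ↥(A ⊗ B).left) → Pt G ⧸ Subgroup.closure (dPts c) := fun Z =>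
    if h : ∃ p : Pt (A ⊗ B), pv p ∈ (Z : Set (A ⊗ B).left) then mk (h.choose ≫ c) else 1
  have hS : {x | ∃ h ∈ φa.range.map mk, ∃ l ∈ φb.range.map mk, ⁅h, l⁆ = x} ⊆ Set.range pick := by
    rintro _ ⟨_, ⟨_, ⟨x, rfl⟩, rfl⟩, _, ⟨_, ⟨y, rfl⟩, rfl⟩, rfl⟩
    refine ⟨⟨irreducibleComponent (pv (lift x y)), irreducibleComponent_mem_irreducibleComponents _⟩, ?_⟩
    have h : ∃ p : Pt (A ⊗ B), pv p ∈ irreducibleComponent (pv (lift x y)) := ⟨lift x y, mem_irreducibleComponent⟩
    simp only [pick, dif_pos h]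
    rw [← map_commutatorElement, show ⁅φa x, φb y⁆ = lift x y ≫ c from (lift_cmap a b x y).symm]
    refine (QuotientGroup.eq).2 ?_
    have hd : (h.choose ≫ c) * (lift x y ≫ c)⁻¹ ∈ Subgroup.closure (dPts c) := Subgroup.subset_closure
      ⟨h.choose, lift x y, ⟨_, isIrreducible_irreducibleComponent, h.choose_spec, mem_irreducibleComponent⟩, rfl⟩
    have := hN.conj_mem _ (inv_mem hd) (h.choose ≫ c)⁻¹
    simpa [_root_.mul_assoc] using this
  have hfin := GrpBaer.finite_commutator (φa.range.map mk) (φb.range.map mk) ((Set.finite_range pick).subset hS)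
  rw [← Subgroup.map_commutator] at hfin
  have hgen : genPts c = ⁅φa.range, φb.range⁆ := by
    rw [Subgroup.commutator_def, genPts]
    congr 1
    ext z
    constructor
    · rintro ⟨p, rfl⟩
      exact ⟨_, ⟨p ≫ fst A B, rfl⟩, _, ⟨p ≫ snd A B, rfl⟩, by
        show ⁅(p ≫ fst A B) ≫ a, (p ≫ snd A B) ≫ b⁆ = p ≫ c
        rw [← lift_cmap]; congr 1; ext <;> simp⟩
    · rintro ⟨_, ⟨x, rfl⟩, _, ⟨y, rfl⟩, rfl⟩
      exact ⟨lift x y, lift_cmap a b x y⟩
  rw [← hgen, Subgroup.coe_map] at hfin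
  have hpre : ∀ q : hfin.toFinset, ∃ z ∈ genPts c, mk z = q.1 := fun q => hfin.mem_toFinset.1 q.2
  choose pre hpre1 hpre2 using hpre
  obtain ⟨N, hN1, hN2, hN3, -⟩ := exists_bound c h1 (Finset.univ.image pre)
    (fun x hx => by obtain ⟨q, -, rfl⟩ := Finset.mem_image.1 hx; exact hpre1 q)
    (fun z hz => by
      let q : hfin.toFinset := ⟨mk z, hfin.mem_toFinset.2 (Set.mem_image_of_mem _ hz)⟩
      refine ⟨pre q, Finset.mem_image.2 ⟨q, Finset.mem_univ _, rfl⟩, ?_⟩
      rw [← QuotientGroup.eq_one_iff, QuotientGroup.mk_mul, QuotientGroup.mk_inv, mul_inv_eq_one]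
      exact (hpre2 q).symm)
  exact ⟨N, hN1, hN2, hN3, fun h => absurd h hconn⟩

end Groth.Agent.CAlg6.GrpWord
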