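import Mathlib
import Groth.Agent.CAlg6.GrpWordSet

/-! Words under base change. -/

set_option autoImplicit false
universe u
open CategoryTheory CategoryTheory.Limits MonoidalCategory CartesianMonoidalCategory MonObj AlgebraicGeometry

namespace Groth.Agent.CAlg6.GrpWord

variable {S S' : Scheme.{u}} (σ : S' ⟶ S)

/-- points of a base change -/
noncomputable def phiE (T : Over S') (G : Over S) : ((Over.map σ).obj T ⟶ G) ≃ (T ⟶ (Over.pullback σ).obj G) :=
  (Over.mapPullbackAdj σ).homEquiv T G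

lemma phiE_eq {T : Over S'} {G : Over S} (z : (Over.map σ).obj T ⟶ G) :
    phiE σ T G z = (Over.mapPullbackAdj σ).unit.app T ≫ (Over.pullback σ).map z :=
  (Over.mapPullbackAdj σ).homEquiv_unit T G z

lemma phiE_comp {T : Over S'} {X G : Over S} (x : (Over.map σ).obj T ⟶ X) (f : X ⟶ G) :
    phiE σ T G (x ≫ f) = phiE σ T X x ≫ (Over.pullback σ).map f :=
  (Over.mapPullbackAdj σ).homEquiv_naturality_right _ _

lemma phiE_precomp {T T' : Over S'} {G : Over S} (l : T' ⟶ T) (z : (Over.map σ).obj T ⟶ G) :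
    phiE σ T' G ((Over.map σ).map l ≫ z) = l ≫ phiE σ T G z :=
  (Over.mapPullbackAdj σ).homEquiv_naturality_left _ _

lemma phiE_fst {T : Over S'} {G : Over S} (z : (Over.map σ).obj T ⟶ G) :
    (phiE σ T G z).left ≫ pullback.fst G.hom σ = z.left := by
  have h := congrArg CommaMorphism.left ((phiE σ T G).symm_apply_apply z)
  rw [show (phiE σ T G).symm (phiE σ T G z) = (Over.map σ).map (phiE σ T G z) ≫
    (Over.mapPullbackAdj σ).counit.app G from (Over.mapPullbackAdj σ).homEquiv_counit _ _ _] at h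
  simpa using h

variable {G : Over S} [GrpObj G]

/-- the group object on a base change -/
noncomputable abbrev bcGrp : GrpObj ((Over.pullback σ).obj G) :=
  Functor.grpObjObj (F := Over.pullback σ) (G := G)

attribute [local instance] bcGrp

lemma phiE_mul {T : Over S'} (a b : (Over.map σ).obj T ⟶ G) :
    phiE σ T G (a * b) = phiE σ T G a * phiE σ T G b := by
  simp only [phiE_eq]
  rw [Functor.map_mul (F := Over.pullback σ), MonObj.comp_mul]

/-- the isomorphism on points -/
noncomputable def phi (T : Over S') : ((Over.map σ).obj T ⟶ G) →* (T ⟶ (Over.pullback σ).obj G) :=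
  MonoidHom.mk' (phiE σ T G) (phiE_mul σ)

lemma phi_apply {T : Over S'} (z : (Over.map σ).obj T ⟶ G) : phi σ T z = phiE σ T G z := rfl

variable {X : Over S} (f : X ⟶ G)

lemma phi_word {T : Over S'} {n : ℕ} (x : Fin n → ((Over.map σ).obj T ⟶ X)) (ε : Fin n → Bool) :
    phi σ T (word f x ε) = word ((Over.pullback σ).map f) (fun j => phiE σ T X (x j)) ε := by
  rw [word, word, map_list_prod, List.map_ofFn]
  refine congrArg (fun v => (List.ofFn v).prod) (funext fun j => ?_)
  simp only [Function.comp]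
  cases ε j
  · simp only [Bool.false_eq_true, if_false, map_inv, phi_apply, phiE_comp]
  · simp only [if_true, phi_apply, phiE_comp]

lemma wd_phi {T : Over S'} {n : ℕ} {z : (Over.map σ).obj T ⟶ G} :
    phi σ T z ∈ Wd ((Over.pullback σ).map f) T n ↔ z ∈ Wd f ((Over.map σ).obj T) n := by
  constructor
  · rintro ⟨x, ε, h⟩
    refine ⟨fun j => (phiE σ T X).symm (x j), ε, (phiE σ T G).injective ?_⟩
    rw [← phi_apply, ← phi_apply, phi_word]
    simpa using h
  · rintro ⟨x, ε, rfl⟩
    exact ⟨_, ε, (phi_word σ f x ε).symm⟩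

lemma fst_mem_wset {g : ((Over.pullback σ).obj G).left} {n : ℕ} (h : g ∈ WSet ((Over.pullback σ).map f) n) :
    pullback.fst G.hom σ g ∈ WSet f n := by
  obtain ⟨T, p, z, hz, rfl⟩ := h
  obtain ⟨z, rfl⟩ := (phiE σ T G).surjective z
  refine ⟨_, p, z, (wd_phi σ f).1 hz, ?_⟩
  exact congr($((phiE_fst σ z).symm) p)

lemma mem_wset_phi {T : Over S'} {p : T.left} {n : ℕ} {z : (Over.map σ).obj T ⟶ G}
    (h : z.left.base p ∈ WSet f n) :
    (phi σ T z).left.base p ∈ WSet ((Over.pullback σ).map f) n := by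
  obtain ⟨T', l, p', hp', hz⟩ := exists_wd_of_mem h
  let T₁ : Over S' := Over.mk (l.left ≫ T.hom)
  let l₁ : T₁ ⟶ T := Over.homMk l.left rfl
  let e : (Over.map σ).obj T₁ ⟶ T' := Over.homMk (𝟙 _) (by
    have := Over.w l
    simp only [Over.map_obj_hom] at this ⊢
    simp [T₁, ← this])
  refine ⟨T₁, p', l₁ ≫ phi σ T z, ?_, ?_⟩
  · rw [phi_apply, ← phiE_precomp, ← phi_apply, wd_phi,
      show (Over.map σ).map l₁ ≫ z = e ≫ (l ≫ z) by ext1; simp [l₁, e]]
    exact wd_comp e hz
  · show (phi σ T z).left.base (l.left.base p') = _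
    rw [hp']

lemma mem_wset_bc {n : ℕ} {g : G.left} (h : g ∈ WSet f n) [Surjective σ] :
    ∃ g', g' ∈ WSet ((Over.pullback σ).map f) n ∧ pullback.fst G.hom σ g' = g := by
  obtain ⟨T, p, z, hz, rfl⟩ := h
  obtain ⟨q, hq⟩ := σ.surjective (T.hom p)
  obtain ⟨p', hp', -⟩ := Scheme.Pullback.exists_preimage_pullback (f := T.hom) (g := σ) p q hq.symm
  let T' : Over S' := Over.mk (pullback.snd T.hom σ)
  let c : (Over.map σ).obj T' ⟶ T := Over.homMk (pullback.fst T.hom σ) pullback.condition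
  refine ⟨(phi σ T' (c ≫ z)).left p', mem_wset_of_mem ((wd_phi σ f).2 (wd_comp c hz)) p', ?_⟩
  rw [← Scheme.Hom.comp_apply, phi_apply, phiE_fst]
  show z.left.base ((pullback.fst T.hom σ).base p') = _
  rw [hp']

lemma unitWord_bc (h1 : UnitWord f) : UnitWord ((Over.pullback σ).map f) := by
  intro T p
  have := mem_wset_phi σ f (h1 ((Over.map σ).obj T) p)
  rwa [map_one] at this

/-- the main transfer -/
theorem bound_of_bc [Surjective σ] (hσ : IsClosedMap (pullback.fst G.hom σ)) (N : ℕ)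
    (hcl : IsClosed (WSet ((Over.pullback σ).map f) N))
    (hmax : ∀ n, WSet ((Over.pullback σ).map f) n ⊆ WSet ((Over.pullback σ).map f) N) :
    IsClosed (WSet f N) ∧ (∀ n, WSet f n ⊆ WSet f N) ∧
      WSet f N = pullback.fst G.hom σ '' WSet ((Over.pullback σ).map f) N := by
  have e : WSet f N = pullback.fst G.hom σ '' WSet ((Over.pullback σ).map f) N := by
    ext g
    refine ⟨fun h => mem_wset_bc σ f h, ?_⟩
    rintro ⟨g', hg', rfl⟩
    exact fst_mem_wset σ f hg'
  refine ⟨e ▸ hσ _ hcl, fun n g hg => ?_, e⟩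
  obtain ⟨g', hg', rfl⟩ := mem_wset_bc σ f hg
  exact fst_mem_wset σ f (hmax n hg')

end Groth.Agent.CAlg6.GrpWord
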