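import Mathlib
import Groth.Agent.CAlg6.GrpWordBC
import Groth.Agent.CAlg6.GrpCommBound
import Groth.Agent.CAlg6.GrpWordSub

/-! Bounded word length over an arbitrary field. -/

set_option autoImplicit false
universe u
open CategoryTheory CategoryTheory.Limits MonoidalCategory CartesianMonoidalCategory MonObj AlgebraicGeometry

namespace Groth.Agent.CAlg6.GrpWord

variable (k : Type u) [Field k]

/-- the algebraic closure map -/
noncomputable abbrev σbar : Spec (CommRingCat.of (AlgebraicClosure k)) ⟶ Spec (CommRingCat.of k) :=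
  Spec.map (CommRingCat.ofHom (algebraMap k (AlgebraicClosure k)))

attribute [local instance] bcGrp

variable {k}
variable {G : Over (Spec (CommRingCat.of k))} [GrpObj G]

lemma lft_bc {X : Over (Spec (CommRingCat.of k))} [LocallyOfFiniteType X.hom] :
    LocallyOfFiniteType ((Over.pullback (σbar k)).obj X).hom :=
  MorphismProperty.pullback_snd _ _ ‹_›

lemma qc_bc {X : Over (Spec (CommRingCat.of k))} [QuasiCompact X.hom] :
    QuasiCompact ((Over.pullback (σbar k)).obj X).hom :=
  MorphismProperty.pullback_snd _ _ ‹_›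

lemma ci_bc {X : Over (Spec (CommRingCat.of k))} (a : X ⟶ G) [IsClosedImmersion a.left] :
    IsClosedImmersion ((Over.pullback (σbar k)).map a).left := by
  have h : IsPullback ((Over.pullback (σbar k)).map a).left (pullback.fst X.hom (σbar k))
      (pullback.fst G.hom (σbar k)) a.left := by
    refine IsPullback.of_right (t := IsPullback.of_hasPullback G.hom (σbar k) |>.flip) ?_ (pullback.lift_fst _ _ _)
    have e := (IsPullback.of_hasPullback X.hom (σbar k)).flip
    rw [← Over.w a] at e
    have h2 : ((Over.pullback (σbar k)).map a).left ≫ pullback.snd G.hom (σbar k) = pullback.snd X.hom (σbar k) :=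
      pullback.lift_snd _ _ _
    rw [h2]
    exact (Over.w a).symm ▸ (IsPullback.of_hasPullback X.hom (σbar k)).flip
  exact MorphismProperty.of_isPullback h.flip ‹_›

lemma surjective_σbar : Surjective (σbar k) :=
  ⟨fun _ => ⟨IsLocalRing.closedPoint _, @Subsingleton.elim (Spec (CommRingCat.of k)) _ _ _⟩⟩

/-- transfer of the bound from the algebraic closure -/
theorem bound_descend {X : Over (Spec (CommRingCat.of k))} (f : X ⟶ G) (N : ℕ)
    (hcl : IsClosed (WSet ((Over.pullback (σbar k)).map f) N))
    (hmax : ∀ n, WSet ((Over.pullback (σbar k)).map f) n ⊆ WSet ((Over.pullback (σbar k)).map f) N) :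
    IsClosed (WSet f N) ∧ (∀ n, WSet f n ⊆ WSet f N) ∧
      (IsIrreducible (WSet ((Over.pullback (σbar k)).map f) N) → IsIrreducible (WSet f N)) := by
  have := surjective_σbar (k := k)
  obtain ⟨h1, h2, h3⟩ := bound_of_bc (σbar k) f (FBase64.isClosedMap_fst (X := G.left) G.hom) N hcl hmax
  exact ⟨h1, h2, fun h => h3 ▸ h.image _ (pullback.fst G.hom (σbar k)).continuous.continuousOn⟩

variable [LocallyOfFiniteType G.hom]

/-- geometrically connected sources -/
theorem exists_bound_geomConnected {X : Over (Spec (CommRingCat.of k))} [LocallyOfFiniteType X.hom]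
    [QuasiCompact X.hom] [GeometricallyConnected X.hom] (f : X ⟶ G) (h1 : UnitWord f) :
    ∃ N, IsClosed (WSet f N) ∧ (∀ n, WSet f n ⊆ WSet f N) := by
  have := lft_bc (X := X)
  have := lft_bc (X := G)
  have := qc_bc (X := X)
  have : ConnectedSpace ((Over.pullback (σbar k)).obj X).left :=
    pullback_of_geometrically GeometricallyConnected.geometrically_connectedSpace _ _
  obtain ⟨N, hN1, hN2, -⟩ := exists_bound_connected ((Over.pullback (σbar k)).map f) (unitWord_bc _ f h1)
  exact ⟨N, (bound_descend f N hN1 hN2).1, (bound_descend f N hN1 hN2).2.1⟩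

lemma isNormalHom_bc {A : Over (Spec (CommRingCat.of k))} [GrpObj A] (a : A ⟶ G) (h : AlgGrp.IsNormalHom a) :
    AlgGrp.IsNormalHom ((Over.pullback (σbar k)).map a) := by
  intro T g n
  obtain ⟨g, rfl⟩ := (phiE (σbar k) T G).surjective g
  obtain ⟨n, rfl⟩ := (phiE (σbar k) T A).surjective n
  obtain ⟨n', hn'⟩ := h _ g n
  refine ⟨phiE (σbar k) T A n', ?_⟩
  rw [← phiE_comp, ← phiE_comp, ← phi_apply, ← phi_apply, ← map_inv, ← map_mul, ← map_mul, hn']
  rfl

/-- commutators -/
theorem exists_bound_comm_field {A B : Over (Spec (CommRingCat.of k))} [GrpObj A] [GrpObj B]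
    (a : A ⟶ G) [IsMonHom a] [IsClosedImmersion a.left] (b : B ⟶ G) [IsMonHom b] [IsClosedImmersion b.left]
    [QuasiCompact B.hom]
    (hcase : (AlgGrp.IsNormalHom a ∧ AlgGrp.IsNormalHom b ∧ QuasiCompact A.hom) ∨ ConnectedSpace A.left) :
    ∃ N, IsClosed (WSet (cmap a b) N) ∧ (∀ n, WSet (cmap a b) n ⊆ WSet (cmap a b) N) ∧
      (ConnectedSpace A.left → IsIrreducible (WSet (cmap a b) N)) := by
  let F := Over.pullback (σbar k)
  have := lft_bc (X := G)
  have := ci_bc a
  have := ci_bc b
  have := qc_bc (X := B)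
  have hconn : ConnectedSpace A.left → ConnectedSpace (F.obj A).left := fun _ => by
    have : Nonempty (𝟙_ (Over (Spec (CommRingCat.of k)))).left := ⟨IsLocalRing.closedPoint k⟩
    have : GeometricallyConnected ((η[A] : 𝟙_ _ ⟶ A).left ≫ A.hom) := by
      rw [Over.w]
      show GeometricallyConnected (𝟙 (Spec (CommRingCat.of k)))
      refine ⟨geometrically_iff_of_commRing_of_isClosedUnderIsomorphisms.mpr fun L _ _ => ?_⟩
      exact (inv (pullback.snd (𝟙 (Spec (CommRingCat.of k))) (Spec.map (CommRingCat.ofHom (algebraMap k L))))).surjective.connectedSpace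
        (Scheme.Hom.continuous _)
    have := FBase64.geometricallyConnected_of_source A.hom (η[A] : 𝟙_ _ ⟶ A).left
    exact pullback_of_geometrically GeometricallyConnected.geometrically_connectedSpace _ _
  obtain ⟨N, hN1, hN2, -, hN4⟩ := exists_bound_comm (F.map a) (F.map b)
    (hcase.imp (fun ⟨h1, h2, h3⟩ => ⟨isNormalHom_bc a h1, isNormalHom_bc b h2, qc_bc (X := A)⟩) hconn)
  let e := Functor.Monoidal.μIso F A B
  have hinv : ∀ {Z : Over (Spec (CommRingCat.of k))} (z : Z ⟶ G), F.map z⁻¹ = (F.map z)⁻¹ := fun {Z} z =>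
    map_inv (MonoidHom.mk' (fun w : Z ⟶ G => F.map w) (fun u v => Functor.map_mul F u v)) z
  have hfst : e.hom ≫ F.map (fst A B) = fst (F.obj A) (F.obj B) := Functor.Monoidal.μ_fst F A B
  have hsnd : e.hom ≫ F.map (snd A B) = snd (F.obj A) (F.obj B) := Functor.Monoidal.μ_snd F A B
  have he : e.hom ≫ F.map (cmap a b) = cmap (F.map a) (F.map b) := by
    simp only [cmap, Functor.map_mul, hinv, MonObj.comp_mul, GrpObj.comp_inv, F.map_comp, ← Category.assoc e.hom,
      hfst, hsnd]
  have hW : ∀ n, WSet (cmap (F.map a) (F.map b)) n = WSet (F.map (cmap a b)) n := fun n => by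
    simp only [WSet, ← he, word_comp_iso]
  simp only [hW] at hN1 hN2 hN4
  obtain ⟨g1, g2, g3⟩ := bound_descend (cmap a b) N hN1 hN2
  exact ⟨N, g1, g2, fun h => g3 (hN4 (hconn h))⟩

end Groth.Agent.CAlg6.GrpWord
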