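import Mathlib
import Groth.Agent.CAlg6.GrpWordField
import Groth.Agent.CAlg6.GenSpread
import Groth.Agent.AlgGrp79.FiniteKernelHom

/-! Word sets and commutators under base change. -/

set_option autoImplicit false
universe u
open CategoryTheory CategoryTheory.Limits MonoidalCategory CartesianMonoidalCategory MonObj AlgebraicGeometry Topology

namespace Groth.Agent.CAlg6.GrpWord

section BC
variable {S S' : Scheme.{u}} (σ : S' ⟶ S) {G : Over S} [GrpObj G]

attribute [local instance] bcGrp

lemma wset_bc_eq {X : Over S} (f : X ⟶ G) (n : ℕ) :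
    WSet ((Over.pullback σ).map f) n = pullback.fst G.hom σ ⁻¹' WSet f n := by
  ext g
  refine ⟨fst_mem_wset σ f, fun hg => ?_⟩
  let z : (Over.map σ).obj ((Over.pullback σ).obj G) ⟶ G := (phiE σ _ G).symm (𝟙 _)
  have hz : phi σ _ z = 𝟙 _ := (phiE σ _ G).apply_symm_apply _
  have hz' : z.left.base g = pullback.fst G.hom σ g := by
    have h := phiE_fst σ z
    rw [show phiE σ _ G z = 𝟙 _ from hz, Over.id_left] at h
    exact congr($(h.symm) g)
  have := mem_wset_phi σ f (z := z) (p := g) (by rw [hz']; exact hg)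
  rwa [hz] at this

lemma isNormalHom_bcAny {A : Over S} [GrpObj A] (a : A ⟶ G) (h : AlgGrp.IsNormalHom a) :
    AlgGrp.IsNormalHom ((Over.pullback σ).map a) := by
  intro T g n
  obtain ⟨g, rfl⟩ := (phiE σ T G).surjective g
  obtain ⟨n, rfl⟩ := (phiE σ T A).surjective n
  obtain ⟨n', hn'⟩ := h _ g n
  refine ⟨phiE σ T A n', ?_⟩
  rw [← phiE_comp, ← phiE_comp, ← phi_apply, ← phi_apply, ← map_inv, ← map_mul, ← map_mul, hn']
  rfl

lemma mu_cmap {A B : Over S} (a : A ⟶ G) (b : B ⟶ G) :
    (Functor.Monoidal.μIso (Over.pullback σ) A B).hom ≫ (Over.pullback σ).map (cmap a b) =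
      cmap ((Over.pullback σ).map a) ((Over.pullback σ).map b) := by
  let F := Over.pullback σ
  let e := Functor.Monoidal.μIso F A B
  have hfst : e.hom ≫ F.map (fst A B) = fst (F.obj A) (F.obj B) := Functor.Monoidal.μ_fst F A B
  have hsnd : e.hom ≫ F.map (snd A B) = snd (F.obj A) (F.obj B) := Functor.Monoidal.μ_snd F A B
  simp only [cmap, Functor.map_mul, Functor.map_inv', MonObj.comp_mul, GrpObj.comp_inv, Functor.map_comp,
    ← Category.assoc (Functor.Monoidal.μIso (Over.pullback σ) A B).hom]
  rw [hfst, hsnd]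

lemma wset_cmap_bc {A B : Over S} (a : A ⟶ G) (b : B ⟶ G) (n : ℕ) :
    WSet (cmap ((Over.pullback σ).map a) ((Over.pullback σ).map b)) n =
      pullback.fst G.hom σ ⁻¹' WSet (cmap a b) n := by
  rw [← mu_cmap, ← wset_bc_eq]
  simp only [WSet, word_comp_iso]

lemma map_fst_apply {A : Over S} (a : A ⟶ G) (x : ↥((Over.pullback σ).obj A).left) :
    pullback.fst G.hom σ (((Over.pullback σ).map a).left.base x) = a.left.base (pullback.fst A.hom σ x) := by
  have h : ((Over.pullback σ).map a).left ≫ pullback.fst G.hom σ = pullback.fst A.hom σ ≫ a.left :=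
    pullback.lift_fst _ _ _
  exact congr($h x)

end BC

lemma qc_tensorS {S : Scheme.{u}} (X Y : Over S) [hX : QuasiCompact X.hom] [QuasiCompact Y.hom] :
    QuasiCompact (X ⊗ Y).hom := by
  show QuasiCompact (pullback.fst X.hom Y.hom ≫ X.hom)
  exact MorphismProperty.comp_mem _ _ _ (MorphismProperty.pullback_fst _ _ ‹_›) hX

lemma qc_powS {S : Scheme.{u}} (X : Over S) [QuasiCompact X.hom] : ∀ n, QuasiCompact (pow X n).hom
  | 0 => by
    show QuasiCompact (𝟙 S)
    infer_instance
  | n + 1 => @qc_tensorS S X (pow X n) _ (qc_powS X n)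

/-- the word sets of finitely presented data are constructible -/
lemma isLocallyConstructible_wset {S : Scheme.{u}} {G X : Over S} [GrpObj G] [LocallyOfFinitePresentation G.hom]
    [QuasiSeparated G.hom] [LocallyOfFinitePresentation X.hom] [QuasiCompact X.hom] (f : X ⟶ G) (n : ℕ) :
    IsLocallyConstructible (WSet f n) := by
  rw [wset_eq_iUnion]
  refine IsLocallyConstructible.iUnion fun ε => ?_
  have := lfp_pow X n
  have := qc_powS X n
  let w := (word f (proj X n) ε).left
  have : QuasiCompact (w ≫ G.hom) := by rw [Over.w]; infer_instance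
  have : QuasiCompact w := QuasiCompact.of_comp w G.hom
  have h2 : LocallyOfFinitePresentation (w ≫ G.hom) := by rw [Over.w]; infer_instance
  have : LocallyOfFinitePresentation w := LimTop61.locallyOfFinitePresentation_of_comp _ G.hom
  rw [← Set.image_univ]
  exact w.isLocallyConstructible_image IsLocallyConstructible.univ

/-- a subgroup over a field is closed -/
lemma isClosedImmersion_subgroup {k : Type u} [Field k] {G H : Over (Spec (CommRingCat.of k))} [GrpObj G] [GrpObj H]
    [LocallyOfFiniteType G.hom] [LocallyOfFiniteType H.hom] [QuasiCompact H.hom] (h : H ⟶ G) [IsMonHom h]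
    [IsImmersion h.left] : IsClosedImmersion h.left := by
  have : Mono h := Over.mono_of_mono_left h
  exact AlgGrp79.isClosedImmersion_hom_of_trivial_kernel h fun T g hg => by
    rw [← cancel_mono h, hg, MonObj.one_comp]

end Groth.Agent.CAlg6.GrpWord
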