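import Mathlib
import Groth.Agent.LimTop61.SubgroupDescent
import Groth.Agent.FlatCrit65.GenFlat
import Groth.Agent.SchBasics.Spread
import Groth.Agent.FlatMor67.GenericFibre

/-! Schematic closures of closed subschemes of the generic fibre of a scheme over an integral base. -/

set_option autoImplicit false
universe u
open CategoryTheory CategoryTheory.Limits MonoidalCategory CartesianMonoidalCategory MonObj AlgebraicGeometry

namespace Groth.Agent.CAlg6.GenClosure

variable {S : Scheme.{u}} [IsIntegral S]

/-- the generic point as a morphism -/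
noncomputable abbrev gσ (S : Scheme.{u}) [IsIntegral S] : Spec (S.residueField (genericPoint S)) ⟶ S :=
  S.fromSpecResidueField (genericPoint S)

lemma flat_gσ : Flat (gσ S) := by
  have hF : IsField (S.presheaf.stalk (genericPoint S)) := (inferInstance : Field S.functionField).toIsField
  have : IsIso (S.residue (genericPoint S)) := by
    rw [ConcreteCategory.isIso_iff_bijective]
    refine ⟨?_, S.residue_surjective _⟩
    letI := hF.toField
    exact RingHom.injective (S.residue (genericPoint S)).hom
  haveI : Flat (S.fromSpecStalk (genericPoint S)) := inferInstance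
  show Flat (Spec.map (S.residue (genericPoint S)) ≫ S.fromSpecStalk (genericPoint S))
  infer_instance

lemma qc_gσ : QuasiCompact (gσ S) := by
  refine ⟨fun U _ _ => ?_⟩
  haveI : Subsingleton (Spec (S.residueField (genericPoint S))) :=
    inferInstanceAs (Subsingleton (PrimeSpectrum (S.residueField (genericPoint S))))
  exact (Set.toFinite _).isCompact

/-- the lift of the generic point to an open containing it -/
noncomputable def gU (U : S.Opens) (hU : genericPoint S ∈ U) :
    Spec (S.residueField (genericPoint S)) ⟶ U.toScheme :=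
  IsOpenImmersion.lift U.ι (gσ S) (by
    rw [Scheme.range_fromSpecResidueField, Scheme.Opens.range_ι, Set.singleton_subset_iff]; exact hU)

@[reassoc (attr := simp)]
lemma gU_ι (U : S.Opens) (hU : genericPoint S ∈ U) : gU U hU ≫ U.ι = gσ S := IsOpenImmersion.lift_fac _ _ _

lemma schDom_gU (U : S.Opens) (hU : genericPoint S ∈ U) :
    IsSchemeTheoreticallyDominant (gU U hU) ∧ QuasiCompact (gU U hU) := by
  constructor
  · rw [isSchemeTheoreticallyDominant_iff_isDominant]
    refine ⟨fun y => ?_⟩
    have h1 : U.ι (gU U hU (IsLocalRing.closedPoint _)) = genericPoint S := by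
      rw [← Scheme.Hom.comp_apply, gU_ι]; exact Scheme.fromSpecResidueField_apply _ _
    have h2 : gU U hU (IsLocalRing.closedPoint _) ⤳ y := by
      refine U.ι.isOpenEmbedding.isInducing.specializes_iff.1 ?_
      rw [h1]; exact (genericPoint_spec S).specializes trivial
    exact h2.mem_closed isClosed_closure (subset_closure ⟨_, rfl⟩)
  · haveI := qc_gσ (S := S)
    haveI : QuasiCompact (gU U hU ≫ U.ι) := by rw [gU_ι]; exact qc_gσ
    exact QuasiCompact.of_comp (gU U hU) U.ι

/-- schematic closure -/
theorem exists_closure (G : Over S) (K : Over (Spec (S.residueField (genericPoint S))))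
    (j : K ⟶ (Over.pullback (gσ S)).obj G) [IsClosedImmersion j.left] :
    ∃ (D : Over S) (d : D ⟶ G) (θ : (Over.pullback (gσ S)).obj D ≅ K),
      IsClosedImmersion d.left ∧ θ.hom ≫ j = (Over.pullback (gσ S)).map d := by
  haveI := qc_gσ (S := S)
  haveI := flat_gσ (S := S)
  haveI : Mono (gσ S) := inferInstance
  let m := pullback.fst G.hom (gσ S)
  haveI : QuasiCompact m := MorphismProperty.pullback_fst _ _ inferInstance
  let w : K.left ⟶ G.left := j.left ≫ m
  haveI : QuasiCompact w := inferInstance
  let D : Over S := Over.mk (w.imageι ≫ G.hom)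
  let d : D ⟶ G := Over.homMk w.imageι rfl
  haveI hd : IsClosedImmersion d.left := inferInstanceAs (IsClosedImmersion w.imageι)
  let p := pullback.fst D.hom (gσ S)
  haveI : Mono p := inferInstance
  haveI : Flat p := MorphismProperty.pullback_fst _ _ inferInstance
  let md := ((Over.pullback (gσ S)).map d).left
  have hmd1 : md ≫ m = p ≫ d.left := pullback.lift_fst _ _ _
  have hmd2 : md ≫ pullback.snd G.hom (gσ S) = pullback.snd D.hom (gσ S) := pullback.lift_snd _ _ _
  have hj : j.left ≫ pullback.snd G.hom (gσ S) = K.hom := Over.w j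
  let l : K.left ⟶ pullback D.hom (gσ S) := pullback.lift w.toImage K.hom (by
    show w.toImage ≫ w.imageι ≫ G.hom = _
    rw [Scheme.Hom.toImage_imageι_assoc, ← hj, Category.assoc, Category.assoc, pullback.condition])
  have hl1 : l ≫ p = w.toImage := pullback.lift_fst _ _ _
  have hl2 : l ≫ pullback.snd D.hom (gσ S) = K.hom := pullback.lift_snd _ _ _
  have hlj : l ≫ md = j.left := by
    apply pullback.hom_ext
    · rw [Category.assoc, hmd1, reassoc_of% hl1]
      exact w.toImage_imageι
    · rw [Category.assoc, hmd2, hl2, hj]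
  haveI hmdci : IsClosedImmersion md := by
    have h : IsPullback md p m d.left := by
      refine IsPullback.of_right ?_ hmd1 (IsPullback.of_hasPullback G.hom (gσ S)).flip
      rw [hmd2]
      exact (Over.w d).symm ▸ (IsPullback.of_hasPullback D.hom (gσ S)).flip
    exact MorphismProperty.of_isPullback h.flip hd
  haveI : IsClosedImmersion (l ≫ md) := by rw [hlj]; infer_instance
  haveI : IsClosedImmersion l := IsClosedImmersion.of_comp l md
  haveI : IsSchemeTheoreticallyDominant w.toImage := by
    refine ⟨Scheme.IdealSheafData.ext_of_iSup_eq_top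
      (fun U : G.left.affineOpens => ⟨w.imageι ⁻¹ᵁ U.1, U.2.preimage w.imageι⟩) ?_ fun U => ?_⟩
    · refine top_le_iff.1 fun z _ => ?_
      obtain ⟨U, hU⟩ := TopologicalSpace.Opens.mem_iSup.1
        ((iSup_affineOpens_eq_top G.left).ge (show w.imageι z ∈ (⊤ : G.left.Opens) from trivial))
      exact TopologicalSpace.Opens.mem_iSup.2 ⟨U, hU⟩
    · rw [Scheme.Hom.ker_apply, Scheme.IdealSheafData.ideal_bot, Pi.bot_apply, ← RingHom.injective_iff_ker_eq_bot]
      exact w.toImage_app_injective U
  have hsq : IsPullback (𝟙 K.left) l w.toImage p := by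
    refine ⟨⟨by rw [Category.id_comp, hl1]⟩, ⟨PullbackCone.IsLimit.mk _ (fun s => s.fst) (fun s => Category.comp_id _)
      (fun s => ?_) (fun s m h1 _ => by rw [← h1]; exact (Category.comp_id _).symm)⟩⟩
    rw [← cancel_mono p, Category.assoc, hl1]
    exact s.condition
  haveI : IsSchemeTheoreticallyDominant l := IsSchemeTheoreticallyDominant.of_isPullback hsq
  haveI : IsIso l := by
    rw [IsClosedImmersion.isIso_iff_ker_eq_bot]
    exact IsSchemeTheoreticallyDominant.ker_eq_bot (f := l)
  let θ : (Over.pullback (gσ S)).obj D ≅ K := (Over.isoMk (f := K) (g := (Over.pullback (gσ S)).obj D) (asIso l) hl2).symm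
  refine ⟨D, d, θ, hd, ?_⟩
  ext1
  show inv l ≫ j.left = md
  rw [IsIso.inv_comp_eq, hlj]

/-- factorisations spread from the generic fibre along flat sources -/
theorem exists_factor {T H G : Over S} (a : T ⟶ G) (em : H ⟶ G) [IsClosedImmersion em.left]
    (U : S.Opens) (hU : genericPoint S ∈ U) [Flat (pullback.snd T.hom U.ι)]
    (h : LimTop61.FactorsBC (gσ S) a em) : LimTop61.FactorsBC U.ι a em := by
  rw [LimTop61.factorsBC_iff_isIso] at h ⊢
  haveI := (schDom_gU U hU).1
  haveI := (schDom_gU U hU).2
  let s := pullback.snd em.left a.left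
  let bσ := pullback.fst T.hom (gσ S)
  let bU := pullback.fst T.hom U.ι
  haveI : IsClosedImmersion s := MorphismProperty.pullback_snd _ _ inferInstance
  haveI : IsClosedImmersion (pullback.snd s bU) := MorphismProperty.pullback_snd _ _ inferInstance
  let j : pullback T.hom (gσ S) ⟶ pullback T.hom U.ι :=
    pullback.lift bσ (pullback.snd _ _ ≫ gU U hU) (by rw [Category.assoc, gU_ι]; exact pullback.condition)
  have hj : IsPullback j (pullback.snd T.hom (gσ S)) (pullback.snd T.hom U.ι) (gU U hU) := by
    refine IsPullback.of_right ?_ (pullback.lift_snd _ _ _) (IsPullback.of_hasPullback T.hom U.ι)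
    rw [pullback.lift_fst, gU_ι]
    exact IsPullback.of_hasPullback T.hom (gσ S)
  haveI : IsSchemeTheoreticallyDominant j := IsSchemeTheoreticallyDominant.of_isPullback hj.flip
  haveI : IsIso (pullback.snd s bσ) := h
  let l : pullback T.hom (gσ S) ⟶ pullback s bU := pullback.lift (inv (pullback.snd s bσ) ≫ pullback.fst s bσ) j (by
    rw [Category.assoc, pullback.condition, IsIso.inv_hom_id_assoc]
    exact (pullback.lift_fst _ _ _).symm)
  have hl : l ≫ pullback.snd s bU = j := pullback.lift_snd _ _ _
  show IsIso (pullback.snd s bU)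
  rw [IsClosedImmersion.isIso_iff_ker_eq_bot, ← le_bot_iff, ← IsSchemeTheoreticallyDominant.ker_eq_bot (f := j), ← hl]
  exact Scheme.Hom.le_ker_comp _ _

/-- generic flatness and finite presentation -/
theorem exists_open_flat_lfp {X : Scheme.{u}} (f : X ⟶ S) [LocallyOfFiniteType f] [QuasiCompact f] :
    ∃ U : S.Opens, genericPoint S ∈ U ∧
      ∀ V ≤ U, Flat (pullback.snd f V.ι) ∧ LocallyOfFinitePresentation (pullback.snd f V.ι) := by
  obtain ⟨U, hd, hfl, hfp⟩ := FlatCrit65.exists_dense_flat_lfp f
  refine ⟨U, ?_, fun V hV => ?_⟩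
  · obtain ⟨z, -, hz⟩ := hd.inter_open_nonempty Set.univ isOpen_univ ⟨genericPoint S, trivial⟩
    exact ((genericPoint_spec S).specializes trivial).mem_open U.2 hz
  · have h : IsPullback (pullback.snd (f ∣_ U) (S.homOfLE hV)) (pullback.fst (f ∣_ U) (S.homOfLE hV) ≫ (f ⁻¹ᵁ U).ι) V.ι f := by
      have h1 := (IsPullback.of_hasPullback (f ∣_ U) (S.homOfLE hV)).paste_horiz (isPullback_morphismRestrict f U).flip
      rw [Scheme.homOfLE_ι] at h1
      exact h1.flip
    haveI := hfl
    haveI := hfp
    exact ⟨(MorphismProperty.arrow_mk_iso_iff (P := @Flat)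
        (Arrow.isoMk h.flip.isoPullback (Iso.refl _) (by simp))).1 (MorphismProperty.pullback_snd _ _ ‹_›),
      (MorphismProperty.arrow_mk_iso_iff (P := @LocallyOfFinitePresentation)
        (Arrow.isoMk h.flip.isoPullback (Iso.refl _) (by simp))).1 (MorphismProperty.pullback_snd _ _ ‹_›)⟩

/-- flatness of a tensor over an open -/
lemma flat_tensor_open (A B : Over S) (U : S.Opens) [Flat (pullback.snd A.hom U.ι)] [Flat (pullback.snd B.hom U.ι)] :
    Flat (pullback.snd (A ⊗ B).hom U.ι) := by
  let F := Over.pullback U.ι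
  haveI : Flat (F.obj A).hom := ‹Flat (pullback.snd A.hom U.ι)›
  haveI : Flat (F.obj B).hom := ‹Flat (pullback.snd B.hom U.ι)›
  haveI : Flat (F.obj A ⊗ F.obj B).hom := by
    show Flat (pullback.fst (F.obj A).hom (F.obj B).hom ≫ (F.obj A).hom)
    haveI : Flat (pullback.fst (F.obj A).hom (F.obj B).hom) := MorphismProperty.pullback_fst _ _ ‹_›
    infer_instance
  let e := Functor.Monoidal.μIso F A B
  have hw : e.inv.left ≫ (F.obj A ⊗ F.obj B).hom = (F.obj (A ⊗ B)).hom := Over.w e.inv
  haveI : IsIso e.inv.left := ((Over.forget _).mapIso e).isIso_inv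
  show Flat (F.obj (A ⊗ B)).hom
  rw [← hw]
  infer_instance

attribute [local instance] Functor.grpObjObj

/-- the closure of a subgroup of the generic fibre is a subgroup where it is flat -/
theorem exists_grpObj_open {G D : Over S} [GrpObj G] (d : D ⟶ G) [IsClosedImmersion d.left]
    (U : S.Opens) (hU : genericPoint S ∈ U) [Flat (pullback.snd D.hom U.ι)]
    [GrpObj (Red.bc (gσ S) D)] [IsMonHom ((Over.pullback (gσ S)).map d)] :
    ∃ (_ : GrpObj (Red.bc U.ι D)), IsMonHom ((Over.pullback U.ι).map d) ∧
      (AlgGrp.IsNormalHom ((Over.pullback (gσ S)).map d) → Flat (pullback.snd G.hom U.ι) →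
        AlgGrp.IsNormalHom ((Over.pullback U.ι).map d)) := by
  obtain ⟨h1, h2, h3⟩ := LimTop61.factors_of_grpObj (gσ S) d
  haveI : Flat (pullback.snd (𝟙_ (Over S)).hom U.ι) :=
    MorphismProperty.pullback_snd (P := @Flat) _ _ (inferInstanceAs (Flat (𝟙 S)))
  haveI := flat_tensor_open D D U
  haveI : Mono d := Over.mono_of_mono_left d
  haveI : Mono ((Over.pullback U.ι).map d) := inferInstance
  obtain ⟨gD, hD⟩ := LimTop61.exists_grpObj_of_factors U.ι d
    (exists_factor _ d U hU h1) (exists_factor _ d U hU h2) (exists_factor _ d U hU h3)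
  refine ⟨gD, hD, fun hn hG => ?_⟩
  haveI := flat_tensor_open G D U
  exact LimTop61.isNormalHom_of_factors U.ι d (exists_factor _ d U hU (LimTop61.factors_of_isNormalHom _ d hn))

end Groth.Agent.CAlg6.GenClosure
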