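import Mathlib
import Groth.Agent.CAlg6.GrpWordField
import Groth.Agent.CAlg6.GenClosure
import Groth.Agent.CAlg6.GenSpread
import Groth.Agent.CAlg6.GrpWordSpread
import Groth.Agent.RG29.IntegralSpread
import Groth.Agent.Grp57.Morph
import Groth.Agent.AlgGrp79.SepDense

/-! The fibres of a smooth group with connected generic fibre are connected near the generic point. -/

set_option autoImplicit false
universe u
open CategoryTheory CategoryTheory.Limits MonoidalCategory CartesianMonoidalCategory MonObj AlgebraicGeometry Topology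
open scoped TensorProduct

namespace Groth.Agent.CAlg6.GenConn

attribute [local instance] GrpWord.bcGrp

lemma smooth_isReduced {K : Type u} [Field K] {X : Scheme.{u}} (f : X ⟶ Spec (CommRingCat.of K)) [Smooth f] :
    IsReduced X := AlgGrp79.isReduced_of_smooth f

/-- a connected group with its unit is geometrically connected -/
lemma geometricallyConnected_grp {k : Type u} [Field k] (A : Over (Spec (CommRingCat.of k))) [GrpObj A]
    [ConnectedSpace A.left] : GeometricallyConnected A.hom := by
  have : Nonempty (𝟙_ (Over (Spec (CommRingCat.of k)))).left := ⟨IsLocalRing.closedPoint k⟩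
  have : GeometricallyConnected ((η[A] : 𝟙_ _ ⟶ A).left ≫ A.hom) := by
    rw [Over.w]
    show GeometricallyConnected (𝟙 (Spec (CommRingCat.of k)))
    refine ⟨geometrically_iff_of_commRing_of_isClosedUnderIsomorphisms.mpr fun L _ _ => ?_⟩
    exact (inv (pullback.snd (𝟙 (Spec (CommRingCat.of k))) (Spec.map (CommRingCat.ofHom (algebraMap k L))))).surjective.connectedSpace
      (Scheme.Hom.continuous _)
  exact FBase64.geometricallyConnected_of_source A.hom (η[A] : 𝟙_ _ ⟶ A).left

/-- a field valued point at a given point factors through the residue field -/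
lemma exists_factor_residue {S : Scheme.{u}} (K : Type u) [Field K] (t : Spec (CommRingCat.of K) ⟶ S) (s : S)
    (hs : t (IsLocalRing.closedPoint K) = s) :
    ∃ e : Spec (CommRingCat.of K) ⟶ Spec (S.residueField s), e ≫ S.fromSpecResidueField s = t := by
  subst hs
  exact ⟨_, Scheme.descResidueField_stalkClosedPointTo_fromSpecResidueField K S t⟩

variable {S : Scheme.{u}} [IsIntegral S] [IsAffine S]

theorem exists_open_connected_fibres (G : Over S) [GrpObj G] [Smooth G.hom] [QuasiCompact G.hom]
    [QuasiSeparated G.hom]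
    (hconn : ConnectedSpace (pullback G.hom (GenClosure.gσ S) : Scheme.{u})) :
    ∃ V : S.Opens, genericPoint S ∈ V ∧ ∀ s ∈ V, ConnectedSpace (G.hom.fiber s) := by
  classical
  let η₀ := genericPoint S
  let A : Type u := Γ(S, ⊤)
  let e₀ : G.left := (η[G] : 𝟙_ (Over S) ⟶ G).left η₀
  have hw : ∀ t : S, G.hom ((η[G] : 𝟙_ (Over S) ⟶ G).left t) = t := fun t => congr($(Over.w η[G]) t)
  obtain ⟨_, ⟨E₀, hE, rfl⟩, heE, -⟩ :=
    G.left.isBasis_affineOpens.exists_subset_of_mem_open (Set.mem_univ e₀) isOpen_univ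
  let E : G.left.Opens := E₀
  haveI : IsAffine E.toScheme := hE
  let g : E.toScheme ⟶ S := E.ι ≫ G.hom
  haveI : Smooth g := inferInstance
  let B : Type u := Γ(E.toScheme, ⊤)
  letI : Algebra A B := g.appTop.hom.toAlgebra
  haveI : Algebra.Smooth A B := HasRingHomProperty.appTop (P := @Smooth) g inferInstance
  -- the fibre over a field valued point
  have hiso : ∀ (L : Type u) [Field L] [Algebra A L],
      Nonempty ((pullback g (Spec.map (CommRingCat.ofHom (algebraMap A L)) ≫ S.isoSpec.inv) : Scheme.{u}) ≅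
        Spec (CommRingCat.of (L ⊗[A] B))) := fun L _ _ => by
    let eE := E.toScheme.isoSpec
    let xL := Spec.map (CommRingCat.ofHom (algebraMap A L))
    have hg : g = eE.hom ≫ Spec.map (CommRingCat.ofHom (algebraMap A B)) ≫ S.isoSpec.inv := by
      have := Scheme.isoSpec_hom_naturality g
      rw [← Category.assoc, Iso.eq_comp_inv]
      exact this.symm
    let m : pullback g (xL ≫ S.isoSpec.inv) ⟶ pullback (Spec.map (CommRingCat.ofHom (algebraMap A B))) xL :=
      pullback.map _ _ _ _ eE.hom (𝟙 _) S.isoSpec.hom (by rw [hg]; simp; rfl) (by simp)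
    haveI : IsIso m := inferInstance
    exact ⟨asIso m ≪≫ pullbackSymmetry _ _ ≪≫ pullbackSpecIso A L B⟩
  have hpt : ∀ (L : Type u) [Field L] [Algebra A L] (a : A), algebraMap A L a ≠ 0 →
      (Spec.map (CommRingCat.ofHom (algebraMap A L)) ≫ S.isoSpec.inv) (IsLocalRing.closedPoint L) ∈ S.basicOpen a := by
    intro L _ _ a ha
    have h1 : S.isoSpec.inv ⁻¹ᵁ S.basicOpen a = PrimeSpectrum.basicOpen a := by
      have h := (isAffineOpen_top S).fromSpec_preimage_basicOpen (f := a)
      rwa [IsAffineOpen.fromSpec_top] at h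
    have h2 : (Spec.map (CommRingCat.ofHom (algebraMap A L))) (IsLocalRing.closedPoint L) ∈ PrimeSpectrum.basicOpen a := by
      show a ∉ Ideal.comap (algebraMap A L) _
      intro hmem
      have hm : algebraMap A L a ∈ IsLocalRing.maximalIdeal L := hmem
      exact (IsLocalRing.mem_maximalIdeal _).1 hm (isUnit_iff_ne_zero.2 ha)
    rw [← h1] at h2
    exact h2
  -- geometric integrality at the generic point
  have hint : ∀ (L : Type u) [Field L] [Algebra A L], Function.Injective (algebraMap A L) → IsDomain (L ⊗[A] B) := by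
    intro L _ _ hL
    let Ω := AlgebraicClosure L
    haveI : IsDomain (Ω ⊗[A] B) := by
      let x : Spec (CommRingCat.of Ω) ⟶ S := Spec.map (CommRingCat.ofHom (algebraMap A Ω)) ≫ S.isoSpec.inv
      have hx : x (IsLocalRing.closedPoint Ω) = η₀ := by
        have hinj : Function.Injective (algebraMap A Ω) := by
          rw [IsScalarTower.algebraMap_eq A L Ω]
          exact (algebraMap L Ω).injective.comp hL
        refine (genericPoint_spec S).eq (isGenericPoint_iff_specializes.2 fun y => ?_) |>.symm
        simp only [Set.mem_univ, iff_true]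
        rw [specializes_iff_forall_open]
        intro O hO hyO
        obtain ⟨_, ⟨_, ⟨a, rfl⟩, rfl⟩, hya, hsub⟩ := (isBasis_basicOpen S).exists_subset_of_mem_open hyO hO
        refine hsub (hpt Ω a fun h => ?_)
        have h0 : a = 0 := hinj (h.trans (map_zero _).symm)
        simp [h0] at hya
      obtain ⟨e, he⟩ := exists_factor_residue Ω x η₀ hx
      letI : GrpObj ((Over.pullback x).obj G) := GrpWord.bcGrp x
      let GΩ := (Over.pullback x).obj G
      haveI : Smooth GΩ.hom := MorphismProperty.pullback_snd (P := @Smooth) _ _ ‹_›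
      haveI : LocallyOfFiniteType GΩ.hom := inferInstance
      haveI : ConnectedSpace GΩ.left := by
        haveI : ConnectedSpace ((Over.pullback (GenClosure.gσ S)).obj G).left := hconn
        letI : Field (S.residueField η₀) := inferInstance
        haveI := geometricallyConnected_grp (k := S.residueField η₀) ((Over.pullback (GenClosure.gσ S)).obj G)
        haveI : GeometricallyConnected (pullback.snd G.hom (GenClosure.gσ S)) :=
          geometricallyConnected_grp (k := S.residueField η₀) ((Over.pullback (GenClosure.gσ S)).obj G)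
        haveI : ConnectedSpace (pullback (pullback.snd G.hom (GenClosure.gσ S)) e : Scheme.{u}) :=
          pullback_of_geometrically GeometricallyConnected.geometrically_connectedSpace _ _
        let i : pullback (pullback.snd G.hom (GenClosure.gσ S)) e ≅ GΩ.left :=
          pullbackLeftPullbackSndIso G.hom (GenClosure.gσ S) e ≪≫ pullback.congrHom rfl he
        exact i.hom.surjective.connectedSpace i.hom.continuous
      haveI : IrreducibleSpace GΩ.left := (GrpWord.irreducible_of_connected (A := GΩ)).1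
      haveI : IsReduced GΩ.left := smooth_isReduced GΩ.hom
      haveI : IsIntegral GΩ.left := isIntegral_of_irreducibleSpace_of_isReduced _
      let i : pullback g x ⟶ GΩ.left := pullback.map _ _ _ _ E.ι (𝟙 _) (𝟙 _) (by simp [g]) (by simp)
      haveI : IsOpenImmersion i := inferInstance
      obtain ⟨p, -, -⟩ := Scheme.Pullback.exists_preimage_pullback (f := g) (g := x) (⟨e₀, heE⟩ : E.toScheme)
        (IsLocalRing.closedPoint Ω) (by rw [hx]; exact hw η₀)
      haveI : Nonempty (pullback g x : Scheme.{u}) := ⟨p⟩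
      haveI : IsIntegral (pullback g x) := isIntegral_of_isOpenImmersion i
      obtain ⟨j⟩ := hiso Ω
      haveI : Nonempty (Spec (CommRingCat.of (Ω ⊗[A] B))) := ⟨j.hom p⟩
      haveI : IsIntegral (Spec (CommRingCat.of (Ω ⊗[A] B))) := isIntegral_of_isOpenImmersion j.inv
      exact (affine_isIntegral_iff (CommRingCat.of (Ω ⊗[A] B))).1 inferInstance
    let φ : L ⊗[A] B →ₐ[A] Ω ⊗[A] B := Algebra.TensorProduct.map (IsScalarTower.toAlgHom A L Ω) (AlgHom.id A B)
    haveI : Module.Flat A B := inferInstance
    have hφ : Function.Injective φ := by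
      have h := Module.Flat.rTensor_preserves_injective_linearMap (M := B) (IsScalarTower.toAlgHom A L Ω).toLinearMap
        (algebraMap L Ω).injective
      exact h
    exact hφ.isDomain φ.toRingHom
  obtain ⟨a, ha, hdom⟩ := RG29.exists_domain_spread hint
  have hconnE : ∀ (L : Type u) [Field L] (t : Spec (CommRingCat.of L) ⟶ S),
      t (IsLocalRing.closedPoint L) ∈ S.basicOpen a → ConnectedSpace (pullback g t : Scheme.{u}) := by
    intro L _ t ht
    let ψ := Spec.preimage (t ≫ S.isoSpec.hom)
    letI : Algebra A L := ψ.hom.toAlgebra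
    have he : Spec.map (CommRingCat.ofHom (algebraMap A L)) ≫ S.isoSpec.inv = t := by
      show Spec.map ψ ≫ _ = t
      rw [Spec.map_preimage, Category.assoc, Iso.hom_inv_id, Category.comp_id]
    have hne : algebraMap A L a ≠ 0 := by
      intro h0
      rw [← he] at ht
      have h1 : S.isoSpec.inv ⁻¹ᵁ S.basicOpen a = PrimeSpectrum.basicOpen a := by
        have h := (isAffineOpen_top S).fromSpec_preimage_basicOpen (f := a)
        rwa [IsAffineOpen.fromSpec_top] at h
      have h2 : (Spec.map (CommRingCat.ofHom (algebraMap A L))) (IsLocalRing.closedPoint L) ∈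
          S.isoSpec.inv ⁻¹ᵁ S.basicOpen a := ht
      rw [h1] at h2
      exact h2 (show (algebraMap A L) a ∈ IsLocalRing.maximalIdeal L by simp [h0])
    haveI := hdom L hne
    obtain ⟨j⟩ := hiso L
    rw [he] at j
    haveI : IsIntegral (Spec (CommRingCat.of (L ⊗[A] B))) := inferInstance
    haveI : ConnectedSpace (Spec (CommRingCat.of (L ⊗[A] B))) := inferInstance
    exact j.inv.surjective.connectedSpace j.inv.continuous
  -- the difference map on the chart is onto near the generic point
  let E' : Over S := Over.mk g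
  let ιE : E' ⟶ G := Over.homMk E.ι rfl
  haveI : LocallyOfFinitePresentation E'.hom := inferInstanceAs (LocallyOfFinitePresentation g)
  haveI : QuasiCompact E'.hom := inferInstanceAs (QuasiCompact g)
  haveI : LocallyOfFinitePresentation (E' ⊗ E').hom := GrpWord.lfp_tensor E' E'
  haveI : QuasiCompact (E' ⊗ E').hom := GrpWord.qc_tensorS E' E'
  let m : E' ⊗ E' ⟶ G := (fst _ _ ≫ ιE) * (snd _ _ ≫ ιE)⁻¹
  haveI : QuasiCompact m.left := by
    have : QuasiCompact (m.left ≫ G.hom) := by rw [Over.w]; infer_instance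
    exact QuasiCompact.of_comp m.left G.hom
  haveI : LocallyOfFinitePresentation m.left := by
    have : LocallyOfFinitePresentation (m.left ≫ G.hom) := by rw [Over.w]; infer_instance
    exact LimTop61.locallyOfFinitePresentation_of_comp _ G.hom
  have hE' : IsLocallyConstructible (Set.range m.left)ᶜ := GenSpread.isLocallyConstructible_compl (by
    rw [← Set.image_univ]
    exact m.left.isLocallyConstructible_image IsLocallyConstructible.univ)
  obtain ⟨V, hV, hV'⟩ := GenSpread.exists_open_disjoint G.hom hE' fun x hx => by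
    simp only [Set.mem_compl_iff, not_not]
    let σ := GenClosure.gσ S
    letI : Field (S.residueField η₀) := inferInstance
    let Gη : Over (Spec (CommRingCat.of (S.residueField η₀))) := (Over.pullback σ).obj G
    letI : GrpObj Gη := GrpWord.bcGrp σ
    haveI : Smooth Gη.hom := MorphismProperty.pullback_snd (P := @Smooth) _ _ ‹_›
    haveI : ConnectedSpace Gη.left := hconn
    haveI : IrreducibleSpace Gη.left := by
      obtain ⟨G₀, _, incl, -, -, -, hr, hirr, -⟩ := Grp57.exists_identityComponent (G := Gη)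
      rw [PreconnectedSpace.connectedComponent_eq_univ] at hr
      haveI := hirr
      have h₀ : IrreducibleSpace G₀.left := by
        have : Nonempty G₀.left := ⟨η[G₀].left (IsLocalRing.closedPoint (S.residueField η₀))⟩
        exact GeometricallyIrreducible.irreducibleSpace_of_subsingleton G₀.hom
      have h := (IrreducibleSpace.isIrreducible_univ G₀.left).image _ incl.left.continuous.continuousOn
      rw [Set.image_univ, hr] at h
      exact { isPreirreducible_univ := h.2, toNonempty := ⟨h.1.some⟩ }
    let p1 : Gη.left ⟶ G.left := pullback.fst G.hom σ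
    let U : Gη.left.Opens := p1 ⁻¹ᵁ E
    obtain ⟨q, hq, -⟩ := Scheme.Pullback.exists_preimage_pullback (f := G.hom) (g := σ) e₀
      (IsLocalRing.closedPoint _) ((hw η₀).trans (Scheme.fromSpecResidueField_apply _ _).symm)
    have hUne : (U : Set Gη.left).Nonempty := ⟨q, show p1 q ∈ E from hq ▸ heE⟩
    let W : Gη.left.Opens := (𝟙 Gη : Gη ⟶ Gη)⁻¹.left ⁻¹ᵁ U
    have hWne : (W : Set Gη.left).Nonempty := ⟨(𝟙 Gη : Gη ⟶ Gη)⁻¹.left q, by
      show (𝟙 Gη : Gη ⟶ Gη)⁻¹.left ((𝟙 Gη : Gη ⟶ Gη)⁻¹.left q) ∈ U
      rw [← Scheme.Hom.comp_apply, ← Over.comp_left, GrpObj.comp_inv, Category.comp_id, _root_.inv_inv]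
      exact show p1 q ∈ E from hq ▸ heE⟩
    obtain ⟨x', hx', -⟩ := Scheme.Pullback.exists_preimage_pullback (f := G.hom) (g := σ) x
      (IsLocalRing.closedPoint _) (hx.trans (Scheme.fromSpecResidueField_apply _ _).symm)
    obtain ⟨w, ⟨hwU, hwW⟩, hwμ⟩ := (Grp57.mul_image_dense U W (U.2.dense hUne) hWne).ge (Set.mem_univ x')
    let P := Gη ⊗ Gη
    let a₁ : P ⟶ Gη := fst Gη Gη
    let a₂ : P ⟶ Gη := (snd Gη Gη)⁻¹
    have hmul : a₁ * a₂⁻¹ = μ[Gη] := by
      rw [_root_.inv_inv]; exact (MonObj.mul_eq_mul Gη).symm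
    have ha₂ : (a₂.left w) ∈ U := by
      show ((snd Gη Gη)⁻¹).left w ∈ U
      rw [← Category.comp_id (snd Gη Gη), ← GrpObj.comp_inv]
      exact hwW
    let u₁ := (GrpWord.phiE σ P G).symm a₁
    let u₂ := (GrpWord.phiE σ P G).symm a₂
    have hu : ∀ b : P ⟶ Gη, ((GrpWord.phiE σ P G).symm b).left = b.left ≫ p1 := fun b => by
      have h := GrpWord.phiE_fst σ ((GrpWord.phiE σ P G).symm b)
      rw [Equiv.apply_symm_apply] at h
      exact h.symm
    have hu₁ : u₁.left w ∈ E := by rw [hu]; exact hwU
    have hu₂ : u₂.left w ∈ E := by rw [hu]; exact ha₂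
    let T : Over S := Over.mk (P.left.fromSpecResidueField w ≫ ((Over.map σ).obj P).hom)
    let l : T ⟶ (Over.map σ).obj P := Over.homMk (P.left.fromSpecResidueField w) rfl
    have hl : ∀ q : T.left, l.left q = w := fun q => Scheme.fromSpecResidueField_apply _ _
    have hlift : ∀ b : (Over.map σ).obj P ⟶ G, b.left w ∈ E → ∃ y : T ⟶ E', y ≫ ιE = l ≫ b := fun b hb => by
      have hr : Set.range (l ≫ b).left ⊆ Set.range E.ι := by
        rintro _ ⟨q, rfl⟩
        rw [Over.comp_left, Scheme.Hom.comp_apply, hl, Scheme.Opens.range_ι]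
        exact hb
      refine ⟨Over.homMk (IsOpenImmersion.lift E.ι (l ≫ b).left hr) ?_, Over.OverMorphism.ext (IsOpenImmersion.lift_fac _ _ _)⟩
      show IsOpenImmersion.lift E.ι (l ≫ b).left hr ≫ E.ι ≫ G.hom = _
      rw [IsOpenImmersion.lift_fac_assoc, Over.w]
    obtain ⟨y₁, hy₁⟩ := hlift u₁ hu₁
    obtain ⟨y₂, hy₂⟩ := hlift u₂ hu₂
    let c : T.left := IsLocalRing.closedPoint (P.left.residueField w)
    refine ⟨(lift y₁ y₂).left c, ?_⟩
    have hm : lift y₁ y₂ ≫ m = l ≫ (u₁ * u₂⁻¹) := by
      simp only [m, MonObj.comp_mul, GrpObj.comp_inv, lift_fst_assoc, lift_snd_assoc, hy₁, hy₂]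
    have hprod : u₁ * u₂⁻¹ = (GrpWord.phiE σ P G).symm μ[Gη] := by
      apply (GrpWord.phiE σ P G).injective
      rw [← GrpWord.phi_apply, map_mul, map_inv, GrpWord.phi_apply, GrpWord.phi_apply, Equiv.apply_symm_apply,
        Equiv.apply_symm_apply, Equiv.apply_symm_apply, hmul]
    rw [← Scheme.Hom.comp_apply, ← Over.comp_left, hm, hprod, Over.comp_left, Scheme.Hom.comp_apply, hl, hu,
      Scheme.Hom.comp_apply, hwμ]
    exact hx'
  -- connectedness
  refine ⟨V ⊓ S.basicOpen a, ⟨hV, ?_⟩, ?_⟩
  · have hne : S.basicOpen a ≠ ⊥ := fun h => ha ((AlgebraicGeometry.basicOpen_eq_bot_iff a).1 h)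
    obtain ⟨z, hz⟩ := Set.nonempty_iff_ne_empty.2 (fun h => hne (TopologicalSpace.Opens.ext h))
    exact ((genericPoint_spec S).specializes trivial).mem_open (S.basicOpen a).2 hz
  rintro s ⟨hsV, hsa⟩
  let es : G.left := (η[G] : 𝟙_ (Over S) ⟶ G).left s
  have hpc : _root_.IsPreconnected (G.hom ⁻¹' {s}) := by
    refine isPreconnected_of_forall es fun y hy => ?_
    have hy' : G.hom y = s := hy
    have hmem := hV' y (by rw [hy']; exact hsV)
    simp only [Set.mem_compl_iff, not_not] at hmem
    obtain ⟨z, hz⟩ := hmem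
    have hzs : (E' ⊗ E').hom z = s := by
      rw [← Over.w m, Scheme.Hom.comp_apply, hz, hy']
    let L := (E' ⊗ E').left.residueField z
    let T : Over S := Over.mk ((E' ⊗ E').left.fromSpecResidueField z ≫ (E' ⊗ E').hom)
    let l : T ⟶ E' ⊗ E' := Over.homMk ((E' ⊗ E').left.fromSpecResidueField z) rfl
    let y₁ := l ≫ fst E' E'
    let y₂ := l ≫ snd E' E'
    have hTs : ∀ q : T.left, T.hom q = s := fun q => by
      show ((E' ⊗ E').left.fromSpecResidueField z ≫ (E' ⊗ E').hom) q = s
      rw [Scheme.Hom.comp_apply, Scheme.fromSpecResidueField_apply, hzs]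
    haveI : ConnectedSpace (E' ⊗ T).left := by
      have h := hconnE L T.hom (by
        rw [show T.hom (IsLocalRing.closedPoint L) = s from hTs _]; exact hsa)
      exact h
    let mT : E' ⊗ T ⟶ G := (fst E' T ≫ ιE) * (snd E' T ≫ y₂ ≫ ιE)⁻¹
    have hsec : ∀ v : T ⟶ E', lift v (𝟙 T) ≫ mT = (v ≫ ιE) * (y₂ ≫ ιE)⁻¹ := fun v => by
      simp only [mT, MonObj.comp_mul, GrpObj.comp_inv, lift_fst_assoc, lift_snd_assoc, Category.id_comp]
    have h1 : lift y₁ (𝟙 T) ≫ mT = l ≫ m := by
      rw [hsec]; simp only [y₁, y₂, m, MonObj.comp_mul, GrpObj.comp_inv, Category.assoc]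
    have h2 : lift y₂ (𝟙 T) ≫ mT = 1 := by rw [hsec, mul_inv_cancel]
    let c : T.left := IsLocalRing.closedPoint L
    refine ⟨Set.range mT.left, ?_, ⟨(lift y₂ (𝟙 T)).left c, ?_⟩, ⟨(lift y₁ (𝟙 T)).left c, ?_⟩,
      isPreconnected_range mT.left.continuous⟩
    · rintro _ ⟨q, rfl⟩
      show G.hom (mT.left q) = s
      rw [← Scheme.Hom.comp_apply, Over.w, ← Over.w (snd E' T), Scheme.Hom.comp_apply]
      exact hTs _
    · rw [← Scheme.Hom.comp_apply, ← Over.comp_left, h2, Hom.one_def, Over.comp_left, Scheme.Hom.comp_apply]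
      show η[G].left ((toUnit T).left c) = η[G].left s
      congr 1
      exact hTs c
    · rw [← Scheme.Hom.comp_apply, ← Over.comp_left, h1, Over.comp_left, Scheme.Hom.comp_apply]
      show m.left ((E' ⊗ E').left.fromSpecResidueField z c) = y
      rw [Scheme.fromSpecResidueField_apply, hz]
  haveI : ConnectedSpace ↥(G.hom ⁻¹' {s}) := Subtype.connectedSpace ⟨⟨es, hw s⟩, hpc⟩
  exact (G.hom.fiberHomeo s).symm.surjective.connectedSpace (G.hom.fiberHomeo s).symm.continuous

end Groth.Agent.CAlg6.GenConn
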