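import Mathlib
import Groth.Agent.CAlg6.GenConn
import Groth.Agent.SpPts86.LocConstr
import Groth.Agent.FBase64.SmoothFibre
import Groth.Agent.S5364

/-! Commutator subgroups over a neighbourhood of the generic point of an integral base. -/

set_option autoImplicit false
universe u
open CategoryTheory CategoryTheory.Limits MonoidalCategory CartesianMonoidalCategory MonObj AlgebraicGeometry Topology
open Groth.Agent.CAlg6.GrpWord

namespace Groth.Agent.CAlg6.GenDerived

attribute [local instance] GrpWord.bcGrp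

variable {S : Scheme.{u}}

/-- the range of a base change is the preimage of the range -/
lemma mem_range_bc_iff {S' : Scheme.{u}} (σ : S' ⟶ S) {X G : Over S} (d : X ⟶ G)
    (g : ↥((Over.pullback σ).obj G).left) :
    g ∈ Set.range ((Over.pullback σ).map d).left ↔ pullback.fst G.hom σ g ∈ Set.range d.left := by
  have h : IsPullback ((Over.pullback σ).map d).left (pullback.fst X.hom σ) (pullback.fst G.hom σ) d.left := by
    refine IsPullback.of_right ?_ (pullback.lift_fst _ _ _) (IsPullback.of_hasPullback G.hom σ).flip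
    have e : ((Over.pullback σ).map d).left ≫ pullback.snd G.hom σ = pullback.snd X.hom σ := pullback.lift_snd _ _ _
    rw [e]
    exact (Over.w d).symm ▸ (IsPullback.of_hasPullback X.hom σ).flip
  constructor
  · rintro ⟨x, rfl⟩
    exact ⟨pullback.fst X.hom σ x, (map_fst_apply' h.w x).symm⟩
  · rintro ⟨x, hx⟩
    obtain ⟨z, hz, -⟩ := Scheme.exists_preimage_of_isPullback h g x hx.symm
    exact ⟨z, hz⟩
where
  map_fst_apply' {A B C D : Scheme.{u}} {p : A ⟶ B} {q : A ⟶ C} {r : B ⟶ D} {s : C ⟶ D} (h : p ≫ r = q ≫ s) (x : A) :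
      r (p x) = s (q x) := congr($h x)

lemma isClosedImmersion_bc {S' : Scheme.{u}} (σ : S' ⟶ S) {X G : Over S} (d : X ⟶ G) [IsClosedImmersion d.left] :
    IsClosedImmersion ((Over.pullback σ).map d).left := by
  have h : IsPullback ((Over.pullback σ).map d).left (pullback.fst X.hom σ) (pullback.fst G.hom σ) d.left := by
    refine IsPullback.of_right ?_ (pullback.lift_fst _ _ _) (IsPullback.of_hasPullback G.hom σ).flip
    have e : ((Over.pullback σ).map d).left ≫ pullback.snd G.hom σ = pullback.snd X.hom σ := pullback.lift_snd _ _ _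
    rw [e]
    exact (Over.w d).symm ▸ (IsPullback.of_hasPullback X.hom σ).flip
  exact MorphismProperty.of_isPullback h.flip ‹_›

lemma isImmersion_bc {S' : Scheme.{u}} (σ : S' ⟶ S) {X G : Over S} (d : X ⟶ G) [IsImmersion d.left] :
    IsImmersion ((Over.pullback σ).map d).left := by
  have h : IsPullback ((Over.pullback σ).map d).left (pullback.fst X.hom σ) (pullback.fst G.hom σ) d.left := by
    refine IsPullback.of_right ?_ (pullback.lift_fst _ _ _) (IsPullback.of_hasPullback G.hom σ).flip
    have e : ((Over.pullback σ).map d).left ≫ pullback.snd G.hom σ = pullback.snd X.hom σ := pullback.lift_snd _ _ _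
    rw [e]
    exact (Over.w d).symm ▸ (IsPullback.of_hasPullback X.hom σ).flip
  exact MorphismProperty.of_isPullback h.flip ‹_›

lemma geometricallyReduced_of_smooth {k : Type u} [Field k] (X : Over (Spec (CommRingCat.of k))) [Smooth X.hom] :
    GeometricallyReduced X.hom :=
  ⟨geometrically_iff_of_commRing_of_isClosedUnderIsomorphisms.mpr fun K _ _ => by
    haveI : Smooth (pullback.snd X.hom (Spec.map (CommRingCat.ofHom (algebraMap k K)))) :=
      MorphismProperty.pullback_snd (P := @Smooth) _ _ ‹_›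
    exact AlgGrp79.isReduced_of_smooth (pullback.snd X.hom (Spec.map (CommRingCat.ofHom (algebraMap k K))))⟩

variable [IsIntegral S] {G A B : Over S} [GrpObj G]
variable [LocallyOfFinitePresentation G.hom] [QuasiCompact G.hom] [QuasiSeparated G.hom]

/-- what is known of a subscheme near the generic point -/
structure Good (U : S.Opens) (A : Over S) : Prop where
  mem : genericPoint S ∈ U
  qc : QuasiCompact A.hom
  lft : LocallyOfFiniteType A.hom
  lfp : ∀ V ≤ U, LocallyOfFinitePresentation (pullback.snd A.hom V.ι)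
  sm : ∀ s ∈ U, Smooth (pullback.snd A.hom (S.fromSpecResidueField s))

omit [GrpObj G] [LocallyOfFinitePresentation G.hom] [QuasiCompact G.hom] [QuasiSeparated G.hom] in
lemma Good.mono {U U' : S.Opens} {A : Over S} (h : Good U A) (hU : genericPoint S ∈ U') (hle : U' ≤ U) : Good U' A :=
  ⟨hU, h.qc, h.lft, fun V hV => h.lfp V (hV.trans hle), fun s hs => h.sm s (hle hs)⟩

/-- one step: the commutator subgroup of two subgroups given near the generic point -/
theorem exists_step (a : A ⟶ G) (b : B ⟶ G) (U : S.Opens) (hA : Good U A) (hB : Good U B)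
    [GrpObj (Red.bc (GenClosure.gσ S) A)] [IsMonHom ((Over.pullback (GenClosure.gσ S)).map a)]
    [IsImmersion ((Over.pullback (GenClosure.gσ S)).map a).left]
    [GrpObj (Red.bc (GenClosure.gσ S) B)] [IsMonHom ((Over.pullback (GenClosure.gσ S)).map b)]
    [IsImmersion ((Over.pullback (GenClosure.gσ S)).map b).left]
    (hcase : ConnectedSpace (Red.bc (GenClosure.gσ S) A).left ∨
      (AlgGrp.IsNormalHom ((Over.pullback (GenClosure.gσ S)).map a) ∧
        AlgGrp.IsNormalHom ((Over.pullback (GenClosure.gσ S)).map b))) :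
    ∃ (D : Over S) (d : D ⟶ G) (U' : S.Opens) (_ : GrpObj (Red.bc (GenClosure.gσ S) D)) (N : ℕ),
      IsMonHom ((Over.pullback (GenClosure.gσ S)).map d) ∧ IsClosedImmersion d.left ∧ U' ≤ U ∧ Good U' D ∧
      (∀ V ≤ U', Flat (pullback.snd D.hom V.ι)) ∧
      (∀ x : G.left, G.hom x ∈ U' → (x ∈ Set.range d.left ↔ x ∈ WSet (cmap a b) N)) ∧
      (∀ x : G.left, G.hom x ∈ U' → x ∈ WSet (cmap a b) 1 → x ∈ WSet (cmap a b) N) ∧
      (AlgGrp.IsNormalHom ((Over.pullback (GenClosure.gσ S)).map a) ∧
          AlgGrp.IsNormalHom ((Over.pullback (GenClosure.gσ S)).map b) →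
        AlgGrp.IsNormalHom ((Over.pullback (GenClosure.gσ S)).map d)) ∧
      (ConnectedSpace (Red.bc (GenClosure.gσ S) A).left → ConnectedSpace (Red.bc (GenClosure.gσ S) D).left) := by
  classical
  let η₀ := genericPoint S
  let σ := GenClosure.gσ S
  letI : Field (S.residueField η₀) := inferInstance
  let F := Over.pullback σ
  let Gη : Over (Spec (CommRingCat.of (S.residueField η₀))) := F.obj G
  let Aη : Over (Spec (CommRingCat.of (S.residueField η₀))) := F.obj A
  let Bη : Over (Spec (CommRingCat.of (S.residueField η₀))) := F.obj B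
  letI : GrpObj Gη := bcGrp σ
  letI : GrpObj Aη := ‹GrpObj (Red.bc (GenClosure.gσ S) A)›
  letI : GrpObj Bη := ‹GrpObj (Red.bc (GenClosure.gσ S) B)›
  let aη : Aη ⟶ Gη := F.map a
  let bη : Bη ⟶ Gη := F.map b
  haveI : IsMonHom aη := ‹IsMonHom ((Over.pullback (GenClosure.gσ S)).map a)›
  haveI : IsMonHom bη := ‹IsMonHom ((Over.pullback (GenClosure.gσ S)).map b)›
  haveI : IsImmersion aη.left := ‹IsImmersion ((Over.pullback (GenClosure.gσ S)).map a).left›
  haveI : IsImmersion bη.left := ‹IsImmersion ((Over.pullback (GenClosure.gσ S)).map b).left›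
  haveI : Smooth Aη.hom := hA.sm η₀ hA.mem
  haveI : Smooth Bη.hom := hB.sm η₀ hB.mem
  haveI : QuasiCompact A.hom := hA.qc
  haveI : QuasiCompact B.hom := hB.qc
  haveI : LocallyOfFiniteType Gη.hom := MorphismProperty.pullback_snd (P := @LocallyOfFiniteType) _ _ inferInstance
  haveI : QuasiCompact Gη.hom := MorphismProperty.pullback_snd (P := @QuasiCompact) _ _ ‹_›
  haveI : QuasiCompact Aη.hom := MorphismProperty.pullback_snd (P := @QuasiCompact) _ _ ‹_›
  haveI : QuasiCompact Bη.hom := MorphismProperty.pullback_snd (P := @QuasiCompact) _ _ ‹_›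
  haveI : IsClosedImmersion aη.left := isClosedImmersion_subgroup aη
  haveI : IsClosedImmersion bη.left := isClosedImmersion_subgroup bη
  haveI := geometricallyReduced_of_smooth Aη
  haveI := geometricallyReduced_of_smooth Bη
  obtain ⟨N, hcl, hmax, hirr⟩ := exists_bound_comm_field aη bη
    (hcase.symm.imp (fun h => ⟨h.1, h.2, inferInstance⟩) id)
  haveI : LocallyOfFiniteType (Aη ⊗ Bη).hom := lft_tensor Aη Bη
  haveI : QuasiCompact (Aη ⊗ Bη).hom := GrpWord.qc_tensor Aη Bη
  haveI : GeometricallyReduced (Aη ⊗ Bη).hom := geomRed_tensor Aη Bη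
  obtain ⟨K, hK, j, hjm, hj, -, hjr, hKgr, hf, hmin⟩ :=
    exists_generated_field (cmap aη bη) (unitWord_cmap _ _) N hcl hmax
  haveI := hj
  haveI := hjm
  haveI : LocallyOfFiniteType K.hom := by rw [← Over.w j]; infer_instance
  haveI hKsm : Smooth K.hom := by
    let : GrpObj (Over.mk K.hom) := hK
    exact @smooth_of_grpObj (S.residueField η₀) _ _ K.hom ‹LocallyOfFiniteType K.hom› _ hKgr
  have hKn : AlgGrp.IsNormalHom aη → AlgGrp.IsNormalHom bη → AlgGrp.IsNormalHom j := fun h1 h2 =>
    Groth.Agent.S5364.result (S.residueField η₀) Gη Aη Bη aη bη h1 h2 K j hf hmin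
  -- the closure
  obtain ⟨D, d, θ, hd, hθ⟩ := GenClosure.exists_closure G K j
  haveI := hd
  let Dη : Over (Spec (CommRingCat.of (S.residueField η₀))) := F.obj D
  let dη : Dη ⟶ Gη := F.map d
  haveI : IsClosedImmersion dη.left := isClosedImmersion_bc σ d
  haveI : Mono dη := Over.mono_of_mono_left dη
  haveI : Mono j := Over.mono_of_mono_left j
  obtain ⟨gD, hgD⟩ := AlgGrp79.exists_grpObj_closed dη
    ⟨(1 : 𝟙_ _ ⟶ K) ≫ θ.inv, by
      rw [Category.assoc, show θ.inv ≫ dη = j from by rw [Iso.inv_comp_eq]; exact hθ.symm, MonObj.one_comp]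
      simp [Hom.one_def]⟩
    (fun T k₁ k₂ => ⟨((k₁ ≫ θ.hom)⁻¹ * (k₂ ≫ θ.hom)) ≫ θ.inv, by
      rw [Category.assoc, show θ.inv ≫ dη = j from by rw [Iso.inv_comp_eq]; exact hθ.symm, MonObj.mul_comp,
        GrpObj.inv_comp, Category.assoc, Category.assoc, show θ.hom ≫ j = dη from hθ]⟩)
  haveI : LocallyOfFiniteType D.hom := by rw [← Over.w d]; infer_instance
  haveI : QuasiCompact D.hom := by rw [← Over.w d]; infer_instance
  have hDη : Smooth (pullback.snd D.hom σ) := by
    have e : θ.hom.left ≫ K.hom = Dη.hom := Over.w θ.hom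
    haveI : IsIso θ.hom.left := ((Over.forget _).mapIso θ).isIso_hom
    show Smooth Dη.hom
    rw [← e]
    infer_instance
  obtain ⟨U₁, hU₁, hU₁D⟩ := GenClosure.exists_open_flat_lfp D.hom
  let U₂ := U ⊓ U₁
  have hU₂ : η₀ ∈ U₂ := ⟨hA.mem, hU₁⟩
  haveI : LocallyOfFinitePresentation (pullback.snd D.hom U₂.ι) := (hU₁D U₂ inf_le_right).2
  obtain ⟨V₁, hV₁, -, hV₁sm⟩ := GenSpread.exists_open_smooth_fibres' D.hom U₂ hU₂ hDη
  -- the constructible sets
  haveI : LocallyOfFinitePresentation (pullback.snd A.hom U₂.ι) := hA.lfp U₂ inf_le_left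
  haveI : LocallyOfFinitePresentation (pullback.snd B.hom U₂.ι) := hB.lfp U₂ inf_le_left
  let F₂ := Over.pullback U₂.ι
  haveI : LocallyOfFinitePresentation (F₂.obj A).hom := ‹LocallyOfFinitePresentation (pullback.snd A.hom U₂.ι)›
  haveI : LocallyOfFinitePresentation (F₂.obj B).hom := ‹LocallyOfFinitePresentation (pullback.snd B.hom U₂.ι)›
  haveI : LocallyOfFinitePresentation (F₂.obj D).hom := ‹LocallyOfFinitePresentation (pullback.snd D.hom U₂.ι)›
  haveI : LocallyOfFinitePresentation (F₂.obj G).hom := MorphismProperty.pullback_snd (P := @LocallyOfFinitePresentation) _ _ ‹_›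
  haveI : QuasiSeparated (F₂.obj G).hom := MorphismProperty.pullback_snd (P := @QuasiSeparated) _ _ ‹_›
  haveI : QuasiCompact (F₂.obj A).hom := MorphismProperty.pullback_snd (P := @QuasiCompact) _ _ ‹_›
  haveI : QuasiCompact (F₂.obj B).hom := MorphismProperty.pullback_snd (P := @QuasiCompact) _ _ ‹_›
  haveI : LocallyOfFinitePresentation (F₂.obj A ⊗ F₂.obj B).hom := lfp_tensor _ _
  haveI : QuasiCompact (F₂.obj A ⊗ F₂.obj B).hom := qc_tensorS _ _
  have hWlc : ∀ n, IsLocallyConstructible (pullback.fst G.hom U₂.ι ⁻¹' WSet (cmap a b) n) := fun n => by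
    rw [← wset_cmap_bc]
    exact isLocallyConstructible_wset _ n
  have hDlc : IsLocallyConstructible (pullback.fst G.hom U₂.ι ⁻¹' Set.range d.left) := by
    have e : pullback.fst G.hom U₂.ι ⁻¹' Set.range d.left = Set.range (F₂.map d).left :=
      Set.ext fun x => (mem_range_bc_iff U₂.ι d x).symm
    rw [e, ← Set.image_univ]
    haveI : IsClosedImmersion (F₂.map d).left := isClosedImmersion_bc U₂.ι d
    haveI : LocallyOfFinitePresentation (F₂.map d).left := by
      have : LocallyOfFinitePresentation ((F₂.map d).left ≫ (F₂.obj G).hom) := by rw [Over.w]; infer_instance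
      exact LimTop61.locallyOfFinitePresentation_of_comp _ (F₂.obj G).hom
    exact (F₂.map d).left.isLocallyConstructible_image IsLocallyConstructible.univ
  haveI : LocallyOfFinitePresentation (pullback.snd G.hom U₂.ι) := ‹LocallyOfFinitePresentation (F₂.obj G).hom›
  let E : Set G.left := (Set.range d.left ∩ (WSet (cmap a b) N)ᶜ) ∪ ((Set.range d.left)ᶜ ∩ WSet (cmap a b) N) ∪
    (WSet (cmap a b) 1 ∩ (WSet (cmap a b) N)ᶜ)
  have hE : IsLocallyConstructible (pullback.fst G.hom U₂.ι ⁻¹' E) := by
    simp only [E, Set.preimage_union, Set.preimage_inter, Set.preimage_compl]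
    exact ((hDlc.inter (GenSpread.isLocallyConstructible_compl (hWlc N))).union
      ((GenSpread.isLocallyConstructible_compl hDlc).inter (hWlc N))).union
      ((hWlc 1).inter (GenSpread.isLocallyConstructible_compl (hWlc N)))
  obtain ⟨V₂, hV₂, -, hV₂E⟩ := GenSpread.exists_open_disjoint' G.hom U₂ hU₂ hE fun x hx => by
    obtain ⟨x', hx', -⟩ := Scheme.Pullback.exists_preimage_pullback (f := G.hom) (g := σ) x
      (IsLocalRing.closedPoint _) (hx.trans (Scheme.fromSpecResidueField_apply _ _).symm)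
    have hWx : ∀ n, x ∈ WSet (cmap a b) n ↔ x' ∈ WSet (cmap aη bη) n := fun n => by
      have := Set.ext_iff.1 (wset_cmap_bc σ a b n) x'
      rw [Set.mem_preimage, show pullback.fst G.hom σ x' = x from hx'] at this
      exact this.symm
    have hDx : x ∈ Set.range d.left ↔ x' ∈ WSet (cmap aη bη) N := by
      rw [← hjr, ← hx']
      refine (mem_range_bc_iff σ d x').symm.trans ?_
      constructor
      · rintro ⟨q, rfl⟩
        exact ⟨θ.hom.left q, congr(($hθ).left q)⟩
      · rintro ⟨q, rfl⟩
        exact ⟨θ.inv.left q, congr($(show (θ.inv ≫ dη).left = j.left from by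
          rw [show θ.inv ≫ dη = j from by rw [Iso.inv_comp_eq]; exact hθ.symm]) q)⟩
    simp only [E, Set.mem_union, Set.mem_inter_iff, Set.mem_compl_iff, hDx, hWx]
    have := hmax 1 (a := x')
    tauto
  refine ⟨D, d, U₂ ⊓ V₁ ⊓ V₂, gD, N, hgD, hd, inf_le_left.trans (inf_le_left.trans inf_le_left),
    ⟨⟨⟨hU₂, hV₁⟩, hV₂⟩, inferInstance, inferInstance,
      fun V hV => (hU₁D V (hV.trans (inf_le_left.trans (inf_le_left.trans inf_le_right)))).2,
      fun s hs => hV₁sm s hs.1.2⟩,
    fun V hV => (hU₁D V (hV.trans (inf_le_left.trans (inf_le_left.trans inf_le_right)))).1, ?_, ?_, ?_, ?_⟩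
  · intro x hx
    have := hV₂E x hx.2
    simp only [E, Set.mem_union, Set.mem_inter_iff, Set.mem_compl_iff] at this
    tauto
  · intro x hx h
    have := hV₂E x hx.2
    simp only [E, Set.mem_union, Set.mem_inter_iff, Set.mem_compl_iff] at this
    tauto
  · rintro ⟨h1, h2⟩ T g n
    obtain ⟨n', hn'⟩ := hKn h1 h2 T g (n ≫ θ.hom)
    refine ⟨n' ≫ θ.inv, ?_⟩
    show g * (n ≫ dη) * g⁻¹ = (n' ≫ θ.inv) ≫ dη
    rw [← show θ.hom ≫ j = dη from hθ, ← Category.assoc, hn']
    simp
  · intro h
    have h' := hirr h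
    rw [← hjr] at h'
    have hc := h'.isConnected
    rw [← Set.image_univ] at hc
    haveI : ConnectedSpace K.left := connectedSpace_iff_univ.2 ⟨⟨η[K].left (IsLocalRing.closedPoint _), trivial⟩,
      j.left.isClosedEmbedding.isInducing.isPreconnected_image.1 hc.isPreconnected⟩
    haveI : IsIso θ.inv.left := ((Over.forget _).mapIso θ).isIso_inv
    exact θ.inv.left.surjective.connectedSpace θ.inv.left.continuous

/-- the fibres over such an open are the commutator subgroups -/
theorem fibre_spec (a : A ⟶ G) (b : B ⟶ G) {U : S.Opens} {D : Over S} (d : D ⟶ G) [IsClosedImmersion d.left]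
    (hA : Good U A) (hB : Good U B) (hD : Good U D) (N : ℕ)
    (hr : ∀ x : G.left, G.hom x ∈ U → (x ∈ Set.range d.left ↔ x ∈ WSet (cmap a b) N))
    (h1 : ∀ x : G.left, G.hom x ∈ U → x ∈ WSet (cmap a b) 1 → x ∈ WSet (cmap a b) N)
    (V : S.Opens) (hV : V ≤ U) (u : V.toScheme) :
    (∃ c, c ≫ (Over.pullback (V.toScheme.fromSpecResidueField u)).map ((Over.pullback V.ι).map d) =
        cmap ((Over.pullback (V.toScheme.fromSpecResidueField u)).map ((Over.pullback V.ι).map a))
          ((Over.pullback (V.toScheme.fromSpecResidueField u)).map ((Over.pullback V.ι).map b))) ∧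
      ∀ (Γ' : Over (Spec (V.toScheme.residueField u))) (_ : GrpObj Γ')
        (i' : Γ' ⟶ Red.bc (V.toScheme.fromSpecResidueField u) (Red.bc V.ι G)), IsMonHom i' → IsClosedImmersion i'.left →
        (∃ c', c' ≫ i' = cmap ((Over.pullback (V.toScheme.fromSpecResidueField u)).map ((Over.pullback V.ι).map a))
          ((Over.pullback (V.toScheme.fromSpecResidueField u)).map ((Over.pullback V.ι).map b))) →
        ∃ m : Red.bc (V.toScheme.fromSpecResidueField u) (Red.bc V.ι D) ⟶ Γ', m ≫ i' =
          (Over.pullback (V.toScheme.fromSpecResidueField u)).map ((Over.pullback V.ι).map d) := by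
  classical
  let σu := V.toScheme.fromSpecResidueField u
  let k : Type u := V.toScheme.residueField u
  let Gu : Over (Spec (CommRingCat.of k)) := (Over.pullback σu).obj ((Over.pullback V.ι).obj G)
  let Au : Over (Spec (CommRingCat.of k)) := (Over.pullback σu).obj ((Over.pullback V.ι).obj A)
  let Bu : Over (Spec (CommRingCat.of k)) := (Over.pullback σu).obj ((Over.pullback V.ι).obj B)
  let Du : Over (Spec (CommRingCat.of k)) := (Over.pullback σu).obj ((Over.pullback V.ι).obj D)
  letI : GrpObj Gu := bcGrp σu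
  let au : Au ⟶ Gu := (Over.pullback σu).map ((Over.pullback V.ι).map a)
  let bu : Bu ⟶ Gu := (Over.pullback σu).map ((Over.pullback V.ι).map b)
  let du : Du ⟶ Gu := (Over.pullback σu).map ((Over.pullback V.ι).map d)
  have hu : V.ι u ∈ U := hV u.2
  haveI : Smooth Au.hom := (GenSpread.smooth_fibre_open_iff A.hom V u).2 (hA.sm _ hu)
  haveI : Smooth Bu.hom := (GenSpread.smooth_fibre_open_iff B.hom V u).2 (hB.sm _ hu)
  haveI : Smooth Du.hom := (GenSpread.smooth_fibre_open_iff D.hom V u).2 (hD.sm _ hu)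
  haveI : Smooth (Au ⊗ Bu).hom := GrpSolv.smooth_tensor Au Bu
  haveI : IsReduced (Au ⊗ Bu).left := AlgGrp79.isReduced_of_smooth (K := k) (Au ⊗ Bu).hom
  haveI : IsReduced Du.left := AlgGrp79.isReduced_of_smooth (K := k) Du.hom
  haveI : IsClosedImmersion ((Over.pullback V.ι).map d).left := isClosedImmersion_bc V.ι d
  haveI : IsClosedImmersion du.left := isClosedImmersion_bc σu _
  let p : Gu.left → G.left := fun g => pullback.fst G.hom V.ι (pullback.fst ((Over.pullback V.ι).obj G).hom σu g)
  have hp : ∀ g, G.hom (p g) ∈ U := fun g => by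
    show G.hom (pullback.fst G.hom V.ι (pullback.fst ((Over.pullback V.ι).obj G).hom σu g)) ∈ U
    rw [← Scheme.Hom.comp_apply (pullback.fst G.hom V.ι), pullback.condition, Scheme.Hom.comp_apply]
    exact hV (((Over.pullback V.ι).obj G).hom _).2
  have hW : ∀ n g, g ∈ WSet (cmap au bu) n ↔ p g ∈ WSet (cmap a b) n := fun n g => by
    have e1 := Set.ext_iff.1 (wset_cmap_bc σu ((Over.pullback V.ι).map a) ((Over.pullback V.ι).map b) n) g
    rw [Set.mem_preimage] at e1
    refine e1.trans ?_
    rw [wset_cmap_bc, Set.mem_preimage]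
  have hR : ∀ g, g ∈ Set.range du.left ↔ p g ∈ Set.range d.left := fun g =>
    (mem_range_bc_iff σu _ g).trans (mem_range_bc_iff V.ι d _)
  have hRW : ∀ g, g ∈ Set.range du.left ↔ g ∈ WSet (cmap au bu) N := fun g =>
    (hR g).trans ((hr _ (hp g)).trans (hW N g).symm)
  refine ⟨?_, fun Γ' hΓ i' hi'm hi' hc' => ?_⟩
  · refine AlgGrp79.exists_lift_of_range_subset (k := k) du (cmap au bu) fun g hg => ?_
    exact (hRW g).2 ((hW N g).2 (h1 _ (hp g) ((hW 1 g).1 (range_subset_wset_one hg))))
  · haveI := hi'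
    haveI := hi'm
    refine AlgGrp79.exists_lift_of_range_subset (k := k) i' du fun g hg => ?_
    exact wset_subset_range i' hc' N ((hRW g).1 hg)

/-- the structure over an open -/
theorem exists_open_group {D : Over S} (d : D ⟶ G) [IsClosedImmersion d.left] (U : S.Opens) (hD : Good U D)
    (hflat : ∀ V ≤ U, Flat (pullback.snd D.hom V.ι)) (V : S.Opens) (hV : V ≤ U) (hη : genericPoint S ∈ V)
    (hG : Flat (pullback.snd G.hom V.ι))
    [GrpObj (Red.bc (GenClosure.gσ S) D)] [IsMonHom ((Over.pullback (GenClosure.gσ S)).map d)] :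
    IsClosedImmersion ((Over.pullback V.ι).map d).left ∧ LocallyOfFinitePresentation (Red.bc V.ι D).hom ∧
    QuasiCompact (Red.bc V.ι D).hom ∧ QuasiSeparated (Red.bc V.ι D).hom ∧
    (∀ u : V.toScheme, Smooth ((Red.bc V.ι D).hom.fiberToSpecResidueField u)) ∧
    ∃ (_ : GrpObj (Red.bc V.ι D)), IsMonHom ((Over.pullback V.ι).map d) ∧
      (AlgGrp.IsNormalHom ((Over.pullback (GenClosure.gσ S)).map d) → AlgGrp.IsNormalHom ((Over.pullback V.ι).map d)) := by
  haveI := hflat V hV
  obtain ⟨gV, h1, h2⟩ := GenClosure.exists_grpObj_open d V hη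
  haveI : QuasiCompact D.hom := hD.qc
  haveI : QuasiSeparated D.hom := by rw [← Over.w d]; infer_instance
  exact ⟨isClosedImmersion_bc V.ι d, hD.lfp V hV,
    MorphismProperty.pullback_snd (P := @QuasiCompact) _ _ ‹_›,
    MorphismProperty.pullback_snd (P := @QuasiSeparated) _ _ ‹_›,
    fun u => (GenSpread.smooth_fibre_open_iff D.hom V u).2 (hD.sm _ (hV u.2)),
    gV, h1, fun h => h2 h hG⟩

/-- connectedness of the nearby fibres -/
theorem exists_open_connected {D : Over S} (d : D ⟶ G) [IsClosedImmersion d.left] (U : S.Opens) (hD : Good U D)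
    (hflat : ∀ V ≤ U, Flat (pullback.snd D.hom V.ι))
    [GrpObj (Red.bc (GenClosure.gσ S) D)] [IsMonHom ((Over.pullback (GenClosure.gσ S)).map d)]
    (hc : ConnectedSpace (Red.bc (GenClosure.gσ S) D).left) :
    ∃ W : S.Opens, genericPoint S ∈ W ∧ W ≤ U ∧ ∀ (V : S.Opens), V ≤ W → ∀ u : V.toScheme,
      ConnectedSpace ((Red.bc V.ι D).hom.fiber u) := by
  obtain ⟨_, ⟨W₀, hW₀, rfl⟩, hηW, hW₀U⟩ :=
    S.isBasis_affineOpens.exists_subset_of_mem_open (show genericPoint S ∈ (U : Set S) from hD.mem) U.2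
  let W : S.Opens := W₀
  haveI : IsAffine W.toScheme := hW₀
  let η' : W.toScheme := ⟨genericPoint S, hηW⟩
  haveI : Nonempty W.toScheme := ⟨η'⟩
  haveI : IsIntegral W.toScheme := inferInstance
  have hgen : genericPoint W.toScheme = η' :=
    (genericPoint_spec W.toScheme).eq (GenSpread.apply_genericPoint_open W η' rfl)
  haveI := hflat W hW₀U
  obtain ⟨gW, -, -⟩ := GenClosure.exists_grpObj_open d W hηW
  let DW := (Over.pullback W.ι).obj D
  letI : GrpObj DW := gW
  haveI : LocallyOfFinitePresentation DW.hom := hD.lfp W hW₀U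
  haveI : Flat DW.hom := hflat W hW₀U
  haveI : QuasiCompact D.hom := hD.qc
  haveI : QuasiSeparated D.hom := by rw [← Over.w d]; infer_instance
  haveI : QuasiCompact DW.hom := MorphismProperty.pullback_snd (P := @QuasiCompact) _ _ ‹_›
  haveI : QuasiSeparated DW.hom := MorphismProperty.pullback_snd (P := @QuasiSeparated) _ _ ‹_›
  haveI : Smooth DW.hom := by
    rw [← Scheme.Hom.smoothLocus_eq_top_iff, top_le_iff.symm]
    intro x _
    exact FBase64.mem_smoothLocus_of_smooth_fiber DW.hom x
      ((GenSpread.smooth_fibre_open_iff D.hom W _).2 (hD.sm _ (hW₀U (DW.hom x).2)))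
  have hiso : ∀ (V : S.Opens) (u : V.toScheme),
      ConnectedSpace ((Red.bc V.ι D).hom.fiber u) ↔ ConnectedSpace (D.hom.fiber (V.ι u)) := fun V u => by
    let e := Spec.map (V.ι.residueFieldMap u)
    haveI : IsIso e := inferInstance
    let m : pullback D.hom (e ≫ S.fromSpecResidueField (V.ι u)) ⟶ pullback D.hom (S.fromSpecResidueField (V.ι u)) :=
      pullback.map D.hom (e ≫ S.fromSpecResidueField _) D.hom (S.fromSpecResidueField (V.ι u))
          (𝟙 _) e (𝟙 _) (by simp) (by simp)
    have hm : IsIso m := by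
      have h : IsPullback m (pullback.snd D.hom (e ≫ S.fromSpecResidueField (V.ι u)))
          (pullback.snd D.hom (S.fromSpecResidueField (V.ι u))) e := by
        refine IsPullback.of_right ?_ (pullback.lift_snd _ _ _) (IsPullback.of_hasPullback _ _)
        rw [show m ≫ pullback.fst D.hom (S.fromSpecResidueField (V.ι u)) = pullback.fst _ _ from
          (pullback.lift_fst _ _ _).trans (Category.comp_id _)]
        exact IsPullback.of_hasPullback _ _
      exact h.isIso_fst_of_isIso
    let i : (Red.bc V.ι D).hom.fiber u ≅ D.hom.fiber (V.ι u) :=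
      pullbackLeftPullbackSndIso D.hom V.ι (V.toScheme.fromSpecResidueField u) ≪≫
        pullback.congrHom rfl (V.ι.SpecMap_residueFieldMap_fromSpecResidueField u).symm ≪≫
        @asIso _ _ _ _ m hm
    exact ⟨fun _ => i.hom.surjective.connectedSpace i.hom.continuous,
      fun _ => i.inv.surjective.connectedSpace i.inv.continuous⟩
  obtain ⟨W', hW', hW'c⟩ := GenConn.exists_open_connected_fibres DW (by
    show ConnectedSpace ((Red.bc W.ι D).hom.fiber (genericPoint W.toScheme))
    rw [hgen]
    exact (hiso W η').2 hc)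
  refine ⟨W.ι ''ᵁ W', ⟨η', hgen ▸ hW', rfl⟩, ?_, fun V hV u => ?_⟩
  · rintro _ ⟨w, -, rfl⟩
    exact hW₀U w.2
  · obtain ⟨w, hw, hwu⟩ := hV u.2
    rw [hiso V u]
    have h := (hiso W w).1 (hW'c w hw)
    rwa [show W.ι w = V.ι u from hwu] at h

end Groth.Agent.CAlg6.GenDerived
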