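import Mathlib

/-!
The integral closure of a finitely generated domain over a field in a finite extension of its
fraction field is finite (inseparable extensions allowed).
-/

set_option autoImplicit false

universe u

open MvPolynomial

namespace Groth.Agent.CAlg6

section Twist

variable {k : Type u} [Field k] {d : ℕ} {Ω : Type u} [Field Ω] [Algebra k Ω]
  (p E : ℕ) [ExpChar Ω p]

/-- `q`-th roots of algebraically independent elements stay independent over a field of exponent
`q` over `k`. -/
theorem aeval_injective_of_pow (x y : Fin d → Ω) (hx : AlgebraicIndependent k x)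
    (hy : ∀ j, y j ^ p ^ E = x j) (k' : IntermediateField k Ω)
    (hk' : ∀ z : k', ∃ c : k, algebraMap k Ω c = (z : Ω) ^ p ^ E) :
    Function.Injective (aeval y : MvPolynomial (Fin d) k' →ₐ[k'] Ω) := by
  rw [injective_iff_map_eq_zero]
  intro f hf
  choose c hc using hk'
  let f₀ : MvPolynomial (Fin d) k := ∑ m ∈ f.support, monomial m (c (coeff m f))
  have h1 : aeval x f₀ = aeval y f ^ p ^ E := by
    conv_rhs => rw [f.as_sum, map_sum, sum_pow_char_pow]
    rw [map_sum]
    refine Finset.sum_congr rfl fun m _ => ?_
    rw [MvPolynomial.aeval_monomial, MvPolynomial.aeval_monomial, mul_pow, hc]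
    congr 1
    simp only [Finsupp.prod, ← Finset.prod_pow]
    refine Finset.prod_congr rfl fun j _ => ?_
    rw [← pow_mul, mul_comm, pow_mul, hy]
  have hq0 : p ^ E ≠ 0 := pow_ne_zero _ (expChar_pos Ω p).ne'
  rw [hf, zero_pow hq0] at h1
  have h0 : f₀ = 0 := hx.eq_zero_of_aeval_eq_zero _ h1
  ext m
  rw [coeff_zero]
  by_contra hm
  have h2 := congrArg (coeff m) h0
  rw [coeff_sum, Finset.sum_eq_single m (fun j _ hj => by simp [coeff_monomial, hj])
    (fun h => absurd (mem_support_iff.2 fun h' => hm (by rw [h'])) h), coeff_monomial, if_pos rfl, coeff_zero] at h2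
  have h3 := hc (coeff m f)
  rw [h2, map_zero, eq_comm] at h3
  exact hm ((pow_eq_zero_iff hq0).1 h3)

end Twist

/-- `k[X] → k'[X]`, `X ↦ X ^ q`. -/
noncomputable def twistHom (k k' : Type u) [Field k] [Field k'] [Algebra k k'] (d q : ℕ) :
    MvPolynomial (Fin d) k →+* MvPolynomial (Fin d) k' :=
  eval₂Hom ((C : k' →+* MvPolynomial (Fin d) k').comp (algebraMap k k')) (fun j => X j ^ q)

theorem twistHom_finite (k k' : Type u) [Field k] [Field k'] [Algebra k k'] [Module.Finite k k']
    (d q : ℕ) (hq : 0 < q) : (twistHom k k' d q).Finite := by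
  let := (twistHom k k' d q).toAlgebra
  show Module.Finite (MvPolynomial (Fin d) k) (MvPolynomial (Fin d) k')
  have : IsScalarTower k (MvPolynomial (Fin d) k) (MvPolynomial (Fin d) k') :=
    IsScalarTower.of_algebraMap_eq fun c => by
      show _ = twistHom k k' d q (C c)
      simp [twistHom]
  have : Algebra.FiniteType k (MvPolynomial (Fin d) k') :=
    Algebra.FiniteType.trans (S := k') inferInstance inferInstance
  have : Algebra.FiniteType (MvPolynomial (Fin d) k) (MvPolynomial (Fin d) k') :=
    Algebra.FiniteType.of_restrictScalars_finiteType k _ _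
  have : Algebra.IsIntegral (MvPolynomial (Fin d) k) (MvPolynomial (Fin d) k') := ⟨fun f => by
    induction f using MvPolynomial.induction_on with
    | C c =>
      have h1 : IsIntegral k (C c : MvPolynomial (Fin d) k') :=
        (Algebra.IsIntegral.isIntegral (R := k) c).map
          (IsScalarTower.toAlgHom k k' (MvPolynomial (Fin d) k'))
      exact h1.tower_top
    | add a a' ha ha' => exact ha.add ha'
    | mul_X a j ha =>
      refine ha.mul (IsIntegral.of_pow hq ?_)
      rw [show (X j : MvPolynomial (Fin d) k') ^ q =
        algebraMap (MvPolynomial (Fin d) k) _ (X j) by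
          show _ = twistHom k k' d q (X j); simp [twistHom]]
      exact isIntegral_algebraMap⟩
  exact Algebra.IsIntegral.finite

/-- `z` is separable over `K'` as soon as `z ^ q` has a separable polynomial with coefficients
that are `q`-th powers in `K'`. -/
theorem isSeparable_of_pow {K K' Ω : Type u} [Field K] [Field K'] [Field Ω] [Algebra K' Ω]
    (p E : ℕ) [ExpChar K' p] (ι : K →+* K') (z : Ω) (g : Polynomial K) (hg : g.Separable)
    (hgz : g.eval₂ ((algebraMap K' Ω).comp ι) (z ^ p ^ E) = 0)
    (hl : ∀ n, ι (g.coeff n) ∈ (iterateFrobenius K' p E).range) : IsSeparable K' z := by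
  have hlift : g.map ι ∈ Polynomial.lifts (iterateFrobenius K' p E) := by
    rw [Polynomial.lifts_iff_coeff_lifts]
    exact fun n => by rw [Polynomial.coeff_map]; exact hl n
  obtain ⟨h, hh⟩ := (Polynomial.mem_lifts _).1 hlift
  have hsep : h.Separable := by
    rw [← Polynomial.separable_map (iterateFrobenius K' p E), hh, Polynomial.separable_map]
    exact hg
  have hq0 : p ^ E ≠ 0 := pow_ne_zero _ (expChar_pos K' p).ne'
  have hzero : Polynomial.aeval z h = 0 := by
    refine (pow_eq_zero_iff hq0).1 ?_
    rw [← map_pow, ← Polynomial.map_iterateFrobenius_expand p h E, Polynomial.map_expand,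
      Polynomial.expand_aeval, hh, Polynomial.aeval_def, Polynomial.eval₂_map]
    exact hgz
  exact hsep.of_dvd (minpoly.dvd K' _ hzero)

set_option synthInstance.maxHeartbeats 100000 in
/-- A separable finite extension containing the embedded field bounds the integral closure. -/
theorem finite_integralClosure_of_embedding {P P' K' Ω L : Type u} [CommRing P] [IsNoetherianRing P]
    [CommRing P'] [IsDomain P'] [IsNoetherianRing P'] [IsIntegrallyClosed P'] [Field K']
    [Algebra P' K'] [IsFractionRing P' K'] [Field Ω] [Algebra K' Ω] [Algebra P' Ω]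
    [IsScalarTower P' K' Ω] [Algebra P P'] [Module.Finite P P'] [Algebra P Ω] [IsScalarTower P P' Ω]
    [Field L] [Algebra P L] (j : L →ₐ[P] Ω) (T : Set Ω) (hT : T.Finite)
    (hsep : ∀ t ∈ T, IsSeparable K' t) (hrange : ∀ z, j z ∈ IntermediateField.adjoin K' T) :
    Module.Finite P (integralClosure P L) := by
  let L' := IntermediateField.adjoin K' T
  have : Algebra.IsSeparable K' L' :=
    (IntermediateField.isSeparable_adjoin_iff_isSeparable K' Ω).2 hsep
  have : Finite T := hT.to_subtype
  have : FiniteDimensional K' L' :=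
    IntermediateField.finiteDimensional_adjoin (fun t ht => (hsep t ht).isIntegral)
  have : Module.Finite P' (integralClosure P' L') := IsIntegralClosure.finite P' K' L' _
  let : Algebra P L' := ((algebraMap P' L').comp (algebraMap P P')).toAlgebra
  have : IsScalarTower P P' L' := IsScalarTower.of_algebraMap_eq fun _ => rfl
  have : Module.Finite P (integralClosure P' L') := Module.Finite.trans P' _
  have hint : ∀ z : integralClosure P L, IsIntegral P' (⟨j z, hrange z⟩ : L') := by
    intro z
    refine (isIntegral_algHom_iff (L'.val.restrictScalars P') Subtype.val_injective).1 ?_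
    have h1 : IsIntegral P (j (z : L)) := z.2.map j
    exact h1.tower_top
  let f : integralClosure P L →ₗ[P] integralClosure P' L' :=
    { toFun := fun z => ⟨⟨j z, hrange z⟩, hint z⟩
      map_add' := fun a a' => Subtype.ext (Subtype.ext (map_add j (a : L) (a' : L)))
      map_smul' := fun a z => Subtype.ext (Subtype.ext (by
        show j (a • (z : L)) = _
        rw [map_smul, Algebra.smul_def, IsScalarTower.algebraMap_apply P P' Ω]
        rfl)) }
  exact Module.Finite.of_injective f fun a a' h => Subtype.ext (j.toRingHom.injective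
    (congrArg (fun w : integralClosure P' L' => ((w : L') : Ω)) h))

set_option maxHeartbeats 1000000 in
set_option synthInstance.maxHeartbeats 200000 in
theorem finite_integralClosure_mvPolynomial (k : Type u) [Field k] (d : ℕ)
    (K L : Type u) [Field K] [Field L] [Algebra (MvPolynomial (Fin d) k) K]
    [IsFractionRing (MvPolynomial (Fin d) k) K] [Algebra K L] [FiniteDimensional K L]
    [Algebra (MvPolynomial (Fin d) k) L] [IsScalarTower (MvPolynomial (Fin d) k) K L] :
    Module.Finite (MvPolynomial (Fin d) k) (integralClosure (MvPolynomial (Fin d) k) L) := by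
  classical
  have hPK : Function.Injective (algebraMap (MvPolynomial (Fin d) k) K) := IsFractionRing.injective _ K
  obtain _ | ⟨p, hp, hpk⟩ := CharP.exists' k
  · have : CharZero K :=
      charZero_of_injective_ringHom ((algebraMap (MvPolynomial (Fin d) k) K).comp C).injective
    exact IsIntegralClosure.finite (MvPolynomial (Fin d) k) K L _
  have : ExpChar k p := .prime hp.out
  let Ω := AlgebraicClosure L
  let θ : MvPolynomial (Fin d) k →+* Ω :=
    (algebraMap L Ω).comp (algebraMap (MvPolynomial (Fin d) k) L)
  have hθ : Function.Injective θ := by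
    refine (algebraMap L Ω).injective.comp ?_
    rw [IsScalarTower.algebraMap_eq (MvPolynomial (Fin d) k) K L]
    exact (algebraMap K L).injective.comp hPK
  let : Algebra k Ω := (θ.comp C).toAlgebra
  have : CharP Ω p := charP_of_injective_algebraMap (algebraMap k Ω).injective p
  have : ExpChar Ω p := .prime hp.out
  have : CharP K p :=
    charP_of_injective_ringHom ((algebraMap (MvPolynomial (Fin d) k) K).comp C).injective p
  have : ExpChar K p := .prime hp.out
  let x : Fin d → Ω := fun j => θ (X j)
  have hx : AlgebraicIndependent k x := by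
    rw [algebraicIndependent_iff_injective_aeval]
    have h : (aeval x : MvPolynomial (Fin d) k →ₐ[k] Ω).toRingHom = θ :=
      MvPolynomial.ringHom_ext (fun c => by simp [RingHom.algebraMap_toAlgebra]) (fun j => by simp [x])
    intro a a' e
    exact hθ (by rw [← h]; exact e)
  -- a generating family with separable `q`-th powers
  let b := Module.finBasis K L
  have hsep : ∀ i, ∃ n : ℕ, IsSeparable K (b i ^ p ^ n) := fun i => by
    obtain ⟨n, z, hz⟩ := IsPurelyInseparable.pow_mem (separableClosure K L) p (b i)
    exact ⟨n, hz ▸ z.2⟩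
  choose e he using hsep
  obtain ⟨E, hE⟩ : ∃ E, ∀ i, IsSeparable K (b i ^ p ^ E) := by
    refine ⟨Finset.univ.sup e, fun i => ?_⟩
    have hle : e i ≤ Finset.univ.sup e := Finset.le_sup (Finset.mem_univ i)
    rw [show p ^ Finset.univ.sup e = p ^ e i * p ^ (Finset.univ.sup e - e i) by
      rw [← pow_add, Nat.add_sub_cancel' hle], pow_mul]
    exact mem_separableClosure_iff.1
      (pow_mem (mem_separableClosure_iff.2 (he i)) (p ^ (Finset.univ.sup e - e i)))
  have hq0 : 0 < p ^ E := pow_pos hp.out.pos _
  have hfrac : ∀ c : K, ∃ a s : MvPolynomial (Fin d) k,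
      c = algebraMap _ K a / algebraMap _ K s := fun c => by
    obtain ⟨a, s, -, h⟩ := IsFractionRing.div_surjective (A := MvPolynomial (Fin d) k) c
    exact ⟨a, s, h.symm⟩
  choose num den hc using hfrac
  let cs : Finset K := Finset.univ.biUnion fun i => (minpoly K (b i ^ p ^ E)).coeffs
  let fs : Finset (MvPolynomial (Fin d) k) := cs.image num ∪ cs.image den
  choose root hroot using fun c : k => IsAlgClosed.exists_pow_nat_eq (algebraMap k Ω c) hq0
  choose y hy using fun j : Fin d => IsAlgClosed.exists_pow_nat_eq (x j) hq0
  let S : Finset Ω := fs.biUnion fun f => f.support.image fun m => root (coeff m f)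
  let k' := IntermediateField.adjoin k (S : Set Ω)
  have hintk : ∀ z ∈ (S : Set Ω), IsIntegral k z := by
    intro z hz
    simp only [S, Finset.coe_biUnion, Set.mem_iUnion, Finset.coe_image, Set.mem_image] at hz
    obtain ⟨f, -, m, -, rfl⟩ := hz
    exact IsIntegral.of_pow hq0 (by rw [hroot]; exact isIntegral_algebraMap)
  have : FiniteDimensional k k' :=
    IntermediateField.finiteDimensional_adjoin (S := (S : Set Ω)) hintk
  have hk'q : ∀ z : k', ∃ c : k, algebraMap k Ω c = (z : Ω) ^ p ^ E := by
    intro z
    have hle : k' ≤ ((algebraMap k Ω).fieldRange.comap (iterateFrobenius Ω p E)).toIntermediateField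
        (fun c => ⟨c ^ p ^ E, by rw [map_pow]; rfl⟩) := by
      rw [IntermediateField.adjoin_le_iff]
      intro w hw
      simp only [S, Finset.coe_biUnion, Set.mem_iUnion, Finset.coe_image, Set.mem_image] at hw
      obtain ⟨f, -, m, -, rfl⟩ := hw
      exact ⟨coeff m f, (hroot _).symm⟩
    obtain ⟨c, hc⟩ := hle z.2
    exact ⟨c, hc⟩
  have hφ := aeval_injective_of_pow p E x y hx hy k' hk'q
  let φ : MvPolynomial (Fin d) k' →+* Ω :=
    (aeval y : MvPolynomial (Fin d) k' →ₐ[k'] Ω).toRingHom
  let ψ := twistHom k k' d (p ^ E)
  have hφψ : φ.comp ψ = θ := by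
    refine MvPolynomial.ringHom_ext (fun c => ?_) (fun j => ?_)
    · simp only [RingHom.comp_apply, ψ, φ, twistHom, eval₂Hom_C, AlgHom.toRingHom_eq_coe,
        RingHom.coe_coe, aeval_C]
      rfl
    · simp only [RingHom.comp_apply, ψ, φ, twistHom, eval₂Hom_X', AlgHom.toRingHom_eq_coe,
        RingHom.coe_coe, map_pow, aeval_X, hy, x]
  let K' := FractionRing (MvPolynomial (Fin d) k')
  let : Algebra K' Ω := (IsFractionRing.lift hφ : K' →+* Ω).toAlgebra
  let : Algebra (MvPolynomial (Fin d) k') Ω := φ.toAlgebra
  have : IsScalarTower (MvPolynomial (Fin d) k') K' Ω := IsScalarTower.of_algebraMap_eq fun a =>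
    (IsFractionRing.lift_algebraMap hφ a).symm
  let : Algebra (MvPolynomial (Fin d) k) (MvPolynomial (Fin d) k') := ψ.toAlgebra
  have : IsScalarTower (MvPolynomial (Fin d) k) (MvPolynomial (Fin d) k') Ω :=
    IsScalarTower.of_algebraMap_eq fun a => (RingHom.congr_fun hφψ a).symm
  have hψ : Function.Injective ψ := fun a a' h =>
    hθ (by rw [← hφψ, RingHom.comp_apply, h, RingHom.comp_apply])
  have : Module.Finite (MvPolynomial (Fin d) k) (MvPolynomial (Fin d) k') :=
    twistHom_finite k k' d (p ^ E) hq0
  let ι : K →+* K' := IsFractionRing.lift (g := (algebraMap (MvPolynomial (Fin d) k') K').comp ψ)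
    ((IsFractionRing.injective (MvPolynomial (Fin d) k') K').comp hψ)
  have hιa : ∀ a, ι (algebraMap (MvPolynomial (Fin d) k) K a) = algebraMap _ K' (ψ a) :=
    fun a => IsFractionRing.lift_algebraMap _ a
  have hι : (algebraMap K' Ω).comp ι = (algebraMap L Ω).comp (algebraMap K L) := by
    refine IsLocalization.ringHom_ext (nonZeroDivisors (MvPolynomial (Fin d) k))
      (RingHom.ext fun a => ?_)
    simp only [RingHom.comp_apply, hιa]
    rw [← IsScalarTower.algebraMap_apply (MvPolynomial (Fin d) k') K' Ω,
      ← IsScalarTower.algebraMap_apply (MvPolynomial (Fin d) k) K L]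
    exact RingHom.congr_fun hφψ a
  have : CharP K' p := charP_of_injective_ringHom ι.injective p
  have : ExpChar K' p := .prime hp.out
  have hrootK' : ∀ f ∈ fs, ι (algebraMap _ K f) ∈ (iterateFrobenius K' p E).range := by
    intro f hf
    rw [hιa, f.as_sum, map_sum, map_sum]
    refine sum_mem fun m hm => ?_
    have hr : root (coeff m f) ∈ k' := IntermediateField.subset_adjoin k _ (by
      simp only [S, Finset.coe_biUnion, Set.mem_iUnion, Finset.coe_image, Set.mem_image]
      exact ⟨f, hf, m, hm, rfl⟩)
    refine ⟨algebraMap _ K' (monomial m (⟨_, hr⟩ : k')), ?_⟩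
    rw [iterateFrobenius_def, ← map_pow]
    congr 1
    rw [monomial_pow]
    simp only [ψ, twistHom, eval₂Hom_monomial, RingHom.comp_apply]
    rw [show (⟨root (coeff m f), hr⟩ : k') ^ p ^ E = algebraMap k k' (coeff m f) from
      Subtype.ext (hroot _), monomial_eq]
    congr 1
    simp only [Finsupp.prod, ← pow_mul]
    rw [Finsupp.support_smul_eq hq0.ne']
    exact Finset.prod_congr rfl fun j _ => by simp
  have hsep' : ∀ i, IsSeparable K' (algebraMap L Ω (b i)) := by
    intro i
    refine isSeparable_of_pow p E ι _ (minpoly K (b i ^ p ^ E)) (hE i) ?_ fun n => ?_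
    · rw [hι, ← map_pow, ← Polynomial.hom_eval₂, ← Polynomial.aeval_def, minpoly.aeval, map_zero]
    · by_cases hn : (minpoly K (b i ^ p ^ E)).coeff n = 0
      · exact ⟨0, by rw [map_zero, hn, map_zero]⟩
      have hmem : (minpoly K (b i ^ p ^ E)).coeff n ∈ cs :=
        Finset.mem_biUnion.2 ⟨i, Finset.mem_univ _, Polynomial.coeff_mem_coeffs hn⟩
      obtain ⟨r, hr⟩ := hrootK' _ (Finset.mem_union_left _ (Finset.mem_image_of_mem num hmem))
      obtain ⟨s, hs⟩ := hrootK' _ (Finset.mem_union_right _ (Finset.mem_image_of_mem den hmem))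
      exact ⟨r / s, by rw [map_div₀, hr, hs, ← map_div₀, ← hc]⟩
  -- the big separable extension
  refine finite_integralClosure_of_embedding (P' := MvPolynomial (Fin d) k') (K' := K') (Ω := Ω)
    (IsScalarTower.toAlgHom (MvPolynomial (Fin d) k) L Ω) (Set.range fun i => algebraMap L Ω (b i))
    (Set.finite_range _) (by rintro _ ⟨i, rfl⟩; exact hsep' i) fun z => ?_
  show algebraMap L Ω z ∈ _
  rw [← b.sum_repr z, map_sum]
  refine sum_mem fun i _ => ?_
  rw [Algebra.smul_def, map_mul, ← RingHom.comp_apply (algebraMap L Ω), ← hι, RingHom.comp_apply]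
  exact mul_mem (IntermediateField.algebraMap_mem _ _) (IntermediateField.subset_adjoin K' _ ⟨i, rfl⟩)

theorem finite_integralClosure (k A K L : Type u) [Field k] [CommRing A] [IsDomain A]
    [Algebra k A] [Algebra.FiniteType k A] [Field K] [Field L] [Algebra A K] [IsFractionRing A K]
    [Algebra K L] [FiniteDimensional K L] [Algebra A L] [IsScalarTower A K L] :
    Module.Finite A (integralClosure A L) := by
  obtain ⟨d, f, hf, hfin⟩ := exists_finite_inj_algHom_of_fg k A
  let P := MvPolynomial (Fin d) k
  let : Algebra P A := f.toRingHom.toAlgebra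
  have : Module.Finite P A := hfin
  let : Algebra P K := ((algebraMap A K).comp (algebraMap P A)).toAlgebra
  have : IsScalarTower P A K := IsScalarTower.of_algebraMap_eq fun _ => rfl
  let : Algebra P L := ((algebraMap A L).comp (algebraMap P A)).toAlgebra
  have : IsScalarTower P A L := IsScalarTower.of_algebraMap_eq fun _ => rfl
  have : IsScalarTower P K L := IsScalarTower.of_algebraMap_eq fun a => by
    show algebraMap A L (f a) = algebraMap K L (algebraMap A K (f a))
    rw [← IsScalarTower.algebraMap_apply]
  have : Algebra.IsAlgebraic P A := Algebra.IsIntegral.isAlgebraic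
  let K₀ := FractionRing P
  have hPK : Function.Injective (algebraMap P K) := (IsFractionRing.injective A K).comp hf
  let : Algebra K₀ K := (IsFractionRing.lift hPK : K₀ →+* K).toAlgebra
  have : IsScalarTower P K₀ K := IsScalarTower.of_algebraMap_eq fun a =>
    (IsFractionRing.lift_algebraMap hPK a).symm
  have : FiniteDimensional K₀ K := by
    have : FaithfulSMul P A := (faithfulSMul_iff_algebraMap_injective P A).2 hf
    exact Module.Finite.of_isLocalization P A (Rₚ := K₀) (Sₚ := K) (nonZeroDivisors P)
  let : Algebra K₀ L := ((algebraMap K L).comp (algebraMap K₀ K)).toAlgebra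
  have : IsScalarTower K₀ K L := IsScalarTower.of_algebraMap_eq fun _ => rfl
  have : IsScalarTower P K₀ L := IsScalarTower.of_algebraMap_eq fun a => by
    rw [IsScalarTower.algebraMap_apply K₀ K L, ← IsScalarTower.algebraMap_apply P K₀ K,
      ← IsScalarTower.algebraMap_apply P K L]
  have : FiniteDimensional K₀ L := Module.Finite.trans K L
  have h := finite_integralClosure_mvPolynomial k d K₀ L
  let j : integralClosure A L →ₗ[P] integralClosure P L :=
    { toFun := fun z => ⟨z, isIntegral_trans (R := P) (z : L) z.2⟩
      map_add' := fun _ _ => rfl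
      map_smul' := fun _ _ => rfl }
  have : Module.Finite P (integralClosure A L) := Module.Finite.of_injective j fun a a' h =>
    Subtype.ext (congrArg (fun w : integralClosure P L => (w : L)) h)
  exact Module.Finite.of_restrictScalars_finite P A _

end Groth.Agent.CAlg6
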