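import Mathlib
import Groth.Prelude.Def_CAlg
import Groth.Agent.EGA4Alg4.Depth
import Groth.Agent.EGA4Alg4.DepthChange
import Groth.Agent.CAlg1.Regular
import Groth.Agent.CAlg1.Serre
import Groth.Agent.CAlg1.SerreNormal

/-!
Regular local rings and their hypersurface quotients have depth equal to dimension; normality.
-/

set_option autoImplicit false

open IsLocalRing

universe u

namespace Groth.Agent.CAlg6

open Groth.Agent.EGA4Alg4

theorem exists_natCast_eq_ringKrullDim (A : Type u) [CommRing A] [IsRegularLocalRing A] :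
    ∃ d : ℕ, ringKrullDim A = d :=
  ⟨_, (IsRegularLocalRing.spanFinrank_maximalIdeal (R := A)).symm⟩

theorem two_le_depth_of_regular (A : Type u) [CommRing A] [IsRegularLocalRing A]
    (h : (2 : WithBot ℕ∞) ≤ ringKrullDim A) : 2 ≤ LocCoh.depth A A := by
  obtain ⟨d, hd⟩ := exists_natCast_eq_ringKrullDim A
  rw [hd] at h
  rw [CAlg1.depth_regular A hd]
  exact_mod_cast h

/-- Quotient of a regular local ring by one element: dimension `≥ 2` forces depth `≥ 2`. -/
theorem two_le_depth_quotient_of_regular (A B : Type u) [CommRing A] [IsRegularLocalRing A]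
    [CommRing B] [IsLocalRing B] [IsNoetherianRing B] (g : A →+* B) (hg : Function.Surjective g)
    (f : A) (hker : RingHom.ker g = Ideal.span {f}) (h : (2 : WithBot ℕ∞) ≤ ringKrullDim B) :
    2 ≤ LocCoh.depth B B := by
  have := CAlg1.isDomain_regular A
  let := g.toAlgebra
  have : IsLocalHom (algebraMap A B) := IsLocalHom.of_surjective g hg
  have : Module.Finite A B := Module.Finite.of_surjective (Algebra.linearMap A B) hg
  obtain ⟨d, hd⟩ := exists_natCast_eq_ringKrullDim A
  by_cases hf : f = 0
  · subst hf
    rw [Ideal.span_singleton_eq_bot.2 rfl] at hker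
    have e := RingEquiv.ofBijective g ⟨(RingHom.injective_iff_ker_eq_bot g).2 hker, hg⟩
    rw [← CAlg1.depth_eq_of_ringEquiv e]
    exact two_le_depth_of_regular A (by rwa [ringKrullDim_eq_of_ringEquiv e])
  have hfm : f ∈ maximalIdeal A := fun hu => by
    have h1 : (1 : B) = 0 := by
      rw [← map_one g, ← RingHom.mem_ker, hker, Ideal.span_singleton_eq_top.2 hu]; trivial
    exact one_ne_zero h1
  have hreg : IsSMulRegular A f := fun x y hxy => mul_left_cancel₀ hf hxy
  have h1 := depth_quotSMulTop_add_one hfm hreg
  rw [CAlg1.depth_regular A hd] at h1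
  let e : QuotSMulTop f A ≃ₗ[A] B :=
    (Submodule.quotEquivOfEq _ (RingHom.ker g) (by
      rw [hker]; simp [← Submodule.ideal_span_singleton_smul, Ideal.mul_top])).trans
    ((Submodule.quotEquivOfEq _ (LinearMap.ker (Algebra.linearMap A B)) rfl).trans
      (LinearMap.quotKerEquivOfSurjective (Algebra.linearMap A B) hg))
  rw [depth_eq_of_equiv e, depth_eq_of_finite (B := B) B] at h1
  have hdim := ringKrullDim_succ_le_of_surjective g hg (mem_nonZeroDivisors_of_ne_zero hf)
    (RingHom.mem_ker.1 (hker ▸ Ideal.mem_span_singleton_self f))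
  rw [hd] at hdim
  have h3 : ((3 : ℕ) : WithBot ℕ∞) ≤ (d : WithBot ℕ∞) := by
    refine le_trans ?_ hdim
    calc ((3 : ℕ) : WithBot ℕ∞) = 2 + 1 := by norm_num
      _ ≤ ringKrullDim B + 1 := by gcongr
  have h3' : 3 ≤ d := Nat.cast_le.1 (WithBot.coe_le_coe.1 h3)
  by_contra hlt
  rw [not_le] at hlt
  have : LocCoh.depth B B + 1 ≤ 2 := Order.add_one_le_of_lt hlt
  rw [h1] at this
  have : d ≤ 2 := by exact_mod_cast this
  omega

theorem isIntegrallyClosed_of_regular (A : Type u) [CommRing A] [IsRegularLocalRing A] :
    IsIntegrallyClosed A := by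
  have := CAlg1.isDomain_regular A
  refine (CAlg1.isDomain_and_isIntegrallyClosed_local A (fun P _ _ => CAlg1.regular_localization A P)
    (fun P _ hP => ?_)).2
  have := CAlg1.regular_localization A P
  refine two_le_depth_of_regular _ ?_
  rw [IsLocalization.AtPrime.ringKrullDim_eq_height P (Localization.AtPrime P)]
  exact WithBot.coe_le_coe.2 hP

/-- R1 + depth `≥ 2` in codimension `≥ 2`, global form for Noetherian domains. -/
theorem isIntegrallyClosed_of_domain (B : Type u) [CommRing B] [IsDomain B] [IsNoetherianRing B]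
    (hreg : ∀ (q : Ideal B) [q.IsPrime], q.height = 1 → IsRegularLocalRing (Localization.AtPrime q))
    (hdepth : ∀ (q : Ideal B) [q.IsPrime], 2 ≤ q.height →
      2 ≤ LocCoh.depth (Localization.AtPrime q) (Localization.AtPrime q)) :
    IsIntegrallyClosed B := by
  refine IsIntegrallyClosed.of_localization_maximal fun m _ hm => ?_
  let C := Localization.AtPrime m
  have : IsNoetherianRing C := IsLocalization.isNoetherianRing m.primeCompl _ inferInstance
  have : IsDomain C := IsLocalization.isDomain_of_le_nonZeroDivisors C m.primeCompl_le_nonZeroDivisors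
  have hcomp : ∀ (P : Ideal C) [P.IsPrime], ∃ (q : Ideal B) (_ : q.IsPrime),
      P.height = q.height ∧ Nonempty (Localization.AtPrime q ≃+* Localization.AtPrime P) := fun P _ =>
    ⟨P.comap (algebraMap B C), inferInstance, (IsLocalization.height_under m.primeCompl P).symm,
      ⟨(IsLocalization.localizationLocalizationAtPrimeIsoLocalization m.primeCompl P).toRingEquiv⟩⟩
  refine (CAlg1.isDomain_and_isIntegrallyClosed_local C (fun P _ hP => ?_) (fun P _ hP => ?_)).2
  · obtain ⟨q, hq, hh, ⟨e⟩⟩ := hcomp P
    rw [hh] at hP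
    rcases lt_or_eq_of_le hP with h0 | h1
    · rw [Order.lt_one_iff, Ideal.height_eq_zero_iff, IsDomain.minimalPrimes_eq_singleton_bot,
        Set.mem_singleton_iff] at h0
      subst h0
      have hfld : IsField (Localization.AtPrime (⊥ : Ideal B)) := by
        rw [IsLocalRing.isField_iff_maximalIdeal_eq, ← Localization.AtPrime.map_eq_maximalIdeal,
          Ideal.map_bot]
      have := IsLocalization.isDomain_of_le_nonZeroDivisors (Localization.AtPrime (⊥ : Ideal B))
        (Ideal.primeCompl_le_nonZeroDivisors (⊥ : Ideal B))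
      let := hfld.toField
      have hr : IsRegularLocalRing (Localization.AtPrime (⊥ : Ideal B)) := inferInstance
      exact IsRegularLocalRing.of_ringEquiv e
    · have := hreg q h1
      exact IsRegularLocalRing.of_ringEquiv e
  · obtain ⟨q, hq, hh, ⟨e⟩⟩ := hcomp P
    have : IsNoetherianRing (Localization.AtPrime q) :=
      IsLocalization.isNoetherianRing q.primeCompl _ inferInstance
    have : IsNoetherianRing (Localization.AtPrime P) :=
      IsLocalization.isNoetherianRing P.primeCompl _ inferInstance
    rw [← CAlg1.depth_eq_of_ringEquiv e]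
    exact hdepth q (hh ▸ hP)

end Groth.Agent.CAlg6
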