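import Groth.Agent.CAlg6.PSEndo
import Mathlib.RingTheory.AdicCompletion.Functoriality
import Mathlib.RingTheory.AdicCompletion.Noetherian
import Mathlib.RingTheory.AdicCompletion.Completeness
import Mathlib.RingTheory.MvPowerSeries.Inverse
import Mathlib.RingTheory.MvPowerSeries.NoZeroDivisors
import Mathlib.RingTheory.MvPowerSeries.Equiv
import Mathlib.RingTheory.RegularLocalRing.Defs
import Mathlib.RingTheory.Nakayama
import Mathlib.RingTheory.KrullDimension.NonZeroDivisors

/-!
Surjectivity criterion for maps of complete local rings, and power series rings over a field.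
-/

set_option autoImplicit false

universe u v

namespace Groth.Agent.CAlg6

open IsLocalRing

/-- A map out of a complete local ring is surjective once it is so on residue fields and cotangent
spaces. -/
theorem surjective_of_cotangent {R : Type u} {S : Type v} [CommRing R] [CommRing S] [IsLocalRing R]
    [IsLocalRing S] [IsNoetherianRing S] [IsPrecomplete (maximalIdeal R) R] (φ : R →+* S)
    (hloc : (maximalIdeal R).map φ ≤ maximalIdeal S)
    (hres : Function.Surjective ((residue S).comp φ))
    (hcot : maximalIdeal S ≤ (maximalIdeal R).map φ ⊔ maximalIdeal S ^ 2) :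
    Function.Surjective φ := by
  have heq : (maximalIdeal R).map φ = maximalIdeal S := by
    refine le_antisymm hloc ?_
    refine Submodule.le_of_le_smul_of_le_jacobson_bot (IsNoetherian.noetherian _)
      (IsLocalRing.maximalIdeal_le_jacobson _) (hcot.trans (sup_le_sup_left ?_ _))
    rw [pow_two, smul_eq_mul]
  have : IsHausdorff ((maximalIdeal R).map φ) S := by
    rw [heq]; exact IsHausdorff.of_isLocalRing _ _ (maximalIdeal.isMaximal S).ne_top
  refine surjective_of_mk_map_comp_surjective (I := maximalIdeal R) φ ?_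
  rw [heq]
  exact hres

variable {k : Type u} [Field k] {d : ℕ}

theorem mem_maximalIdeal_iff {f : MvPowerSeries (Fin d) k} :
    f ∈ maximalIdeal (MvPowerSeries (Fin d) k) ↔ MvPowerSeries.constantCoeff f = 0 := by
  rw [IsLocalRing.mem_maximalIdeal, mem_nonunits_iff, MvPowerSeries.isUnit_iff_constantCoeff,
    isUnit_iff_ne_zero, not_not]

theorem maximalIdeal_eq_span_X :
    maximalIdeal (MvPowerSeries (Fin d) k) = Ideal.span (Set.range MvPowerSeries.X) := by
  refine le_antisymm (fun f hf => ?_) (Ideal.span_le.2 ?_)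
  · obtain ⟨g, -, rfl⟩ := exists_decomp (N := 0) (ordGE_one_iff.2 (mem_maximalIdeal_iff.1 hf))
    exact Submodule.sum_mem _ fun i _ => Ideal.mul_mem_right _ _ (Ideal.subset_span ⟨i, rfl⟩)
  · rintro _ ⟨i, rfl⟩
    exact mem_maximalIdeal_iff.2 (MvPowerSeries.constantCoeff_X i)

theorem isAdicComplete_maximalIdeal :
    IsAdicComplete (maximalIdeal (MvPowerSeries (Fin d) k)) (MvPowerSeries (Fin d) k) := by
  rw [maximalIdeal_eq_span_X]
  infer_instance

theorem mem_maximalIdeal_sq_of_ordGE {f : MvPowerSeries (Fin d) k} (hf : OrdGE 2 f) :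
    f ∈ maximalIdeal (MvPowerSeries (Fin d) k) ^ 2 := by
  obtain ⟨g, hg, rfl⟩ := exists_decomp (N := 1) hf
  rw [pow_two]
  exact Submodule.sum_mem _ fun i _ => Ideal.mul_mem_mul
    (mem_maximalIdeal_iff.2 (MvPowerSeries.constantCoeff_X i))
    (mem_maximalIdeal_iff.2 (ordGE_one_iff.1 (hg i)))

/-- Endomorphisms of power series rings are determined by the values at the variables. -/
theorem algHom_ext {R : Type u} [CommRing R]
    {φ ψ : MvPowerSeries (Fin d) R →ₐ[R] MvPowerSeries (Fin d) R}
    (h0 : ∀ i, MvPowerSeries.constantCoeff (φ (MvPowerSeries.X i)) = 0)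
    (h : ∀ i, φ (MvPowerSeries.X i) = ψ (MvPowerSeries.X i)) : φ = ψ := by
  have key : ∀ (N : ℕ) (f : MvPowerSeries (Fin d) R), OrdGE N (φ f - ψ f) := by
    intro N
    induction N with
    | zero => exact fun f => ordGE_zero _
    | succ N ih =>
      intro f
      have h1 : OrdGE 1 (f - MvPowerSeries.C (MvPowerSeries.constantCoeff f)) :=
        ordGE_one_iff.2 (by simp)
      obtain ⟨g, -, hg⟩ := exists_decomp (N := 0) h1
      rw [sub_eq_iff_eq_add] at hg
      rw [hg, map_add, map_add, map_sum, map_sum,
        show MvPowerSeries.C (MvPowerSeries.constantCoeff f) =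
          algebraMap R (MvPowerSeries (Fin d) R) (MvPowerSeries.constantCoeff f) from rfl,
        AlgHom.commutes, AlgHom.commutes, add_sub_add_right_eq_sub, ← Finset.sum_sub_distrib]
      refine OrdGE.sum _ fun i _ => ?_
      rw [map_mul, map_mul, ← h i, ← mul_sub, add_comm N 1]
      exact (ordGE_one_iff.2 (h0 i)).mul (ih _)
  exact AlgHom.ext fun f => sub_eq_zero.1 (eq_zero_of_forall_ordGE fun N => key N f)

theorem le_ringKrullDim : (d : WithBot ℕ∞) ≤ ringKrullDim (MvPowerSeries (Fin d) k) := by
  classical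
  let v : ℕ → Fin d → MvPowerSeries (Fin d) k :=
    fun j i => if (i : ℕ) < j then 0 else MvPowerSeries.X i
  have hv0 : ∀ j i, MvPowerSeries.constantCoeff (v j i) = 0 := fun j i => by
    by_cases h : (i : ℕ) < j <;> simp [v, h]
  have hv : ∀ j, MvPowerSeries.HasSubst (v j) := fun j =>
    MvPowerSeries.hasSubst_of_constantCoeff_zero (hv0 j)
  let θ : ℕ → MvPowerSeries (Fin d) k →ₐ[k] MvPowerSeries (Fin d) k :=
    fun j => MvPowerSeries.substAlgHom (hv j)
  have hθ : ∀ j i, θ j (MvPowerSeries.X i) = v j i :=
    fun j i => MvPowerSeries.substAlgHom_X (hv j) i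
  have hnzd : IsDomain (MvPowerSeries (Fin d) k) := NoZeroDivisors.to_isDomain _
  let P : Fin (d + 1) → PrimeSpectrum (MvPowerSeries (Fin d) k) :=
    fun j => ⟨RingHom.ker (θ j), RingHom.ker_isPrime _⟩
  have hmono : StrictMono P := by
    refine Fin.strictMono_iff_lt_succ.2 fun j => ?_
    have hcomp : (θ j.succ).comp (θ j.castSucc) = θ j.succ := by
      refine algHom_ext (fun i => ?_) fun i => ?_
      · rw [AlgHom.comp_apply, hθ]
        by_cases h : (i : ℕ) < (j : ℕ)
        · simp [v, h]
        · rw [show v j.castSucc i = MvPowerSeries.X i by simp [v, h], hθ]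
          exact hv0 _ i
      · rw [AlgHom.comp_apply, hθ]
        by_cases h : (i : ℕ) < (j : ℕ)
        · simp [v, h, hθ, h.trans (Nat.lt_succ_self _)]
        · simp [v, h]
    show RingHom.ker (θ j.castSucc) < RingHom.ker (θ j.succ)
    refine lt_of_le_of_ne (fun f hf => ?_) fun he => ?_
    · rw [RingHom.mem_ker] at hf ⊢
      rw [← hcomp, AlgHom.comp_apply, hf, map_zero]
    · have : MvPowerSeries.X j ∈ RingHom.ker (θ j.succ) := by
        rw [RingHom.mem_ker, hθ]; simp [v]
      rw [← he, RingHom.mem_ker, hθ] at this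
      simp only [v, Fin.val_castSucc, lt_irrefl, if_false] at this
      exact one_ne_zero (α := k) (by
        simpa [MvPowerSeries.coeff_X] using congrArg (MvPowerSeries.coeff (Finsupp.single j 1)) this)
  exact Order.LTSeries.length_le_krullDim (LTSeries.mk d P hmono)

theorem spanFinrank_maximalIdeal_le :
    (maximalIdeal (MvPowerSeries (Fin d) k)).spanFinrank ≤ d := by
  rw [maximalIdeal_eq_span_X]
  refine (Submodule.spanFinrank_span_le_ncard_of_finite (Set.finite_range _)).trans ?_
  rw [← Set.image_univ]
  exact (Set.ncard_image_le Set.finite_univ).trans (by simp)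

theorem isRegularLocalRing_mvPowerSeries : IsRegularLocalRing (MvPowerSeries (Fin d) k) :=
  IsRegularLocalRing.of_spanFinrank_maximalIdeal_le _
    ((WithBot.coe_le_coe.2 (Nat.cast_le.2 spanFinrank_maximalIdeal_le)).trans le_ringKrullDim)

theorem ringKrullDim_mvPowerSeries : ringKrullDim (MvPowerSeries (Fin d) k) = (d : WithBot ℕ∞) :=
  le_antisymm ((ringKrullDim_le_spanFinrank_maximalIdeal _).trans
    (WithBot.coe_le_coe.2 (Nat.cast_le.2 spanFinrank_maximalIdeal_le))) le_ringKrullDim

/-- A quotient of a Noetherian domain by a nonzero ideal of the same finite dimension is impossible. -/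
theorem injective_of_surjective_of_ringKrullDim_eq {A B : Type u} [CommRing A] [CommRing B]
    [IsDomain A] (f : A →+* B) (hf : Function.Surjective f) (n : ℕ) (hA : ringKrullDim A = (n : WithBot ℕ∞))
    (hB : ringKrullDim B = (n : WithBot ℕ∞)) : Function.Injective f := by
  rw [injective_iff_map_eq_zero]
  intro a ha
  by_contra hne
  have h1 := ringKrullDim_succ_le_of_surjective f hf (mem_nonZeroDivisors_of_ne_zero hne) ha
  rw [hA, hB] at h1
  have h2 : ((n + 1 : ℕ) : WithBot ℕ∞) ≤ (n : ℕ) := by push_cast; exact h1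
  exact absurd (Nat.cast_le.1 (WithBot.coe_le_coe.1 h2)) (by omega)

end Groth.Agent.CAlg6
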