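import Mathlib.RingTheory.MvPowerSeries.Substitution
import Mathlib.RingTheory.MvPowerSeries.Order
import Mathlib.LinearAlgebra.Matrix.NonsingularInverse

/-!
Endomorphisms of a power series ring in finitely many variables.
-/

set_option autoImplicit false

universe u v

namespace Groth.Agent.CAlg6

open MvPowerSeries

variable {R : Type u} [CommRing R] {n : ℕ}

/-- `f` has no terms in degree below `N`. -/
def OrdGE (N : ℕ) (f : MvPowerSeries (Fin n) R) : Prop :=
  ∀ d : Fin n →₀ ℕ, d.degree < N → coeff d f = 0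

theorem ordGE_iff {N : ℕ} {f : MvPowerSeries (Fin n) R} : OrdGE N f ↔ (N : ℕ∞) ≤ f.order :=
  ⟨fun h => nat_le_order h, fun h d hd => coeff_of_lt_order ((Nat.cast_lt.2 hd).trans_le h)⟩

theorem ordGE_zero (f : MvPowerSeries (Fin n) R) : OrdGE 0 f := fun _ hd => absurd hd (Nat.not_lt_zero _)

theorem OrdGE.zero (N : ℕ) : OrdGE N (0 : MvPowerSeries (Fin n) R) := fun _ _ => map_zero _

theorem OrdGE.add {N : ℕ} {f g : MvPowerSeries (Fin n) R} (hf : OrdGE N f) (hg : OrdGE N g) :
    OrdGE N (f + g) := fun d hd => by rw [map_add, hf d hd, hg d hd, add_zero]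

theorem OrdGE.sum {N : ℕ} {ι : Type v} (s : Finset ι) {f : ι → MvPowerSeries (Fin n) R}
    (hf : ∀ i ∈ s, OrdGE N (f i)) : OrdGE N (∑ i ∈ s, f i) := fun d hd => by
  rw [map_sum]; exact Finset.sum_eq_zero fun i hi => hf i hi d hd

theorem OrdGE.mono {M N : ℕ} {f : MvPowerSeries (Fin n) R} (hf : OrdGE N f) (h : M ≤ N) : OrdGE M f :=
  fun d hd => hf d (lt_of_lt_of_le hd h)

theorem OrdGE.mul {M N : ℕ} {f g : MvPowerSeries (Fin n) R} (hf : OrdGE M f) (hg : OrdGE N g) :
    OrdGE (M + N) (f * g) := by
  rw [ordGE_iff] at *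
  exact le_trans (by push_cast; exact add_le_add hf hg) le_order_mul

theorem ordGE_one_iff {f : MvPowerSeries (Fin n) R} : OrdGE 1 f ↔ constantCoeff f = 0 := by
  rw [ordGE_iff, Nat.cast_one, one_le_order_iff_constCoeff_eq_zero]

theorem ordGE_X (i : Fin n) : OrdGE 1 (X i : MvPowerSeries (Fin n) R) :=
  ordGE_one_iff.2 (constantCoeff_X i)

theorem eq_zero_of_forall_ordGE {f : MvPowerSeries (Fin n) R} (h : ∀ N, OrdGE N f) : f = 0 :=
  MvPowerSeries.ext fun d => by rw [map_zero]; exact h (d.degree + 1) d (Nat.lt_succ_self _)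

/-- Series without low terms are combinations of the variables. -/
theorem exists_decomp {N : ℕ} {f : MvPowerSeries (Fin n) R} (h : OrdGE (N + 1) f) :
    ∃ g : Fin n → MvPowerSeries (Fin n) R, (∀ i, OrdGE N (g i)) ∧ f = ∑ i, X i * g i := by
  classical
  let e : Fin n → (Fin n →₀ ℕ) := fun i => Finsupp.single i 1
  let g : Fin n → MvPowerSeries (Fin n) R := fun i d =>
    if ∀ j, j < i → d j = 0 then coeff (d + e i) f else 0
  have hg : ∀ i d, coeff d (g i) = if ∀ j, j < i → d j = 0 then coeff (d + e i) f else 0 :=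
    fun i d => rfl
  refine ⟨g, fun i d hd => ?_, ?_⟩
  · rw [hg]
    split
    · refine h _ ?_
      rw [map_add]
      simp only [e, Finsupp.degree_single]
      omega
    · rfl
  · ext d
    rw [map_sum]
    have hterm : ∀ i, coeff d (X i * g i) = if e i ≤ d then coeff (d - e i) (g i) else 0 := fun i => by
      rw [X_def, coeff_monomial_mul]
      simp [e]
    simp only [hterm]
    by_cases hd : d = 0
    · subst hd
      rw [h 0 (by simp)]
      symm
      exact Finset.sum_eq_zero fun i _ => by
        rw [if_neg]; intro hle; have := hle i; simp [e] at this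
    · obtain ⟨i₀, hi₀, hmin⟩ : ∃ i₀, d i₀ ≠ 0 ∧ ∀ j, j < i₀ → d j = 0 := by
        have hne : d.support.Nonempty := Finsupp.support_nonempty_iff.2 hd
        refine ⟨d.support.min' hne, Finsupp.mem_support_iff.1 (d.support.min'_mem hne), fun j hj => ?_⟩
        by_contra hc
        exact absurd (d.support.min'_le j (Finsupp.mem_support_iff.2 hc)) (not_le.2 hj)
      have hle : e i₀ ≤ d := Finsupp.single_le_iff.2 (Nat.one_le_iff_ne_zero.2 hi₀)
      rw [Finset.sum_eq_single i₀]
      · rw [if_pos hle, hg, if_pos, tsub_add_cancel_of_le hle]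
        intro j hj
        simp [hmin j hj]
      · intro i _ hne
        by_cases hi : e i ≤ d
        · rw [if_pos hi, hg, if_neg]
          intro hall
          have h1 : 1 ≤ d i := Finsupp.single_le_iff.1 hi
          rcases lt_or_gt_of_ne hne with hlt | hgt
          · have := hmin i hlt; omega
          · have := hall i₀ hgt
            simp [e, Ne.symm hne] at this
            exact hi₀ this
        · rw [if_neg hi]
      · exact fun hn => absurd (Finset.mem_univ _) hn

theorem ordGE_algHom (φ : MvPowerSeries (Fin n) R →ₐ[R] MvPowerSeries (Fin n) R)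
    (h0 : ∀ i, constantCoeff (φ (X i)) = 0) :
    ∀ (N : ℕ) (f : MvPowerSeries (Fin n) R), OrdGE N f → OrdGE N (φ f) := by
  intro N
  induction N with
  | zero => exact fun f _ => ordGE_zero _
  | succ N ih =>
    intro f hf
    obtain ⟨g, hg, rfl⟩ := exists_decomp hf
    rw [map_sum]
    refine OrdGE.sum _ fun i _ => ?_
    rw [map_mul, add_comm N 1]
    exact OrdGE.mul (ordGE_one_iff.2 (h0 i)) (ih _ (hg i))

/-- An endomorphism congruent to the identity modulo second order terms is bijective. -/
theorem bijective_of_sub_X_ordGE_two (θ : MvPowerSeries (Fin n) R →ₐ[R] MvPowerSeries (Fin n) R)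
    (h : ∀ i, OrdGE 2 (θ (X i) - X i)) : Function.Bijective θ := by
  have h0 : ∀ i, constantCoeff (θ (X i)) = 0 := fun i => by
    have := ordGE_one_iff.1 ((h i).mono one_le_two)
    rwa [map_sub, constantCoeff_X, sub_zero] at this
  have key : ∀ (N : ℕ) (f : MvPowerSeries (Fin n) R), OrdGE N f → OrdGE (N + 1) (θ f - f) := by
    intro N
    induction N with
    | zero =>
      intro f _
      have h1 : OrdGE 1 (f - C (constantCoeff f)) := by
        rw [ordGE_one_iff]; simp
      have h2 := ordGE_algHom θ h0 1 _ h1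
      rw [ordGE_one_iff] at h2
      rw [ordGE_one_iff, map_sub, sub_eq_zero]
      rwa [map_sub, map_sub, sub_eq_zero,
        show C (constantCoeff f) = algebraMap R (MvPowerSeries (Fin n) R) (constantCoeff f) from rfl,
        AlgHom.commutes, ← c_eq_algebraMap, constantCoeff_C] at h2
    | succ N ih =>
      intro f hf
      obtain ⟨g, hg, rfl⟩ := exists_decomp hf
      rw [map_sum, ← Finset.sum_sub_distrib]
      refine OrdGE.sum _ fun i _ => ?_
      rw [map_mul, show θ (X i) * θ (g i) - X i * g i = (θ (X i) - X i) * θ (g i) + X i * (θ (g i) - g i) by ring]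
      refine OrdGE.add ?_ ?_
      · exact (OrdGE.mul (h i) (ordGE_algHom θ h0 N _ (hg i))).mono (by omega)
      · exact (OrdGE.mul (ordGE_X i) (ih _ (hg i))).mono (by omega)
  refine ⟨?_, fun y => ?_⟩
  · rw [injective_iff_map_eq_zero]
    intro f hf
    refine eq_zero_of_forall_ordGE fun N => ?_
    induction N with
    | zero => exact ordGE_zero _
    | succ N ih =>
      intro d hd
      have := key N f ih d hd
      rwa [hf, zero_sub, map_neg, neg_eq_zero] at this
  · let x : ℕ → MvPowerSeries (Fin n) R := fun N => Nat.rec 0 (fun _ a => a + (y - θ a)) N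
    have hx : ∀ N, x (N + 1) = x N + (y - θ (x N)) := fun N => rfl
    have hr : ∀ N, OrdGE N (y - θ (x N)) := by
      intro N
      induction N with
      | zero => exact ordGE_zero _
      | succ N ih =>
        intro d hd
        have := key N _ ih d hd
        rw [hx, map_add, sub_add_eq_sub_sub, ← neg_sub, map_neg, this, neg_zero]
    have hcauchy : ∀ d N, d.degree < N → coeff d (x N) = coeff d (x (d.degree + 1)) := by
      intro d N hN
      induction N, hN using Nat.le_induction with
      | base => rfl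
      | succ N hN ih => rw [hx, map_add, hr N d hN, add_zero, ih]
    let lim : MvPowerSeries (Fin n) R := fun d => coeff d (x (d.degree + 1))
    refine ⟨lim, sub_eq_zero.1 (eq_zero_of_forall_ordGE fun N => ?_)⟩
    have hlim : OrdGE N (lim - x N) := fun d hd => by
      rw [map_sub, hcauchy d N hd]; exact sub_self _
    have e : θ lim - y = θ (lim - x N) + -(y - θ (x N)) := by rw [map_sub]; ring
    rw [e]
    exact (ordGE_algHom θ h0 N _ hlim).add fun d hd => by rw [map_neg, hr N d hd, neg_zero]

theorem bijective_of_isUnit_det (φ : MvPowerSeries (Fin n) R →ₐ[R] MvPowerSeries (Fin n) R)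
    (h0 : ∀ i, constantCoeff (φ (X i)) = 0)
    (hJ : IsUnit (Matrix.det (Matrix.of fun i j : Fin n => coeff (Finsupp.single j 1) (φ (X i))))) :
    Function.Bijective φ := by
  classical
  set J : Matrix (Fin n) (Fin n) R := Matrix.of fun i j => coeff (Finsupp.single j 1) (φ (X i)) with hJdef
  let lin : Matrix (Fin n) (Fin n) R → Fin n → MvPowerSeries (Fin n) R := fun A i => ∑ j, C (A i j) * X j
  have hs : ∀ A, HasSubst (lin A) := fun A => hasSubst_of_constantCoeff_zero fun i => by simp [lin]
  let ψ : MvPowerSeries (Fin n) R →ₐ[R] MvPowerSeries (Fin n) R := substAlgHom (hs J⁻¹)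
  have hψ : ∀ i, ψ (X i) = lin J⁻¹ i := fun i => by
    show substAlgHom (hs J⁻¹) (X i) = _
    rw [substAlgHom_X]
  have hψ0 : ∀ i, constantCoeff (ψ (X i)) = 0 := fun i => by rw [hψ]; simp [lin]
  have hlinpart : ∀ i, OrdGE 2 (φ (X i) - lin J i) := by
    intro i d hd
    by_cases h0d : d = 0
    · subst h0d; simp [lin, h0]
    · obtain ⟨j, rfl⟩ : ∃ j, d = Finsupp.single j 1 := by
        obtain ⟨j, hj⟩ : ∃ j, d j ≠ 0 := Finsupp.ne_iff.1 h0d
        have hle : Finsupp.single j 1 ≤ d := Finsupp.single_le_iff.2 (Nat.one_le_iff_ne_zero.2 hj)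
        refine ⟨j, ?_⟩
        obtain ⟨c, rfl⟩ := exists_add_of_le hle
        have hc : c = 0 := by
          rw [map_add, Finsupp.degree_single] at hd
          exact (Finsupp.degree_eq_zero_iff c).1 (by omega)
        rw [hc, add_zero]
      simp [lin, J, coeff_X, Finsupp.single_eq_single_iff]
  have hCmap : ∀ (θ : MvPowerSeries (Fin n) R →ₐ[R] MvPowerSeries (Fin n) R) (a : R), θ (C a) = C a :=
    fun θ a => θ.commutes a
  have hcomp : ∀ (A B : Matrix (Fin n) (Fin n) R) (i : Fin n),
      ∑ j, C (A i j) * lin B j = lin (A * B) i := by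
    intro A B i
    simp only [lin, Finset.mul_sum, Matrix.mul_apply, map_sum, Finset.sum_mul, map_mul]
    rw [Finset.sum_comm]
    exact Finset.sum_congr rfl fun j _ => Finset.sum_congr rfl fun k _ => by ring
  have h1 : Function.Bijective (φ.comp ψ) := by
    refine bijective_of_sub_X_ordGE_two _ fun i => ?_
    have e : (φ.comp ψ) (X i) - X i = ∑ j, C (J⁻¹ i j) * (φ (X j) - lin J j) := by
      rw [AlgHom.comp_apply, hψ]
      simp only [lin, map_sum, map_mul, hCmap, mul_sub, Finset.sum_sub_distrib]
      congr 1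
      have := hcomp J⁻¹ J i
      simp only [lin] at this
      rw [this, Matrix.nonsing_inv_mul _ hJ]
      simp [Matrix.one_apply]
    rw [e]
    exact OrdGE.sum _ fun j _ => (OrdGE.mul (ordGE_zero _) (hlinpart j)).mono (by omega)
  have h2 : Function.Bijective (ψ.comp φ) := by
    refine bijective_of_sub_X_ordGE_two _ fun i => ?_
    have e : (ψ.comp φ) (X i) - X i = ψ (φ (X i) - lin J i) := by
      rw [map_sub, AlgHom.comp_apply]
      congr 1
      simp only [lin, map_sum, map_mul, hCmap, hψ]
      have := hcomp J J⁻¹ i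
      simp only [lin] at this
      rw [this, Matrix.mul_nonsing_inv _ hJ]
      simp [Matrix.one_apply]
    rw [e]
    exact ordGE_algHom ψ hψ0 2 _ (hlinpart i)
  have hsur : Function.Surjective φ := fun y => by
    obtain ⟨x, hx⟩ := h1.2 y
    exact ⟨ψ x, hx⟩
  exact ⟨fun a b hab => h2.1 (congrArg ψ hab), hsur⟩

end Groth.Agent.CAlg6
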