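import Mathlib
import Groth.Agent.FlatCrit65.Injective
import Groth.Agent.CAlg1.Regular

/-!
Embedding dimension of a flat local extension with regular closed fibre, and
`ht p + dim A / p ≤ dim A`.
-/

set_option autoImplicit false

universe u

open IsLocalRing TensorProduct

namespace Groth.Agent.CAlg6

theorem spanFinrank_of_map_eq {A B : Type u} [CommRing A] [CommRing B] [IsLocalRing A]
    [IsNoetherianRing A] [IsLocalRing B] [IsNoetherianRing B] [Algebra A B]
    [IsLocalHom (algebraMap A B)] [Module.Flat A B]
    (h : (maximalIdeal A).map (algebraMap A B) = maximalIdeal B) :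
    (maximalIdeal B).spanFinrank = (maximalIdeal A).spanFinrank := by
  refine le_antisymm (h ▸ Ideal.spanFinrank_map_le_of_fg _ (maximalIdeal A).fg_of_isNoetherianRing) ?_
  let m := maximalIdeal A
  let μ : B ⊗[A] m →ₗ[B] B := (AlgebraTensorModule.rid A B B).toLinearMap ∘ₗ
    (m.subtype.baseChange B)
  have hinj : Function.Injective μ := by
    simp only [μ, LinearMap.coe_comp, LinearEquiv.coe_coe]
    exact (LinearEquiv.injective _).comp
      (Module.Flat.lTensor_preserves_injective_linearMap _ m.injective_subtype)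
  have hrange : LinearMap.range μ = maximalIdeal B := by
    refine le_antisymm ?_ ?_
    · rintro _ ⟨z, rfl⟩
      induction z with
      | zero => simp
      | add a b ha hb => rw [map_add]; exact add_mem ha hb
      | tmul b y =>
        simp only [μ, LinearMap.coe_comp, LinearEquiv.coe_coe, Function.comp_apply,
          LinearMap.baseChange_tmul, AlgebraTensorModule.rid_tmul, Algebra.smul_def]
        exact Ideal.mul_mem_right _ _ (h ▸ Ideal.mem_map_of_mem _ y.2)
    · rw [← h, Ideal.map, Ideal.span_le]
      rintro _ ⟨y, hy, rfl⟩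
      exact ⟨1 ⊗ₜ ⟨y, hy⟩, by simp [μ, Algebra.smul_def]⟩
  let e : B ⊗[A] m ≃ₗ[B] maximalIdeal B :=
    (LinearEquiv.ofInjective μ hinj).trans (LinearEquiv.ofEq _ _ hrange)
  have hB := TensorProduct.spanFinrank_top_eq_of_residueField (R := B) (maximalIdeal B)
    (maximalIdeal B).fg_of_isNoetherianRing
  have hA := TensorProduct.spanFinrank_top_eq_of_residueField (R := A) m
    m.fg_of_isNoetherianRing
  rw [← Module.finrank_eq_spanFinrank_of_free] at hA hB
  refine le_of_eq ?_
  rw [← hA, ← hB]
  calc Module.finrank (ResidueField A) (ResidueField A ⊗[A] m)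
      = Module.finrank (ResidueField B) (ResidueField B ⊗[ResidueField A] (ResidueField A ⊗[A] m)) :=
        (Module.finrank_baseChange).symm
    _ = Module.finrank (ResidueField B) (ResidueField B ⊗[A] m) :=
        (AlgebraTensorModule.cancelBaseChange A (ResidueField A) (ResidueField B) _ _).finrank_eq
    _ = Module.finrank (ResidueField B) (ResidueField B ⊗[B] (B ⊗[A] m)) :=
        (AlgebraTensorModule.cancelBaseChange A B (ResidueField B) _ _).finrank_eq.symm
    _ = Module.finrank (ResidueField B) (ResidueField B ⊗[B] maximalIdeal B) :=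
        (e.baseChange B (ResidueField B)).finrank_eq

/-- The embedding dimension is additive for flat local maps with regular closed fibre. -/
theorem spanFinrank_eq_add_of_flat {A : Type u} [CommRing A] [IsLocalRing A] [IsNoetherianRing A] :
    ∀ (r : ℕ) (B : Type u) [CommRing B] [IsLocalRing B] [IsNoetherianRing B] [Algebra A B]
      [IsLocalHom (algebraMap A B)] [Module.Flat A B]
      [IsRegularLocalRing (B ⧸ (maximalIdeal A).map (algebraMap A B))],
      (maximalIdeal (B ⧸ (maximalIdeal A).map (algebraMap A B))).spanFinrank = r →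
        (maximalIdeal B).spanFinrank = r + (maximalIdeal A).spanFinrank := by
  intro r
  induction r with
  | zero =>
    intro B _ _ _ _ _ _ _ hr
    rw [zero_add]
    refine spanFinrank_of_map_eq (le_antisymm ?_ ?_)
    · rw [Ideal.map_le_iff_le_comap, maximalIdeal_comap]
    · intro z hz
      have h0 : maximalIdeal (B ⧸ (maximalIdeal A).map (algebraMap A B)) = ⊥ :=
        (Submodule.spanFinrank_eq_zero_iff_eq_bot (Ideal.fg_of_isNoetherianRing _)).1 hr
      rw [CAlg1.maximalIdeal_quotient, eq_bot_iff] at h0
      exact Ideal.Quotient.eq_zero_iff_mem.1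
        ((Submodule.mem_bot _).1 (h0 (Ideal.mem_map_of_mem _ hz)))
  | succ r ih =>
    intro B _ _ _ _ _ _ _ hr
    let I := (maximalIdeal A).map (algebraMap A B)
    have hdom := CAlg1.isDomain_regular (B ⧸ I)
    obtain ⟨xb, hxb, hxb2⟩ : ∃ xb ∈ maximalIdeal (B ⧸ I), xb ∉ maximalIdeal (B ⧸ I) ^ 2 := by
      by_contra! hc
      have h2 : maximalIdeal (B ⧸ I) ≤ maximalIdeal (B ⧸ I) • maximalIdeal (B ⧸ I) := by
        rw [smul_eq_mul, ← pow_two]; exact hc
      have := Submodule.eq_bot_of_le_smul_of_le_jacobson_bot _ _ (IsNoetherian.noetherian _) h2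
        (maximalIdeal_le_jacobson _)
      rw [this, Submodule.spanFinrank_bot] at hr
      omega
    obtain ⟨x, rfl⟩ := Ideal.Quotient.mk_surjective xb
    have hx : x ∈ maximalIdeal B := by
      rw [← CAlg1.comap_maximalIdeal_of_surjective (Ideal.Quotient.mk I) Ideal.Quotient.mk_surjective]
      exact hxb
    have hx2 : x ∉ maximalIdeal B ^ 2 := fun h => hxb2 (by
      rw [CAlg1.maximalIdeal_quotient, ← Ideal.map_pow]
      exact Ideal.mem_map_of_mem _ h)
    have hxI : x ∉ I := fun h => hxb2 (by rw [Ideal.Quotient.eq_zero_iff_mem.2 h]; exact zero_mem _)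
    let B' := B ⧸ Ideal.span ({x} : Set B)
    have := CAlg1.isLocalRing_quotient_singleton hx
    have : IsLocalHom (Ideal.Quotient.mk (Ideal.span ({x} : Set B))) :=
      IsLocalHom.of_surjective _ Ideal.Quotient.mk_surjective
    have : IsLocalHom (algebraMap A B') := by
      show IsLocalHom ((Ideal.Quotient.mk (Ideal.span ({x} : Set B))).comp (algebraMap A B))
      infer_instance
    have hsmul : ((maximalIdeal A) • ⊤ : Submodule A B) = I.restrictScalars A := by
      rw [Ideal.smul_top_eq_map]
    let f : B →ₗ[A] B := (LinearMap.mulLeft B x).restrictScalars A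
    have hf : Function.Injective (f.lTensor (A ⧸ maximalIdeal A)) := by
      rw [injective_iff_map_eq_zero]
      intro z hz
      obtain ⟨b, rfl⟩ : ∃ b, (1 : A ⧸ maximalIdeal A) ⊗ₜ[A] b = z :=
        TensorProduct.mk_surjective A B _ Ideal.Quotient.mk_surjective z
      rw [LinearMap.lTensor_tmul, FlatCrit65.one_tmul_eq_zero_iff, hsmul] at hz
      rw [FlatCrit65.one_tmul_eq_zero_iff, hsmul]
      have h1 : Ideal.Quotient.mk I x * Ideal.Quotient.mk I b = 0 := by
        rw [← map_mul]; exact Ideal.Quotient.eq_zero_iff_mem.2 hz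
      rcases mul_eq_zero.1 h1 with h2 | h2
      · exact absurd (Ideal.Quotient.eq_zero_iff_mem.1 h2) hxI
      · exact Ideal.Quotient.eq_zero_iff_mem.1 h2
    obtain ⟨-, hflat⟩ := FlatCrit65.injective_and_flat_quotient (S := B) (maximalIdeal A)
      (((Ideal.map_le_iff_le_comap).2 (maximalIdeal_comap (algebraMap A B)).ge).trans
        (maximalIdeal_le_jacobson _)) f hf
    have hrange : LinearMap.range f = (Ideal.span ({x} : Set B)).restrictScalars A := by
      ext z
      simp [f, Ideal.mem_span_singleton', mul_comm, eq_comm]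
    have : Module.Flat A B' := Module.Flat.of_linearEquiv
      ((Submodule.quotEquivOfEq _ _ hrange).trans
        (Submodule.Quotient.restrictScalarsEquiv A (Ideal.span ({x} : Set B)))).symm
    have hImap : (maximalIdeal A).map (algebraMap A B') =
        I.map (Ideal.Quotient.mk (Ideal.span ({x} : Set B))) := by
      rw [Ideal.map_map]; rfl
    let e : (B ⧸ I) ⧸ Ideal.span ({Ideal.Quotient.mk I x} : Set (B ⧸ I)) ≃+*
        B' ⧸ (maximalIdeal A).map (algebraMap A B') :=
      (Ideal.quotEquivOfEq (by rw [Ideal.map_span, Set.image_singleton])).trans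
        ((DoubleQuot.quotQuotEquivComm I (Ideal.span ({x} : Set B))).trans
          (Ideal.quotEquivOfEq hImap.symm))
    obtain ⟨hreg, -⟩ := CAlg1.regular_quotient_singleton hxb hxb2
    have : IsRegularLocalRing (B' ⧸ (maximalIdeal A).map (algebraMap A B')) :=
      IsRegularLocalRing.of_ringEquiv e
    have h1 := CAlg1.spanFinrank_quotient_succ hxb hxb2
    have h2 := CAlg1.spanFinrank_quotient_succ hx hx2
    have hr' : (maximalIdeal (B ⧸ I)).spanFinrank = r + 1 := hr
    have h3 : (maximalIdeal (B' ⧸ (maximalIdeal A).map (algebraMap A B'))).spanFinrank = r := by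
      rw [← map_ringEquiv_maximalIdeal e, Ideal.spanFinrank_map_eq_of_ringEquiv]
      exact Nat.succ_injective (h1.trans hr')
    have h4 := ih B' h3
    rw [← h2, h4]
    omega

theorem height_add_ringKrullDim_quotient_le {A : Type u} [CommRing A] (p : Ideal A) [p.IsPrime] :
    (p.height : WithBot ℕ∞) + ringKrullDim (A ⧸ p) ≤ ringKrullDim A := by
  let P : PrimeSpectrum A := ⟨p, inferInstance⟩
  have : Nonempty (PrimeSpectrum A) := ⟨P⟩
  have h1 : ringKrullDim (A ⧸ p) = (Order.coheight P : WithBot ℕ∞) := by
    rw [Order.coheight_eq_krullDim_Ici, ringKrullDim_quotient]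
    exact Order.krullDim_eq_of_orderIso
      { toEquiv := Equiv.subtypeEquivRight (fun q => by simp [P, PrimeSpectrum.mem_zeroLocus]; rfl)
        map_rel_iff' := Iff.rfl }
  rw [h1, show p.height = Order.height P from PrimeSpectrum.height_eq_orderHeight P, ringKrullDim,
    Order.krullDim_eq_iSup_height_add_coheight_of_nonempty, ← WithBot.coe_add]
  exact WithBot.coe_le_coe.2 (le_iSup (fun a : PrimeSpectrum A => Order.height a + Order.coheight a) P)

end Groth.Agent.CAlg6
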