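import Groth.Agent.ConsProp93.DimGeneric

/-! Noether normalization over a domain, spread out away from one element (after `ConsProp93.DimGeneric`). -/

set_option autoImplicit false
universe u

open TensorProduct Polynomial
open Groth.Agent.ConsProp93 (exists_eq_inv_tmul)

namespace Groth.Agent.CAlg6

variable (A B : Type u) [CommRing A] [IsDomain A] [CommRing B] [Algebra A B]

theorem exists_normalization_away [Algebra.FiniteType A B] (hinj : Function.Injective (algebraMap A B)) :
    ∃ (s : ℕ) (g : MvPolynomial (Fin s) A →ₐ[A] B) (a : A), Function.Injective g ∧ a ≠ 0 ∧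
      ∀ z : B, ∃ n : ℕ, g.toRingHom.IsIntegralElem (algebraMap A B a ^ n * z) := by
  classical
  have hz : ¬ ∃ a : A, a ≠ 0 ∧ algebraMap A B a = 0 := fun ⟨a, ha, h0⟩ => ha (hinj (h0.trans (map_zero _).symm))
  let F := FractionRing A
  let BF := F ⊗[A] B
  let ι : B →+* BF := (Algebra.TensorProduct.includeRight (R := A) (A := F) (B := B)).toRingHom
  have hι : ∀ b : B, ι b = 0 → ∃ c : A, c ≠ 0 ∧ c • b = 0 := fun b hb => by
    have hL : IsLocalizedModule (nonZeroDivisors A) (TensorProduct.mk A F B 1) :=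
      (isLocalizedModule_iff_isBaseChange (nonZeroDivisors A) F _).mpr (TensorProduct.isBaseChange A B F)
    obtain ⟨c, hc⟩ := (IsLocalizedModule.eq_zero_iff (nonZeroDivisors A) (TensorProduct.mk A F B 1)).mp hb
    exact ⟨c.1, nonZeroDivisors.ne_zero c.2, hc⟩
  have : Nontrivial BF := by
    refine nontrivial_of_ne 1 0 fun h => hz ?_
    obtain ⟨c, hc, hc0⟩ := hι 1 ((map_one ι).trans h)
    exact ⟨c, hc, by rw [Algebra.algebraMap_eq_smul_one]; exact hc0⟩
  obtain ⟨s, gF, hgF, hfin⟩ := exists_finite_inj_algHom_of_fg F BF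
  choose c b hc hb using fun i => exists_eq_inv_tmul A B (gF (MvPolynomial.X i))
  let g : MvPolynomial (Fin s) A →ₐ[A] B := MvPolynomial.aeval b
  let ψ : MvPolynomial (Fin s) A →+* MvPolynomial (Fin s) F := MvPolynomial.eval₂Hom
    (MvPolynomial.C.comp (algebraMap A F)) fun i => MvPolynomial.C (algebraMap A F (c i)) * MvPolynomial.X i
  have hψ : gF.toRingHom.comp ψ = ι.comp g.toRingHom := by
    refine MvPolynomial.ringHom_ext (fun r => ?_) fun i => ?_
    · simp only [ψ, g, ι, RingHom.comp_apply, AlgHom.toRingHom_eq_coe, RingHom.coe_coe,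
        MvPolynomial.coe_eval₂Hom, MvPolynomial.eval₂_C, MvPolynomial.aeval_C,
        Algebra.TensorProduct.includeRight_apply]
      rw [← MvPolynomial.algebraMap_eq, AlgHom.commutes, Algebra.TensorProduct.algebraMap_apply]
      simp only [Algebra.algebraMap_self, RingHom.id_apply]
      rw [Algebra.algebraMap_eq_smul_one, Algebra.algebraMap_eq_smul_one, TensorProduct.smul_tmul]
    · simp only [ψ, g, ι, RingHom.comp_apply, AlgHom.toRingHom_eq_coe, RingHom.coe_coe,
        MvPolynomial.coe_eval₂Hom, MvPolynomial.eval₂_X, MvPolynomial.aeval_X,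
        Algebra.TensorProduct.includeRight_apply]
      rw [← hb i, map_mul, ← MvPolynomial.algebraMap_eq, AlgHom.commutes, ← Algebra.smul_def]
  have hψinj : Function.Injective ψ := by
    let θ : MvPolynomial (Fin s) F →+* MvPolynomial (Fin s) F := MvPolynomial.eval₂Hom MvPolynomial.C
      fun i => MvPolynomial.C (algebraMap A F (c i))⁻¹ * MvPolynomial.X i
    have : θ.comp ψ = MvPolynomial.map (algebraMap A F) := by
      refine MvPolynomial.ringHom_ext (fun r => by simp [θ, ψ]) fun i => ?_
      have hci : algebraMap A F (c i) ≠ 0 :=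
        (map_ne_zero_iff _ (IsFractionRing.injective A F)).mpr (hc i)
      simp only [θ, ψ, RingHom.comp_apply, MvPolynomial.coe_eval₂Hom, MvPolynomial.eval₂_X,
        MvPolynomial.map_X, MvPolynomial.eval₂_mul, MvPolynomial.eval₂_C]
      rw [← mul_assoc, ← map_mul, mul_inv_cancel₀ hci, map_one, one_mul]
    have h2 : Function.Injective (θ.comp ψ) := this ▸ MvPolynomial.map_injective _ (IsFractionRing.injective A F)
    exact (show Function.Injective (θ ∘ ψ) from h2).of_comp
  have hg : Function.Injective g := by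
    have h : Function.Injective (gF.toRingHom.comp ψ) := hgF.comp hψinj
    rw [hψ] at h
    exact (show Function.Injective (ι ∘ g) from h).of_comp
  -- denominators
  have hden : ∀ f : MvPolynomial (Fin s) F, ∃ d : A, d ≠ 0 ∧
      MvPolynomial.C (algebraMap A F d) * f ∈ ψ.range := by
    intro f
    induction f using MvPolynomial.induction_on with
    | C k =>
      obtain ⟨⟨r, d⟩, h⟩ := IsLocalization.surj (nonZeroDivisors A) k
      refine ⟨d.1, nonZeroDivisors.ne_zero d.2, MvPolynomial.C r, ?_⟩
      simp only [ψ, MvPolynomial.coe_eval₂Hom, MvPolynomial.eval₂_C, RingHom.comp_apply]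
      rw [← map_mul, mul_comm, h]
    | add p q hp hq =>
      obtain ⟨d, hd, p', hp⟩ := hp
      obtain ⟨e, he, q', hq⟩ := hq
      refine ⟨d * e, mul_ne_zero hd he, MvPolynomial.C e * p' + MvPolynomial.C d * q', ?_⟩
      simp only [map_add, map_mul, hp, hq]
      simp only [ψ, MvPolynomial.coe_eval₂Hom, MvPolynomial.eval₂_C, RingHom.comp_apply]
      ring
    | mul_X p i hp =>
      obtain ⟨d, hd, p', hp⟩ := hp
      refine ⟨c i * d, mul_ne_zero (hc i) hd, p' * MvPolynomial.X i, ?_⟩
      rw [map_mul, hp]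
      simp only [ψ, MvPolynomial.coe_eval₂Hom, MvPolynomial.eval₂_X, map_mul]
      ring
  have hmult : ∀ z : B, ∃ m : A, m ≠ 0 ∧ g.toRingHom.IsIntegralElem (algebraMap A B m * z) := by
    intro z
    obtain ⟨p, hp, hp0⟩ := RingHom.Finite.to_isIntegral hfin (ι z)
    have hpn : 1 ≤ p.natDegree := by
      by_contra h
      rw [Polynomial.eq_one_of_monic_natDegree_zero hp (by omega), Polynomial.eval₂_one] at hp0
      exact one_ne_zero hp0
    choose d hd hd' using fun i => hden (p.coeff i)
    let D := ∏ i ∈ Finset.range (p.natDegree + 1), d i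
    have hD : D ≠ 0 := Finset.prod_ne_zero_iff.mpr fun i _ => hd i
    let Dψ : MvPolynomial (Fin s) F := MvPolynomial.C (algebraMap A F D)
    have hCψ : ∀ r : A, MvPolynomial.C (algebraMap A F r) ∈ ψ.range :=
      fun r => ⟨MvPolynomial.C r, by simp [ψ]⟩
    have hlift : scaleRoots p Dψ ∈ Polynomial.lifts ψ := by
      rw [Polynomial.lifts_iff_coeff_lifts]
      intro i
      rw [coeff_scaleRoots]
      show p.coeff i * Dψ ^ (p.natDegree - i) ∈ ψ.range
      rcases lt_trichotomy i p.natDegree with h | h | h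
      · obtain ⟨k, hk⟩ : ∃ k, p.natDegree - i = k + 1 := ⟨p.natDegree - i - 1, by omega⟩
        have hi : i ∈ Finset.range (p.natDegree + 1) := Finset.mem_range.mpr (by omega)
        have e : Dψ = MvPolynomial.C (algebraMap A F (d i)) *
            MvPolynomial.C (algebraMap A F (∏ j ∈ (Finset.range (p.natDegree + 1)).erase i, d j)) := by
          rw [← map_mul, ← map_mul, Finset.mul_prod_erase _ _ hi]
        rw [hk, pow_succ, mul_comm (Dψ ^ k), ← mul_assoc]
        refine ψ.range.mul_mem ?_ (ψ.range.pow_mem (hCψ D) k)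
        rw [e, mul_comm, mul_right_comm]
        exact ψ.range.mul_mem (hd' i) (hCψ _)
      · subst h
        rw [hp.coeff_natDegree, Nat.sub_self, pow_zero, mul_one]
        exact ψ.range.one_mem
      · rw [Polynomial.coeff_eq_zero_of_natDegree_lt h, zero_mul]
        exact ψ.range.zero_mem
    obtain ⟨q, hq, hqdeg, hqm⟩ := Polynomial.lifts_and_natDegree_eq_and_monic hlift
      ((monic_scaleRoots_iff _).mpr hp)
    rw [natDegree_scaleRoots] at hqdeg
    have h0 : ι (eval₂ g.toRingHom (algebraMap A B D * z) q) = 0 := by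
      rw [Polynomial.hom_eval₂, ← hψ, ← Polynomial.eval₂_map, hq]
      have e : ι (algebraMap A B D * z) = gF.toRingHom Dψ * ι z := by
        rw [map_mul]
        congr 1
        have h1 := RingHom.congr_fun hψ (MvPolynomial.C D)
        simp only [RingHom.comp_apply, ψ, g, AlgHom.toRingHom_eq_coe, RingHom.coe_coe,
          MvPolynomial.coe_eval₂Hom, MvPolynomial.eval₂_C, MvPolynomial.aeval_C] at h1
        exact h1.symm
      rw [e, scaleRoots_eval₂_mul]
      show gF.toRingHom Dψ ^ p.natDegree * eval₂ gF.toRingHom (ι z) p = 0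
      rw [hp0, mul_zero]
    obtain ⟨e, he, he0⟩ := hι _ h0
    refine ⟨e * D, mul_ne_zero he hD, scaleRoots q (algebraMap A _ e), (monic_scaleRoots_iff _).mpr hqm, ?_⟩
    rw [map_mul, mul_assoc, ← g.commutes e]
    show eval₂ g.toRingHom (g.toRingHom (algebraMap A _ e) * (algebraMap A B D * z)) _ = 0
    rw [scaleRoots_eval₂_mul]
    obtain ⟨n, hn⟩ : ∃ n, q.natDegree = n + 1 := ⟨q.natDegree - 1, by omega⟩
    rw [hn, pow_succ, mul_assoc]
    show g.toRingHom (algebraMap A _ e) ^ n * (g (algebraMap A _ e) * _) = 0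
    rw [g.commutes e, ← Algebra.smul_def, he0, mul_zero]
  obtain ⟨S, hS⟩ := ‹Algebra.FiniteType A B›.out
  choose m hm hmi using fun x : S => hmult x.1
  refine ⟨s, g, ∏ x : S, m x, hg, Finset.prod_ne_zero_iff.mpr fun x _ => hm x, fun z => ?_⟩
  have hz : z ∈ Algebra.adjoin A (S : Set B) := hS ▸ trivial
  set a := algebraMap A B (∏ x : S, m x)
  have haI : g.toRingHom.IsIntegralElem a := by
    rw [show a = g (algebraMap A _ (∏ x : S, m x)) from (g.commutes _).symm]
    exact RingHom.isIntegralElem_map _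
  have hpow : ∀ k, g.toRingHom.IsIntegralElem (a ^ k) := fun k => by
    induction k with
    | zero => rw [pow_zero]; exact RingHom.isIntegralElem_one _
    | succ k ih => rw [pow_succ]; exact RingHom.IsIntegralElem.mul _ ih haI
  induction hz using Algebra.adjoin_induction with
  | mem x hx =>
    refine ⟨1, ?_⟩
    rw [pow_one, show a = algebraMap A B ((∏ y ∈ Finset.univ.erase ⟨x, hx⟩, m y) * m ⟨x, hx⟩) by
      rw [mul_comm, Finset.mul_prod_erase _ _ (Finset.mem_univ _)], map_mul, mul_assoc]
    refine RingHom.IsIntegralElem.mul _ ?_ (hmi ⟨x, hx⟩)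
    rw [← g.commutes]
    exact RingHom.isIntegralElem_map _
  | algebraMap r =>
    refine ⟨0, ?_⟩
    rw [pow_zero, one_mul, ← g.commutes]
    exact RingHom.isIntegralElem_map _
  | add x y _ _ hx hy =>
    obtain ⟨n, hn⟩ := hx
    obtain ⟨k, hk⟩ := hy
    refine ⟨n + k, ?_⟩
    rw [show a ^ (n + k) * (x + y) = a ^ k * (a ^ n * x) + a ^ n * (a ^ k * y) by ring]
    exact RingHom.IsIntegralElem.add _ (RingHom.IsIntegralElem.mul _ (hpow k) hn)
      (RingHom.IsIntegralElem.mul _ (hpow n) hk)
  | mul x y _ _ hx hy =>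
    obtain ⟨n, hn⟩ := hx
    obtain ⟨k, hk⟩ := hy
    refine ⟨n + k, ?_⟩
    rw [show a ^ (n + k) * (x * y) = (a ^ n * x) * (a ^ k * y) by ring]
    exact RingHom.IsIntegralElem.mul _ hn hk

end Groth.Agent.CAlg6
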