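import Groth.Agent.EGA4H10.NagataUnram
import Groth.Agent.EGA4H10.AnalUnram

/-!
Analytically unramified local rings.
-/

set_option autoImplicit false
set_option linter.unusedSectionVars false

universe u

open TensorProduct IsLocalRing

namespace Groth.Agent.CAlg6

/-- A tensor product with a fraction field of a reduced algebra is reduced. -/
theorem isReduced_fractionRing_tensor (A K B : Type u) [CommRing A] [IsDomain A] [Field K] [Algebra A K]
    [IsFractionRing A K] [CommRing B] [Algebra A B] [IsReduced B] : IsReduced (K ⊗[A] B) := by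
  refine ⟨fun z hz => ?_⟩
  obtain ⟨⟨b, s⟩, hb⟩ := IsLocalizedModule.surj (nonZeroDivisors A) (TensorProduct.mk A K B 1) z
  simp only [TensorProduct.mk_apply, Submonoid.smul_def] at hb
  have hsz : IsNilpotent ((1 : K) ⊗ₜ[A] b) := hb ▸ by
    rw [Algebra.smul_def]; exact (Commute.all _ _).isNilpotent_mul_left hz
  obtain ⟨n, hn⟩ := hsz
  rw [Algebra.TensorProduct.tmul_pow, one_pow] at hn
  have h0 : TensorProduct.mk A K B 1 (b ^ n) = TensorProduct.mk A K B 1 0 := by
    rw [map_zero]; exact hn
  obtain ⟨t, ht⟩ := (IsLocalizedModule.eq_iff_exists (nonZeroDivisors A) (TensorProduct.mk A K B 1)).1 h0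
  have htb : (t : A) • b = 0 := by
    refine IsReduced.eq_zero _ ⟨n + 1, ?_⟩
    rw [smul_zero] at ht
    rw [smul_pow, pow_succ b, pow_succ, mul_smul, ← smul_mul_assoc, ← Submonoid.smul_def, ht, zero_mul, smul_zero]
  have hu : IsUnit (algebraMap A (K ⊗[A] B) (t * s : A)) := by
    rw [IsScalarTower.algebraMap_apply A K (K ⊗[A] B)]
    exact (IsLocalization.map_units K (t * s)).map _
  refine hu.mul_right_eq_zero.1 ?_
  rw [← Algebra.smul_def, mul_smul, hb, ← TensorProduct.tmul_smul, htb, TensorProduct.tmul_zero]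

/-- A finite, birationally full, local subalgebra of a purely inseparable extension. -/
theorem exists_local_fullFinite (A L : Type u) [CommRing A] [IsDomain A] [IsLocalRing A] [Field L] [Algebra A L]
    [Algebra (FractionRing A) L] [IsScalarTower A (FractionRing A) L] [FiniteDimensional (FractionRing A) L]
    [IsPurelyInseparable (FractionRing A) L] :
    ∃ D : Subalgebra A L, Module.Finite A D ∧ IsLocalRing D ∧ ∀ x : L, ∃ a b : D, (b : L) ≠ 0 ∧ x * b = a := by
  classical
  let K := FractionRing A
  let q := ringExpChar K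
  have hq : ExpChar K q := inferInstance
  have : ExpChar L q := expChar_of_injective_algebraMap (algebraMap K L).injective q
  have hq0 : 0 < q := expChar_pos K q
  let P : Subalgebra A L :=
    { carrier := {x | ∃ n : ℕ, x ^ q ^ n ∈ (algebraMap A L).range}
      mul_mem' := fun {x y} ⟨n, hx⟩ ⟨m, hy⟩ => ⟨n + m, by
        rw [mul_pow, pow_add, pow_mul, mul_comm (q ^ n) (q ^ m), pow_mul]
        exact mul_mem (pow_mem hx _) (pow_mem hy _)⟩
      add_mem' := fun {x y} ⟨n, hx⟩ ⟨m, hy⟩ => ⟨n + m, by
        rw [add_pow_expChar_pow, pow_add, pow_mul, mul_comm (q ^ n) (q ^ m), pow_mul]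
        exact add_mem (pow_mem hx _) (pow_mem hy _)⟩
      algebraMap_mem' := fun a => ⟨0, a, by simp⟩ }
  let b := Module.finBasis K L
  have hb : ∀ i, ∃ s : A, s ≠ 0 ∧ algebraMap A L s * b i ∈ P ∧ IsIntegral A (algebraMap A L s * b i) := by
    intro i
    obtain ⟨n, c, hc⟩ := IsPurelyInseparable.pow_mem K q (b i)
    obtain ⟨u, s, hs, hus⟩ := IsFractionRing.div_surjective A c
    have hs0 : algebraMap A K s ≠ 0 := (map_ne_zero_iff _ (IsFractionRing.injective A K)).2 (nonZeroDivisors.ne_zero hs)
    have h : (algebraMap A L s * b i) ^ q ^ n = algebraMap A L (s ^ (q ^ n - 1) * u) := by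
      rw [mul_pow, ← hc, ← hus, IsScalarTower.algebraMap_apply A K L, IsScalarTower.algebraMap_apply A K L,
        ← map_pow, ← map_mul]
      congr 1
      rw [map_mul, map_pow, ← mul_div_assoc, div_eq_iff hs0]
      conv_lhs => rw [← Nat.sub_add_cancel (Nat.one_le_pow n q hq0), pow_succ]
      ring
    refine ⟨s, nonZeroDivisors.ne_zero hs, ⟨n, _, h.symm⟩, IsIntegral.of_pow (pow_pos hq0 n) ?_⟩
    rw [h]
    exact isIntegral_algebraMap
  choose s hs hsP hsi using hb
  let D : Subalgebra A L := Algebra.adjoin A (Set.range fun i => algebraMap A L (s i) * b i)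
  have hDP : D ≤ P := Algebra.adjoin_le (by rintro _ ⟨i, rfl⟩; exact hsP i)
  have : Module.Finite A D := Module.Finite.iff_fg.2
    (fg_adjoin_of_finite (Set.finite_range _) (by rintro _ ⟨i, rfl⟩; exact hsi i))
  refine ⟨D, this, ?_, ?_⟩
  · refine IsLocalRing.of_unique_max_ideal ?_
    obtain ⟨M, hM⟩ := Ideal.exists_maximal D
    refine ⟨M, hM, fun N hN => ?_⟩
    have key : ∀ M N : Ideal D, M.IsMaximal → N.IsMaximal → M ≤ N := fun M N hM hN x hx => by
      obtain ⟨n, a, ha⟩ := hDP x.2
      have e : x ^ q ^ n = algebraMap A D a := Subtype.ext ha.symm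
      have haM : a ∈ M.comap (algebraMap A D) := by
        show algebraMap A D a ∈ M
        rw [← e]; exact Ideal.pow_mem_of_mem _ hx _ (pow_pos hq0 n)
      rw [IsLocalRing.eq_maximalIdeal (Ideal.isMaximal_comap_of_isIntegral_of_isMaximal (R := A) M),
        ← IsLocalRing.eq_maximalIdeal (Ideal.isMaximal_comap_of_isIntegral_of_isMaximal (R := A) N)] at haM
      exact hN.isPrime.mem_of_pow_mem (q ^ n) (by rw [e]; exact haM)
    exact le_antisymm (key N M hN hM) (key M N hM hN)
  · intro x
    obtain ⟨t, ht⟩ := IsLocalization.exist_integer_multiples_of_finite (nonZeroDivisors A)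
      (fun i => b.repr x i / algebraMap A K (s i))
    choose c hc using ht
    have hmem : algebraMap A L t * x ∈ D := by
      rw [← b.sum_repr x, Finset.mul_sum]
      refine sum_mem fun i _ => ?_
      have hsK : algebraMap A K (s i) ≠ 0 := (map_ne_zero_iff _ (IsFractionRing.injective A K)).2 (hs i)
      have e : algebraMap A L t * (b.repr x i • b i) = algebraMap A L (c i) * (algebraMap A L (s i) * b i) := by
        rw [Algebra.smul_def, ← mul_assoc, ← mul_assoc, IsScalarTower.algebraMap_apply A K L t,
          IsScalarTower.algebraMap_apply A K L (c i), IsScalarTower.algebraMap_apply A K L (s i), ← map_mul, ← map_mul]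
        congr 2
        have := hc i
        rw [Algebra.smul_def] at this
        rw [this]; rw [mul_assoc, div_mul_cancel₀ _ hsK]
      rw [e]
      exact mul_mem (D.algebraMap_mem _) (Algebra.subset_adjoin ⟨i, rfl⟩)
    exact ⟨⟨_, hmem⟩, ⟨_, D.algebraMap_mem t⟩, by
      show algebraMap A L t ≠ 0
      rw [show algebraMap A L t = algebraMap K L (algebraMap A K t) from IsScalarTower.algebraMap_apply A K L t]
      exact (map_ne_zero _).2 ((map_ne_zero_iff _ (IsFractionRing.injective A K)).2 (nonZeroDivisors.ne_zero t.2)),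
      mul_comm _ _⟩

/-- The completion of a finite local algebra is reduced iff its tensor product with the completion is. -/
theorem isReduced_cpl_iff (A : Type u) [CommRing A] [IsNoetherianRing A] [IsLocalRing A]
    (C : Type u) [CommRing C] [IsLocalRing C] [Algebra A C] [Module.Finite A C] :
    IsReduced (AdicCompletion (maximalIdeal C) C) ↔ IsReduced (C ⊗[A] EGA4.Cpl A) := by
  rw [← EGA4H10.isReduced_completion_iff A C, IsLocalRing.jacobson_eq_maximalIdeal (⊥ : Ideal C) bot_ne_top]

/-- Analytically unramified finite local domains give geometrically reduced formal fibres. -/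
theorem hasGeomReducedFormalFibres_of_local (A : Type u) [CommRing A] [IsNoetherianRing A] [IsLocalRing A]
    (h : ∀ (S : Type u) [CommRing S] [IsDomain S] [IsLocalRing S] [Algebra A S]
      [IsLocalHom (algebraMap A S)] [Module.Finite A S], IsReduced (AdicCompletion (maximalIdeal S) S)) :
    EGA4.HasGeomReducedFormalFibres A := by
  let Ah := EGA4.Cpl A
  have : Module.Flat A Ah := inferInstanceAs (Module.Flat A (AdicCompletion (maximalIdeal A) A))
  intro p _
  refine VarGal.isGeometricallyReduced_of_forall_purelyInseparable _ fun k' _ _ _ _ => ?_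
  let κ := p.ResidueField
  let A' := A ⧸ p
  let e : κ ≃ₐ[A'] FractionRing A' := IsLocalization.algEquiv (nonZeroDivisors A') κ (FractionRing A')
  let : Algebra A k' := ((algebraMap κ k').comp (algebraMap A κ)).toAlgebra
  have : IsScalarTower A κ k' := .of_algebraMap_eq fun _ => rfl
  let : Algebra A' k' := ((algebraMap κ k').comp (algebraMap A' κ)).toAlgebra
  have : IsScalarTower A A' k' := .of_algebraMap_eq fun a => by
    show algebraMap κ k' (algebraMap A κ a) = algebraMap κ k' (algebraMap A' κ (algebraMap A A' a))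
    rw [← IsScalarTower.algebraMap_apply A A' κ]
  let : Algebra (FractionRing A') k' := ((algebraMap κ k').comp e.symm.toRingEquiv.toRingHom).toAlgebra
  let : Algebra (FractionRing A') κ := e.symm.toRingEquiv.toRingHom.toAlgebra
  have : IsScalarTower (FractionRing A') κ k' := .of_algebraMap_eq fun _ => rfl
  have : IsScalarTower A' (FractionRing A') k' := .of_algebraMap_eq fun x => by
    show algebraMap κ k' (algebraMap A' κ x) = algebraMap κ k' (e.symm (algebraMap A' _ x))
    rw [e.symm.commutes]
  have : Module.Finite (FractionRing A') κ :=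
    Module.Finite.of_surjective (Algebra.linearMap (FractionRing A') κ) e.symm.surjective
  have : FiniteDimensional (FractionRing A') k' := Module.Finite.trans κ k'
  have : IsPurelyInseparable (FractionRing A') κ :=
    (isPurelyInseparable_iff_pow_mem _ (ringExpChar (FractionRing A'))).2 fun x => ⟨0, by rw [pow_zero, pow_one]; exact e.symm.surjective x⟩
  have : IsPurelyInseparable (FractionRing A') k' := IsPurelyInseparable.trans (FractionRing A') κ k'
  have : IsLocalRing A' := .of_surjective' (Ideal.Quotient.mk p) Ideal.Quotient.mk_surjective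
  obtain ⟨D, hDfin, hDloc, hDfull⟩ := exists_local_fullFinite A' k'
  have : Module.Finite A D := Module.Finite.trans A' D
  have : IsLocalHom (algebraMap A D) := ⟨fun a ha => by
    by_contra h0
    have hM := Ideal.isMaximal_comap_of_isIntegral_of_isMaximal (R := A) (maximalIdeal D)
    have h1 : a ∈ (maximalIdeal D).comap (algebraMap A D) := (IsLocalRing.eq_maximalIdeal hM).symm ▸ h0
    exact h1 ha⟩
  have : IsReduced (D ⊗[A] Ah) := (isReduced_cpl_iff A D).1 (h D)
  let Φ : D ⊗[A] Ah →ₐ[A] k' ⊗[A] Ah := Algebra.TensorProduct.map (D.val.restrictScalars A) (AlgHom.id A Ah)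
  have hΦ : Function.Injective Φ :=
    Module.Flat.rTensor_preserves_injective_linearMap (D.val.restrictScalars A).toLinearMap Subtype.val_injective
  have hden : ∀ z : k' ⊗[A] Ah, ∃ c : D, (c : k') ≠ 0 ∧ ∃ w, Φ w = ((c : k') ⊗ₜ[A] (1 : Ah)) * z := fun z => by
    induction z using TensorProduct.induction_on with
    | zero => exact ⟨1, one_ne_zero, 0, by simp⟩
    | tmul x y =>
      obtain ⟨a, b, hb, hab⟩ := hDfull x
      refine ⟨b, hb, a ⊗ₜ y, ?_⟩
      rw [Algebra.TensorProduct.tmul_mul_tmul, one_mul, mul_comm, hab]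
      rfl
    | add u v hu hv =>
      obtain ⟨c, hc, w, hw⟩ := hu
      obtain ⟨c', hc', w', hw'⟩ := hv
      refine ⟨c * c', mul_ne_zero hc hc', (c' ⊗ₜ 1) * w + (c ⊗ₜ 1) * w', ?_⟩
      rw [map_add, map_mul, map_mul, hw, hw']
      show ((c' : k') ⊗ₜ[A] (1 : Ah)) * _ + ((c : k') ⊗ₜ[A] (1 : Ah)) * _ = _
      rw [show (((c * c' : D) : k') ⊗ₜ[A] (1 : Ah)) = ((c : k') ⊗ₜ[A] (1 : Ah)) * ((c' : k') ⊗ₜ[A] (1 : Ah)) by
        rw [Algebra.TensorProduct.tmul_mul_tmul, one_mul]; rfl]
      ring
  have : IsReduced (k' ⊗[A] Ah) := ⟨fun z hz => by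
    obtain ⟨c, hc, w, hw⟩ := hden z
    have hw0 : w = 0 := IsReduced.eq_zero w ((IsNilpotent.map_iff hΦ).1
      (hw ▸ (Commute.all _ _).isNilpotent_mul_left hz))
    rw [hw0, map_zero] at hw
    exact (((isUnit_iff_ne_zero.2 hc).map (Algebra.TensorProduct.includeLeft : k' →ₐ[A] k' ⊗[A] Ah)).mul_right_eq_zero).1 hw.symm⟩
  let e1 := (Algebra.TensorProduct.cancelBaseChange A κ k' k' Ah).toRingEquiv
  have : IsReduced (k' ⊗[κ] EGA4.formalFibre A p) := isReduced_of_injective e1 e1.injective
  exact FBase64.isReduced_tensor_comm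

end Groth.Agent.CAlg6
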