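import Groth.Agent.AlgGrp79.AffineQuot

/-!
A homomorphism of affine group schemes over a field is faithfully flat onto a closed subgroup scheme.
-/

set_option autoImplicit false
set_option linter.unusedSectionVars false
set_option backward.isDefEq.respectTransparency.types false
universe u

open CategoryTheory CategoryTheory.Limits MonoidalCategory CartesianMonoidalCategory MonObj GrpObj AlgebraicGeometry
open scoped TensorProduct
open WithConv
open Groth.Agent.GMod80

noncomputable section

namespace Groth.Agent.CAlg6.AffHom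

variable {k : Type u} [Field k]

/-- the corestriction to the image as a map of bialgebras -/
def rangeBialg {A B : Type u} [CommRing A] [HopfAlgebra k A] [CommRing B] [HopfAlgebra k B] (φ : A →ₐc[k] B) :
    @BialgHom k A ↥(φ : A →ₐ[k] B).range _ _ _ _ _ _
      (Comod33.SubHopf.bialgebra (Comod33.HopfFlat.isSubHopf_range φ)).toCoalgebraStruct :=
  letI := Comod33.SubHopf.bialgebra (Comod33.HopfFlat.isSubHopf_range φ)
  BialgHom.ofAlgHom (φ : A →ₐ[k] B).rangeRestrict
    (AlgHom.ext fun a => CoalgHomClass.counit_comp_apply φ a)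
    (AlgHom.ext fun a => by
      apply Comod33.SubHopf.val₂_injective ((φ : A →ₐ[k] B).range)
      have h2 : ∀ z : A ⊗[k] A, Algebra.TensorProduct.map ((φ : A →ₐ[k] B).range.val) ((φ : A →ₐ[k] B).range.val)
          (Algebra.TensorProduct.map (φ : A →ₐ[k] B).rangeRestrict (φ : A →ₐ[k] B).rangeRestrict z) =
          TensorProduct.map (φ : A →ₐ[k] B).toLinearMap (φ : A →ₐ[k] B).toLinearMap z := fun z => by
        induction z using TensorProduct.induction_on with
        | zero => simp
        | add p q hp hq => simp only [map_add, hp, hq]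
        | tmul p q => rfl
      exact (h2 _).trans (((CoalgHomClass.map_comp_comul_apply φ a)).trans
        (Comod33.SubHopf.val₂_comul (Comod33.HopfFlat.isSubHopf_range φ) ((φ : A →ₐ[k] B).rangeRestrict a)).symm))

theorem exists_factor {G H : Over (Spec (CommRingCat.of k))} [GrpObj G] [GrpObj H] [IsAffine G.left]
    [IsAffine H.left] (v : G ⟶ H) [IsMonHom v] :
    ∃ (C : Over (Spec (CommRingCat.of k))) (_ : GrpObj C) (p : G ⟶ C) (i : C ⟶ H), IsMonHom p ∧ IsMonHom i ∧
      p ≫ i = v ∧ Surjective p.left ∧ Flat p.left ∧ IsClosedImmersion i.left ∧ IsAffine C.left ∧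
      (Function.Injective v.left.appTop.hom → IsIso i) := by
  obtain ⟨B, _, _, ψG, hψG⟩ := exists_coord G
  obtain ⟨A, _, _, ψH, hψH⟩ := exists_coord H
  let π : A →ₐc[k] B := pullBialg ψH ψG v
  have hS := Comod33.HopfFlat.isSubHopf_range π
  letI := Comod33.SubHopf.hopfAlgebra hS
  let C := sp k ↥(π : A →ₐ[k] B).range
  let j : ↥(π : A →ₐ[k] B).range →ₐc[k] B := Comod33.SubHopf.incl hS
  let r : A →ₐc[k] ↥(π : A →ₐ[k] B).range := rangeBialg π
  haveI : IsMonHom ψG.inv := inferInstance
  let p : G ⟶ C := ψG.inv ≫ spHom j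
  let i : C ⟶ H := spHom r ≫ ψH.hom
  have hπ : ψG.inv ≫ spHom π ≫ ψH.hom = v := by
    rw [Iso.inv_comp_eq]
    have h := e_comp ψH ψG v (toConv (AlgHom.id k B))
    rw [e_id ψG] at h
    rw [ofConv_toConv, AlgHom.id_comp] at h
    refine Eq.trans ?_ h.symm
    rfl
  have hjr : spHom j ≫ spHom r = spHom π := by
    apply Over.OverMorphism.ext
    show Spec.map _ ≫ Spec.map _ = Spec.map _
    rw [← Spec.map_comp]
    rfl
  have hff : (j : ↥(π : A →ₐ[k] B).range →+* B).FaithfullyFlat :=
    Comod33.HopfFlat.faithfullyFlat_of_injective j Subtype.val_injective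
  haveI : Flat (spHom j).left := by
    show Flat (Spec.map _)
    rw [HasRingHomProperty.Spec_iff (P := @Flat)]
    exact hff.flat
  haveI : Surjective (spHom j).left := by
    exact ⟨(RingHom.FaithfullyFlat.iff_flat_and_comap_surjective.1 hff).2⟩
  haveI : IsIso ψG.inv.left := ((Over.forget _).mapIso ψG).isIso_inv
  haveI : IsIso ψH.hom.left := ((Over.forget _).mapIso ψH).isIso_hom
  haveI : IsClosedImmersion (spHom r).left := by
    exact IsClosedImmersion.spec_of_surjective _ (AlgHom.rangeRestrict_surjective (π : A →ₐ[k] B))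
  refine ⟨C, inferInstance, p, i, inferInstance, inferInstance, ?_, ?_, ?_, ?_, inferInstanceAs (IsAffine (Spec _)), ?_⟩
  · show (ψG.inv ≫ spHom j) ≫ spHom r ≫ ψH.hom = v
    rw [Category.assoc, ← Category.assoc (spHom j), hjr, hπ]
  · rw [Over.comp_left]; infer_instance
  · rw [Over.comp_left]; infer_instance
  · rw [Over.comp_left]; infer_instance
  · intro hinj
    have hπi : Function.Injective π := fun a b hab => (fn ψH).injective (hinj (by
      rw [appTop_i_fn ψH ψG v, appTop_i_fn ψH ψG v]
      exact congrArg (fn ψG) hab))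
    have hr : Function.Bijective (r : A →ₐ[k] ↥(π : A →ₐ[k] B).range) :=
      ⟨fun a b hab => hπi (congrArg Subtype.val hab), AlgHom.rangeRestrict_surjective (π : A →ₐ[k] B)⟩
    haveI : IsIso (CommRingCat.ofHom (r : A →ₐ[k] ↥(π : A →ₐ[k] B).range).toRingHom) :=
      (ConcreteCategory.isIso_iff_bijective _).2 hr
    haveI : IsIso (spHom r).left := inferInstanceAs (IsIso (Spec.map (CommRingCat.ofHom (r : A →ₐ[k] ↥(π : A →ₐ[k] B).range).toRingHom)))
    haveI : IsIso i.left := by rw [Over.comp_left]; infer_instance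
    haveI : IsIso ((Over.forget _).map i) := ‹IsIso i.left›
    exact isIso_of_reflects_iso i (Over.forget _)

end Groth.Agent.CAlg6.AffHom
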