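import Mathlib

/-!
Isomorphisms of algebraically closed fields over a subring.
-/

set_option autoImplicit false

universe u

open Cardinal

namespace Groth.Agent.CAlg6

/-- Two algebraically closed fields of the same transcendence degree over a common subdomain are isomorphic over it. -/
theorem exists_ringEquiv_of_trdeg_eq {A L M : Type u} [CommRing A] [Field L] [Field M] [IsAlgClosed L]
    [IsAlgClosed M] (f : A →+* L) (g : A →+* M) (hf : Function.Injective f) (hg : Function.Injective g)
    (h : (letI := f.toAlgebra; Algebra.trdeg A L) = (letI := g.toAlgebra; Algebra.trdeg A M)) :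
    ∃ e : L ≃+* M, ∀ a, e (f a) = g a := by
  let _ := f.toAlgebra
  let _ := g.toAlgebra
  have : FaithfulSMul A L := (faithfulSMul_iff_algebraMap_injective A L).2 hf
  have : FaithfulSMul A M := (faithfulSMul_iff_algebraMap_injective A M).2 hg
  have : Nontrivial A := f.domain_nontrivial
  obtain ⟨s, hs⟩ := exists_isTranscendenceBasis A L
  obtain ⟨t, ht⟩ := exists_isTranscendenceBasis A M
  have hcard : #s = #t := by rw [hs.cardinalMk_eq_trdeg, ht.cardinalMk_eq_trdeg]; exact h
  obtain ⟨σ⟩ := Cardinal.eq.1 hcard
  let _ := IsAlgClosed.isAlgClosure_of_transcendence_basis _ hs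
  let _ := IsAlgClosed.isAlgClosure_of_transcendence_basis _ ht
  let e₀ : Algebra.adjoin A (Set.range (Subtype.val : s → L)) ≃ₐ[A] Algebra.adjoin A (Set.range (Subtype.val : t → M)) :=
    (hs.1.aevalEquiv.symm.trans (MvPolynomial.renameEquiv A σ)).trans ht.1.aevalEquiv
  refine ⟨IsAlgClosure.equivOfEquiv L M e₀.toRingEquiv, fun r => ?_⟩
  show IsAlgClosure.equivOfEquiv L M e₀.toRingEquiv (algebraMap A L r) = algebraMap A M r
  rw [IsScalarTower.algebraMap_apply A (Algebra.adjoin A (Set.range (Subtype.val : s → L))) L,
    IsAlgClosure.equivOfEquiv_algebraMap]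
  simp

/-- Over a domain of finite transcendence degree, a field of infinite transcendence degree keeps its degree. -/
theorem trdeg_eq_of_finiteType {k A L : Type u} [Field k] [CommRing A] [Algebra k A] [Algebra.FiniteType k A]
    [Field L] [Algebra k L] (f : A →ₐ[k] L) (hf : Function.Injective f) (hL : ℵ₀ ≤ Algebra.trdeg k L) :
    (letI := f.toRingHom.toAlgebra; Algebra.trdeg A L) = Algebra.trdeg k L := by
  let _ := f.toRingHom.toAlgebra
  have : IsScalarTower k A L := IsScalarTower.of_algebraMap_eq fun c => (f.commutes c).symm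
  have : FaithfulSMul A L := (faithfulSMul_iff_algebraMap_injective A L).2 hf
  have : Nontrivial A := f.toRingHom.domain_nontrivial
  exact Cardinal.eq_of_add_eq_of_aleph0_le (trdeg_add_eq k A (A := L))
    (trdeg_lt_aleph0_of_finiteType.trans_le hL) hL

end Groth.Agent.CAlg6
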