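import Mathlib
import Groth.Agent.PBasis12.Field

/-!
Differentials at the closed point of a local ring of characteristic `p`.
-/

set_option autoImplicit false
set_option linter.unusedSectionVars false

universe u

open IsLocalRing TensorProduct EGA41

namespace Groth.Agent.CAlg6.ArtinCot

variable {A : Type u} [CommRing A] [IsLocalRing A] (p : ℕ) [Fact p.Prime] [CharP A p]

include p in
theorem charP_residue : CharP (ResidueField A) p :=
  (CharP.charP_iff_prime_eq_zero Fact.out).2 (by rw [← map_natCast (residue A), CharP.cast_eq_zero, map_zero])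

include p in
/-- The residue field lifts modulo the square of the maximal ideal. -/
theorem exists_section :
    ∃ σ : ResidueField A →+* A ⧸ maximalIdeal A ^ 2,
      ∀ x, ∃ a, Ideal.Quotient.mk _ a = σ x ∧ residue A a = x := by
  have := charP_residue (A := A) p
  let K := ResidueField A
  have hp : p.Prime := Fact.out
  let q := Ideal.Quotient.mk (maximalIdeal A ^ 2)
  have hcongr : ∀ a b : A, residue A a = residue A b → q (a ^ p) = q (b ^ p) := fun a b h => by
    rw [Ideal.Quotient.eq, ← sub_pow_char]
    have hm : a - b ∈ maximalIdeal A := (residue_eq_zero_iff _).1 (by rw [map_sub, h, sub_self])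
    exact Ideal.pow_le_pow_right hp.two_le (Ideal.pow_mem_pow hm p)
  let r : K → A := fun x => (residue_surjective x).choose
  have hr : ∀ x, residue A (r x) = x := fun x => (residue_surjective x).choose_spec
  let ψ : K →+* A ⧸ maximalIdeal A ^ 2 :=
    { toFun := fun x => q (r x ^ p)
      map_one' := by rw [hcongr (r 1) 1 (by rw [hr, map_one]), one_pow, map_one]
      map_mul' := fun x y => by
        rw [← map_mul, ← mul_pow]; exact hcongr _ _ (by rw [map_mul, hr, hr, hr])
      map_zero' := by rw [hcongr (r 0) 0 (by rw [hr, map_zero]), zero_pow hp.ne_zero, map_zero]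
      map_add' := fun x y => by
        rw [← map_add, ← add_pow_char]; exact hcongr _ _ (by rw [map_add, hr, hr, hr]) }
  let S := pPowerSubalgebra p (⊥ : Subfield K) K
  have hS : ∀ s : S, ∃ y : K, frobenius K p y = s := by
    intro s
    obtain ⟨z, hz⟩ := s
    induction hz using Algebra.adjoin_induction with
    | mem x hx => obtain ⟨y, rfl⟩ := hx; exact ⟨y, rfl⟩
    | algebraMap c => exact ⟨algebraMap _ K c, (Subfield.mem_bot_iff_pow_eq_self K p).1 c.2⟩
    | add x y _ _ hx hy => obtain ⟨a, ha⟩ := hx; obtain ⟨b, hb⟩ := hy; exact ⟨a + b, by rw [map_add, ha, hb]⟩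
    | mul x y _ _ hx hy => obtain ⟨a, ha⟩ := hx; obtain ⟨b, hb⟩ := hy; exact ⟨a * b, by rw [map_mul, ha, hb]⟩
  choose root hroot using hS
  have hroot_eq : ∀ (s : S) (y : K), frobenius K p y = s → root s = y := fun s y h =>
    (frobenius K p).injective ((hroot s).trans h.symm)
  let f : S →+* K :=
    { toFun := root
      map_one' := hroot_eq _ _ (map_one _)
      map_mul' := fun s t => hroot_eq _ _ (by rw [map_mul, hroot, hroot]; rfl)
      map_zero' := hroot_eq _ _ (map_zero _)
      map_add' := fun s t => hroot_eq _ _ (by rw [map_add, hroot, hroot]; rfl) }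
  let _ : Algebra S (A ⧸ maximalIdeal A ^ 2) := (ψ.comp f).toAlgebra
  let _ : Algebra S K := S.toAlgebra
  obtain ⟨B, -, -, hind, hgen⟩ := PBasis12.exists_pBasis_between (p := p) (k := (⊥ : Subfield K)) (K := K) Set.univ ∅
    (Set.empty_subset _) PBasis12.isPGenerating_univ PBasis12.isPIndependent_empty
  let s : B → S := fun i => ⟨(i : K) ^ p, PBasis12.pow_mem_pPower _⟩
  obtain ⟨v, hv, -⟩ := PBasis12.existsUnique_algHom (S := S) (B := K) (x := (Subtype.val : B → K)) (s := s)
    hind hgen (fun _ => rfl) (fun i : B => q (r i)) (fun i => by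
      show q (r (i : K)) ^ p = ψ (root (s i))
      rw [hroot_eq (s i) i rfl, ← map_pow]
      rfl)
  let π : A ⧸ maximalIdeal A ^ 2 →+* K :=
    Ideal.Quotient.lift _ (residue A) fun a ha => (residue_eq_zero_iff a).2 (Ideal.pow_le_self two_ne_zero ha)
  let _ : Algebra S K := S.toAlgebra
  let π' : A ⧸ maximalIdeal A ^ 2 →ₐ[S] K :=
    { π with
      commutes' := fun t => by
        show π (ψ (root t)) = (t : K)
        show residue A (r (root t) ^ p) = _
        rw [map_pow, hr, ← frobenius_def, hroot] }
  refine ⟨v.toRingHom, fun x => ?_⟩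
  obtain ⟨a, ha⟩ := Ideal.Quotient.mk_surjective (v x)
  refine ⟨a, ha, ?_⟩
  have hid : π'.comp v = AlgHom.id S K := by
    refine AlgHom.ext_of_adjoin_eq_top (PBasis12.adjoin_eq_top hgen) ?_
    rintro _ ⟨i, rfl⟩
    show π (v i) = (i : K)
    rw [hv]
    exact hr _
  have h := AlgHom.congr_fun hid x
  change π (v x) = x at h
  rw [← ha] at h
  exact h

/-- A derivation into a module killed by the maximal ideal detects `1 ⊗ D`. -/
theorem apply_eq_zero_of_tmul_D_eq_zero {M : Type u} [AddCommGroup M] [Module A M]
    (D : Derivation ℤ A M) (hM : ∀ a ∈ maximalIdeal A, ∀ b : A, a • D b = 0)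
    (f : A) (h : (1 : ResidueField A) ⊗ₜ[A] KaehlerDifferential.D ℤ A f = 0) : D f = 0 := by
  have h1 : KaehlerDifferential.D ℤ A f ∈ maximalIdeal A • (⊤ : Submodule A Ω[A⁄ℤ]) := by
    rw [← Submodule.Quotient.mk_eq_zero]
    have := congrArg (TensorProduct.quotTensorEquivQuotSMul Ω[A⁄ℤ] (maximalIdeal A)) h
    rw [show (1 : ResidueField A) = Ideal.Quotient.mk (maximalIdeal A) 1 from rfl] at this
    erw [TensorProduct.quotTensorEquivQuotSMul_mk_tmul, map_zero, one_smul] at this
    exact this
  have h2 : Submodule.map D.liftKaehlerDifferential (maximalIdeal A • ⊤) ≤ ⊥ := by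
    rw [Submodule.map_smul'']
    refine Submodule.smul_le.2 fun a ha z hz => ?_
    obtain ⟨w, -, rfl⟩ := hz
    have hw : w ∈ Submodule.span A (Set.range (KaehlerDifferential.D ℤ A)) :=
      (KaehlerDifferential.span_range_derivation ℤ A).symm ▸ trivial
    induction hw using Submodule.span_induction with
    | mem x hx => obtain ⟨b, rfl⟩ := hx; rw [Derivation.liftKaehlerDifferential_comp_D]; exact hM a ha b
    | zero => simp
    | add x y _ _ hx hy => rw [map_add, smul_add]; exact add_mem hx hy
    | smul c x _ hx => rw [map_smul, smul_comm]; exact Submodule.smul_mem _ c hx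
  have h3 := h2 (Submodule.mem_map_of_mem h1)
  rwa [Derivation.liftKaehlerDifferential_comp_D, Submodule.mem_bot] at h3

include p in
/-- `1 ⊗ Df` vanishes exactly for `p`-th powers modulo `m²`. -/
theorem tmul_D_eq_zero_iff (f : A) :
    (1 : ResidueField A) ⊗ₜ[A] KaehlerDifferential.D ℤ A f = 0 ↔ ∃ c, f - c ^ p ∈ maximalIdeal A ^ 2 := by
  have := charP_residue (A := A) p
  let K := ResidueField A
  constructor
  · intro h
    by_cases hf : ∃ y : K, y ^ p = residue A f
    · obtain ⟨y, hy⟩ := hf
      obtain ⟨c, rfl⟩ := residue_surjective y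
      refine ⟨c, ?_⟩
      have hg : f - c ^ p ∈ maximalIdeal A := (residue_eq_zero_iff _).1 (by rw [map_sub, map_pow, hy, sub_self])
      obtain ⟨σ, hσ⟩ := exists_section (A := A) p
      let q := Ideal.Quotient.mk (maximalIdeal A ^ 2)
      have hdiff : ∀ b, ∃ m ∈ maximalIdeal A, q m = q b - σ (residue A b) := fun b => by
        obtain ⟨a, ha, hab⟩ := hσ (residue A b)
        exact ⟨b - a, (residue_eq_zero_iff _).1 (by rw [map_sub, hab, sub_self]), by rw [map_sub, ha]⟩
      have hkill : ∀ a ∈ maximalIdeal A, ∀ b : A, a • (q b - σ (residue A b)) = 0 := fun a ha b => by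
        obtain ⟨m, hm, e⟩ := hdiff b
        rw [← e, Algebra.smul_def]
        show q a * q m = 0
        rw [← map_mul, Ideal.Quotient.eq_zero_iff_mem, pow_two]
        exact Ideal.mul_mem_mul ha hm
      have hσmul : ∀ a x : A, σ (residue A a) * (q x - σ (residue A x)) = a • (q x - σ (residue A x)) := fun a x => by
        obtain ⟨a', ha', hra⟩ := hσ (residue A a)
        have h0 := hkill (a' - a) ((residue_eq_zero_iff _).1 (by rw [map_sub, hra, sub_self])) x
        rw [sub_smul, sub_eq_zero] at h0
        rw [← h0, ← ha', Algebra.smul_def]; rfl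
      let D : Derivation ℤ A (A ⧸ maximalIdeal A ^ 2) := Derivation.mk'
        (AddMonoidHom.mk' (fun b => q b - σ (residue A b)) fun a b => by
          rw [map_add, map_add, map_add]; ring).toIntLinearMap
        fun a b => by
          show q (a * b) - σ (residue A (a * b)) = a • (q b - σ (residue A b)) + b • (q a - σ (residue A a))
          rw [← hσmul b a, map_mul, map_mul, map_mul, Algebra.smul_def]
          show _ = q a * _ + _
          ring
      have hD : D (f - c ^ p) = q (f - c ^ p) := by
        show q _ - σ (residue A _) = q _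
        rw [(residue_eq_zero_iff _).2 hg, map_zero, sub_zero]
      have h0 := apply_eq_zero_of_tmul_D_eq_zero D (fun a ha b => hkill a ha b) (f - c ^ p) (by
        rw [map_sub, Derivation.leibniz_pow, tmul_sub, h, ← Nat.cast_smul_eq_nsmul A, CharP.cast_eq_zero,
          zero_smul, tmul_zero, sub_zero])
      rw [hD] at h0
      exact Ideal.Quotient.eq_zero_iff_mem.1 h0
    · exfalso
      have hind : IsPIndependent p (⊥ : Subfield K) (fun _ : PUnit.{u+1} => residue A f) := by
        rw [PBasis12.isPIndependent_iff]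
        intro a ha
        rw [show {b : PUnit.{u+1} | b ≠ a} = ∅ from Set.eq_empty_of_forall_notMem fun b hb => hb rfl,
          Set.image_empty, Algebra.adjoin_empty] at ha
        obtain ⟨⟨z, hz⟩, hzf⟩ := Algebra.mem_bot.1 ha
        have hS : ∃ y : K, frobenius K p y = z := by
          clear hzf
          induction hz using Algebra.adjoin_induction with
          | mem x hx => obtain ⟨y, rfl⟩ := hx; exact ⟨y, rfl⟩
          | algebraMap c => exact ⟨algebraMap _ K c, (Subfield.mem_bot_iff_pow_eq_self K p).1 c.2⟩
          | add x y _ _ hx hy => obtain ⟨a, ha⟩ := hx; obtain ⟨b, hb⟩ := hy; exact ⟨a + b, by rw [map_add, ha, hb]⟩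
          | mul x y _ _ hx hy => obtain ⟨a, ha⟩ := hx; obtain ⟨b, hb⟩ := hy; exact ⟨a * b, by rw [map_mul, ha, hb]⟩
        obtain ⟨y, hy⟩ := hS
        exact hf ⟨y, by rw [← frobenius_def, hy]; exact hzf⟩
      have hne := ((PBasis12.isPIndependent_iff_D _).1 hind).ne_zero PUnit.unit
      let d := KaehlerDifferential.D (⊥ : Subfield K) K
      let D : Derivation ℤ A Ω[K⁄(⊥ : Subfield K)] := Derivation.mk'
        (AddMonoidHom.mk' (fun b => d (residue A b)) fun a b => by rw [map_add, map_add]).toIntLinearMap
        fun a b => by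
          show d (residue A (a * b)) = a • d (residue A b) + b • d (residue A a)
          rw [map_mul, Derivation.leibniz, ← algebraMap_smul K a, ← algebraMap_smul K b]
          rfl
      refine hne (apply_eq_zero_of_tmul_D_eq_zero D (fun a ha b => ?_) f h)
      rw [← algebraMap_smul K a (D b), show algebraMap A K a = 0 from (residue_eq_zero_iff a).2 ha, zero_smul]
  · rintro ⟨c, hc⟩
    have h2 : ∀ x ∈ maximalIdeal A ^ 2, (1 : K) ⊗ₜ[A] KaehlerDifferential.D ℤ A x = 0 := by
      intro x hx
      rw [pow_two] at hx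
      have hz : ∀ a ∈ maximalIdeal A, ∀ w : Ω[A⁄ℤ], (1 : K) ⊗ₜ[A] (a • w) = 0 := fun a ha w => by
        rw [← TensorProduct.smul_tmul, Algebra.smul_def, mul_one,
          show algebraMap A K a = 0 from (residue_eq_zero_iff a).2 ha, zero_tmul]
      induction hx using Submodule.mul_induction_on' with
      | mem_mul_mem a ha b hb => rw [Derivation.leibniz, tmul_add, hz a ha, hz b hb, add_zero]
      | add a _ b _ ha hb => rw [map_add, tmul_add, ha, hb, add_zero]
    have h3 := h2 _ hc
    rwa [map_sub, Derivation.leibniz_pow, ← Nat.cast_smul_eq_nsmul A, CharP.cast_eq_zero, zero_smul, sub_zero] at h3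

end Groth.Agent.CAlg6.ArtinCot
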