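import Groth.Agent.CAlg6.ArtinCotStep

/-!
Iterated extraction of `p`-th roots over an Artinian local ring.
-/

set_option autoImplicit false
set_option linter.unusedSectionVars false

universe u

open IsLocalRing TensorProduct

namespace Groth.Agent.CAlg6.ArtinCot

/-- The cotangent dimension only depends on the ring. -/
theorem finrank_cot_congr {R S : Type u} [CommRing R] [CommRing S] [IsLocalRing R] [IsLocalRing S] [IsNoetherianRing R]
    (e : R ≃+* S) :
    Module.finrank (ResidueField R) (CotangentSpace R) = Module.finrank (ResidueField S) (CotangentSpace S) := by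
  obtain ⟨t, ht, hsp, hind⟩ := exists_family (A := R)
  have hmax : (maximalIdeal R).map e.toRingHom = maximalIdeal S :=
    IsLocalRing.eq_maximalIdeal (Ideal.map_isMaximal_of_equiv e)
  have hmem : ∀ {a : R}, a ∈ maximalIdeal R → e a ∈ maximalIdeal S := fun h => hmax ▸ Ideal.mem_map_of_mem e.toRingHom h
  rw [finrank_cot_eq (fun i => e (t i)) (fun i => hmem (ht i)) ?_ ?_, Fintype.card_fin]
  · rw [← hmax, ← Ideal.map_pow]
    refine (Ideal.map_mono (f := e.toRingHom) hsp).trans ?_
    rw [Ideal.map_sup, Ideal.map_span, ← Set.range_comp]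
    rfl
  · intro c hc i
    have h' : ∑ j, e.symm (c j) * t j ∈ maximalIdeal R ^ 2 := by
      rw [← hmax, ← Ideal.map_pow] at hc
      obtain ⟨y, hy, hye⟩ := (Ideal.mem_map_iff_of_surjective e.toRingHom e.surjective).1 hc
      have e1 : y = ∑ j, e.symm (c j) * t j := e.injective (by rw [show e y = _ from hye, map_sum]; simp)
      exact e1 ▸ hy
    simpa using hmem (hind _ h' i)

/-- A derivation killing `f` extends to `A[X]/(X ^ p - f)`. -/
theorem exists_derivation_extension {A : Type u} [CommRing A] (p : ℕ) (_hp : 0 < p) (f : A) {L : Type u} [Field L] [CharP L p]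
    [Algebra A L] [Algebra (AdjoinRoot (Polynomial.X ^ p - Polynomial.C f : Polynomial A)) L]
    [IsScalarTower A (AdjoinRoot (Polynomial.X ^ p - Polynomial.C f : Polynomial A)) L]
    (d : Derivation ℤ A L) (hd : d f = 0) :
    ∃ d₁ : Derivation ℤ (AdjoinRoot (Polynomial.X ^ p - Polynomial.C f : Polynomial A)) L,
      ∀ a, d₁ (algebraMap A _ a) = d a := by
  open Polynomial in
  let A₁ := AdjoinRoot (X ^ p - C f : A[X])
  let π₀ : A →+* TrivSqZeroExt L L :=
    { toFun := fun a => TrivSqZeroExt.inl (algebraMap A L a) + TrivSqZeroExt.inr (d a)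
      map_one' := by ext <;> simp
      map_zero' := by ext <;> simp
      map_add' := fun a b => by ext <;> simp
      map_mul' := fun a b => by
        ext
        · simp
        · simp only [TrivSqZeroExt.snd_add, TrivSqZeroExt.snd_mul, TrivSqZeroExt.fst_add, TrivSqZeroExt.snd_inl,
            TrivSqZeroExt.snd_inr, TrivSqZeroExt.fst_inl, TrivSqZeroExt.fst_inr, zero_add, add_zero, map_mul,
            op_smul_eq_smul, Derivation.leibniz, smul_eq_mul]
          rw [← algebraMap_smul L a, ← algebraMap_smul L b]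
          simp only [smul_eq_mul] }
  have hroot : algebraMap A₁ L (AdjoinRoot.root _) ^ p = algebraMap A L f := by
    have h := AdjoinRoot.aeval_eq (f := (Polynomial.X ^ p - Polynomial.C f : Polynomial A)) (Polynomial.X ^ p - Polynomial.C f)
    rw [AdjoinRoot.mk_self, map_sub, map_pow, Polynomial.aeval_X, Polynomial.aeval_C] at h
    rw [← map_pow, sub_eq_zero.1 h, ← IsScalarTower.algebraMap_apply]
  let π : A₁ →+* TrivSqZeroExt L L := AdjoinRoot.lift π₀ (TrivSqZeroExt.inl (algebraMap A₁ L (AdjoinRoot.root _))) (by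
    rw [Polynomial.eval₂_sub, Polynomial.eval₂_X_pow, Polynomial.eval₂_C, sub_eq_zero]
    erw [TrivSqZeroExt.inl_pow, hroot]
    show _ = TrivSqZeroExt.inl (algebraMap A L f) + TrivSqZeroExt.inr (d f)
    rw [hd, TrivSqZeroExt.inr_zero, add_zero])
  have hπa : ∀ a, π (algebraMap A A₁ a) = π₀ a := fun a => AdjoinRoot.lift_of _
  have hfst : ∀ z, (π z).fst = algebraMap A₁ L z := by
    have h : (TrivSqZeroExt.fstHom L L L).toRingHom.comp π = algebraMap A₁ L := by
      refine Ideal.Quotient.ringHom_ext (Polynomial.ringHom_ext (fun a => ?_) ?_)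
      · show (π (algebraMap A A₁ a)).fst = algebraMap A₁ L (algebraMap A A₁ a)
        rw [hπa, ← IsScalarTower.algebraMap_apply]
        show (TrivSqZeroExt.inl _ + TrivSqZeroExt.inr _ : TrivSqZeroExt L L).fst = _
        simp
      · show (π (AdjoinRoot.root _)).fst = _
        rw [AdjoinRoot.lift_root]
        rfl
    exact fun z => RingHom.congr_fun h z
  refine ⟨Derivation.mk' (AddMonoidHom.mk' (fun z => (π z).snd) fun a b => by rw [map_add]; rfl).toIntLinearMap
    (fun a b => ?_), fun a => ?_⟩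
  · show (π (a * b)).snd = a • (π b).snd + b • (π a).snd
    rw [map_mul, TrivSqZeroExt.snd_mul, hfst, hfst, op_smul_eq_smul, ← algebraMap_smul L a (π b).snd,
      ← algebraMap_smul L b (π a).snd]
  · show (π (algebraMap A A₁ a)).snd = d a
    rw [hπa]
    show (TrivSqZeroExt.inl _ + TrivSqZeroExt.inr _ : TrivSqZeroExt L L).snd = _
    simp

/-- The kernel of `L ⊗ Ω[A] → L ⊗ Ω[A₁]` if derivations killing `f` extend. -/
theorem mem_span_of_map_eq_zero {A A₁ : Type u} [CommRing A] [CommRing A₁] [Algebra A A₁] {L : Type u} [Field L]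
    [Algebra A L] [Algebra A₁ L] [IsScalarTower A A₁ L] (f : A)
    (hext : ∀ d : Derivation ℤ A L, d f = 0 → ∃ d₁ : Derivation ℤ A₁ L, ∀ a, d₁ (algebraMap A A₁ a) = d a)
    (φ : L ⊗[A] Ω[A⁄ℤ] →ₗ[L] L ⊗[A₁] Ω[A₁⁄ℤ])
    (hφ : ∀ a, φ ((1 : L) ⊗ₜ KaehlerDifferential.D ℤ A a) = (1 : L) ⊗ₜ[A₁] KaehlerDifferential.D ℤ A₁ (algebraMap A A₁ a))
    (z : L ⊗[A] Ω[A⁄ℤ]) (hz : φ z = 0) : z ∈ L ∙ ((1 : L) ⊗ₜ[A] KaehlerDifferential.D ℤ A f) := by
  by_contra hzs
  obtain ⟨ℓ, hℓz, hℓs⟩ := Submodule.exists_dual_map_eq_bot_of_notMem hzs inferInstance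
  have hℓ0 : ℓ ((1 : L) ⊗ₜ[A] KaehlerDifferential.D ℤ A f) = 0 := by
    have h := Submodule.mem_map_of_mem (f := ℓ) (Submodule.mem_span_singleton_self (R := L) ((1 : L) ⊗ₜ[A] KaehlerDifferential.D ℤ A f))
    rw [hℓs] at h
    exact h
  obtain ⟨d₁, hd₁⟩ := hext (((ℓ.restrictScalars A).comp (TensorProduct.mk A L Ω[A⁄ℤ] 1)).compDer (KaehlerDifferential.D ℤ A)) hℓ0
  let ℓ₁ : L ⊗[A₁] Ω[A₁⁄ℤ] →ₗ[L] L := LinearMap.liftBaseChange L d₁.liftKaehlerDifferential
  have hcomp : ℓ₁.comp φ = ℓ := by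
    refine TensorProduct.AlgebraTensorModule.ext fun c ω => ?_
    have hω : ω ∈ Submodule.span A (Set.range (KaehlerDifferential.D ℤ A)) :=
      (KaehlerDifferential.span_range_derivation ℤ A).symm ▸ trivial
    induction hω using Submodule.span_induction generalizing c with
    | mem x hx =>
      obtain ⟨a, rfl⟩ := hx
      rw [show c ⊗ₜ[A] KaehlerDifferential.D ℤ A a = c • ((1 : L) ⊗ₜ[A] KaehlerDifferential.D ℤ A a) by
        rw [TensorProduct.smul_tmul', smul_eq_mul, mul_one], map_smul, map_smul]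
      congr 1
      show ℓ₁ (φ _) = _
      rw [hφ, LinearMap.liftBaseChange_tmul, one_smul, Derivation.liftKaehlerDifferential_comp_D, hd₁]
      rfl
    | zero => simp
    | add x y _ _ hx hy => rw [tmul_add, map_add, map_add, hx, hy]
    | smul b x _ hx => rw [← smul_tmul]; exact hx _
  exact hℓz (by rw [← hcomp, LinearMap.comp_apply, hz, map_zero])

open Polynomial in
/-- Differentials after adjoining a `p`-th root of `f` with `Df ≠ 0` at the closed point. -/
theorem li_transfer {A : Type u} [CommRing A] [IsLocalRing A] [IsNoetherianRing A] (p : ℕ) [hp : Fact p.Prime]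
    [CharP A p] (f : A) [IsLocalRing (AdjoinRoot (X ^ p - C f : A[X]))]
    (hne : (1 : ResidueField A) ⊗ₜ[A] KaehlerDifferential.D ℤ A f ≠ 0) {n : ℕ} (g : Fin n → A) :
    LinearIndependent (ResidueField (AdjoinRoot (X ^ p - C f : A[X])))
        (fun i => (1 : ResidueField (AdjoinRoot (X ^ p - C f : A[X]))) ⊗ₜ[AdjoinRoot (X ^ p - C f : A[X])]
          KaehlerDifferential.D ℤ (AdjoinRoot (X ^ p - C f : A[X])) (algebraMap A (AdjoinRoot (X ^ p - C f : A[X])) (g i))) ↔
      LinearIndependent (ResidueField A)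
        (fun i => (1 : ResidueField A) ⊗ₜ[A] KaehlerDifferential.D ℤ A ((Fin.cons f g : Fin (n + 1) → A) i)) := by
  classical
  let A₁ := AdjoinRoot (X ^ p - C f : A[X])
  let K := ResidueField A
  let K₁ := ResidueField A₁
  let ι := algebraMap A A₁
  have := finite_adjoinRoot p f
  have := charP_adjoinRoot p f
  have hloc : IsLocalHom ι := ⟨fun a ha => by
    by_contra h
    exact (mem_maximalIdeal _).1 (map_maximalIdeal_le p f (Ideal.mem_map_of_mem _ ((mem_maximalIdeal a).2 h))) ha⟩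
  have : IsScalarTower A K K₁ := IsScalarTower.of_algebraMap_eq fun a => rfl
  let v : Fin (n + 1) → K ⊗[A] Ω[A⁄ℤ] := fun i => (1 : K) ⊗ₜ KaehlerDifferential.D ℤ A ((Fin.cons f g : Fin (n + 1) → A) i)
  let w : Fin (n + 1) → K₁ ⊗[A] Ω[A⁄ℤ] := fun i => (1 : K₁) ⊗ₜ KaehlerDifferential.D ℤ A ((Fin.cons f g : Fin (n + 1) → A) i)
  let E := TensorProduct.AlgebraTensorModule.cancelBaseChange A K K₁ K₁ Ω[A⁄ℤ]
  have hw : w = fun i => E ((1 : K₁) ⊗ₜ[K] v i) := funext fun i => by simp [E, v, w]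
  have hvw : LinearIndependent K₁ w ↔ LinearIndependent K v := by
    refine ⟨fun h => ?_, fun h => ?_⟩
    · have h2 : LinearIndependent K w := h.restrict_scalars (by
        intro a b hab
        simp only [Algebra.smul_def, mul_one] at hab
        exact (algebraMap K K₁).injective hab)
      let Λ : K ⊗[A] Ω[A⁄ℤ] →ₗ[K] K₁ ⊗[A] Ω[A⁄ℤ] :=
        TensorProduct.AlgebraTensorModule.map (Algebra.linearMap K K₁) LinearMap.id
      have e : w = Λ ∘ v := funext fun i => by simp [w, v, Λ]
      exact (e ▸ h2).of_comp Λ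
    · rw [hw]
      exact (Module.Flat.linearIndependent_one_tmul (S := K₁) h).map' E.toLinearMap E.ker
  show _ ↔ LinearIndependent K v
  rw [← hvw]
  let φ : K₁ ⊗[A] Ω[A⁄ℤ] →ₗ[K₁] K₁ ⊗[A₁] Ω[A₁⁄ℤ] := LinearMap.liftBaseChange K₁
    (((TensorProduct.mk A₁ K₁ Ω[A₁⁄ℤ] 1).restrictScalars A).comp (KaehlerDifferential.map ℤ ℤ A A₁))
  have hφ : ∀ a, φ ((1 : K₁) ⊗ₜ KaehlerDifferential.D ℤ A a) = (1 : K₁) ⊗ₜ[A₁] KaehlerDifferential.D ℤ A₁ (ι a) := fun a => by
    simp [φ, ι]
  have hw0 : w 0 ≠ 0 := fun h0 => by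
    have hv0 : LinearIndependent K (fun _ : Unit => v 0) := .of_subsingleton () hne
    have h1 := ((Module.Flat.linearIndependent_one_tmul (S := K₁) hv0).map' E.toLinearMap E.ker).ne_zero ()
    exact h1 (by rw [hw] at h0; exact h0)
  have hker : LinearMap.ker φ = K₁ ∙ w 0 := by
    refine le_antisymm (fun z hz => ?_) ((Submodule.span_singleton_le_iff_mem _ _).2 ?_)
    · exact mem_span_of_map_eq_zero f (fun d hd => by
        have : CharP K₁ p := charP_residue (A := A₁) p
        exact exists_derivation_extension p hp.out.pos f d hd) φ hφ z hz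
    · show φ ((1 : K₁) ⊗ₜ KaehlerDifferential.D ℤ A f) = 0
      rw [hφ, ← root_pow p f, Derivation.leibniz_pow, ← Nat.cast_smul_eq_nsmul A₁, CharP.cast_eq_zero,
        zero_smul, tmul_zero]
  have hcons : w = Fin.cons (w 0) (fun i => w i.succ) := (Fin.cons_self_tail w).symm
  have hfun : (fun i => (1 : K₁) ⊗ₜ[A₁] KaehlerDifferential.D ℤ A₁ (ι (g i))) = φ ∘ fun i => w i.succ :=
    funext fun i => by simp [w, hφ]
  show LinearIndependent K₁ (fun i => (1 : K₁) ⊗ₜ[A₁] KaehlerDifferential.D ℤ A₁ (ι (g i))) ↔ _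
  rw [hfun, hcons, linearIndependent_finCons]
  constructor
  · intro h
    refine ⟨h.of_comp φ, fun hmem => hw0 ?_⟩
    obtain ⟨c, hc⟩ := (Submodule.mem_span_range_iff_exists_fun K₁).1 hmem
    have h0 : φ (w 0) = 0 := by
      have : w 0 ∈ LinearMap.ker φ := hker ▸ Submodule.mem_span_singleton_self _
      exact this
    rw [← hc, map_sum] at h0
    simp only [map_smul] at h0
    have hc0 := Fintype.linearIndependent_iff.1 h c h0
    rw [← hc]
    simp [hc0]
  · rintro ⟨hli, hnot⟩
    refine (LinearMap.linearIndependent_iff_of_disjoint φ ?_).2 hli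
    rw [hker]
    exact (Submodule.disjoint_span_singleton' hw0).2 hnot

/-- The relations `X_i ^ p - f_i`. -/
noncomputable abbrev relIdeal {A : Type u} [CommRing A] (p : ℕ) {r : ℕ} (f : Fin r → A) : Ideal (MvPolynomial (Fin r) A) :=
  Ideal.span (Set.range fun i => MvPolynomial.X i ^ p - MvPolynomial.C (f i))

open Polynomial in
/-- Peeling off the first root. -/
theorem exists_equiv_cons {A : Type u} [CommRing A] (p : ℕ) {r : ℕ} (f : Fin (r + 1) → A) :
    Nonempty ((MvPolynomial (Fin (r + 1)) A ⧸ relIdeal p f) ≃+*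
      (MvPolynomial (Fin r) (AdjoinRoot (X ^ p - C (f 0) : A[X])) ⧸
        relIdeal p (fun i => algebraMap A (AdjoinRoot (X ^ p - C (f 0) : A[X])) (f i.succ)))) := by
  let A₁ := AdjoinRoot (X ^ p - C (f 0) : A[X])
  let I₁ := relIdeal p (fun i => algebraMap A A₁ (f i.succ))
  let I := relIdeal p f
  have hroot : (AdjoinRoot.root _ : A₁) ^ p = algebraMap A A₁ (f 0) := by
    have h := AdjoinRoot.aeval_eq (f := (X ^ p - C (f 0) : A[X])) (X ^ p - C (f 0))
    rw [AdjoinRoot.mk_self, map_sub, map_pow, Polynomial.aeval_X, Polynomial.aeval_C] at h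
    exact sub_eq_zero.1 h
  let q₁ := Ideal.Quotient.mk I₁
  let q := Ideal.Quotient.mk I
  have hI₁ : ∀ i : Fin r, q₁ (MvPolynomial.X i) ^ p = q₁ (MvPolynomial.C (algebraMap A A₁ (f i.succ))) := fun i => by
    rw [← map_pow, Ideal.Quotient.eq]; exact Ideal.subset_span ⟨i, rfl⟩
  have hI : ∀ i, q (MvPolynomial.X i) ^ p = q (MvPolynomial.C (f i)) := fun i => by
    rw [← map_pow, Ideal.Quotient.eq]; exact Ideal.subset_span ⟨i, rfl⟩
  let F : (MvPolynomial (Fin (r + 1)) A ⧸ I) →+* MvPolynomial (Fin r) A₁ ⧸ I₁ :=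
    Ideal.Quotient.lift I (MvPolynomial.eval₂Hom ((q₁.comp MvPolynomial.C).comp (algebraMap A A₁))
      (Fin.cons (q₁ (MvPolynomial.C (AdjoinRoot.root _))) fun i => q₁ (MvPolynomial.X i))) (by
      intro z hz
      refine RingHom.mem_ker.1 (SetLike.le_def.1 (Ideal.span_le.2 ?_) hz)
      rintro _ ⟨i, rfl⟩
      rw [SetLike.mem_coe, RingHom.mem_ker, map_sub, map_pow, MvPolynomial.eval₂Hom_X', MvPolynomial.eval₂Hom_C, sub_eq_zero]
      induction i using Fin.cases with
      | zero => rw [Fin.cons_zero, ← map_pow, ← map_pow, hroot]; rfl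
      | succ j => rw [Fin.cons_succ, hI₁]; rfl)
  let g : A₁ →+* MvPolynomial (Fin (r + 1)) A ⧸ I := AdjoinRoot.lift (q.comp MvPolynomial.C) (q (MvPolynomial.X 0)) (by
    rw [eval₂_sub, eval₂_X_pow, eval₂_C, hI, RingHom.comp_apply, sub_self])
  let G : (MvPolynomial (Fin r) A₁ ⧸ I₁) →+* MvPolynomial (Fin (r + 1)) A ⧸ I :=
    Ideal.Quotient.lift I₁ (MvPolynomial.eval₂Hom g fun i => q (MvPolynomial.X i.succ)) (by
      intro z hz
      refine RingHom.mem_ker.1 (SetLike.le_def.1 (Ideal.span_le.2 ?_) hz)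
      rintro _ ⟨i, rfl⟩
      rw [SetLike.mem_coe, RingHom.mem_ker, map_sub, map_pow, MvPolynomial.eval₂Hom_X', MvPolynomial.eval₂Hom_C, sub_eq_zero, hI]
      rw [show g (algebraMap A A₁ (f i.succ)) = (q.comp MvPolynomial.C) (f i.succ) from AdjoinRoot.lift_of _]; rfl)
  have hg1 : ∀ a, g (algebraMap A A₁ a) = q (MvPolynomial.C a) := fun a => AdjoinRoot.lift_of _
  have hg2 : g (AdjoinRoot.root _) = q (MvPolynomial.X 0) := AdjoinRoot.lift_root _
  have hG1 : ∀ b, G (q₁ (MvPolynomial.C b)) = g b := fun b => by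
    show MvPolynomial.eval₂Hom g _ (MvPolynomial.C b) = _; exact MvPolynomial.eval₂Hom_C _ _ _
  have hG2 : ∀ i, G (q₁ (MvPolynomial.X i)) = q (MvPolynomial.X i.succ) := fun i => by
    show MvPolynomial.eval₂Hom g _ (MvPolynomial.X i) = _; exact MvPolynomial.eval₂Hom_X' _ _ _
  have hF1 : ∀ a, F (q (MvPolynomial.C a)) = q₁ (MvPolynomial.C (algebraMap A A₁ a)) := fun a => by
    show MvPolynomial.eval₂Hom _ _ (MvPolynomial.C a) = _; rw [MvPolynomial.eval₂Hom_C]; rfl
  have hF2 : ∀ i, F (q (MvPolynomial.X i)) =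
      (Fin.cons (q₁ (MvPolynomial.C (AdjoinRoot.root _))) (fun i => q₁ (MvPolynomial.X i)) : Fin (r + 1) → _) i := fun i => by
    show MvPolynomial.eval₂Hom _ _ (MvPolynomial.X i) = _; exact MvPolynomial.eval₂Hom_X' _ _ _
  have hGF : G.comp F = RingHom.id _ := by
    refine Ideal.Quotient.ringHom_ext (MvPolynomial.ringHom_ext (fun a => ?_) fun i => ?_)
    · show G (F (q (MvPolynomial.C a))) = q (MvPolynomial.C a)
      rw [hF1, hG1, hg1]
    · show G (F (q (MvPolynomial.X i))) = q (MvPolynomial.X i)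
      rw [hF2]
      induction i using Fin.cases with
      | zero => rw [Fin.cons_zero, hG1, hg2]
      | succ j => rw [Fin.cons_succ, hG2]
  have hFG : F.comp G = RingHom.id _ := by
    refine Ideal.Quotient.ringHom_ext (MvPolynomial.ringHom_ext (fun a => ?_) fun i => ?_)
    · have h : F.comp g = q₁.comp MvPolynomial.C := by
        refine Ideal.Quotient.ringHom_ext (Polynomial.ringHom_ext (fun a => ?_) ?_)
        · show F (g (algebraMap A A₁ a)) = q₁ (MvPolynomial.C (algebraMap A A₁ a))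
          rw [hg1, hF1]
        · show F (g (AdjoinRoot.root _)) = q₁ (MvPolynomial.C (AdjoinRoot.root _))
          rw [hg2, hF2, Fin.cons_zero]
      show F (G (q₁ (MvPolynomial.C a))) = q₁ (MvPolynomial.C a)
      rw [hG1]
      exact RingHom.congr_fun h a
    · show F (G (q₁ (MvPolynomial.X i))) = q₁ (MvPolynomial.X i)
      rw [hG2, hF2, Fin.cons_succ]
  exact ⟨RingEquiv.ofRingHom F G hFG hGF⟩

/-- The main induction. -/
theorem main (r : ℕ) : ∀ (A : Type u) [CommRing A] [IsLocalRing A] [IsArtinianRing A] (p : ℕ) [Fact p.Prime] [CharP A p]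
    (f : Fin r → A), ∃ _ : IsLocalRing (MvPolynomial (Fin r) A ⧸ relIdeal p f),
      Module.finrank (ResidueField A) (CotangentSpace A) ≤
          Module.finrank (ResidueField (MvPolynomial (Fin r) A ⧸ relIdeal p f)) (CotangentSpace (MvPolynomial (Fin r) A ⧸ relIdeal p f)) ∧
        (Module.finrank (ResidueField A) (CotangentSpace A) =
            Module.finrank (ResidueField (MvPolynomial (Fin r) A ⧸ relIdeal p f)) (CotangentSpace (MvPolynomial (Fin r) A ⧸ relIdeal p f)) ↔
          LinearIndependent (ResidueField A) (fun i => (1 : ResidueField A) ⊗ₜ[A] KaehlerDifferential.D ℤ A (f i))) := by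
  induction r with
  | zero =>
    intro A _ _ _ p _ _ f
    let e : (MvPolynomial (Fin 0) A ⧸ relIdeal p f) ≃+* A :=
      ((Ideal.quotEquivOfEq (show relIdeal p f = ⊥ by simp [relIdeal, Set.range_eq_empty])).trans (RingEquiv.quotientBot _)).trans
        (MvPolynomial.isEmptyRingEquiv A (Fin 0))
    have hloc : IsLocalRing (MvPolynomial (Fin 0) A ⧸ relIdeal p f) := e.symm.isLocalRing
    refine ⟨hloc, (finrank_cot_congr e.symm).le, iff_of_true (finrank_cot_congr e.symm) linearIndependent_empty_type⟩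
  | succ r ih =>
    intro A _ _ _ p _ _ f
    have hloc₁ := isLocalRing_adjoinRoot p (f 0)
    have := finite_adjoinRoot p (f 0)
    have := charP_adjoinRoot p (f 0)
    have hart : IsArtinianRing (AdjoinRoot (Polynomial.X ^ p - Polynomial.C (f 0) : Polynomial A)) := IsArtinianRing.of_finite A _
    obtain ⟨e⟩ := exists_equiv_cons p f
    obtain ⟨hlocB, hle, hiff⟩ := ih _ p fun i => algebraMap A (AdjoinRoot (Polynomial.X ^ p - Polynomial.C (f 0) : Polynomial A)) (f i.succ)
    have hloc : IsLocalRing (MvPolynomial (Fin (r + 1)) A ⧸ relIdeal p f) := e.symm.isLocalRing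
    have : IsNoetherianRing (MvPolynomial (Fin (r + 1)) A ⧸ relIdeal p f) := inferInstance
    have hdim := finrank_cot_congr e
    obtain ⟨hstep, hstepiff⟩ := step p (f 0)
    refine ⟨hloc, by omega, ?_⟩
    rw [hdim]
    constructor
    · intro h
      have h1 := le_antisymm hstep (by omega)
      have hne : (1 : ResidueField A) ⊗ₜ[A] KaehlerDifferential.D ℤ A (f 0) ≠ 0 := fun h0 =>
        hstepiff.1 h1 ((tmul_D_eq_zero_iff p (f 0)).1 h0)
      have := (li_transfer p (f 0) hne (fun i => f i.succ)).1 (hiff.1 (by omega))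
      rwa [show (Fin.cons (f 0) fun i => f i.succ : Fin (r + 1) → A) = f from Fin.cons_self_tail f] at this
    · intro h
      have hne := h.ne_zero 0
      have h1 := hstepiff.2 fun hc => hne ((tmul_D_eq_zero_iff p (f 0)).2 hc)
      have h2 := hiff.2 ((li_transfer p (f 0) hne (fun i => f i.succ)).2 (by
        rw [show (Fin.cons (f 0) fun i => f i.succ : Fin (r + 1) → A) = f from Fin.cons_self_tail f]; exact h))
      omega

end Groth.Agent.CAlg6.ArtinCot
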