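import Groth.Agent.CAlg6.ArtinCot

/-!
The cotangent space after extracting a `p`-th root.
-/

set_option autoImplicit false
set_option linter.unusedSectionVars false

universe u

open IsLocalRing TensorProduct Polynomial

namespace Groth.Agent.CAlg6.ArtinCot

variable {A : Type u} [CommRing A] [IsLocalRing A]

theorem finrank_cot_eq {ι : Type*} [Fintype ι] (t : ι → A) (ht : ∀ i, t i ∈ maximalIdeal A)
    (hspan : maximalIdeal A ≤ Ideal.span (Set.range t) ⊔ maximalIdeal A ^ 2)
    (hind : ∀ c : ι → A, ∑ i, c i * t i ∈ maximalIdeal A ^ 2 → ∀ i, c i ∈ maximalIdeal A) :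
    Module.finrank (ResidueField A) (CotangentSpace A) = Fintype.card ι := by
  set m := maximalIdeal A
  let v : ι → CotangentSpace A := fun i => m.toCotangent ⟨t i, ht i⟩
  have hli : LinearIndependent (ResidueField A) v := by
    rw [Fintype.linearIndependent_iff]
    intro g hg i
    choose c hc using fun i => residue_surjective (g i)
    have h : m.toCotangent (∑ i, c i • (⟨t i, ht i⟩ : m)) = 0 := by
      rw [map_sum, ← hg]
      exact Finset.sum_congr rfl fun i _ => by rw [map_smul, ← hc i]; exact (algebraMap_smul _ _ _).symm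
    rw [Ideal.toCotangent_eq_zero] at h
    rw [← hc i]
    refine (residue_eq_zero_iff _).2 (hind c ?_ i)
    simpa using h
  have hsp : Submodule.span (ResidueField A) (Set.range v) = ⊤ := by
    rw [eq_top_iff]
    intro x _
    obtain ⟨⟨a, ha⟩, rfl⟩ := m.toCotangent_surjective x
    obtain ⟨b, hb, c, hc, rfl⟩ := Submodule.mem_sup.1 (hspan ha)
    obtain ⟨d, rfl⟩ := Ideal.mem_span_range_iff_exists_fun.1 hb
    have e : m.toCotangent ⟨(∑ i, d i * t i) + c, ha⟩ = m.toCotangent (∑ i, d i • (⟨t i, ht i⟩ : m)) := by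
      rw [Ideal.toCotangent_eq]; simpa using hc
    rw [e, map_sum]
    refine sum_mem fun i _ => ?_
    rw [map_smul, ← algebraMap_smul (ResidueField A) (d i)]
    exact Submodule.smul_mem _ _ (Submodule.subset_span ⟨i, rfl⟩)
  rw [Module.finrank_eq_card_basis (Module.Basis.mk hli hsp.ge)]

theorem props_of_basis {ι : Type*} [Fintype ι] (b : Module.Basis ι (ResidueField A) (CotangentSpace A))
    (t : ι → A) (ht : ∀ i, t i ∈ maximalIdeal A) (hb : ∀ i, (maximalIdeal A).toCotangent ⟨t i, ht i⟩ = b i) :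
    maximalIdeal A ≤ Ideal.span (Set.range t) ⊔ maximalIdeal A ^ 2 ∧
      ∀ c : ι → A, ∑ i, c i * t i ∈ maximalIdeal A ^ 2 → ∀ i, c i ∈ maximalIdeal A := by
  set m := maximalIdeal A
  refine ⟨fun a ha => ?_, fun c hc i => ?_⟩
  · choose d hd using fun i => residue_surjective (b.repr (m.toCotangent ⟨a, ha⟩) i)
    have e : m.toCotangent ⟨a, ha⟩ = m.toCotangent (∑ i, d i • (⟨t i, ht i⟩ : m)) := by
      rw [map_sum]
      conv_lhs => rw [← b.sum_repr (m.toCotangent ⟨a, ha⟩)]
      exact Finset.sum_congr rfl fun i _ => by rw [map_smul, hb, ← hd i]; exact algebraMap_smul _ _ _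
    rw [Ideal.toCotangent_eq] at e
    have e' : a - ∑ i, d i * t i ∈ m ^ 2 := by simpa using e
    exact Submodule.mem_sup.2 ⟨_, Ideal.mem_span_range_iff_exists_fun.2 ⟨d, rfl⟩, _, e', by ring⟩
  · have h : m.toCotangent (∑ i, c i • (⟨t i, ht i⟩ : m)) = 0 := by
      rw [Ideal.toCotangent_eq_zero]; simpa using hc
    rw [map_sum] at h
    refine (residue_eq_zero_iff _).1 (Fintype.linearIndependent_iff.1 b.linearIndependent (fun i => residue A (c i)) ?_ i)
    rw [← h]
    exact Finset.sum_congr rfl fun i _ => by rw [map_smul, hb]; exact algebraMap_smul _ _ _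

theorem exists_family [IsNoetherianRing A] :
    ∃ t : Fin (Module.finrank (ResidueField A) (CotangentSpace A)) → A, (∀ i, t i ∈ maximalIdeal A) ∧
      maximalIdeal A ≤ Ideal.span (Set.range t) ⊔ maximalIdeal A ^ 2 ∧
      ∀ c : Fin _ → A, ∑ i, c i * t i ∈ maximalIdeal A ^ 2 → ∀ i, c i ∈ maximalIdeal A := by
  let b := Module.finBasis (ResidueField A) (CotangentSpace A)
  choose u hu using fun i => (maximalIdeal A).toCotangent_surjective (b i)
  exact ⟨fun i => u i, fun i => (u i).2, props_of_basis b _ (fun i => (u i).2) hu⟩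

theorem exists_family_containing [IsNoetherianRing A] (g : A) (hg : g ∈ maximalIdeal A) (hg2 : g ∉ maximalIdeal A ^ 2) :
    ∃ (n : ℕ) (t : Fin (n + 1) → A), (∀ i, t i ∈ maximalIdeal A) ∧ t 0 = g ∧
      n + 1 = Module.finrank (ResidueField A) (CotangentSpace A) ∧
      maximalIdeal A ≤ Ideal.span (Set.range t) ⊔ maximalIdeal A ^ 2 ∧
      ∀ c : Fin (n + 1) → A, ∑ i, c i * t i ∈ maximalIdeal A ^ 2 → ∀ i, c i ∈ maximalIdeal A := by
  classical
  set m := maximalIdeal A
  set z := m.toCotangent ⟨g, hg⟩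
  have hz : z ≠ 0 := fun h => hg2 ((Ideal.toCotangent_eq_zero m ⟨g, hg⟩).1 h)
  have hli : LinearIndepOn (ResidueField A) id ({z} : Set (CotangentSpace A)) := .singleton hz
  let bs := Module.Basis.extend hli
  have hzmem : z ∈ hli.extend (Set.subset_univ _) := hli.subset_extend _ rfl
  have : Fintype (hli.extend (Set.subset_univ ({z} : Set (CotangentSpace A)))) := FiniteDimensional.fintypeBasisIndex bs
  obtain ⟨n, hn⟩ : ∃ n, Fintype.card (hli.extend (Set.subset_univ ({z} : Set (CotangentSpace A)))) = n + 1 :=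
    Nat.exists_eq_add_one.2 (Fintype.card_pos_iff.2 ⟨⟨z, hzmem⟩⟩)
  let e0 := (Fintype.equivFinOfCardEq hn).symm
  let e := (Equiv.swap 0 (e0.symm ⟨z, hzmem⟩)).trans e0
  have he : e 0 = ⟨z, hzmem⟩ := by simp [e]
  let b := bs.reindex e.symm
  have hb : ∀ i, b i = (e i : CotangentSpace A) := fun i => by
    rw [Module.Basis.reindex_apply, Equiv.symm_symm]; exact Module.Basis.extend_apply_self hli _
  choose u hu using fun i => m.toCotangent_surjective (b i)
  let t : Fin (n + 1) → A := fun i => if i = 0 then g else u i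
  have ht : ∀ i, t i ∈ m := fun i => by by_cases h : i = 0 <;> simp [t, h, hg]
  have htb : ∀ i, m.toCotangent ⟨t i, ht i⟩ = b i := fun i => by
    by_cases h : i = 0
    · subst h
      rw [hb, he]
      exact congrArg m.toCotangent (Subtype.ext (by simp [t]))
    · rw [← hu i]
      exact congrArg m.toCotangent (Subtype.ext (by simp [t, h]))
  refine ⟨n, t, ht, if_pos rfl, ?_, props_of_basis b t ht htb⟩
  rw [Module.finrank_eq_card_basis b, Fintype.card_fin]

variable [IsNoetherianRing A] (p : ℕ) [hp : Fact p.Prime] [CharP A p] (f : A)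

local notation "A₁" => AdjoinRoot (X ^ p - C f : Polynomial A)

theorem monic_rel : (X ^ p - C f : Polynomial A).Monic := monic_X_pow_sub_C f hp.out.ne_zero

theorem root_pow : (AdjoinRoot.root (X ^ p - C f) : A₁) ^ p = algebraMap A A₁ f := by
  have h := AdjoinRoot.aeval_eq (f := (X ^ p - C f : Polynomial A)) (X ^ p - C f)
  rw [AdjoinRoot.mk_self, map_sub, map_pow, aeval_X, aeval_C] at h
  exact sub_eq_zero.1 h

theorem finite_adjoinRoot : Module.Finite A A₁ := (monic_rel p f).finite_adjoinRoot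

theorem natDegree_rel : (X ^ p - C f : Polynomial A).natDegree = p := natDegree_X_pow_sub_C

theorem algebraMap_injective : Function.Injective (algebraMap A A₁) := by
  rw [injective_iff_map_eq_zero]
  intro a ha
  rw [AdjoinRoot.algebraMap_eq, ← AdjoinRoot.mk_C, AdjoinRoot.mk_eq_zero] at ha
  by_contra h
  refine (monic_rel p f).not_dvd_of_degree_lt (C_ne_zero.2 h) ?_ ha
  rw [degree_C h, degree_eq_natDegree (monic_rel p f).ne_zero, natDegree_rel p f]
  exact_mod_cast hp.out.pos

theorem charP_adjoinRoot : CharP A₁ p := charP_of_injective_algebraMap (algebraMap_injective p f) p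

theorem pow_mem_range (z : A₁) : z ^ p ∈ (algebraMap A A₁).range := by
  have := charP_adjoinRoot p f
  obtain ⟨q, rfl⟩ := AdjoinRoot.mk_surjective z
  induction q using Polynomial.induction_on with
  | C a => exact ⟨a ^ p, map_pow _ _ _⟩
  | add x y hx hy => rw [map_add, add_pow_char]; exact add_mem hx hy
  | monomial k a _ => exact ⟨a ^ p * f ^ (k + 1), by
      rw [map_mul, map_mul, map_pow (AdjoinRoot.mk _), AdjoinRoot.mk_C, AdjoinRoot.mk_X, mul_pow, ← pow_mul,
        mul_comm (k + 1) p, pow_mul, root_pow, map_pow, map_pow, AdjoinRoot.algebraMap_eq]⟩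

theorem isLocalRing_adjoinRoot : IsLocalRing A₁ := by
  have := finite_adjoinRoot p f
  have : Nontrivial A₁ := (algebraMap_injective p f).nontrivial
  obtain ⟨M, hM⟩ := Ideal.exists_maximal A₁
  refine IsLocalRing.of_unique_max_ideal ⟨M, hM, fun N hN => ?_⟩
  have key : ∀ M N : Ideal A₁, M.IsMaximal → N.IsMaximal → M ≤ N := fun M N hM hN x hx => by
    obtain ⟨a, ha⟩ := pow_mem_range p f x
    have haM : a ∈ M.comap (algebraMap A A₁) := by
      show algebraMap A A₁ a ∈ M
      rw [ha]; exact Ideal.pow_mem_of_mem _ hx _ hp.out.pos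
    rw [IsLocalRing.eq_maximalIdeal (Ideal.isMaximal_comap_of_isIntegral_of_isMaximal (R := A) M),
      ← IsLocalRing.eq_maximalIdeal (Ideal.isMaximal_comap_of_isIntegral_of_isMaximal (R := A) N)] at haM
    exact hN.isPrime.mem_of_pow_mem p (by rw [← ha]; exact haM)
  exact le_antisymm (key N M hN hM) (key M N hM hN)

theorem map_maximalIdeal_le [IsLocalRing A₁] : (maximalIdeal A).map (algebraMap A A₁) ≤ maximalIdeal A₁ := by
  have := finite_adjoinRoot p f
  rw [Ideal.map_le_iff_le_comap]
  exact (IsLocalRing.eq_maximalIdeal (Ideal.isMaximal_comap_of_isIntegral_of_isMaximal (R := A) (maximalIdeal A₁))).ge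

/-- The cotangent dimension does not drop, and is preserved exactly when `f` is not a `p`-th power modulo `m²`. -/
theorem step [IsLocalRing A₁] :
    Module.finrank (ResidueField A) (CotangentSpace A) ≤ Module.finrank (ResidueField A₁) (CotangentSpace A₁) ∧
      (Module.finrank (ResidueField A) (CotangentSpace A) = Module.finrank (ResidueField A₁) (CotangentSpace A₁) ↔
        ¬∃ c, f - c ^ p ∈ maximalIdeal A ^ 2) := by
  classical
  set m := maximalIdeal A
  set m₁ := maximalIdeal A₁
  set x : A₁ := AdjoinRoot.root _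
  set ι := algebraMap A A₁
  have hfin := finite_adjoinRoot p f
  have hm1 : m.map ι ≤ m₁ := map_maximalIdeal_le p f
  have hsq : (m ^ 2).map ι ≤ m₁ ^ 2 := by rw [Ideal.map_pow]; exact Ideal.pow_right_mono hm1 2
  have := charP_residue (A := A) p
  let K := ResidueField A
  by_cases hf : ∃ y : K, y ^ p = residue A f
  · obtain ⟨y, hy⟩ := hf
    obtain ⟨c, rfl⟩ := residue_surjective y
    have := charP_adjoinRoot p f
    set g := f - c ^ p with hgdef
    have hg : g ∈ m := (residue_eq_zero_iff _).1 (by rw [map_sub, map_pow, hy, sub_self])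
    set w : A₁ := x - ι c
    have hw : w ^ p = ι g := by rw [sub_pow_char, root_pow, map_sub, map_pow]
    have hwm : w ∈ m₁ := (maximalIdeal.isMaximal A₁).isPrime.mem_of_pow_mem p (hw ▸ hm1 (Ideal.mem_map_of_mem _ hg))
    have hg1 : ι g ∈ m₁ ^ 2 := hw ▸ Ideal.pow_le_pow_right hp.out.two_le (Ideal.pow_mem_pow hwm p)
    have hiff : (∃ c', f - c' ^ p ∈ m ^ 2) ↔ g ∈ m ^ 2 := by
      refine ⟨fun ⟨c', hc'⟩ => ?_, fun h => ⟨c, h⟩⟩
      have h1 : c' - c ∈ m := (maximalIdeal.isMaximal A).isPrime.mem_of_pow_mem p (by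
        rw [sub_pow_char, show c' ^ p - c ^ p = g - (f - c' ^ p) by rw [hgdef]; ring]
        exact sub_mem hg (Ideal.pow_le_self two_ne_zero hc'))
      have h2 := Ideal.pow_le_pow_right hp.out.two_le (Ideal.pow_mem_pow h1 p)
      rw [sub_pow_char] at h2
      have := add_mem hc' h2
      rwa [hgdef, show f - c ^ p = f - c' ^ p + (c' ^ p - c ^ p) by ring]
    have hlin : ∀ z : A₁, ∃ a : A, z - ι a ∈ Ideal.span {w} := fun z => by
      obtain ⟨q, rfl⟩ := AdjoinRoot.mk_surjective z
      refine ⟨q.eval c, Ideal.mem_span_singleton.2 ?_⟩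
      have h := map_dvd (Polynomial.aeval x) (X_sub_C_dvd_sub_C_eval (a := c) (p := q))
      rw [map_sub, map_sub, aeval_X, aeval_C, aeval_C, AdjoinRoot.aeval_eq] at h
      exact h
    have hspan₀ : m₁ ≤ m.map ι ⊔ Ideal.span {w} := fun z hz => by
      obtain ⟨a, ha⟩ := hlin z
      have hwle : Ideal.span {w} ≤ m₁ := (Ideal.span_singleton_le_iff_mem _).2 hwm
      have ham : a ∈ m := by
        by_contra h
        have hu : IsUnit a := not_not.1 fun hu => h ((mem_maximalIdeal a).2 hu)
        have := sub_mem hz (hwle ha)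
        rw [sub_sub_cancel] at this
        exact (mem_maximalIdeal _).1 this (hu.map ι)
      exact Submodule.mem_sup.2 ⟨ι a, Ideal.mem_map_of_mem _ ham, _, ha, by ring⟩
    -- `w ↦ 0`
    let G := Ideal.span {g}
    let ρ : A₁ →+* A ⧸ G := AdjoinRoot.lift (Ideal.Quotient.mk G) (Ideal.Quotient.mk G c) (by
      rw [eval₂_sub, eval₂_X_pow, eval₂_C, ← map_pow, sub_eq_zero, Ideal.Quotient.eq, ← neg_sub, neg_mem_iff]
      exact Ideal.mem_span_singleton_self g)
    have hρι : ∀ a, ρ (ι a) = Ideal.Quotient.mk G a := fun a => AdjoinRoot.lift_of _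
    have hρw : ρ w = 0 := by rw [map_sub, hρι]; show AdjoinRoot.lift _ _ _ (AdjoinRoot.root _) - _ = 0; rw [AdjoinRoot.lift_root, sub_self]
    have hρm : m₁ ≤ (m.map (Ideal.Quotient.mk G)).comap ρ := hspan₀.trans (sup_le
      (Ideal.map_le_iff_le_comap.2 fun a ha => by
        rw [Ideal.mem_comap, Ideal.mem_comap, hρι]; exact Ideal.mem_map_of_mem _ ha)
      ((Ideal.span_singleton_le_iff_mem _).2 (by rw [Ideal.mem_comap, hρw]; exact zero_mem _)))
    have hρ2 : ∀ a, ι a ∈ m₁ ^ 2 ⊔ Ideal.span {w} → a ∈ m ^ 2 ⊔ G := fun a ha => by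
      have h1 : m₁ ^ 2 ⊔ Ideal.span {w} ≤ ((m ^ 2).map (Ideal.Quotient.mk G)).comap ρ :=
        sup_le ((Ideal.pow_right_mono hρm 2).trans ((Ideal.le_comap_pow ρ 2).trans (by rw [Ideal.map_pow])))
          ((Ideal.span_singleton_le_iff_mem _).2 (by rw [Ideal.mem_comap, hρw]; exact zero_mem _))
      have h2 := Ideal.mem_comap.1 (h1 ha)
      rw [hρι, ← Ideal.mem_comap, Ideal.comap_map_of_surjective _ Ideal.Quotient.mk_surjective,
        ← RingHom.ker_eq_comap_bot, Ideal.mk_ker] at h2
      exact h2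
    -- `w ↦ ε`
    let η : A₁ →+* TrivSqZeroExt K K := AdjoinRoot.lift ((TrivSqZeroExt.inlHom K K).comp (residue A))
      (TrivSqZeroExt.inl (residue A c) + TrivSqZeroExt.inr 1) (by
        rw [eval₂_sub, eval₂_X_pow, eval₂_C]
        ext
        · simp [hy]
        · simp)
    have hηι : ∀ a, η (ι a) = TrivSqZeroExt.inl (residue A a) := fun a => AdjoinRoot.lift_of _
    have hηw : η w = TrivSqZeroExt.inr 1 := by
      rw [map_sub, hηι]; show AdjoinRoot.lift _ _ _ (AdjoinRoot.root _) - _ = _; rw [AdjoinRoot.lift_root]; simp; rfl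
    have hηm : m₁ ≤ RingHom.ker ((TrivSqZeroExt.fstHom K K K).toRingHom.comp η) := hspan₀.trans (sup_le
      (Ideal.map_le_iff_le_comap.2 fun a ha => by
        show (η (ι a)).fst = 0
        rw [hηι, TrivSqZeroExt.fst_inl]; exact (residue_eq_zero_iff a).2 ha)
      ((Ideal.span_singleton_le_iff_mem _).2 (by show (η w).fst = 0; rw [hηw, TrivSqZeroExt.fst_inr])))
    have hη0 : ∀ z ∈ m₁ ^ 2, η z = 0 := fun z hz => by
      rw [pow_two] at hz
      induction hz using Submodule.mul_induction_on' with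
      | mem_mul_mem a ha b hb =>
        have ha' : (η a).fst = 0 := hηm ha
        have hb' : (η b).fst = 0 := hηm hb
        rw [map_mul]
        ext <;> simp [ha', hb']
      | add a _ b _ ha hb => rw [map_add, ha, hb, add_zero]
    -- independence of `w`, `t`
    have hind : ∀ {n : ℕ} (t : Fin n → A), (∀ i, t i ∈ m) →
        (∀ c : Fin n → A, ∑ i, c i * t i ∈ m ^ 2 ⊔ G → ∀ i, c i ∈ m) →
        ∀ (b : Fin (n + 1) → A₁), b 0 * w + ∑ i : Fin n, b i.succ * ι (t i) ∈ m₁ ^ 2 → ∀ i, b i ∈ m₁ := by
      intro n t ht htind b hb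
      choose a ha using fun i => hlin (b i)
      have hb0 : a 0 ∈ m := by
        have h := hη0 _ hb
        choose q hq using fun i => Ideal.mem_span_singleton'.1 (ha i)
        have hfst : (η (b 0)).fst = residue A (a 0) := by
          have := congrArg (fun z => (η z).fst) (hq 0)
          simp only [map_mul, map_sub, hηw, hηι, TrivSqZeroExt.fst_mul, TrivSqZeroExt.fst_inr, mul_zero,
            TrivSqZeroExt.fst_sub, TrivSqZeroExt.fst_inl] at this
          exact (sub_eq_zero.1 this.symm)
        have h' := congrArg TrivSqZeroExt.snd h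
        simp only [map_add, map_mul, map_sum, hηw, hηι, (fun i => (residue_eq_zero_iff _).2 (ht i) : ∀ i, residue A (t i) = 0),
          TrivSqZeroExt.inl_zero, mul_zero, Finset.sum_const_zero, add_zero, TrivSqZeroExt.snd_mul,
          TrivSqZeroExt.fst_inr, TrivSqZeroExt.snd_inr, TrivSqZeroExt.snd_zero, MulOpposite.op_zero, zero_smul,
          smul_eq_mul, mul_one, hfst] at h'
        exact (residue_eq_zero_iff _).1 h'
      have hrest := htind (fun i => a i.succ) (hρ2 _ (by
        have e : ι (∑ i, a i.succ * t i) =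
            (b 0 * w + ∑ i : Fin n, b i.succ * ι (t i)) - (b 0 * w + ∑ i : Fin n, (b i.succ - ι (a i.succ)) * ι (t i)) := by
          simp only [map_sum, map_mul, sub_mul, Finset.sum_sub_distrib]; ring
        rw [e]
        refine sub_mem (Ideal.mem_sup_left hb) (Ideal.mem_sup_right (add_mem (Ideal.mul_mem_left _ _ (Ideal.mem_span_singleton_self w))
          (sum_mem fun i _ => Ideal.mul_mem_right _ _ (ha _))))))
      intro i
      have hai : a i ∈ m := i.cases hb0 hrest
      have := add_mem ((Ideal.span_singleton_le_iff_mem _).2 hwm (ha i)) (hm1 (Ideal.mem_map_of_mem _ hai))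
      rwa [sub_add_cancel] at this
    have hdim : ∀ {n : ℕ} (t : Fin n → A), (∀ i, t i ∈ m) → m ≤ Ideal.span (Set.range t) ⊔ (m ^ 2 ⊔ G) →
        (∀ c : Fin n → A, ∑ i, c i * t i ∈ m ^ 2 ⊔ G → ∀ i, c i ∈ m) →
        Module.finrank (ResidueField A₁) (CotangentSpace A₁) = n + 1 := by
      intro n t ht hsp htind
      have h1 : ∀ i, (Fin.cons w fun i => ι (t i) : Fin (n + 1) → A₁) i ∈ m₁ :=
        Fin.cases (by simpa using hwm) fun j => by simpa using hm1 (Ideal.mem_map_of_mem _ (ht j))
      have h2 : m₁ ≤ Ideal.span (Set.range (Fin.cons w fun i => ι (t i) : Fin (n + 1) → A₁)) ⊔ m₁ ^ 2 := by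
        refine hspan₀.trans (sup_le (Ideal.map_le_iff_le_comap.2 (hsp.trans (sup_le ?_ (sup_le ?_ ?_)))) ?_)
        · exact Ideal.span_le.2 (by rintro _ ⟨i, rfl⟩; exact Ideal.mem_sup_left (Ideal.subset_span ⟨i.succ, by simp⟩))
        · exact fun a ha => Ideal.mem_sup_right (hsq (Ideal.mem_map_of_mem _ ha))
        · exact (Ideal.span_singleton_le_iff_mem _).2 (Ideal.mem_sup_right hg1)
        · exact (Ideal.span_singleton_le_iff_mem _).2 (Ideal.mem_sup_left (Ideal.subset_span ⟨0, by simp⟩))
      rw [finrank_cot_eq _ h1 h2 (fun b hb => hind t ht htind b (by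
        rw [Fin.sum_univ_succ] at hb; simpa using hb)), Fintype.card_fin]
    by_cases hg2 : g ∈ m ^ 2
    · have hG : m ^ 2 ⊔ G = m ^ 2 := sup_eq_left.2 ((Ideal.span_singleton_le_iff_mem _).2 hg2)
      obtain ⟨t, ht, hsp, htind⟩ := exists_family (A := A)
      have := hdim t ht (by rw [hG]; exact hsp) (by rw [hG]; exact htind)
      exact ⟨by omega, iff_of_false (by omega) (not_not.2 (hiff.2 hg2))⟩
    · obtain ⟨n, t, ht, ht0, hn, hsp, htind⟩ := exists_family_containing g hg hg2
      have := hdim (fun i => t i.succ) (fun i => ht _) (hsp.trans (sup_le (Ideal.span_le.2 ?_) ?_)) ?_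
      · exact ⟨by omega, iff_of_true (by omega) (mt hiff.1 hg2)⟩
      · rintro _ ⟨i, rfl⟩
        refine Fin.cases ?_ (fun j => Ideal.mem_sup_left (Ideal.subset_span ⟨j, rfl⟩)) i
        rw [ht0]; exact Ideal.mem_sup_right (Ideal.mem_sup_right (Ideal.mem_span_singleton_self g))
      · exact le_sup_left.trans le_sup_right
      · intro d hd i
        obtain ⟨u, hu, v, hv, huv⟩ := Submodule.mem_sup.1 hd
        obtain ⟨e, rfl⟩ := Ideal.mem_span_singleton'.1 hv
        have hmem : ∑ j, (Fin.cons (-e) d : Fin (n + 1) → A) j * t j ∈ m ^ 2 := by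
          rw [Fin.sum_univ_succ]
          simp only [Fin.cons_zero, Fin.cons_succ, ht0]
          rw [← huv, show -e * g + (u + e * g) = u by ring]
          exact hu
        have h' := htind _ hmem i.succ
        rwa [Fin.cons_succ] at h'
  · have hnp : ¬∃ c, f - c ^ p ∈ m ^ 2 := fun ⟨c, hc⟩ => hf ⟨residue A c, by
      rw [eq_comm, ← sub_eq_zero, ← map_pow, ← map_sub, residue_eq_zero_iff]
      exact Ideal.pow_le_self two_ne_zero hc⟩
    let P : K[X] := X ^ p - C (residue A f)
    have : Fact (Irreducible P) := ⟨X_pow_sub_C_irreducible_of_prime hp.out fun b hb => hf ⟨b, hb⟩⟩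
    let pb := AdjoinRoot.powerBasis' (monic_rel p f)
    let q := AdjoinRoot.powerBasis (f := P) (Fact.out (p := Irreducible P)).ne_zero
    have hdimpb : pb.dim = p := natDegree_rel p f
    have hdimq : q.dim = p := (natDegree_X_pow_sub_C : P.natDegree = p)
    let ρ : A₁ →+* AdjoinRoot P := AdjoinRoot.lift ((algebraMap K _).comp (residue A)) (AdjoinRoot.root P) (by
      have h := AdjoinRoot.aeval_eq (f := P) P
      rw [AdjoinRoot.mk_self, map_sub, map_pow, aeval_X, aeval_C] at h
      rw [eval₂_sub, eval₂_X_pow, eval₂_C]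
      exact h)
    have hρι : ∀ a, ρ (ι a) = algebraMap K _ (residue A a) := fun a => AdjoinRoot.lift_of _
    have hρx : ρ x = AdjoinRoot.root P := AdjoinRoot.lift_root _
    have hker : ∀ z, ρ z = 0 → z ∈ m.map ι := fun z hz => by
      rw [← pb.basis.sum_repr z, map_sum] at hz
      rw [← pb.basis.sum_repr z]
      refine sum_mem fun i _ => ?_
      rw [Algebra.smul_def]
      refine Ideal.mul_mem_right _ _ (Ideal.mem_map_of_mem _ ((residue_eq_zero_iff _).1 ?_))
      refine Fintype.linearIndependent_iff.1 (q.basis.linearIndependent.comp (Fin.cast (hdimpb.trans hdimq.symm))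
        (Fin.cast_injective _)) (fun i => residue A (pb.basis.repr z i)) (Eq.trans ?_ hz) i
      refine Finset.sum_congr rfl fun i _ => ?_
      rw [Function.comp_apply, PowerBasis.coe_basis, PowerBasis.coe_basis, AdjoinRoot.powerBasis_gen,
        Algebra.smul_def, Algebra.smul_def, map_mul, hρι, map_pow]
      exact congrArg _ (congrArg (fun w => w ^ (i : ℕ)) hρx.symm)
    have hm₁ : m₁ = m.map ι := le_antisymm (fun z hz => hker z (by
      by_contra hne
      obtain ⟨r, hr⟩ := (isUnit_iff_ne_zero.2 hne).exists_right_inv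
      obtain ⟨r', rfl⟩ : ∃ r', ρ r' = r := by
        obtain ⟨s, rfl⟩ := AdjoinRoot.mk_surjective r
        obtain ⟨s', rfl⟩ := map_surjective (residue A) residue_surjective s
        refine ⟨AdjoinRoot.mk _ s', ?_⟩
        rw [AdjoinRoot.lift_mk, ← eval₂_map, ← aeval_def, AdjoinRoot.aeval_eq]
      have h1 := hker (z * r' - 1) (by rw [map_sub, map_mul, hr, map_one, sub_self])
      exact (maximalIdeal.isMaximal A₁).ne_top ((Ideal.eq_top_iff_one _).2
        (by convert sub_mem (Ideal.mul_mem_right r' _ hz) (hm1 h1) using 1; ring)))) hm1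
    have hcoord : ∀ (I : Ideal A) (z : A₁), z ∈ I.map ι → ∀ i, pb.basis.repr z i ∈ I := fun I z hz i => by
      have hz' : z ∈ I • (⊤ : Submodule A A₁) := by
        rw [Ideal.smul_top_eq_map]; exact hz
      refine Submodule.smul_induction_on hz' (p := fun z => pb.basis.repr z i ∈ I) (fun a ha n _ => ?_) fun a b ha hb => ?_
      · rw [map_smul, Finsupp.smul_apply, smul_eq_mul]; exact I.mul_mem_right _ ha
      · rw [map_add, Finsupp.add_apply]; exact add_mem ha hb
    obtain ⟨t, ht, hsp, htind⟩ := exists_family (A := A)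
    have hd : Module.finrank (ResidueField A₁) (CotangentSpace A₁) = Module.finrank K (CotangentSpace A) := by
      rw [finrank_cot_eq (fun i => ι (t i)) (fun i => hm1 (Ideal.mem_map_of_mem _ (ht i))) ?_ ?_, Fintype.card_fin]
      · rw [show maximalIdeal A₁ = m.map ι from hm₁]
        refine Ideal.map_le_iff_le_comap.2 (hsp.trans (sup_le (Ideal.span_le.2 ?_) fun a ha => ?_))
        · rintro _ ⟨i, rfl⟩; exact Ideal.mem_sup_left (Ideal.subset_span ⟨i, rfl⟩)
        · exact Ideal.mem_sup_right (by rw [← Ideal.map_pow]; exact Ideal.mem_map_of_mem _ ha)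
      · intro b hb j
        rw [show maximalIdeal A₁ = m.map ι from hm₁, ← Ideal.map_pow] at hb
        rw [show maximalIdeal A₁ = m.map ι from hm₁, ← pb.basis.sum_repr (b j)]
        refine sum_mem fun i _ => ?_
        rw [Algebra.smul_def]
        refine Ideal.mul_mem_right _ _ (Ideal.mem_map_of_mem _ (htind (fun j => pb.basis.repr (b j) i) ?_ j))
        have := hcoord _ _ hb i
        have e : ∀ j, pb.basis.repr (b j * ι (t j)) i = pb.basis.repr (b j) i * t j := fun j => by
          rw [mul_comm (b j), ← Algebra.smul_def, map_smul, Finsupp.smul_apply, smul_eq_mul, mul_comm]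
        simp only [map_sum, Finsupp.finsetSum_apply, e] at this
        exact this
    exact ⟨hd.ge, iff_of_true hd.symm hnp⟩

end Groth.Agent.CAlg6.ArtinCot
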