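import Mathlib
import Groth.Prelude.Def_CAlgX
import Groth.Agent.FibRank96.Basic

/-!
Bordered minors: a matrix with vanishing `(r+1)`-minors and an invertible `r`-minor factors.
-/

set_option autoImplicit false

universe u

open Matrix

namespace Groth.Agent.CAlg6

theorem eq_of_bordered {R : Type u} [CommRing R] {m n r : ℕ} (M : Matrix (Fin m) (Fin n) R)
    (f : Fin r → Fin m) (g : Fin r → Fin n) (hu : IsUnit (M.submatrix f g).det)
    (hM : CAlgX.minorIdeal M (r + 1) = ⊥) :
    M = M.submatrix id g * ((M.submatrix f g)⁻¹ * M.submatrix f id) := by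
  ext i j
  have hmem : (M.submatrix (Fin.snoc f i) (Fin.snoc g j)).det = 0 := by
    have : (M.submatrix (Fin.snoc f i) (Fin.snoc g j)).det ∈ CAlgX.minorIdeal M (r + 1) :=
      Ideal.subset_span ⟨(Fin.snoc f i, Fin.snoc g j), rfl⟩
    rwa [hM, Ideal.mem_bot] at this
  rw [← Matrix.det_submatrix_equiv_self finSumFinEquiv] at hmem
  have hb : (M.submatrix (Fin.snoc f i) (Fin.snoc g j)).submatrix finSumFinEquiv finSumFinEquiv =
      fromBlocks (M.submatrix f g) (M.submatrix f fun _ : Fin 1 => j)
        (M.submatrix (fun _ : Fin 1 => i) g) (M.submatrix (fun _ : Fin 1 => i) fun _ : Fin 1 => j) := by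
    ext a b
    have h1 : ∀ a : Fin r, Fin.castAdd 1 a = a.castSucc := fun a => rfl
    have h2 : ∀ a : Fin 1, Fin.natAdd r a = Fin.last r := fun a => Fin.ext (by simp)
    rcases a with a | a <;> rcases b with b | b <;>
      simp [h1, h2, finSumFinEquiv]
  have : Invertible (M.submatrix f g) := Matrix.invertibleOfIsUnitDet _ hu
  rw [hb, det_fromBlocks₁₁, invOf_eq_nonsing_inv, hu.mul_right_eq_zero, det_fin_one, Matrix.sub_apply,
    sub_eq_zero] at hmem
  rw [← Matrix.mul_assoc]
  simp only [Matrix.mul_apply, Matrix.submatrix_apply, id_eq] at hmem ⊢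
  exact hmem

theorem exists_cols {k : Type u} [Field k] {m n r : ℕ} (A : Matrix (Fin m) (Fin n) k) (hA : A.rank = r) :
    ∃ (f : Fin r → Fin m) (g : Fin r → Fin n) (Y0 : Matrix (Fin r) (Fin n) k),
      (A.submatrix f g).det ≠ 0 ∧ A = A.submatrix id g * Y0 := by
  classical
  obtain ⟨b, hbsub, hbspan, hbli⟩ := exists_linearIndependent k (Set.range A.col)
  have : Fintype b := (Set.Finite.subset (Set.finite_range _) hbsub).fintype
  have hcard : Fintype.card b = r := by
    have h1 : (Set.range fun z : b => (z : Fin m → k)) = b := Subtype.range_coe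
    rw [← hA, Matrix.rank_eq_finrank_span_cols, ← hbspan]
    conv_rhs => rw [← h1]
    rw [finrank_span_eq_card hbli]
  let e : Fin r ≃ b := (Fintype.equivFinOfCardEq hcard).symm
  choose g hg using fun a : Fin r => hbsub (e a).2
  have hli : LinearIndependent k (fun a => A.col (g a)) := by
    simp only [hg]
    exact hbli.comp e e.injective
  obtain ⟨f, hf⟩ := FibRank96.exists_minor (fun a => A.col (g a)) hli
  have hspan : ∀ j, A.col j ∈ Submodule.span k (Set.range fun a => A.col (g a)) := fun j => by
    have h1 : Set.range (fun a => A.col (g a)) = b := by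
      simp only [hg]
      ext z
      exact ⟨fun ⟨a, ha⟩ => ha ▸ (e a).2, fun hz => ⟨e.symm ⟨z, hz⟩, by simp⟩⟩
    rw [h1, hbspan]
    exact Submodule.subset_span ⟨j, rfl⟩
  choose c hc using fun j => (Submodule.mem_span_range_iff_exists_fun k).1 (hspan j)
  refine ⟨f, g, Matrix.of fun a j => c j a, ?_, ?_⟩
  · rw [← det_transpose]
    exact hf
  · ext i j
    have := congrFun (hc j) i
    simp only [Finset.sum_apply, Pi.smul_apply, smul_eq_mul, Matrix.col_apply] at this
    rw [← this, Matrix.mul_apply]
    exact Finset.sum_congr rfl fun a _ => mul_comm _ _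

end Groth.Agent.CAlg6
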