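import Groth.Agent.SGA3a.OpenSubgroup
import Groth.Agent.SGA3a.NeutralQC
import Groth.Agent.SGA3a.GrpNeutral
import Groth.Agent.SGA3a.SmoothTransporter
import Groth.Agent.FlatMor67.FibreCrit
import Groth.Agent.S5260

/-! A smooth subgroup with connected fibres as the neutral component of its normalizer. -/

set_option autoImplicit false
universe u
open CategoryTheory CategoryTheory.Limits MonoidalCategory CartesianMonoidalCategory MonObj GrpObj AlgebraicGeometry

noncomputable section

namespace Groth.Agent.CAlg6.NormOpen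

open Groth.Agent.SGA3a

variable {S : Scheme.{u}} {H N : Over S} [GrpObj H] [GrpObj N] (j : H ⟶ N) [IsMonHom j]

theorem mem_neutralSet_of_connected (hconn : ∀ s : S, _root_.IsConnected (H.hom.base ⁻¹' {s})) (y : H.left) :
    j.left y ∈ SGA3x.neutralSet N := by
  refine Set.mem_iUnion.2 ⟨H.hom y, ?_⟩
  have hsub : j.left '' (H.hom ⁻¹' {H.hom y}) ⊆ N.hom ⁻¹' {H.hom y} := by
    rintro _ ⟨z, hz, rfl⟩
    exact congr($(Over.w j) z).trans hz
  have h1 : η[H] ≫ j = η[N] := IsMonHom.one_hom j
  refine ((hconn (H.hom y)).isPreconnected.image _ j.left.continuous.continuousOn).subset_connectedComponentIn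
    ⟨η[H].left (H.hom y), ?_, ?_⟩ hsub ⟨y, rfl, rfl⟩
  · exact congr($(Over.w η[H]) (H.hom y))
  · exact congr($(congrArg Over.Hom.left h1) (H.hom y))

theorem range_eq (hconn : ∀ s : S, _root_.IsConnected (H.hom.base ⁻¹' {s})) [IsOpenImmersion j.left] :
    Set.range j.left = SGA3x.neutralSet N := by
  rw [← Set.image_univ, ← neutralSet_eq_univ H hconn, image_neutralSet j]

theorem isPullback_prO {S' : Scheme.{u}} (f : S' ⟶ S) :
    IsPullback (prO f H) ((Over.pullback f).map j).left j.left (prO f N) := by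
  refine IsPullback.of_bot (h₂₁ := prO f N) ?_ (prO_naturality f j).symm (IsPullback.of_hasPullback N.hom f)
  rw [show ((Over.pullback f).map j).left ≫ pullback.snd N.hom f = pullback.snd H.hom f from
    Over.w ((Over.pullback f).map j), Over.w j]
  exact IsPullback.of_hasPullback H.hom f

/-- fibres from the points property -/
theorem isOpenImmersion_fibre [LocallyOfFiniteType N.hom] [Mono j]
    (hconn : ∀ s : S, _root_.IsConnected (H.hom.base ⁻¹' {s}))
    (h2 : ∀ (T : Over S) (g : T ⟶ N), Set.range g.left.base ⊆ SGA3x.neutralSet N → ∃ h : T ⟶ H, h ≫ j = g)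
    {K : Type u} [Field K] (f : Spec (CommRingCat.of K) ⟶ S) :
    IsOpenImmersion ((Over.pullback f).map j).left := by
  letI : GrpObj (bcO f N) := bcOGrp N f
  have : LocallyOfFiniteType (bcO f N).hom := inferInstanceAs (LocallyOfFiniteType (pullback.snd N.hom f))
  let V : (bcO f N).left.Opens := ⟨prO f N ⁻¹' SGA3x.neutralSet N, by
    rw [show prO f N ⁻¹' SGA3x.neutralSet N = fibNeutral N f from Set.ext (prO_mem_neutralSet_iff N f)]
    exact isOpen_connectedComponent_unit (bcO f N)⟩
  let p : (↑V : Scheme.{u}) ⟶ N.left := V.ι ≫ prO f N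
  let g : Over.mk (p ≫ N.hom) ⟶ N := Over.homMk p rfl
  obtain ⟨h, hh⟩ := h2 _ g (by
    rintro _ ⟨v, rfl⟩
    exact v.2)
  have hh' : h.left ≫ j.left = p := congrArg Over.Hom.left hh
  have hc : IsPullback (prO f H) ((Over.pullback f).map j).left j.left (prO f N) := isPullback_prO j f
  set js := ((Over.pullback f).map j).left
  let h' : (↑V : Scheme.{u}) ⟶ (bcO f H).left := hc.lift h.left V.ι hh'
  have hjm : Mono j.left := inferInstanceAs (Mono ((Over.forget S).map j))
  have : Mono js := MorphismProperty.of_isPullback (P := MorphismProperty.monomorphisms _) hc hjm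
  have hr : Set.range js ⊆ Set.range V.ι := by
    rw [Scheme.Opens.range_ι]
    rintro _ ⟨y, rfl⟩
    show prO f N (js y) ∈ SGA3x.neutralSet N
    rw [← Scheme.Hom.comp_apply, ← hc.w, Scheme.Hom.comp_apply]
    exact mem_neutralSet_of_connected j hconn _
  let l := IsOpenImmersion.lift V.ι js hr
  have hl : l ≫ V.ι = js := IsOpenImmersion.lift_fac _ _ _
  have h'j : h' ≫ js = V.ι := hc.lift_snd _ _ _
  have : IsIso l := ⟨h', by rw [← cancel_mono js, Category.assoc, h'j, hl, Category.id_comp],
    by rw [← cancel_mono V.ι, Category.assoc, hl, h'j, Category.id_comp]⟩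
  rw [← hl]
  infer_instance

theorem isOpenImmersion_of_fibres [LocallyOfFinitePresentation N.hom] [Smooth H.hom]
    (h3 : ∀ s : S, IsOpenImmersion ((Over.pullback (S.fromSpecResidueField s)).map j).left) :
    IsOpenImmersion j.left := by
  have : LocallyOfFinitePresentation (j.left ≫ N.hom) := by rw [Over.w j]; infer_instance
  have : Flat (j.left ≫ N.hom) := by rw [Over.w j]; infer_instance
  refine FlatMor67.FibreCrit.isOpenImmersion_of_fibres j.left N.hom fun s => ?_
  have := h3 s
  have hc := isPullback_prO j (S.fromSpecResidueField s)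
  show IsOpenImmersion (pullback.snd j.left (prO (S.fromSpecResidueField s) N))
  exact hc.isoPullback_inv_snd ▸
    (inferInstanceAs (IsOpenImmersion (hc.isoPullback.inv ≫ ((Over.pullback (S.fromSpecResidueField s)).map j).left)))

theorem lfp_of_isNormalizerOf {G : Over S} [GrpObj G] [Smooth H.hom] [QuasiCompact H.hom] [QuasiSeparated H.hom]
    [LocallyOfFinitePresentation G.hom] [QuasiSeparated G.hom]
    (hconn : ∀ s : S, _root_.IsConnected (H.hom.base ⁻¹' {s})) (u : H ⟶ G) [IsMonHom u] [Mono u]
    (n : N ⟶ G) (hN : Red.IsNormalizerOf u n) : LocallyOfFinitePresentation N.hom := by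
  have hconn' : ∀ s : S, ConnectedSpace ↥(pullback H.hom (S.fromSpecResidueField s)) := fun s => by
    let q := pullback.fst H.hom (S.fromSpecResidueField s)
    have hemb : Topology.IsEmbedding q := q.isEmbedding
    rw [connectedSpace_iff_univ]
    have hc := hconn s
    have hrange : H.hom.base ⁻¹' {s} = q '' Set.univ := by
      rw [Set.image_univ]
      exact ((Scheme.Pullback.range_fst _ _).trans (by rw [Scheme.range_fromSpecResidueField])).symm
    rw [hrange] at hc
    exact ⟨hc.nonempty.of_image, hemb.isInducing.isPreconnected_image.1 hc.isPreconnected⟩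
  obtain ⟨N₀, _, n₀, ⟨_, hm₀, key₀⟩, _, hfp⟩ := Groth.Agent.S5260.result G H hconn' u
  obtain ⟨_, hm, key⟩ := hN
  obtain ⟨z, hz⟩ := (key₀ N n).2 ((key N n).1 ⟨𝟙 _, Category.id_comp _⟩)
  obtain ⟨w, hw⟩ := (key N₀ n₀).2 ((key₀ N₀ n₀).1 ⟨𝟙 _, Category.id_comp _⟩)
  have : IsIso z := ⟨w, by rw [← cancel_mono n, Category.assoc, hw, hz, Category.id_comp],
    by rw [← cancel_mono n₀, Category.assoc, hz, hw, Category.id_comp]⟩
  have : IsIso z.left := inferInstanceAs (IsIso ((Over.forget S).map z))
  rw [← Over.w n, ← hz, Over.comp_left]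
  infer_instance

end Groth.Agent.CAlg6.NormOpen
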