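import Groth.Agent.SGA3a.NonAff.Borel
import Groth.Agent.SGA3a.SmoothTransporter
import Groth.Agent.AlgGrp79.BorelNormalizer
import Groth.Agent.RedPts82.MonoMultClosed
import Groth.Agent.FlatMor67.FibreCrit
import Groth.Agent.CAlg6.NormOpen

/-!
Borel subgroups of smooth group schemes with connected fibres are closed and self-normalizing.
-/

set_option autoImplicit false
set_option linter.unusedSectionVars false
set_option linter.style.haveILetI false
set_option backward.isDefEq.respectTransparency.types false

universe u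

open CategoryTheory CategoryTheory.Limits MonoidalCategory CartesianMonoidalCategory MonObj GrpObj AlgebraicGeometry

noncomputable section

namespace Groth.Agent.CAlg6.BorelSelfNorm

open SGA3a.NonAff AlgGrp79

section Field

variable {k : Type u} [Field k] [IsAlgClosed k]

/-- normalizing points of a Borel subgroup lie in it, for groups which need not be affine -/
theorem exists_factor_nonaff {G : Over (Spec (CommRingCat.of k))} [GrpObj G] [Smooth G.hom] [QuasiCompact G.hom]
    [ConnectedSpace G.left] {B : Over (Spec (CommRingCat.of k))} [GrpObj B] {b : B ⟶ G} (hB : Red.IsBorelOver k b)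
    (X : Over (Spec (CommRingCat.of k))) (g : X ⟶ G)
    (hg : ∀ (X' : Over (Spec (CommRingCat.of k))) (x : X' ⟶ X) (h : X' ⟶ B),
      (∃ h' : X' ⟶ B, (x ≫ g) * (h ≫ b) * (x ≫ g)⁻¹ = h' ≫ b) ∧
      (∃ h' : X' ⟶ B, (x ≫ g)⁻¹ * (h ≫ b) * (x ≫ g) = h' ≫ b)) :
    ∃ z : X ⟶ B, z ≫ b = g := by
  obtain ⟨A⟩ := nonempty_affn G
  obtain ⟨BQ, _, bQ, π, hBQ, hπm, hπ, sq⟩ := A.exists_borel_image hB
  haveI := hπm
  haveI : IsMonHom bQ := hBQ.1
  haveI : IsClosedImmersion bQ.left := hBQ.2.1
  haveI : Mono bQ := Over.mono_of_mono_left bQ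
  obtain ⟨y, hy⟩ := BorelNormalizer.exists_factor A.Q bQ hBQ X (g ≫ A.q) fun X' x h => by
    let p : pullback π h ⟶ X' := pullback.snd π h
    let hl : pullback π h ⟶ B := pullback.fst π h
    have hp : IsCov p := IsCov.of_isPullback (IsPullback.of_hasPullback π h) hπ
    haveI := hp.epi
    have hw : hl ≫ π = p ≫ h := pullback.condition
    have key : ∀ (e : X' ⟶ A.Q) (l : pullback π h ⟶ B), (l ≫ b) ≫ A.q = p ≫ e → ∃ h' : X' ⟶ BQ, e = h' ≫ bQ := by
      intro e l hl'
      rw [Category.assoc, sq.w, ← Category.assoc] at hl'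
      obtain ⟨d, hd⟩ := hp.desc (l ≫ π) fun T a c hac => by
        rw [← cancel_mono bQ, Category.assoc, Category.assoc c, hl', reassoc_of% hac]
      exact ⟨d, by rw [← cancel_epi p, ← hl', ← hd, Category.assoc]⟩
    obtain ⟨⟨h₁, e₁⟩, ⟨h₂, e₂⟩⟩ := hg _ (p ≫ x) hl
    constructor
    · refine key _ h₁ ?_
      rw [← e₁]
      simp only [MonObj.mul_comp, GrpObj.inv_comp, MonObj.comp_mul, GrpObj.comp_inv, Category.assoc, sq.w,
        reassoc_of% hw]
    · refine key _ h₂ ?_
      rw [← e₂]
      simp only [MonObj.mul_comp, GrpObj.inv_comp, MonObj.comp_mul, GrpObj.comp_inv, Category.assoc, sq.w,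
        reassoc_of% hw]
  obtain ⟨z, hz, -⟩ := sq.exists_lift g y hy.symm
  exact ⟨z, hz⟩

end Field

variable {S : Scheme.{u}}

theorem connectedSpace_geomFibre (G : Over S) [GrpObj G] [Smooth G.hom]
    (hconn : ∀ s : S, _root_.IsConnected (G.hom.base ⁻¹' {s})) (s : S) :
    ConnectedSpace ↥(Red.geomFibre s G).left := by
  have h0 : ∀ t : S, ConnectedSpace ↥(pullback G.hom (S.fromSpecResidueField t)) := fun t => by
    haveI := isConnected_iff_connectedSpace.1 (hconn t)
    exact (G.hom.fiberHomeo t).symm.surjective.connectedSpace (G.hom.fiberHomeo t).symm.continuous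
  let f := Red.geomPt s
  let p : Spec (CommRingCat.of (AlgebraicClosure (S.residueField s))) :=
    IsLocalRing.closedPoint (AlgebraicClosure (S.residueField s))
  haveI : ConnectedSpace ↥((Red.bc f G).hom.fiber p) := SGA3a.connected_fibres_pullback G h0 f p
  have h1 : _root_.IsConnected ((Red.bc f G).hom.base ⁻¹' {p}) :=
    isConnected_iff_connectedSpace.2
      (((Red.bc f G).hom.fiberHomeo p).surjective.connectedSpace ((Red.bc f G).hom.fiberHomeo p).continuous)
  have h2 : (Red.bc f G).hom.base ⁻¹' {p} = Set.univ := Set.eq_univ_of_forall fun x =>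
    @Subsingleton.elim _ (inferInstanceAs (Subsingleton (PrimeSpectrum (AlgebraicClosure (S.residueField s))))) _ _
  rw [h2] at h1
  exact connectedSpace_iff_univ.2 h1

theorem connectedSpace_fibre_of_geom (B : Over S) (s : S) (h : ConnectedSpace ↥(Red.geomFibre s B).left) :
    ConnectedSpace ↥(pullback B.hom (S.fromSpecResidueField s)) := by
  haveI := h
  let α := Spec.map (CommRingCat.ofHom (algebraMap (S.residueField s) (AlgebraicClosure (S.residueField s))))
  let r : pullback B.hom (Red.geomPt s) ⟶ pullback B.hom (S.fromSpecResidueField s) :=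
    pullback.lift (pullback.fst _ _) (pullback.snd _ _ ≫ α) (by rw [pullback.condition, Category.assoc])
  haveI : Surjective α := ⟨fun x => ⟨(Classical.arbitrary (PrimeSpectrum (AlgebraicClosure (S.residueField s))) : _),
    @Subsingleton.elim _ (inferInstanceAs (Subsingleton (PrimeSpectrum (S.residueField s)))) _ _⟩⟩
  have hsq : IsPullback r (pullback.snd B.hom (Red.geomPt s)) (pullback.snd B.hom (S.fromSpecResidueField s)) α := by
    refine IsPullback.of_right (h₁₂ := pullback.fst B.hom (S.fromSpecResidueField s)) (v₁₃ := B.hom)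
      (h₂₂ := S.fromSpecResidueField s) ?_ (pullback.lift_snd _ _ _) (IsPullback.of_hasPullback _ _)
    rw [pullback.lift_fst]
    exact IsPullback.of_hasPullback B.hom (Red.geomPt s)
  haveI : Surjective r := MorphismProperty.of_isPullback (P := @Surjective) hsq.flip ‹Surjective α›
  haveI : ConnectedSpace ↥(pullback B.hom (Red.geomPt s)) := h
  exact r.surjective.connectedSpace r.continuous

/-- **a Borel subgroup is its own normalizer and is closed** -/
theorem isNormalizerOf_and_closed {G : Over S} [GrpObj G] [Smooth G.hom] [QuasiCompact G.hom]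
    (hconn : ∀ s : S, _root_.IsConnected (G.hom.base ⁻¹' {s})) {B : Over S} [GrpObj B] (b : B ⟶ G)
    [IsMonHom b] [Mono b] [Smooth B.hom]
    (hgeo : ∀ s : S, Red.IsBorelOver (AlgebraicClosure (S.residueField s)) ((Over.pullback (Red.geomPt s)).map b)) :
    Red.IsNormalizerOf b b ∧ IsClosedImmersion b.left := by
  have hBc : ∀ s : S, ConnectedSpace ↥(pullback B.hom (S.fromSpecResidueField s)) := fun s =>
    connectedSpace_fibre_of_geom B s (hgeo s).2.2.2.1
  obtain ⟨N, n, hn, hnfp, hN⟩ := SGA3a.exists_normalizer_both G B b hBc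
  haveI := hn
  haveI := hnfp
  haveI : Mono n := Over.mono_of_mono_left n
  obtain ⟨f, hf⟩ := (hN B b).2 fun T' t h =>
    ⟨⟨t * h * t⁻¹, by simp only [MonObj.mul_comp, GrpObj.inv_comp]⟩,
      ⟨t⁻¹ * h * t, by simp only [MonObj.mul_comp, GrpObj.inv_comp]⟩⟩
  haveI : LocallyOfFinitePresentation N.hom := by rw [← Over.w n]; infer_instance
  haveI : LocallyOfFinitePresentation (f.left ≫ N.hom) := by rw [Over.w f]; infer_instance
  haveI : Flat (f.left ≫ N.hom) := by rw [Over.w f]; infer_instance
  haveI : IsIso f.left := FlatMor67.FibreCrit.isIso_of_fibres f.left N.hom fun s => by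
    let φ := Red.geomPt s
    let Nf := Red.bc φ N
    let nf : Nf ⟶ Red.geomFibre s G := (Over.pullback φ).map n
    haveI : Smooth (Red.geomFibre s G).hom := inferInstanceAs (Smooth (pullback.snd G.hom φ))
    haveI : QuasiCompact (Red.geomFibre s G).hom := inferInstanceAs (QuasiCompact (pullback.snd G.hom φ))
    haveI := connectedSpace_geomFibre G hconn s
    obtain ⟨z, hz⟩ := exists_factor_nonaff (hgeo s) Nf nf fun X' x h => by
      have h1 := (hN N n).1 ⟨𝟙 N, Category.id_comp n⟩ _ (RedPts82.toBase φ x) (RedPts82.toBase φ h)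
      obtain ⟨⟨h₁, e₁⟩, ⟨h₂, e₂⟩⟩ := h1
      refine ⟨⟨RedPts82.ofBase φ h₁, RedPts82.toBase_injective φ ?_⟩,
        ⟨RedPts82.ofBase φ h₂, RedPts82.toBase_injective φ ?_⟩⟩
      · simp only [nf, φ, RedPts82.toBase_mul, RedPts82.toBase_inv, RedPts82.toBase_comp_map, RedPts82.toBase_ofBase]
        exact e₁
      · simp only [nf, φ, RedPts82.toBase_mul, RedPts82.toBase_inv, RedPts82.toBase_comp_map, RedPts82.toBase_ofBase]
        exact e₂
    let fb : Red.bc φ B ⟶ Nf := (Over.pullback φ).map f
    have hfb : fb ≫ nf = (Over.pullback φ).map b := by rw [← Functor.map_comp, hf]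
    haveI : Mono nf := inferInstanceAs (Mono ((Over.pullback φ).map n))
    haveI : Mono ((Over.pullback φ).map b) := inferInstance
    haveI : IsIso fb := ⟨z, by rw [← cancel_mono ((Over.pullback φ).map b), Category.assoc, hz, hfb, Category.id_comp],
      by rw [← cancel_mono nf, Category.assoc, hfb, hz, Category.id_comp]⟩
    have hfl : IsIso fb.left := ((Over.forget _).mapIso (asIso fb)).isIso_hom
    -- descend along the geometric point
    let α := Spec.map (CommRingCat.ofHom (algebraMap (S.residueField s) (AlgebraicClosure (S.residueField s))))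
    let r : Nf.left ⟶ N.hom.fiber s :=
      pullback.lift (pullback.fst _ _) (pullback.snd _ _ ≫ α) (by rw [pullback.condition, Category.assoc])
    have hsq : IsPullback r (pullback.snd N.hom φ) (pullback.snd N.hom (S.fromSpecResidueField s)) α := by
      refine IsPullback.of_right (h₁₂ := pullback.fst N.hom (S.fromSpecResidueField s)) (v₁₃ := N.hom)
        (h₂₂ := S.fromSpecResidueField s) ?_ (pullback.lift_snd _ _ _) (IsPullback.of_hasPullback _ _)
      rw [pullback.lift_fst]
      exact IsPullback.of_hasPullback N.hom φ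
    haveI : Flat α := by
      rw [HasRingHomProperty.Spec_iff (P := @Flat)]
      exact RingHom.flat_algebraMap_iff.2 inferInstance
    haveI : Surjective α := ⟨fun x => ⟨(Classical.arbitrary (PrimeSpectrum (AlgebraicClosure (S.residueField s))) : _),
      @Subsingleton.elim _ (inferInstanceAs (Subsingleton (PrimeSpectrum (S.residueField s)))) _ _⟩⟩
    have h1 : IsPullback (pullback.fst B.hom φ) fb.left f.left (r ≫ N.hom.fiberι s) := by
      rw [show r ≫ N.hom.fiberι s = pullback.fst N.hom φ from pullback.lift_fst _ _ _]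
      exact RedPts82.isPullback_bc_map f φ
    have h2 : IsPullback (pullback.fst f.left (N.hom.fiberι s)) (pullback.snd f.left (N.hom.fiberι s)) f.left
        (N.hom.fiberι s) := IsPullback.of_hasPullback _ _
    obtain ⟨l, hl1, hl2⟩ := h2.exists_lift (pullback.fst B.hom φ) (fb.left ≫ r) (by rw [Category.assoc]; exact h1.w)
    have h3 : IsPullback l fb.left (pullback.snd f.left (N.hom.fiberι s)) r :=
      IsPullback.of_right (by rw [hl1]; exact h1) hl2 h2
    haveI : MorphismProperty.DescendsAlong (MorphismProperty.isomorphisms Scheme.{u}) Unr55.fpqc.{u} := by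
      unfold Unr55.fpqc; infer_instance
    haveI : Flat r := MorphismProperty.of_isPullback (P := @Flat) hsq.flip ‹Flat α›
    haveI : Surjective r := MorphismProperty.of_isPullback (P := @Surjective) hsq.flip ‹Surjective α›
    haveI : QuasiCompact r := MorphismProperty.of_isPullback (P := @QuasiCompact) hsq.flip inferInstance
    exact MorphismProperty.of_isPullback_of_descendsAlong (P := MorphismProperty.isomorphisms Scheme.{u})
      (Q := Unr55.fpqc.{u}) h3.flip ⟨⟨inferInstance, inferInstance⟩, inferInstance⟩ hfl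
  refine ⟨⟨inferInstance, inferInstance, fun X g => ?_⟩, ?_⟩
  · refine ⟨fun ⟨z, hz⟩ => (hN X g).1 ⟨z ≫ f, by rw [Category.assoc, hf, hz]⟩, fun hg => ?_⟩
    obtain ⟨w, hw⟩ := (hN X g).2 hg
    haveI : IsIso f := by
      haveI : IsIso ((Over.forget S).map f) := ‹IsIso f.left›
      exact isIso_of_reflects_iso f (Over.forget S)
    exact ⟨w ≫ inv f, by rw [← hf, Category.assoc, IsIso.inv_hom_id_assoc, hw]⟩
  · rw [← hf, Over.comp_left]
    infer_instance

end Groth.Agent.CAlg6.BorelSelfNorm
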