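import Mathlib

/-!
Cayley-Bacharach configurations of points in projective space: lower bound, collinearity up to
`2n+1` points, and coplanarity or two skew lines up to `3n+1` points.
-/

set_option autoImplicit false

universe u

namespace Groth.Agent.CAlg6.CayleyBach

open Projectivization Module
open scoped Classical

variable {k : Type u} [Field k] {m : ℕ}

local notation "V" => (Fin m → k)
local notation "P" => Projectivization k (Fin m → k)

/-- The Cayley-Bacharach property in degree `n`. -/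
def CB (Z : Finset P) (n : ℕ) : Prop :=
  ∀ z ∈ Z, ∀ p : MvPolynomial (Fin m) k, p.IsHomogeneous n →
    (∀ z' ∈ Z, z' ≠ z → MvPolynomial.eval z'.rep p = 0) → MvPolynomial.eval z.rep p = 0

/-- A linear functional as a linear form. -/
theorem exists_form (ℓ : V →ₗ[k] k) :
    ∃ L : MvPolynomial (Fin m) k, L.IsHomogeneous 1 ∧ ∀ x, MvPolynomial.eval x L = ℓ x := by
  classical
  refine ⟨∑ i, MvPolynomial.C (ℓ (Pi.single i 1)) * MvPolynomial.X i,
    MvPolynomial.IsHomogeneous.sum _ _ _ fun i _ => ?_, fun x => ?_⟩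
  · simpa using (MvPolynomial.isHomogeneous_C (Fin m) (ℓ (Pi.single i 1))).mul
      (MvPolynomial.isHomogeneous_X k i)
  · conv_rhs => rw [pi_eq_sum_univ' x]
    simp only [map_sum, map_smul, smul_eq_mul, MvPolynomial.eval_mul, MvPolynomial.eval_C,
      MvPolynomial.eval_X]
    exact Finset.sum_congr rfl fun i _ => mul_comm _ _

theorem exists_functional {W : Submodule k V} {v : V} (hv : v ∉ W) :
    ∃ ℓ : V →ₗ[k] k, W ≤ LinearMap.ker ℓ ∧ ℓ v ≠ 0 := by
  obtain ⟨ℓ, h1, h2⟩ := Submodule.exists_dual_map_eq_bot_of_notMem hv inferInstance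
  refine ⟨ℓ, fun w hw => ?_, h1⟩
  have : ℓ w ∈ W.map ℓ := ⟨w, hw, rfl⟩
  rw [h2] at this
  exact this

theorem rep_mem_span_singleton_iff {y z : P} : z.rep ∈ Submodule.span k {y.rep} ↔ z = y := by
  refine ⟨fun h => ?_, fun h => h ▸ Submodule.mem_span_singleton_self _⟩
  obtain ⟨c, hc⟩ := Submodule.mem_span_singleton.1 h
  have hc0 : c ≠ 0 := by rintro rfl; exact z.rep_nonzero (by rw [← hc, zero_smul])
  rw [← z.mk_rep, ← y.mk_rep, Projectivization.mk_eq_mk_iff']
  exact ⟨c, hc⟩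

theorem rep_linearIndependent {y z : P} (h : y ≠ z) :
    LinearIndependent k ![y.rep, z.rep] := by
  rw [LinearIndependent.pair_iff' y.rep_nonzero]
  exact fun c hc => h (rep_mem_span_singleton_iff.1 (Submodule.mem_span_singleton.2 ⟨c, hc⟩)).symm

theorem finrank_span_pair {y z : P} (h : y ≠ z) :
    finrank k (Submodule.span k {y.rep, z.rep}) = 2 := by
  have := finrank_span_eq_card (rep_linearIndependent h)
  rwa [Matrix.range_cons, Matrix.range_cons, Matrix.range_empty, Set.union_empty,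
    Set.singleton_union, Fintype.card_fin] at this

/-- Points off a hyperplane inherit the property in one degree less. -/
theorem CB.residual {Z : Finset P} {n : ℕ} (h : CB Z (n + 1)) (ℓ : V →ₗ[k] k) :
    CB (Z.filter fun z => ℓ z.rep ≠ 0) n := by
  obtain ⟨L, hL, hLe⟩ := exists_form ℓ
  intro z hz p hp hv
  rw [Finset.mem_filter] at hz
  have h1 := h z hz.1 (p * L) (hp.mul hL) fun z' hz' hne => by
    rw [MvPolynomial.eval_mul, hLe]
    by_cases hl : ℓ z'.rep = 0
    · rw [hl, mul_zero]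
    · rw [hv z' (Finset.mem_filter.2 ⟨hz', hl⟩) hne, zero_mul]
  rw [MvPolynomial.eval_mul, hLe] at h1
  exact (mul_eq_zero.1 h1).resolve_right hz.2

theorem CB.card_ge : ∀ {n : ℕ} {Z : Finset P}, CB Z n → Z.Nonempty → n + 2 ≤ Z.card := by
  intro n
  induction n with
  | zero =>
    intro Z h ⟨z, hz⟩
    by_contra hc
    have h1 : ∀ z' ∈ Z, z' = z := Finset.card_le_one.1 (by omega) |> fun H z' hz' => H z' hz' z hz
    have := h z hz 1 (MvPolynomial.isHomogeneous_one _ _) fun z' hz' hne => absurd (h1 z' hz') hne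
    simp at this
  | succ n ih =>
    intro Z h ⟨z, hz⟩
    by_cases h2 : ∃ y ∈ Z, y ≠ z
    · obtain ⟨y, hy, hyz⟩ := h2
      obtain ⟨ℓ, hℓ, hℓz⟩ := exists_functional (W := Submodule.span k {y.rep}) (v := z.rep)
        fun hh => hyz (rep_mem_span_singleton_iff.1 hh).symm
      have h3 := ih (h.residual ℓ) ⟨z, Finset.mem_filter.2 ⟨hz, hℓz⟩⟩
      have h4 : (Z.filter fun z => ℓ z.rep ≠ 0).card < Z.card := by
        refine Finset.card_lt_card (Finset.filter_ssubset.2 ⟨y, hy, ?_⟩)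
        simpa using LinearMap.mem_ker.1 (hℓ (Submodule.mem_span_singleton_self _))
      omega
    · push Not at h2
      obtain ⟨i, hi⟩ : ∃ i, z.rep i ≠ 0 := Function.ne_iff.1 z.rep_nonzero
      have := h z hz (MvPolynomial.X i ^ (n + 1))
        (by simpa using (MvPolynomial.isHomogeneous_X k i).pow (n + 1))
        fun z' hz' hne => absurd (h2 z' hz') hne
      simp [hi] at this

theorem CB.collinear : ∀ {n : ℕ} {Z : Finset P}, CB Z n → Z.Nonempty → Z.card ≤ 2 * n + 1 →
    ∃ W : Submodule k V, finrank k W = 2 ∧ ∀ z ∈ Z, z.rep ∈ W := by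
  intro n
  induction n with
  | zero => intro Z h hne hc; have := h.card_ge hne; omega
  | succ n ih =>
    intro Z h hne hc
    obtain ⟨z₁, hz₁, z₂, hz₂, h12⟩ := Finset.one_lt_card.1 (show 1 < Z.card by have := h.card_ge hne; omega)
    by_contra hW
    push Not at hW
    obtain ⟨z₃, hz₃, hz₃'⟩ := hW _ (finrank_span_pair h12)
    obtain ⟨ℓ, hℓ, hℓ3⟩ := exists_functional hz₃'
    set Z' := Z.filter fun z => ℓ z.rep ≠ 0 with hZ'
    set Z₀ := Z.filter fun z => ℓ z.rep = 0 with hZ₀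
    have hsum : Z₀.card + Z'.card = Z.card := Finset.card_filter_add_card_filter_not _
    have h2 : 2 ≤ Z₀.card := by
      rw [← Finset.card_pair h12]
      refine Finset.card_le_card ?_
      intro x hx
      rcases Finset.mem_insert.1 hx with rfl | hx
      · exact Finset.mem_filter.2 ⟨hz₁, hℓ (Submodule.subset_span (by simp))⟩
      · rw [Finset.mem_singleton.1 hx]
        exact Finset.mem_filter.2 ⟨hz₂, hℓ (Submodule.subset_span (by simp))⟩
    have hne' : Z'.Nonempty := ⟨z₃, Finset.mem_filter.2 ⟨hz₃, hℓ3⟩⟩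
    obtain ⟨W, hW2, hWZ⟩ := ih (h.residual ℓ) hne' (show Z'.card ≤ _ by omega)
    have hge := (h.residual ℓ).card_ge hne'
    rw [← hZ'] at hge
    obtain ⟨z₄, hz₄, hz₄'⟩ := hW W hW2
    obtain ⟨ℓ', hℓ', hℓ4⟩ := exists_functional hz₄'
    have hge' := (h.residual ℓ').card_ge ⟨z₄, Finset.mem_filter.2 ⟨hz₄, hℓ4⟩⟩
    have hle : (Z.filter fun z => ℓ' z.rep ≠ 0).card ≤ Z₀.card := by
      refine Finset.card_le_card fun x hx => ?_
      rw [Finset.mem_filter] at hx
      refine Finset.mem_filter.2 ⟨hx.1, ?_⟩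
      by_contra hx0
      exact hx.2 (hℓ' (hWZ x (Finset.mem_filter.2 ⟨hx.1, hx0⟩)))
    omega

theorem finrank_sup_le {W : Submodule k V} (hW : finrank k W = 2) (v : V) :
    finrank k ↥(W ⊔ Submodule.span k {v}) ≤ 3 := by
  have h1 := Submodule.finrank_sup_add_finrank_inf_eq W (Submodule.span k {v})
  have h2 : finrank k (Submodule.span k {v}) ≤ 1 := by
    simpa using finrank_span_le_card ({v} : Set V)
  omega

theorem exists_point (hm : m = 4) {Z : Finset P}
    (hW : ∀ W : Submodule k V, finrank k W = 3 → ∃ z ∈ Z, z.rep ∉ W)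
    {W₀ : Submodule k V} (h₀ : finrank k W₀ ≤ 3) : ∃ z ∈ Z, z.rep ∉ W₀ := by
  subst hm
  obtain ⟨ℓ, hℓ, hℓ0⟩ : ∃ ℓ : (Fin 4 → k) →ₗ[k] k, W₀ ≤ LinearMap.ker ℓ ∧ ℓ ≠ 0 := by
    obtain ⟨v, hv⟩ : ∃ v, v ∉ W₀ := by
      by_contra hh
      push Not at hh
      rw [(Submodule.eq_top_iff'.2 hh : W₀ = ⊤), finrank_top, Module.finrank_fin_fun] at h₀
      omega
    obtain ⟨ℓ, h1, h2⟩ := exists_functional hv
    exact ⟨ℓ, h1, fun hh => h2 (by rw [hh, LinearMap.zero_apply])⟩
  have h3 : finrank k (LinearMap.ker ℓ) = 3 := by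
    have h1 := ℓ.finrank_range_add_finrank_ker
    rw [LinearMap.range_eq_top.2 (LinearMap.surjective hℓ0), finrank_top, Module.finrank_self,
      Module.finrank_fin_fun] at h1
    omega
  obtain ⟨z, hz, hz'⟩ := hW _ h3
  exact ⟨z, hz, fun hh => hz' (hℓ hh)⟩

theorem CB.coplanar_or_skew (hm : m = 4) : ∀ {n : ℕ} {Z : Finset P}, 1 ≤ n → CB Z n →
    Z.card ≤ 3 * n + 1 →
    (∀ W : Submodule k V, finrank k W = 3 → ∃ z ∈ Z, z.rep ∉ W) →
    ∃ W₁ W₂ : Submodule k V, finrank k W₁ = 2 ∧ finrank k W₂ = 2 ∧ W₁ ⊓ W₂ = ⊥ ∧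
      (∀ z ∈ Z, z.rep ∈ W₁ ∨ z.rep ∈ W₂) ∧
      ∃ S₁ S₂ : Finset P, S₁ ⊆ Z ∧ S₂ ⊆ Z ∧ Disjoint S₁ S₂ ∧ (∀ z ∈ S₁, z.rep ∈ W₁) ∧
        (∀ z ∈ S₂, z.rep ∈ W₂) ∧ n + 1 ≤ S₁.card ∧ n + 2 ≤ S₂.card := by
  classical
  intro n
  induction n with
  | zero => omega
  | succ n ih =>
    intro Z _ h hcard hW
    -- a hyperplane with at least three points, as many as possible
    let 𝒮 := Z.powerset.filter fun s : Finset P =>
      ∃ ℓ : V →ₗ[k] k, (∀ z ∈ s, ℓ z.rep = 0) ∧ ∃ z ∈ Z, ℓ z.rep ≠ 0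
    have hmem : ∀ ℓ : V →ₗ[k] k, (∃ z ∈ Z, ℓ z.rep ≠ 0) → (Z.filter fun z => ℓ z.rep = 0) ∈ 𝒮 :=
      fun ℓ hℓ => Finset.mem_filter.2 ⟨Finset.mem_powerset.2 (Finset.filter_subset _ _),
        ℓ, fun z hz => (Finset.mem_filter.1 hz).2, hℓ⟩
    have hplane : ∀ W₀ : Submodule k V, finrank k W₀ ≤ 3 →
        ∃ ℓ : V →ₗ[k] k, W₀ ≤ LinearMap.ker ℓ ∧ ∃ z ∈ Z, ℓ z.rep ≠ 0 := fun W₀ h₀ => by
      obtain ⟨z, hz, hz'⟩ := exists_point hm hW h₀
      obtain ⟨ℓ, hℓ, hℓz⟩ := exists_functional hz'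
      exact ⟨ℓ, hℓ, z, hz, hℓz⟩
    have h4 : 4 ≤ Z.card := by
      by_contra hc
      have : finrank k (Submodule.span k (Set.range fun z : Z => (z : P).rep)) ≤ 3 := by
        refine (finrank_range_le_card _).trans ?_
        simp; omega
      obtain ⟨z, hz, hz'⟩ := exists_point hm hW this
      exact hz' (Submodule.subset_span ⟨⟨z, hz⟩, rfl⟩)
    obtain ⟨T, hTZ, hT⟩ := Finset.exists_subset_card_eq (show 3 ≤ Z.card by omega)
    have hTspan : finrank k (Submodule.span k (Set.range fun z : T => (z : P).rep)) ≤ 3 := by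
      refine (finrank_range_le_card _).trans ?_
      simp [hT]
    obtain ⟨ℓT, hℓT, hℓT'⟩ := hplane _ hTspan
    obtain ⟨s, hs, hmax⟩ := Finset.exists_max_image 𝒮 Finset.card ⟨_, hmem ℓT hℓT'⟩
    have hs3 : 3 ≤ s.card := by
      refine le_trans ?_ (hmax _ (hmem ℓT hℓT'))
      rw [← hT]
      refine Finset.card_le_card fun z hz => Finset.mem_filter.2 ⟨hTZ hz, ?_⟩
      exact hℓT (Submodule.subset_span ⟨⟨z, hz⟩, rfl⟩)
    obtain ⟨hsZ, ℓ, hℓs, z₀, hz₀, hℓz₀⟩ := Finset.mem_filter.1 hs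
    set Z' := Z.filter fun z => ℓ z.rep ≠ 0 with hZ'
    set Z₀ := Z.filter fun z => ℓ z.rep = 0 with hZ₀
    have hsum : Z₀.card + Z'.card = Z.card := Finset.card_filter_add_card_filter_not _
    have hsle : s.card ≤ Z₀.card := Finset.card_le_card fun z hz =>
      Finset.mem_filter.2 ⟨Finset.mem_powerset.1 hsZ hz, hℓs z hz⟩
    have hne' : Z'.Nonempty := ⟨z₀, Finset.mem_filter.2 ⟨hz₀, hℓz₀⟩⟩
    have hCB' : CB Z' n := h.residual ℓ
    have hge := hCB'.card_ge hne'
    have hbound : ∀ ℓ' : V →ₗ[k] k, (∃ z ∈ Z, ℓ' z.rep ≠ 0) → ∀ S ⊆ Z,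
        (∀ z ∈ S, ℓ' z.rep = 0) → S.card ≤ s.card := fun ℓ' hℓ' S hS hS0 =>
      (Finset.card_le_card fun z hz => Finset.mem_filter.2 ⟨hS hz, hS0 z hz⟩).trans
        (hmax _ (hmem ℓ' hℓ'))
    by_cases hn : n = 0
    · subst hn; omega
    have hn1 : 1 ≤ n := Nat.one_le_iff_ne_zero.2 hn
    by_cases hco : ∃ W : Submodule k V, finrank k W = 3 ∧ ∀ z ∈ Z', z.rep ∈ W
    swap
    · push Not at hco
      obtain ⟨W₁, W₂, hW₁, hW₂, -, -, S₁, S₂, hS₁, hS₂, hdis, hS₁W, hS₂W, hc₁, hc₂⟩ :=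
        ih hn1 hCB' (by omega) hco
      obtain ⟨y, hy⟩ : S₂.Nonempty := Finset.card_pos.1 (by omega)
      obtain ⟨ℓ', hℓ', hℓ''⟩ := hplane _ (finrank_sup_le hW₁ y.rep)
      have hy₁ : y ∉ S₁ := fun hh => Finset.disjoint_left.1 hdis hh hy
      have := hbound ℓ' hℓ'' (insert y S₁)
        (Finset.insert_subset ((Finset.filter_subset _ _) (hS₂ hy))
          (hS₁.trans (Finset.filter_subset _ _))) fun z hz => by
          rcases Finset.mem_insert.1 hz with rfl | hz
          · exact hℓ' (Submodule.mem_sup_right (Submodule.mem_span_singleton_self _))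
          · exact hℓ' (Submodule.mem_sup_left (hS₁W z hz))
      rw [Finset.card_insert_of_notMem hy₁] at this
      have hc : S₁.card + S₂.card ≤ Z'.card := by
        rw [← Finset.card_union_of_disjoint hdis]
        exact Finset.card_le_card (Finset.union_subset hS₁ hS₂)
      omega
    obtain ⟨W, hW3, hWZ'⟩ := hco
    obtain ⟨ℓW, hℓW, hℓW'⟩ := hplane W hW3.le
    have hZ's := hbound ℓW hℓW' Z' (Finset.filter_subset _ _) fun z hz => hℓW (hWZ' z hz)
    obtain ⟨L₁, hL₁, hL₁Z⟩ := hCB'.collinear hne' (by omega)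
    -- second line
    obtain ⟨p, hp, hp'⟩ : ∃ p ∈ Z, p.rep ∉ L₁ := exists_point hm hW (by omega)
    obtain ⟨ℓ₁, hℓ₁, z₁, hz₁, hℓz₁⟩ := hplane _ (finrank_sup_le hL₁ p.rep)
    set Z'' := Z.filter fun z => ℓ₁ z.rep ≠ 0 with hZ''
    have hCB'' : CB Z'' n := h.residual ℓ₁
    have hne'' : Z''.Nonempty := ⟨z₁, Finset.mem_filter.2 ⟨hz₁, hℓz₁⟩⟩
    have hge'' := hCB''.card_ge hne''
    have hdisj : Disjoint Z' Z'' := Finset.disjoint_left.2 fun z hz hz2 =>
      (Finset.mem_filter.1 hz2).2 (hℓ₁ (Submodule.mem_sup_left (hL₁Z z hz)))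
    have hcard'' : Z'.card + Z''.card + 1 ≤ Z.card := by
      rw [← Finset.card_union_of_disjoint hdisj]
      refine Finset.card_lt_card ((Finset.ssubset_iff_of_subset
        (Finset.union_subset (Finset.filter_subset _ _) (Finset.filter_subset _ _))).2 ⟨p, hp, ?_⟩)
      rw [Finset.mem_union]
      rintro (hh | hh)
      · exact hp' (hL₁Z p hh)
      · exact (Finset.mem_filter.1 hh).2
          (hℓ₁ (Submodule.mem_sup_right (Submodule.mem_span_singleton_self _)))
    obtain ⟨L₂, hL₂, hL₂Z⟩ := hCB''.collinear hne'' (by omega)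
    have hskew : L₁ ⊓ L₂ = ⊥ := by
      by_contra hne0
      have h1 := Submodule.finrank_sup_add_finrank_inf_eq L₁ L₂
      have h2 : 1 ≤ finrank k ↥(L₁ ⊓ L₂) :=
        Submodule.one_le_finrank_iff.2 hne0
      obtain ⟨ℓ₂, hℓ₂, z₂, hz₂, hℓz₂⟩ := hplane (L₁ ⊔ L₂) (by omega)
      have h3 := CB.card_ge (h.residual ℓ₂) ⟨z₂, Finset.mem_filter.2 ⟨hz₂, hℓz₂⟩⟩
      have h4 : (Z.filter fun z => ℓ₂ z.rep ≠ 0).card + (Z'.card + Z''.card) ≤ Z.card := by
        rw [← Finset.card_union_of_disjoint hdisj, ← Finset.card_union_of_disjoint ?_]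
        · exact Finset.card_le_card (Finset.union_subset (Finset.filter_subset _ _)
            (Finset.union_subset (Finset.filter_subset _ _) (Finset.filter_subset _ _)))
        · refine Finset.disjoint_left.2 fun z hz hz2 => (Finset.mem_filter.1 hz).2 ?_
          rcases Finset.mem_union.1 hz2 with hh | hh
          · exact hℓ₂ (Submodule.mem_sup_left (hL₁Z z hh))
          · exact hℓ₂ (Submodule.mem_sup_right (hL₂Z z hh))
      omega
    -- every point `r` on the second line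
    have key : ∀ r ∈ Z'', ∀ z ∈ Z, z.rep ∈ L₁ ⊔ Submodule.span k {r.rep} ∨ z.rep ∈ L₂ := by
      intro r hr z hz
      by_contra hcon
      push Not at hcon
      obtain ⟨ℓ₃, hℓ₃, hℓ₃z⟩ := exists_functional hcon.1
      set Z₃ := Z.filter fun z => ℓ₃ z.rep ≠ 0 with hZ₃
      have hne₃ : Z₃.Nonempty := ⟨z, Finset.mem_filter.2 ⟨hz, hℓ₃z⟩⟩
      have hdisj3 : Disjoint (insert r Z') Z₃ := Finset.disjoint_left.2 fun y hy hy2 =>
        (Finset.mem_filter.1 hy2).2 (hℓ₃ (by
          rcases Finset.mem_insert.1 hy with rfl | hy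
          · exact Submodule.mem_sup_right (Submodule.mem_span_singleton_self _)
          · exact Submodule.mem_sup_left (hL₁Z y hy)))
      have hc3 : (insert r Z').card + Z₃.card ≤ Z.card := by
        rw [← Finset.card_union_of_disjoint hdisj3]
        exact Finset.card_le_card (Finset.union_subset (Finset.insert_subset
          ((Finset.filter_subset _ _) hr) (Finset.filter_subset _ _)) (Finset.filter_subset _ _))
      rw [Finset.card_insert_of_notMem (Finset.disjoint_right.1 hdisj hr)] at hc3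
      obtain ⟨L₃, hL₃, hL₃Z⟩ := CB.collinear (h.residual ℓ₃) hne₃ (show Z₃.card ≤ _ by omega)
      -- two further points of the second line
      obtain ⟨a, ha, b, hb, hab⟩ := Finset.one_lt_card.1
        (show 1 < (Z''.erase r).card by rw [Finset.card_erase_of_mem hr]; omega)
      rw [Finset.mem_erase] at ha hb
      have hout : ∀ a ∈ Z'', a ≠ r → a.rep ∉ L₁ ⊔ Submodule.span k {r.rep} := by
        intro a ha har hmem'
        obtain ⟨x, hx, y, hy, hxy⟩ := Submodule.mem_sup.1 hmem'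
        obtain ⟨c, rfl⟩ := Submodule.mem_span_singleton.1 hy
        have h5 : x ∈ L₁ ⊓ L₂ := ⟨hx, by
          rw [eq_sub_of_add_eq hxy]
          exact sub_mem (hL₂Z a ha) (L₂.smul_mem _ (hL₂Z r hr))⟩
        rw [hskew, Submodule.mem_bot] at h5
        rw [h5, zero_add] at hxy
        exact har (rep_mem_span_singleton_iff.1 (Submodule.mem_span_singleton.2 ⟨c, hxy⟩))
      have hspan : ∀ a ∈ Z'', a ≠ r → a ∈ Z₃ := fun a ha har => by
        refine Finset.mem_filter.2 ⟨(Finset.filter_subset _ _) ha, fun h0 => ?_⟩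
        -- otherwise the hyperplane contains both lines
        have hL₂le : Submodule.span k {r.rep, a.rep} = L₂ := by
          refine Submodule.eq_of_le_of_finrank_le (Submodule.span_le.2 ?_) ?_
          · rintro _ (rfl | rfl)
            · exact hL₂Z r hr
            · exact hL₂Z a ha
          · rw [finrank_span_pair (Ne.symm har), hL₂]
        have hall : ∀ v, ℓ₃ v = 0 := by
          have htop : L₁ ⊔ L₂ = ⊤ := by
            refine Submodule.eq_top_of_finrank_eq ?_
            have := Submodule.finrank_sup_add_finrank_inf_eq L₁ L₂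
            rw [hskew, finrank_bot] at this
            rw [Module.finrank_fin_fun]
            omega
          intro v
          have hv : v ∈ L₁ ⊔ L₂ := htop ▸ Submodule.mem_top
          refine (sup_le (fun x hx => hℓ₃ (Submodule.mem_sup_left hx)) ?_ :
            L₁ ⊔ L₂ ≤ LinearMap.ker ℓ₃) hv
          rw [← hL₂le, Submodule.span_le]
          rintro _ (rfl | rfl)
          · exact hℓ₃ (Submodule.mem_sup_right (Submodule.mem_span_singleton_self _))
          · exact h0
        exact hℓ₃z (hall _)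
      have hL : Submodule.span k {a.rep, b.rep} = L₃ := by
        refine Submodule.eq_of_le_of_finrank_le (Submodule.span_le.2 ?_) ?_
        · rintro _ (rfl | rfl)
          · exact hL₃Z a (hspan a ha.2 ha.1)
          · exact hL₃Z b (hspan b hb.2 hb.1)
        · rw [finrank_span_pair hab, hL₃]
      have hL' : Submodule.span k {a.rep, b.rep} ≤ L₂ := by
        rw [Submodule.span_le]
        rintro _ (rfl | rfl)
        · exact hL₂Z a ha.2
        · exact hL₂Z b hb.2
      exact hcon.2 (hL' (hL.ge (hL₃Z z (Finset.mem_filter.2 ⟨hz, hℓ₃z⟩))))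
    have hcover : ∀ z ∈ Z, z.rep ∈ L₁ ∨ z.rep ∈ L₂ := by
      intro z hz
      by_contra hcon
      push Not at hcon
      obtain ⟨a, ha, b, hb, hab⟩ := Finset.one_lt_card.1 (show 1 < Z''.card by omega)
      obtain ⟨x, hx, y, hy, hxy⟩ := Submodule.mem_sup.1 ((key a ha z hz).resolve_right hcon.2)
      obtain ⟨x', hx', y', hy', hxy'⟩ := Submodule.mem_sup.1 ((key b hb z hz).resolve_right hcon.2)
      obtain ⟨c, rfl⟩ := Submodule.mem_span_singleton.1 hy
      obtain ⟨c', rfl⟩ := Submodule.mem_span_singleton.1 hy'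
      have h5 : x - x' ∈ L₁ ⊓ L₂ := ⟨sub_mem hx hx', by
        rw [show x - x' = c' • b.rep - c • a.rep by
          rw [eq_sub_of_add_eq hxy, eq_sub_of_add_eq hxy']; abel]
        exact sub_mem (L₂.smul_mem _ (hL₂Z b hb)) (L₂.smul_mem _ (hL₂Z a ha))⟩
      rw [hskew, Submodule.mem_bot, sub_eq_zero] at h5
      rw [← hxy', h5] at hxy
      have h6 : c • a.rep = c' • b.rep := add_left_cancel hxy
      have hc : c = 0 := by
        by_contra hc
        refine hab (rep_mem_span_singleton_iff.1 (Submodule.mem_span_singleton.2 ⟨c⁻¹ * c', ?_⟩))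
        rw [mul_smul, ← h6, smul_smul, inv_mul_cancel₀ hc, one_smul]
      rw [← h6, hc, zero_smul, add_zero] at hxy'
      exact hcon.1 (hxy' ▸ hx')
    refine ⟨L₁, L₂, hL₁, hL₂, hskew, hcover, Z.filter fun z => z.rep ∈ L₁,
      Z.filter fun z => z.rep ∈ L₂, Finset.filter_subset _ _, Finset.filter_subset _ _,
      Finset.disjoint_left.2 fun z hz hz2 => ?_, fun z hz => (Finset.mem_filter.1 hz).2,
      fun z hz => (Finset.mem_filter.1 hz).2, ?_, ?_⟩
    · have h5 : z.rep ∈ L₁ ⊓ L₂ := ⟨(Finset.mem_filter.1 hz).2, (Finset.mem_filter.1 hz2).2⟩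
      rw [hskew, Submodule.mem_bot] at h5
      exact z.rep_nonzero h5
    · exact le_trans (show n + 1 + 1 ≤ Z'.card by omega) (Finset.card_le_card fun z hz =>
        Finset.mem_filter.2 ⟨(Finset.filter_subset _ _) hz, hL₁Z z hz⟩)
    · obtain ⟨r, hr⟩ := hne''
      have hrS : r ∈ Z.filter fun z => z.rep ∈ L₂ :=
        Finset.mem_filter.2 ⟨(Finset.filter_subset _ _) hr, hL₂Z r hr⟩
      obtain ⟨ℓ₄, hℓ₄, z₄, hz₄, hℓz₄⟩ := hplane _ (finrank_sup_le hL₁ r.rep)
      have h7 := CB.card_ge (h.residual ℓ₄) ⟨z₄, Finset.mem_filter.2 ⟨hz₄, hℓz₄⟩⟩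
      have h8 : (Z.filter fun z => ℓ₄ z.rep ≠ 0).card ≤
          ((Z.filter fun z => z.rep ∈ L₂).erase r).card := by
        refine Finset.card_le_card fun z hz => ?_
        rw [Finset.mem_filter] at hz
        refine Finset.mem_erase.2 ⟨?_, Finset.mem_filter.2 ⟨hz.1, (hcover z hz.1).resolve_left
          fun hh => hz.2 (hℓ₄ (Submodule.mem_sup_left hh))⟩⟩
        rintro rfl
        exact hz.2 (hℓ₄ (Submodule.mem_sup_right (Submodule.mem_span_singleton_self _)))
      rw [Finset.card_erase_of_mem hrS] at h8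
      omega

end Groth.Agent.CAlg6.CayleyBach
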