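import Groth.Agent.CAlg6.BorelSelfNorm
import Groth.Agent.SGA3a.NonAff.Neutral

/-!
Borel subgroups and homomorphisms with central kernel.
-/

set_option autoImplicit false
set_option linter.unusedSectionVars false
set_option linter.style.haveILetI false
set_option backward.isDefEq.respectTransparency.types false

universe u

open CategoryTheory CategoryTheory.Limits MonoidalCategory CartesianMonoidalCategory MonObj GrpObj AlgebraicGeometry

noncomputable section

namespace Groth.Agent.CAlg6.CentExtBorel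

open SGA3a.NonAff AlgGrp79 AGF80.BorelCor

variable {k : Type u} [Field k] [IsAlgClosed k]

local notation "pk" => 𝟙_ (Over (Spec (CommRingCat.of k)))

variable {G G' : Over (Spec (CommRingCat.of k))} [GrpObj G] [GrpObj G'] [Smooth G.hom] [QuasiCompact G.hom]
  [ConnectedSpace G.left] [Smooth G'.hom] [QuasiCompact G'.hom] [ConnectedSpace G'.left]

/-- a morphism whose underlying map is a closed immersion is a monomorphism -/
theorem mono_of_cl {S : Scheme.{u}} {X Y : Over S} (f : X ⟶ Y) (h : IsClosedImmersion f.left) : Mono f := by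
  haveI := h
  haveI : Mono f.left := inferInstance
  exact Over.mono_of_mono_left f

/-- a subgroup isomorphic to a Borel subgroup is a Borel subgroup -/
theorem isBorelOver_of_iso {B P : Over (Spec (CommRingCat.of k))} [GrpObj B] [GrpObj P] {b : B ⟶ G}
    (hB : Red.IsBorelOver k b) (c : P ⟶ G) [IsMonHom c] (e : P ≅ B) (he : e.hom ≫ b = c) :
    Red.IsBorelOver k c := by
  obtain ⟨hm, hcl, hs, hc, ⟨n, hn⟩, hmax⟩ := hB
  haveI := hm; haveI := hcl; haveI := hs; haveI := hc
  haveI : IsIso e.hom.left := ((Over.forget _).mapIso e).isIso_hom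
  haveI : Mono b := mono_of_cl b inferInstance
  haveI : IsClosedImmersion c.left := by rw [← he, Over.comp_left]; infer_instance
  haveI : Mono c := mono_of_cl c inferInstance
  haveI : IsMonHom e.hom := AlgGrp33.AffineProper.isMonHom_of_mono e.hom b c he
  refine ⟨inferInstance, inferInstance, by rw [← Over.w e.hom]; infer_instance, ?_, ⟨n, fun X => ?_⟩, ?_⟩
  · haveI : IsIso e.inv.left := ((Over.forget _).mapIso e).isIso_inv
    exact e.inv.left.surjective.connectedSpace e.inv.left.continuous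
  · let f : (X ⟶ P) →* (X ⟶ B) := MonoidHom.mk' (fun x => x ≫ e.hom) fun x y => MonObj.mul_comp x y e.hom
    have hf : Function.Injective f := fun x y h => (cancel_mono e.hom).1 h
    rw [← Subgroup.map_eq_bot_iff_of_injective _ hf]
    exact eq_bot_iff.2 ((map_derivedSeries_le_derivedSeries f n).trans_eq (hn X))
  · intro B' _ i' _ f hi' hs' hc' hsol' hf
    haveI := hmax B' i' (e.inv ≫ f) hi' hs' hc' hsol' (by rw [Category.assoc, hf, ← he, Iso.inv_hom_id_assoc])
    haveI : IsIso e.inv := e.isIso_inv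
    exact IsIso.of_isIso_comp_left e.inv f

/-- a point conjugating a Borel subgroup into itself -/
theorem normalizes_of_conj {B : Over (Spec (CommRingCat.of k))} (b : B ⟶ G) (g : pk ⟶ G)
    (d : B ⟶ B) (hd : d ≫ b = AGF.conjBy g b) (d' : B ⟶ B) (hd' : d' ≫ b = AGF.conjBy g⁻¹ b)
    (X' : Over (Spec (CommRingCat.of k))) (x : X' ⟶ pk) (h : X' ⟶ B) :
    (∃ h' : X' ⟶ B, (x ≫ g) * (h ≫ b) * (x ≫ g)⁻¹ = h' ≫ b) ∧
      (∃ h' : X' ⟶ B, (x ≫ g)⁻¹ * (h ≫ b) * (x ≫ g) = h' ≫ b) := by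
  refine ⟨⟨h ≫ d, ?_⟩, ⟨h ≫ d', ?_⟩⟩
  · rw [Category.assoc, hd, BorelConj.comp_conjBy, AGF.conjBy, toUnit_unique (toUnit X') x]
  · rw [Category.assoc, hd', BorelConj.comp_conjBy, AGF.conjBy, toUnit_unique (toUnit X') x]
    simp only [GrpObj.comp_inv, _root_.inv_inv]

variable (u : G ⟶ G') [IsMonHom u] [Surjective u.left]
  (hker : ∀ (X : Over (Spec (CommRingCat.of k))) (z : X ⟶ G), z ≫ u = 1 → ∀ g : X ⟶ G, z * g = g * z)

include hker in
/-- central kernels lie in every Borel subgroup -/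
theorem exists_factor_kernel {B : Over (Spec (CommRingCat.of k))} [GrpObj B] {b : B ⟶ G} (hB : Red.IsBorelOver k b)
    {X : Over (Spec (CommRingCat.of k))} (z : X ⟶ G) (hz : z ≫ u = 1) : ∃ y : X ⟶ B, y ≫ b = z := by
  refine BorelSelfNorm.exists_factor_nonaff hB X z fun X' x h => ⟨⟨h, ?_⟩, ⟨h, ?_⟩⟩
  · rw [hker X' (x ≫ z) (by rw [Category.assoc, hz, MonObj.comp_one]) (h ≫ b), mul_inv_cancel_right]
  · rw [_root_.mul_assoc, ← hker X' (x ≫ z) (by rw [Category.assoc, hz, MonObj.comp_one]) (h ≫ b), inv_mul_cancel_left]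

include hker in
/-- **a Borel subgroup is the inverse image of a Borel subgroup** -/
theorem exists_borel_cartesian {B : Over (Spec (CommRingCat.of k))} [GrpObj B] {b : B ⟶ G}
    (hB : Red.IsBorelOver k b) :
    ∃ (B' : Over (Spec (CommRingCat.of k))) (_ : GrpObj B') (b' : B' ⟶ G') (π : B ⟶ B'),
      Red.IsBorelOver k b' ∧ IsMonHom π ∧ IsCov π ∧ IsPullback b π u b' := by
  classical
  obtain ⟨_, _, _, _, hsolv, hmax⟩ := id hB
  haveI : Mono b := mono_of_cl b inferInstance
  haveI : QuasiCompact B.hom := by rw [← Over.w b]; infer_instance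
  haveI : IsReduced B.left := isReduced_of_smooth B.hom
  have hu : IsCov u := isCov_of_surjective u
  obtain ⟨V, _, v, p, hv, hvcl, hpm, hpv, hp, hVs, hVq, hVc, hVsol⟩ := exists_smooth_image (b ≫ u)
  haveI := hv; haveI := hvcl; haveI := hVs; haveI := hpm
  haveI := hVc inferInstance
  obtain ⟨B', _, b', g, hB', hg⟩ := exists_borel_ge v (hVsol hsolv)
  obtain ⟨hbm', hbcl', hbs', hbc', ⟨n, hn⟩, -⟩ := id hB'
  haveI := hbm'; haveI := hbcl'; haveI := hbs'; haveI := hbc'
  haveI : Mono b' := mono_of_cl b' inferInstance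
  haveI : IsReduced B'.left := isReduced_of_smooth B'.hom
  obtain ⟨P, _, c, π', hcm, hccl, hπm, hπ', hPft, hPqc, sq⟩ := exists_preimage u hu b'
  haveI := hcm; haveI := hccl; haveI := hπm; haveI := hPft; haveI := hPqc; haveI := hπ'.surj
  haveI : Mono c := mono_of_cl c inferInstance
  have hPsol : Red.IsSolvableGrp P := ⟨n + 1, fun X => by
    let f : (X ⟶ P) →* (X ⟶ B') := MonoidHom.mk' (fun x => x ≫ π') fun x y => MonObj.mul_comp x y π'
    have h1 : derivedSeries (X ⟶ P) n ≤ f.ker := fun x hx => by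
      have := map_derivedSeries_le_derivedSeries f n ⟨x, hx, rfl⟩
      rwa [hn X, Subgroup.mem_bot] at this
    rw [derivedSeries_succ, Subgroup.commutator_eq_bot_iff_le_centralizer]
    intro x hx y _
    have h2 : (x ≫ c) ≫ u = 1 := by
      rw [Category.assoc, sq.w, ← Category.assoc, show x ≫ π' = 1 from MonoidHom.mem_ker.1 (h1 hx), MonObj.one_comp]
    rw [← cancel_mono c, MonObj.mul_comp _ _ c, MonObj.mul_comp _ _ c]
    exact (hker X _ h2 (y ≫ c)).symm⟩
  obtain ⟨Pr, _, r, hrm, hrcl, hrs, hrred⟩ := exists_reduced_subgroup P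
  haveI := hrm; haveI := hrcl; haveI := hrs; haveI := hrred
  haveI : Mono r := mono_of_cl r inferInstance
  haveI : LocallyOfFiniteType Pr.hom := by rw [← Over.w r]; infer_instance
  haveI : QuasiCompact Pr.hom := by rw [← Over.w r]; infer_instance
  haveI : Smooth Pr.hom := AlgGrp33.IsogSub.smooth_of_reduced Pr
  obtain ⟨P₀, _, i, him, hicl, hio, hP0s, hP0q, hP0c, hr0⟩ := exists_neutral Pr
  haveI := him; haveI := hicl; haveI := hio; haveI := hP0s; haveI := hP0q; haveI := hP0c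
  haveI : Mono i := mono_of_cl i inferInstance
  obtain ⟨f₀, hf₀, hf₀'⟩ := sq.exists_lift b (p ≫ g) (by rw [Category.assoc, hg, hpv])
  obtain ⟨fr, hfr⟩ := exists_factor_of_pts f₀ r fun x => BorelImage.exists_pt_lift r (x ≫ f₀)
  haveI : IsMonHom f₀ := AlgGrp33.AffineProper.isMonHom_of_mono f₀ c b hf₀
  haveI : IsMonHom fr := AlgGrp33.AffineProper.isMonHom_of_mono fr r f₀ hfr
  obtain ⟨f₁, hf₁m, hf₁⟩ := exists_factor_neutral i hr0 fr
  haveI : IsIso f₁ := by
    let e := i ≫ r ≫ c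
    have hecl : IsClosedImmersion e.left := inferInstanceAs (IsClosedImmersion (i.left ≫ r.left ≫ c.left))
    refine hmax P₀ e f₁ hecl hP0s hP0c ?_ (by simp only [e]; rw [reassoc_of% hf₁, reassoc_of% hfr, hf₀])
    obtain ⟨m, hm⟩ := hPsol
    refine ⟨m, fun X => ?_⟩
    let φ : (X ⟶ P₀) →* (X ⟶ P) := MonoidHom.mk' (fun x => x ≫ i ≫ r) fun x y => MonObj.mul_comp x y (i ≫ r)
    have hφ : Function.Injective φ := fun x y h => (cancel_mono (i ≫ r)).1 h
    rw [← Subgroup.map_eq_bot_iff_of_injective _ hφ]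
    exact eq_bot_iff.2 ((map_derivedSeries_le_derivedSeries φ m).trans_eq (hm X))
  -- rational points of the preimage
  have hpts : ∀ x : pk ⟶ P, ∃ z : pk ⟶ B, z ≫ b = x ≫ c := fun x => by
    obtain ⟨y, hy⟩ := BorelImage.exists_pt_lift r x
    have hc : ∀ y : pk ⟶ Pr, ∃ d : B ⟶ B, d ≫ b = AGF.conjBy ((y ≫ r) ≫ c) b := fun y => by
      haveI := BorelConj.isMonHom_conjBy y fr
      obtain ⟨w, -, hw⟩ := exists_factor_neutral i hr0 (AGF.conjBy y fr)
      refine ⟨w ≫ inv f₁, ?_⟩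
      have hb : b = fr ≫ r ≫ c := by rw [reassoc_of% hfr, hf₀]
      have hi : inv f₁ ≫ b = i ≫ r ≫ c := by rw [IsIso.inv_comp_eq, hb, ← hf₁, Category.assoc]
      rw [Category.assoc, hi, reassoc_of% hw, hb]
      simp only [AGF.conjBy, MonObj.mul_comp, GrpObj.inv_comp, Category.assoc]
    obtain ⟨d, hd⟩ := hc y
    obtain ⟨d', hd'⟩ := hc y⁻¹
    rw [hy] at hd
    rw [GrpObj.inv_comp, hy, GrpObj.inv_comp] at hd'
    exact BorelSelfNorm.exists_factor_nonaff hB pk (x ≫ c) fun X' t h =>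
      normalizes_of_conj b (x ≫ c) d hd d' hd' X' t h
  -- the image is the whole Borel subgroup
  obtain ⟨h, hh⟩ := exists_factor_of_pts b' v fun q => by
    obtain ⟨x, hx⟩ := BorelImage.exists_pt_lift π' q
    obtain ⟨z, hz⟩ := hpts x
    refine ⟨z ≫ p, ?_⟩
    rw [Category.assoc, hpv, reassoc_of% hz, sq.w, reassoc_of% hx]
  haveI : Mono v := mono_of_cl v inferInstance
  haveI : IsIso g := ⟨h, by rw [← cancel_mono v, Category.assoc, hh, hg, Category.id_comp],
    by rw [← cancel_mono b', Category.assoc, hg, hh, Category.id_comp]⟩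
  obtain ⟨π, hπdef⟩ : ∃ π : B ⟶ B', π = p ≫ g := ⟨_, rfl⟩
  have hπ : IsCov π := hπdef ▸ hp.comp (by
    haveI : IsIso g.left := ((Over.forget _).mapIso (asIso g)).isIso_hom
    exact .of_left g)
  have hw : b ≫ u = π ≫ b' := by rw [hπdef, Category.assoc, hg, hpv]
  haveI : IsMonHom π := AlgGrp33.AffineProper.isMonHom_of_mono π b' (b ≫ u) hw.symm
  have hex : ∀ (X : Over (Spec (CommRingCat.of k))) (a : X ⟶ G) (y : X ⟶ B'), a ≫ u = y ≫ b' → ∃ z, z ≫ b = a := by
    intro X a y hay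
    let w : pullback π y ⟶ X := pullback.snd π y
    let l : pullback π y ⟶ B := pullback.fst π y
    have hwc : IsCov w := IsCov.of_isPullback (IsPullback.of_hasPullback π y) hπ
    haveI := hwc.epi
    obtain ⟨k₀, hk₀⟩ := exists_factor_kernel u hker hB ((l ≫ b)⁻¹ * (w ≫ a)) (by
      rw [MonObj.mul_comp, GrpObj.inv_comp, Category.assoc, Category.assoc, hw, hay, ← Category.assoc l,
        show l ≫ π = w ≫ y from pullback.condition, Category.assoc, inv_mul_cancel])
    have hz : (l * k₀) ≫ b = w ≫ a := by rw [MonObj.mul_comp, hk₀, mul_inv_cancel_left]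
    obtain ⟨z, hz'⟩ := hwc.desc (l * k₀) fun T s t hst => by
      rw [← cancel_mono b, Category.assoc, Category.assoc, hz, reassoc_of% hst]
    exact ⟨z, by rw [← cancel_epi w, reassoc_of% hz', hz]⟩
  refine ⟨B', inferInstance, b', π, hB', inferInstance, hπ, ⟨hw⟩, ⟨PullbackCone.IsLimit.mk _
    (fun s => (hex s.pt s.fst s.snd s.condition).choose)
    (fun s => (hex s.pt s.fst s.snd s.condition).choose_spec)
    (fun s => ?_) (fun s m h₁ _ => ?_)⟩⟩
  · rw [← cancel_mono b', Category.assoc, ← hw, ← Category.assoc,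
      (hex s.pt s.fst s.snd s.condition).choose_spec, s.condition]
  · rw [← cancel_mono b, h₁]
    exact (hex s.pt s.fst s.snd s.condition).choose_spec.symm

include hker in
/-- **the inverse image of a Borel subgroup is a Borel subgroup** -/
theorem exists_borel_preimage {B' : Over (Spec (CommRingCat.of k))} [GrpObj B'] {b' : B' ⟶ G'}
    (hB' : Red.IsBorelOver k b') :
    ∃ (B : Over (Spec (CommRingCat.of k))) (_ : GrpObj B) (b : B ⟶ G) (π : B ⟶ B'),
      Red.IsBorelOver k b ∧ IsCov π ∧ IsPullback b π u b' := by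
  obtain ⟨B₀, _, b₀, hB₀, -⟩ := exists_borel_mem (1 : pk ⟶ G)
  obtain ⟨B'', _, b'', π, hB'', -, hπ, sq⟩ := exists_borel_cartesian u hker hB₀
  obtain ⟨g', φ, hφ⟩ := borel_conj hB'' hB'
  obtain ⟨g, rfl⟩ := BorelImage.exists_pt_lift u g'
  haveI : IsMonHom b₀ := hB₀.1
  haveI : IsClosedImmersion b₀.left := hB₀.2.1
  haveI : Mono b₀ := mono_of_cl b₀ inferInstance
  have hb₁ := BorelOps.isBorelOver_conjBy hB₀ g
  haveI : IsClosedImmersion (AGF.conjBy g b₀).left := hb₁.2.1
  haveI : Mono (AGF.conjBy g b₀) := mono_of_cl (AGF.conjBy g b₀) inferInstance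
  have hc : ∀ (T : Over (Spec (CommRingCat.of k))) (x : T ⟶ B₀), (x ≫ AGF.conjBy g b₀) =
      (toUnit T ≫ g) * (x ≫ b₀) * (toUnit T ≫ g)⁻¹ := fun T x => by
    rw [BorelConj.comp_conjBy]
  have hl : ∀ s : PullbackCone u b', ∃ z : s.pt ⟶ B₀,
      z ≫ b₀ = (toUnit s.pt ≫ g)⁻¹ * s.fst * (toUnit s.pt ≫ g) ∧ z ≫ π = s.snd ≫ φ.inv := fun s => by
    refine sq.exists_lift _ _ ?_
    have h2 : s.snd ≫ b' = (s.snd ≫ φ.inv) ≫ AGF.conjBy (g ≫ u) b'' := by
      rw [← hφ, Category.assoc, Iso.inv_hom_id_assoc]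
    rw [MonObj.mul_comp, MonObj.mul_comp, GrpObj.inv_comp, s.condition, h2, BorelConj.comp_conjBy]
    simp only [AGF.conjBy, Category.assoc, _root_.mul_assoc, inv_mul_cancel_left, inv_mul_cancel, _root_.mul_one]
  refine ⟨B₀, inferInstance, AGF.conjBy g b₀, π ≫ φ.hom, hb₁, hπ.comp (by
    haveI : IsIso φ.hom.left := ((Over.forget _).mapIso φ).isIso_hom
    exact .of_left φ.hom), ⟨?_⟩, ⟨PullbackCone.IsLimit.mk _ (fun s => (hl s).choose)
      (fun s => ?_) (fun s => ?_) (fun s m h₁ _ => ?_)⟩⟩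
  · rw [Category.assoc, hφ, BorelConj.comp_conjBy, ← sq.w]
    simp only [AGF.conjBy, MonObj.mul_comp, GrpObj.inv_comp, Category.assoc]
  · rw [hc, (hl s).choose_spec.1]
    simp only [_root_.mul_assoc, mul_inv_cancel_left, inv_mul_cancel_left, mul_inv_cancel, _root_.mul_one]
  · rw [← Category.assoc, (hl s).choose_spec.2, Category.assoc, Iso.inv_hom_id, Category.comp_id]
  · rw [← cancel_mono (AGF.conjBy g b₀), h₁, hc s.pt, (hl s).choose_spec.1]
    simp only [_root_.mul_assoc, mul_inv_cancel_left, inv_mul_cancel_left, mul_inv_cancel, _root_.mul_one]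

end Groth.Agent.CAlg6.CentExtBorel
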