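import Groth.Agent.CAlg6.CentExtBorel
import Groth.Agent.RedPts82.QuotBc
import Groth.Agent.Grpd80.SubDescent
import Groth.Agent.AlgSt88.QuotStackDesc
import Groth.Agent.S0083

/-!
Borel subgroups of smooth group schemes and faithfully flat homomorphisms with central kernel.
-/

set_option autoImplicit false
set_option linter.unusedSectionVars false
set_option linter.style.haveILetI false
set_option backward.isDefEq.respectTransparency.types false

universe u

open CategoryTheory CategoryTheory.Limits MonoidalCategory CartesianMonoidalCategory MonObj GrpObj AlgebraicGeometry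
open Groth.Agent.RedPts82

noncomputable section

namespace Groth.Agent.CAlg6.CentExtBorelBase

variable {S : Scheme.{u}} {G G' : Over S} [GrpObj G] [GrpObj G'] [Smooth G.hom] [QuasiCompact G.hom]
  [Smooth G'.hom] [QuasiCompact G'.hom] [QuasiSeparated G'.hom]
  (u : G ⟶ G') [IsMonHom u] [Flat u.left] [Surjective u.left]
  (hker : ∀ (X : Over S) (z : X ⟶ G), z ≫ u = 1 → ∀ g : X ⟶ G, z * g = g * z)

theorem lfp_u : LocallyOfFinitePresentation u.left := by
  haveI : LocallyOfFinitePresentation (u.left ≫ G'.hom) := by rw [Over.w u]; infer_instance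
  exact SpPts86.lfp_of_comp u.left G'.hom

theorem qc_u : QuasiCompact u.left := by
  haveI : QuasiCompact (u.left ≫ G'.hom) := by rw [Over.w u]; infer_instance
  exact QuasiCompact.of_comp u.left G'.hom

theorem surjective_geom (s : S) : Surjective ((Over.pullback (Red.geomPt s)).map u).left :=
  MorphismProperty.of_isPullback (P := @Surjective) (isPullback_bc_map u (Red.geomPt s)) ‹Surjective u.left›

include hker in
theorem central_geom (s : S) (X : Over (Spec (CommRingCat.of (AlgebraicClosure (S.residueField s)))))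
    (z : X ⟶ Red.geomFibre s G) (hz : z ≫ (Over.pullback (Red.geomPt s)).map u = 1) (g : X ⟶ Red.geomFibre s G) :
    z * g = g * z := by
  apply toBase_injective (Red.geomPt s)
  rw [toBase_mul, toBase_mul]
  refine hker _ _ ?_ _
  rw [← toBase_comp_map, hz]
  exact toBase_one _

include hker in
/-- the inverse image of a Borel subgroup -/
theorem isBorel_preimage (hconn : ∀ s : S, _root_.IsConnected (G.hom.base ⁻¹' {s}))
    (hconn' : ∀ s : S, _root_.IsConnected (G'.hom.base ⁻¹' {s}))
    {B' : Over S} [GrpObj B'] (b' : B' ⟶ G') [Mono b'] [Smooth B'.hom] [QuasiCompact B'.hom]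
    (hgeo : ∀ s : S, Red.IsBorelOver (AlgebraicClosure (S.residueField s)) ((Over.pullback (Red.geomPt s)).map b'))
    {B : Over S} [GrpObj B] (b : B ⟶ G) [IsMonHom b] (v : B ⟶ B') (hP : IsPullback b v u b') :
    Mono b ∧ Smooth B.hom ∧ QuasiCompact B.hom ∧
      ∀ s : S, Red.IsBorelOver (AlgebraicClosure (S.residueField s)) ((Over.pullback (Red.geomPt s)).map b) := by
  haveI hm : Mono b := ⟨fun a c e => hP.hom_ext e (by
    rw [← cancel_mono b', Category.assoc, Category.assoc, ← hP.w, reassoc_of% e])⟩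
  haveI := lfp_u u
  haveI := qc_u u
  have hl := hP.map (Over.forget S)
  haveI : Flat v.left := MorphismProperty.of_isPullback (P := @Flat) hl ‹Flat u.left›
  haveI : LocallyOfFinitePresentation v.left :=
    MorphismProperty.of_isPullback (P := @LocallyOfFinitePresentation) hl ‹_›
  haveI : QuasiCompact v.left := MorphismProperty.of_isPullback (P := @QuasiCompact) hl ‹_›
  have hg : ∀ s : S, Red.IsBorelOver (AlgebraicClosure (S.residueField s)) ((Over.pullback (Red.geomPt s)).map b) := fun s => by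
    haveI : Smooth (Red.geomFibre s G).hom := inferInstanceAs (Smooth (pullback.snd G.hom _))
    haveI : QuasiCompact (Red.geomFibre s G).hom := inferInstanceAs (QuasiCompact (pullback.snd G.hom _))
    haveI : Smooth (Red.geomFibre s G').hom := inferInstanceAs (Smooth (pullback.snd G'.hom _))
    haveI : QuasiCompact (Red.geomFibre s G').hom := inferInstanceAs (QuasiCompact (pullback.snd G'.hom _))
    haveI := BorelSelfNorm.connectedSpace_geomFibre G hconn s
    haveI := BorelSelfNorm.connectedSpace_geomFibre G' hconn' s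
    haveI : Surjective ((Over.pullback (Red.geomPt s)).map u).left := surjective_geom u s
    obtain ⟨B₁, _, b₁, π₁, hB₁, -, sq₁⟩ := CentExtBorel.exists_borel_preimage ((Over.pullback (Red.geomPt s)).map u)
      (central_geom u hker s) (hgeo s)
    have sq := hP.map (Over.pullback (Red.geomPt s))
    exact CentExtBorel.isBorelOver_of_iso hB₁ _ (sq.isoIsPullback _ _ sq₁) (sq.isoIsPullback_hom_fst _ _ sq₁)
  haveI : LocallyOfFinitePresentation B.hom := by rw [← Over.w v]; infer_instance
  haveI : Flat B.hom := by rw [← Over.w v]; infer_instance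
  refine ⟨hm, ?_, by rw [← Over.w v]; infer_instance, hg⟩
  refine Smooth.of_smooth_fiberToSpecResidueField B.hom fun s => ?_
  let α := Spec.map (CommRingCat.ofHom (algebraMap (S.residueField s) (AlgebraicClosure (S.residueField s))))
  haveI : Flat α := by
    rw [HasRingHomProperty.Spec_iff (P := @Flat)]
    exact RingHom.flat_algebraMap_iff.2 inferInstance
  haveI : Surjective α := ⟨fun x => ⟨(Classical.arbitrary (PrimeSpectrum (AlgebraicClosure (S.residueField s))) : _),
    @Subsingleton.elim _ (inferInstanceAs (Subsingleton (PrimeSpectrum (S.residueField s)))) _ _⟩⟩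
  let r : pullback B.hom (Red.geomPt s) ⟶ B.hom.fiber s :=
    pullback.lift (pullback.fst _ _) (pullback.snd _ _ ≫ α) (by rw [pullback.condition, Category.assoc])
  have hsq : IsPullback r (pullback.snd B.hom (Red.geomPt s)) (pullback.snd B.hom (S.fromSpecResidueField s)) α := by
    refine IsPullback.of_right (h₁₂ := pullback.fst B.hom (S.fromSpecResidueField s)) (v₁₃ := B.hom)
      (h₂₂ := S.fromSpecResidueField s) ?_ (pullback.lift_snd _ _ _) (IsPullback.of_hasPullback _ _)
    rw [pullback.lift_fst]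
    exact IsPullback.of_hasPullback B.hom (Red.geomPt s)
  haveI : MorphismProperty.DescendsAlong (@Smooth : MorphismProperty Scheme.{u}) Unr55.fpqc.{u} := by
    unfold Unr55.fpqc; infer_instance
  exact MorphismProperty.of_isPullback_of_descendsAlong (P := @Smooth) (Q := Unr55.fpqc.{u}) hsq.flip
    ⟨⟨inferInstance, inferInstance⟩, inferInstance⟩ (hg s).2.2.1

include hker in
/-- every Borel subgroup is an inverse image -/
theorem exists_borel_image (hconn : ∀ s : S, _root_.IsConnected (G.hom.base ⁻¹' {s}))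
    (hconn' : ∀ s : S, _root_.IsConnected (G'.hom.base ⁻¹' {s}))
    {B : Over S} [GrpObj B] (b : B ⟶ G) [IsMonHom b] [Mono b] [Smooth B.hom] [QuasiCompact B.hom]
    (hgeo : ∀ s : S, Red.IsBorelOver (AlgebraicClosure (S.residueField s)) ((Over.pullback (Red.geomPt s)).map b)) :
    ∃ (B' : Over S) (_ : GrpObj B') (b' : B' ⟶ G') (v : B ⟶ B'),
      (IsMonHom b' ∧ Mono b' ∧ Smooth B'.hom ∧ QuasiCompact B'.hom ∧
      ∀ s : S, Red.IsBorelOver (AlgebraicClosure (S.residueField s)) ((Over.pullback (Red.geomPt s)).map b')) ∧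
      IsMonHom v ∧ IsPullback b v u b' := by
  classical
  obtain ⟨⟨-, -, hnorm⟩, hcl⟩ := BorelSelfNorm.isNormalizerOf_and_closed hconn b hgeo
  haveI := hcl
  haveI := lfp_u u
  haveI := qc_u u
  haveI : Mono b.left := inferInstanceAs (Mono ((Over.forget S).map b))
  have hst : ∀ {T : Scheme.{u}} (x₀ x₁ : T ⟶ G.left), x₀ ≫ u.left = x₁ ≫ u.left →
      (∃ w, w ≫ b.left = x₀) → ∃ w, w ≫ b.left = x₁ := by
    rintro T x₀ x₁ h ⟨w, hw⟩
    have h1 : x₁ ≫ G.hom = x₀ ≫ G.hom := by rw [← Over.w u, ← Category.assoc, ← h, Category.assoc]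
    let X : Over S := Over.mk (x₀ ≫ G.hom)
    let a₀ : X ⟶ G := Over.homMk x₀
    let a₁ : X ⟶ G := Over.homMk x₁ h1
    let w₀ : X ⟶ B := Over.homMk w (by rw [← Over.w b, ← Category.assoc, hw]; rfl)
    have ha : w₀ ≫ b = a₀ := Over.OverMorphism.ext hw
    have hk : (a₀⁻¹ * a₁) ≫ u = 1 := by
      rw [MonObj.mul_comp, GrpObj.inv_comp, show a₀ ≫ u = a₁ ≫ u from Over.OverMorphism.ext h, inv_mul_cancel]
    obtain ⟨y, hy⟩ := (hnorm X (a₀⁻¹ * a₁)).2 fun X' x h => by
      have c := hker X' (x ≫ (a₀⁻¹ * a₁)) (by rw [Category.assoc, hk, MonObj.comp_one]) (h ≫ b)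
      exact ⟨⟨h, by rw [c, mul_inv_cancel_right]⟩, ⟨h, by rw [_root_.mul_assoc, ← c, inv_mul_cancel_left]⟩⟩
    refine ⟨(w₀ * y).left, ?_⟩
    rw [← Over.comp_left, MonObj.mul_comp, hy, ha, mul_inv_cancel_left]
    rfl
  let P : MorphismProperty Scheme.{u} := @IsClosedImmersion
  haveI : P.DescendsAlong (@Surjective ⊓ @Flat ⊓ @QuasiCompact) := Unr55.isClosedImmersion
  have hbij := Grpd80.bijOn_pullback u.left P (fun f hf => by haveI : IsClosedImmersion f := hf; infer_instance)
    (fun f hf => by haveI : IsClosedImmersion f := hf; exact AlgSt88.indQA_of_isAffineHom f)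
  let Y : Subobject G.left := Subobject.mk b.left
  have hY : ∀ {T : Scheme.{u}} (x : T ⟶ G.left), (∃ w, w ≫ Y.arrow = x) ↔ ∃ w, w ≫ b.left = x := fun x =>
    ⟨fun ⟨w, hw⟩ => ⟨w ≫ (Subobject.underlyingIso b.left).hom, by
        rw [Category.assoc, Subobject.underlyingIso_hom_comp_eq_mk, hw]⟩,
      fun ⟨w, hw⟩ => ⟨w ≫ (Subobject.underlyingIso b.left).inv, by
        rw [Category.assoc, Subobject.underlyingIso_arrow, hw]⟩⟩
  have hle : ∀ (p q : pullback u.left u.left ⟶ G.left), p ≫ u.left = q ≫ u.left →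
      (Subobject.pullback p).obj Y ≤ (Subobject.pullback q).obj Y := fun p q hpq => by
    obtain ⟨w, hw⟩ := (Grpd80.factors_pullback_iff p Y ((Subobject.pullback p).obj Y).arrow).1 ⟨𝟙 _, Category.id_comp _⟩
    obtain ⟨w', hw'⟩ := (hY _).2 (hst _ (((Subobject.pullback p).obj Y).arrow ≫ q) (by
      rw [Category.assoc, Category.assoc, hpq]) ((hY _).1 ⟨w, hw⟩))
    obtain ⟨l, hl⟩ := (Grpd80.factors_pullback_iff q Y _).2 ⟨w', hw'⟩
    exact Subobject.le_of_comm l hl
  obtain ⟨y, hyP, hy⟩ := hbij.surjOn (show Y ∈ _ from ⟨(by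
    show IsClosedImmersion Y.arrow
    rw [← Subobject.underlyingIso_hom_comp_eq_mk]
    haveI := (Subobject.underlyingIso b.left).isIso_hom
    infer_instance), le_antisymm (hle _ _ pullback.condition) (hle _ _ pullback.condition.symm)⟩)
  haveI : IsClosedImmersion y.arrow := hyP
  have hcrit : ∀ {T : Scheme.{u}} (x : T ⟶ G.left), (∃ w, w ≫ b.left = x) ↔ ∃ w, w ≫ y.arrow = x ≫ u.left := fun x => by
    rw [← hY x, ← Grpd80.factors_pullback_iff u.left y x, hy]
  let B' : Over S := Over.mk (y.arrow ≫ G'.hom)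
  let b' : B' ⟶ G' := Over.homMk y.arrow rfl
  haveI : IsClosedImmersion b'.left := hyP
  haveI : Mono b' := Over.mono_of_mono_left b'
  obtain ⟨vl, hvl⟩ := (hcrit b.left).1 ⟨𝟙 _, Category.id_comp _⟩
  let v : B ⟶ B' := Over.homMk vl (by
    show vl ≫ y.arrow ≫ G'.hom = _
    rw [← Category.assoc, hvl, Category.assoc, Over.w u, Over.w b])
  have hw : b ≫ u = v ≫ b' := Over.OverMorphism.ext hvl.symm
  have hex : ∀ (X : Over S) (a : X ⟶ G) (c : X ⟶ B'), a ≫ u = c ≫ b' → ∃ z, z ≫ b = a := fun X a c h => by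
    obtain ⟨w, hw'⟩ := (hcrit a.left).2 ⟨c.left, (congrArg CommaMorphism.left h).symm⟩
    exact ⟨Over.homMk w (by rw [← Over.w b, ← Category.assoc, hw', Over.w a]), Over.OverMorphism.ext hw'⟩
  have hP : IsPullback b v u b' := ⟨⟨hw⟩, ⟨PullbackCone.IsLimit.mk _
    (fun s => (hex s.pt s.fst s.snd s.condition).choose)
    (fun s => (hex s.pt s.fst s.snd s.condition).choose_spec)
    (fun s => by
      rw [← cancel_mono b', Category.assoc, ← hw, ← Category.assoc,
        (hex s.pt s.fst s.snd s.condition).choose_spec, s.condition])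
    (fun s m h₁ _ => by
      rw [← cancel_mono b, h₁]
      exact (hex s.pt s.fst s.snd s.condition).choose_spec.symm)⟩⟩
  have hvc : Cov v := Cov.of_isPullback hP ⟨inferInstance, inferInstance, inferInstance⟩
  -- factorisations descend along coverings
  have hdesc : ∀ {X W : Over S} (w : W ⟶ X), Cov w → ∀ (g : X ⟶ G'), (∃ l, l ≫ b' = w ≫ g) → ∃ l, l ≫ b' = g := by
    rintro X W w hwc g ⟨l, hl⟩
    obtain ⟨d, hd, -⟩ := hwc.desc l fun T s t hst' => by
      rw [← cancel_mono b', Category.assoc, Category.assoc, hl, reassoc_of% hst']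
    haveI := hwc.epi
    exact ⟨d, by rw [← cancel_epi w, reassoc_of% hd, hl]⟩
  letI : GrpObj B' := SGA3a.grpObjOfMono b'
    ⟨(1 : 𝟙_ (Over S) ⟶ B) ≫ v, by rw [Category.assoc, ← hw, MonObj.one_comp]⟩
    (hdesc (v ⊗ₘ v) (hvc.tensor hvc) _ ⟨(fst B B * snd B B) ≫ v, by
      rw [Category.assoc, ← hw, MonObj.mul_comp]
      simp only [MonObj.comp_mul, tensorHom_fst_assoc, tensorHom_snd_assoc, ← hw]⟩)
    (hdesc v hvc _ ⟨(𝟙 B)⁻¹ ≫ v, by
      rw [Category.assoc, ← hw, GrpObj.inv_comp, GrpObj.comp_inv, Category.id_comp, hw]⟩)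
  haveI : IsMonHom b' := SGA3a.isMonHom_grpObjOfMono b' _ _ _
  haveI : IsMonHom v := isMonHom_of_points v fun X x z => by
    rw [← cancel_mono b', Category.assoc, ← hw, MonObj.mul_comp _ _ b', Category.assoc, Category.assoc, ← hw]
    exact MonObj.mul_comp x z (b ≫ u)
  haveI := hvc.surj; haveI := hvc.flat; haveI := hvc.lfp
  haveI : Smooth (v.left ≫ B'.hom) := by rw [Over.w v]; infer_instance
  refine ⟨B', inferInstance, b', v, ⟨inferInstance, inferInstance, Unr55.smooth_of_fppf_comp v.left B'.hom,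
    inferInstanceAs (QuasiCompact (y.arrow ≫ G'.hom)), fun s => ?_⟩, inferInstance, hP⟩
  haveI : Smooth (Red.geomFibre s G).hom := inferInstanceAs (Smooth (pullback.snd G.hom _))
  haveI : QuasiCompact (Red.geomFibre s G).hom := inferInstanceAs (QuasiCompact (pullback.snd G.hom _))
  haveI : Smooth (Red.geomFibre s G').hom := inferInstanceAs (Smooth (pullback.snd G'.hom _))
  haveI : QuasiCompact (Red.geomFibre s G').hom := inferInstanceAs (QuasiCompact (pullback.snd G'.hom _))
  haveI := BorelSelfNorm.connectedSpace_geomFibre G hconn s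
  haveI := BorelSelfNorm.connectedSpace_geomFibre G' hconn' s
  haveI : Surjective ((Over.pullback (Red.geomPt s)).map u).left := surjective_geom u s
  obtain ⟨B₂, _, b₂, π₂, hB₂, -, hπ₂, sq₂⟩ := CentExtBorel.exists_borel_cartesian ((Over.pullback (Red.geomPt s)).map u)
    (central_geom u hker s) (hgeo s)
  haveI : IsClosedImmersion b₂.left := hB₂.2.1
  haveI : Mono b₂ := Over.mono_of_mono_left b₂
  let bf := (Over.pullback (Red.geomPt s)).map b'
  let vf := (Over.pullback (Red.geomPt s)).map v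
  haveI : Mono bf := inferInstanceAs (Mono ((Over.pullback (Red.geomPt s)).map b'))
  have hvf : Cov vf := by
    have sq := isPullback_bc_map v (Red.geomPt s)
    exact ⟨MorphismProperty.of_isPullback (P := @Surjective) sq hvc.surj,
      MorphismProperty.of_isPullback (P := @Flat) sq hvc.flat,
      MorphismProperty.of_isPullback (P := @LocallyOfFinitePresentation) sq hvc.lfp⟩
  have e : vf ≫ bf = π₂ ≫ b₂ := by
    rw [← sq₂.w, ← Functor.map_comp, ← hw, Functor.map_comp]
  obtain ⟨d, hd, -⟩ := hvf.desc π₂ fun T p q hpq => by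
    rw [← cancel_mono b₂, Category.assoc, Category.assoc, ← e, reassoc_of% hpq]
  obtain ⟨d', hd'⟩ := hπ₂.desc vf fun T p q hpq => by
    rw [← cancel_mono bf, Category.assoc, Category.assoc, e, reassoc_of% hpq]
  haveI := hvf.epi
  haveI := hπ₂.epi
  have hdb : d ≫ b₂ = bf := by rw [← cancel_epi vf, reassoc_of% hd, ← e]
  have hdd : d ≫ d' = 𝟙 _ := by rw [← cancel_epi vf, reassoc_of% hd, hd', Category.comp_id]
  have hdd' : d' ≫ d = 𝟙 _ := by rw [← cancel_epi π₂, reassoc_of% hd', hd, Category.comp_id]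
  exact CentExtBorel.isBorelOver_of_iso hB₂ bf ⟨d, d', hdd, hdd'⟩ hdb

end Groth.Agent.CAlg6.CentExtBorelBase
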