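import Groth.Agent.RedPts82.Pairing
import Groth.Agent.AlgGrp79.TorusPts
import Groth.Agent.AlgGrp79.BorelTori
import Groth.Agent.AlgGrp79.TorusBC
import Groth.Agent.AGF80.Nilp
import Groth.Agent.SGA3a.GrpSep

/-!
Bimultiplicative pairings of tori are trivial; central extensions of tori are commutative.
-/

set_option autoImplicit false
set_option linter.unusedSectionVars false
set_option linter.style.haveILetI false
set_option backward.isDefEq.respectTransparency.types false

universe u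

open CategoryTheory MonoidalCategory CartesianMonoidalCategory MonObj GrpObj AlgebraicGeometry
open WithConv Groth.Agent.GMod80

noncomputable section

namespace Groth.Agent.CAlg6.CommExt

open AlgGrp79

section AlgClosed

variable {k : Type u} [Field k] [IsAlgClosed k]

local notation "pk" => 𝟙_ (Over (Spec (CommRingCat.of k)))

theorem exists_prime_ne : ∃ ℓ : ℕ, 1 < ℓ ∧ (ℓ : k) ≠ 0 := by
  by_cases h2 : ((2 : ℕ) : k) = 0
  · refine ⟨3, by norm_num, fun h3 => one_ne_zero (α := k) ?_⟩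
    calc (1 : k) = ((3 : ℕ) : k) - ((2 : ℕ) : k) := by norm_num
      _ = 0 := by rw [h2, h3, sub_zero]
  · exact ⟨2, by norm_num, h2⟩

/-- morphisms from a torus to a separated scheme agreeing at torsion points are equal -/
theorem hom_ext_torsion {T X : Over (Spec (CommRingCat.of k))} [GrpObj T] [IsSeparated X.hom]
    (hT : Red.IsTorus T) (a b : T ⟶ X) {ℓ : ℕ} (hℓ : 1 < ℓ) (hℓk : (ℓ : k) ≠ 0)
    (h : ∀ (t : pk ⟶ T) (j : ℕ), t ^ (ℓ ^ j) = 1 → t ≫ a = t ≫ b) : a = b := by
  obtain ⟨_, _, _, _, _⟩ := AlgGrp33.IsogSub.torus_props hT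
  haveI := BorelTori.isReduced_torus hT
  obtain ⟨C, _, _, ψ, _⟩ := exists_coord T
  haveI : Algebra.FiniteType k C := finiteType ψ
  haveI : IsDomain C := by
    haveI := Hopf35.TorDom.isDomain_tensor ψ hT k
    exact (Algebra.TensorProduct.lid k C).symm.toMulEquiv.isDomain _
  have hC : HopfRep.IsDiagonalizable k C := by
    obtain ⟨hco, hprim⟩ := (Groth.Agent.S7979.result k C).1 (AlgGrp33.isDiagonalizable_of_isTorus ψ hT)
    haveI := hco
    exact Comod33.Diag.isDiagonalizable_of_no_prim fun x hx => hprim x hx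
  let g : CategoryTheory.Limits.equalizer a b ⟶ T := CategoryTheory.Limits.equalizer.ι a b
  haveI : IsClosedImmersion g.left := isClosedImmersion_equalizer_ι_left a b
  haveI : IsIso (sch ψ).hom := inferInstance
  let R : Set (PrimeSpectrum C) := (sch ψ).hom.base ⁻¹' Set.range g.left
  have hR : IsClosed R := g.left.isClosedEmbedding.isClosed_range.preimage (sch ψ).hom.continuous
  obtain ⟨I, hI⟩ := (PrimeSpectrum.isClosed_iff_zeroLocus_ideal R).1 hR
  have hI0 : ∀ c ∈ I, c = 0 := fun c hc => TorusPts.eq_zero_of_torsion hC hℓ hℓk fun f hf => by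
    obtain ⟨j, hj⟩ := hf
    have h1 := h (ToriConj.ev ψ f) j (by rw [← map_pow, hj, map_one])
    let w := CategoryTheory.Limits.equalizer.lift (f := a) (g := b) _ h1
    have hw : w ≫ g = ToriConj.ev ψ f := CategoryTheory.Limits.equalizer.lift_ι _ _
    let x : Spec (CommRingCat.of k) := IsLocalRing.closedPoint k
    have hx : (sch ψ).hom (Spec.map (CommRingCat.ofHom f.ofConv.toRingHom) x) ∈ Set.range g.left := by
      let y : (pk).left := IsLocalRing.closedPoint k
      have hy : (ToriConj.pt0 (k := k)).left y = x := @Subsingleton.elim _ (inferInstanceAs (Subsingleton (PrimeSpectrum k))) _ _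
      refine ⟨w.left y, ?_⟩
      rw [← Scheme.Hom.comp_apply, ← Over.comp_left, hw]
      show ((ToriConj.pt0 (k := k)) ≫ e ψ k f).left y = _
      rw [Over.comp_left, Scheme.Hom.comp_apply, hy, e_left, Scheme.Hom.comp_apply]
    have hx' : (Spec.map (CommRingCat.ofHom f.ofConv.toRingHom) x : PrimeSpectrum C) ∈ PrimeSpectrum.zeroLocus (I : Set C) :=
      hI ▸ hx
    have := hx' hc
    by_contra hne
    exact (IsLocalRing.notMem_maximalIdeal.2 (isUnit_iff_ne_zero.2 hne)) this
  haveI : Surjective g.left := ⟨fun t => by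
    obtain ⟨p, rfl⟩ := (sch ψ).hom.surjective t
    show p ∈ R
    rw [hI]
    exact fun c hc => by rw [hI0 c hc]; exact Ideal.zero_mem _⟩
  haveI : IsIso g.left := isIso_of_isClosedImmersion_of_surjective _
  haveI : IsIso g := by
    haveI : IsIso ((Over.forget _).map g) := ‹IsIso g.left›
    exact isIso_of_reflects_iso g (Over.forget _)
  exact (cancel_epi g).1 (CategoryTheory.Limits.equalizer.condition a b)

/-- points of tori are divisible -/
theorem exists_root {T : Over (Spec (CommRingCat.of k))} [GrpObj T] (hT : Red.IsTorus T) {n : ℕ} (hn : 0 < n)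
    (t : pk ⟶ T) : ∃ s : pk ⟶ T, s ^ n = t := by
  obtain ⟨_, _, _, _, _⟩ := AlgGrp33.IsogSub.torus_props hT
  obtain ⟨C, _, _, ψ, _⟩ := exists_coord T
  haveI : Algebra.FiniteType k C := finiteType ψ
  haveI : IsDomain C := by
    haveI := Hopf35.TorDom.isDomain_tensor ψ hT k
    exact (Algebra.TensorProduct.lid k C).symm.toMulEquiv.isDomain _
  have hC : HopfRep.IsDiagonalizable k C := by
    obtain ⟨hco, hprim⟩ := (Groth.Agent.S7979.result k C).1 (AlgGrp33.isDiagonalizable_of_isTorus ψ hT)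
    haveI := hco
    exact Comod33.Diag.isDiagonalizable_of_no_prim fun x hx => hprim x hx
  obtain ⟨f, rfl⟩ := ToriConj.ev_surjective ψ t
  obtain ⟨g, hg⟩ := TorusPts.exists_root hC hn f
  exact ⟨ToriConj.ev ψ g, by rw [← map_pow, hg]⟩

/-- bimultiplicative pairings of tori with values in a separated group are trivial -/
theorem pairing_trivial {T G : Over (Spec (CommRingCat.of k))} [GrpObj T] [GrpObj G] [IsSeparated G.hom]
    (hT : Red.IsTorus T) (φ : T ⊗ T ⟶ G)
    (hl : ∀ a a' b : pk ⟶ T, lift (a * a') b ≫ φ = (lift a b ≫ φ) * (lift a' b ≫ φ))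
    (hr : ∀ a b b' : pk ⟶ T, lift a (b * b') ≫ φ = (lift a b ≫ φ) * (lift a b' ≫ φ)) : φ = 1 := by
  obtain ⟨_, _, _, _, _⟩ := AlgGrp33.IsogSub.torus_props hT
  haveI : Smooth (T ⊗ T).hom := inferInstanceAs (Smooth (Limits.pullback.fst T.hom T.hom ≫ T.hom))
  haveI : IsReduced (T ⊗ T).left := isReduced_of_smooth (T ⊗ T).hom
  obtain ⟨ℓ, hℓ, hℓk⟩ := exists_prime_ne (k := k)
  refine BorelFixed.hom_ext_pts _ _ fun p => ?_
  rw [← lift_comp_fst_snd p, MonObj.comp_one]
  suffices h : ∀ b : pk ⟶ T, lift (𝟙 T) (toUnit T ≫ b) ≫ φ = 1 by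
    have := congrArg (fun w => (p ≫ fst T T) ≫ w) (h (p ≫ snd T T))
    simpa only [MonObj.comp_one, ← Category.assoc, comp_lift, Category.comp_id,
      toUnit_unique ((p ≫ fst T T) ≫ toUnit T) (𝟙 _), Category.id_comp] using this
  intro b
  refine hom_ext_torsion hT _ _ hℓ hℓk fun a j ha => ?_
  rw [MonObj.comp_one, ← Category.assoc, comp_lift, Category.comp_id, ← Category.assoc,
    toUnit_unique (a ≫ toUnit T) (𝟙 _), Category.id_comp]
  obtain ⟨c, rfl⟩ := exists_root hT (pow_pos (zero_lt_one.trans hℓ) j) b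
  let L : (pk ⟶ T) →* (pk ⟶ G) := MonoidHom.mk' (fun a => lift a c ≫ φ) fun a a' => hl a a' c
  let M : (pk ⟶ T) →* (pk ⟶ G) := MonoidHom.mk' (fun b => lift a b ≫ φ) (hr a)
  change M (c ^ (ℓ ^ j)) = 1
  rw [map_pow, show M c = L a from rfl, ← map_pow, ha, map_one]

end AlgClosed

section Field

variable {k : Type u} [Field k]

/-- an algebraic group which is a central extension of a torus is commutative -/
theorem comm_of_central_torus (G : Over (Spec (CommRingCat.of k))) [GrpObj G]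
    (Z : Over (Spec (CommRingCat.of k))) [GrpObj Z] (z : Z ⟶ G)
    (hz : ∀ (X : Over (Spec (CommRingCat.of k))) (x : X ⟶ Z) (g : X ⟶ G), (x ≫ z) * g = g * (x ≫ z))
    (G' : Over (Spec (CommRingCat.of k))) [GrpObj G'] (q : G ⟶ G') [IsMonHom q] (hq : RedSub.IsQuotient z q)
    (hT : Red.IsTorus G') {X : Over (Spec (CommRingCat.of k))} (g h : X ⟶ G) : g * h = h * g := by
  have hcG' : ∀ {W : Over (Spec (CommRingCat.of k))} (a b : W ⟶ G'), a * b = b * a :=
    fun a b => RedPts82.isTorus_points_comm hT a b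
  have hcom : ∀ {W : Over (Spec (CommRingCat.of k))} (a b : W ⟶ G) (n : W ⟶ G), n ≫ q = 1 → n * a = a * n := by
    intro W a b n hn
    obtain ⟨m, hm⟩ := RedPts82.exists_eq_mul_of_comp_eq hq (g := (1 : W ⟶ G)) (g' := n) (by rw [hn, MonObj.one_comp q])
    rw [hm, _root_.one_mul]
    exact hz W m a
  let C : G ⊗ G ⟶ G := fst G G * snd G G * (fst G G)⁻¹ * (snd G G)⁻¹
  have hC : ∀ {W : Over (Spec (CommRingCat.of k))} (a b : W ⟶ G), lift a b ≫ C = a * b * a⁻¹ * b⁻¹ := fun a b => by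
    simp [C, MonObj.comp_mul, GrpObj.comp_inv]
  have hCq : ∀ {W : Over (Spec (CommRingCat.of k))} (a b : W ⟶ G), (a * b * a⁻¹ * b⁻¹) ≫ q = 1 := fun a b => by
    rw [MonObj.mul_comp _ _ q, MonObj.mul_comp _ _ q, MonObj.mul_comp _ _ q, GrpObj.inv_comp _ q, GrpObj.inv_comp _ q,
      hcG' (a ≫ q), mul_inv_cancel_right, mul_inv_cancel]
  have hcov := RedPts82.cov_of_isQuotient hq
  obtain ⟨φ, hφ, -⟩ := (hcov.tensor hcov).desc C fun W a b hab => by
    have h1 : (a ≫ fst G G) ≫ q = (b ≫ fst G G) ≫ q := by simpa using congr($hab ≫ fst G' G')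
    have h2 : (a ≫ snd G G) ≫ q = (b ≫ snd G G) ≫ q := by simpa using congr($hab ≫ snd G' G')
    obtain ⟨m, hm⟩ := RedPts82.exists_eq_mul_of_comp_eq hq h1
    obtain ⟨n, hn⟩ := RedPts82.exists_eq_mul_of_comp_eq hq h2
    rw [← lift_comp_fst_snd a, ← lift_comp_fst_snd b, hC, hC, hm, hn]
    have c1 : ∀ y, Commute (m ≫ z) y := hz W m
    have c2 : ∀ y, Commute (n ≫ z) y := hz W n
    symm
    rw [(RedPts82.commutator_mul_central _ _ _ c1).1, (RedPts82.commutator_mul_central _ _ _ c2).2]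
  have hφv : ∀ {W : Over (Spec (CommRingCat.of k))} (a b : W ⟶ G),
      lift (a ≫ q) (b ≫ q) ≫ φ = a * b * a⁻¹ * b⁻¹ := fun a b => by
    rw [← hC, ← hφ, ← Category.assoc, lift_map]
  have hmul : ∀ {W : Over (Spec (CommRingCat.of k))} (x x' y : W ⟶ G'),
      lift (x * x') y ≫ φ = (lift x y ≫ φ) * (lift x' y ≫ φ) ∧
      lift y (x * x') ≫ φ = (lift y x ≫ φ) * (lift y x' ≫ φ) := by
    intro W x x' y
    obtain ⟨W₁, π₁, a, hπ₁, ha⟩ := RedPts82.exists_lift_cover hcov x
    obtain ⟨W₂, π₂, a', hπ₂, ha'⟩ := RedPts82.exists_lift_cover hcov (π₁ ≫ x')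
    obtain ⟨W₃, π₃, b, hπ₃, hb⟩ := RedPts82.exists_lift_cover hcov ((π₂ ≫ π₁) ≫ y)
    haveI := hπ₁.epi
    haveI := hπ₂.epi
    haveI := hπ₃.epi
    have hx : π₃ ≫ π₂ ≫ π₁ ≫ x = (π₃ ≫ π₂ ≫ a) ≫ q := by simp [ha]
    have hx' : π₃ ≫ π₂ ≫ π₁ ≫ x' = (π₃ ≫ a') ≫ q := by simp [ha']
    have hy : π₃ ≫ π₂ ≫ π₁ ≫ y = b ≫ q := by simp [hb]
    have key : ∀ {V : Over (Spec (CommRingCat.of k))} (u v w : V ⟶ G),
        u * (v * w) * u⁻¹ * (v * w)⁻¹ = u * v * u⁻¹ * v⁻¹ * (u * w * u⁻¹ * w⁻¹) ∧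
        v * w * u * (v * w)⁻¹ * u⁻¹ = v * u * v⁻¹ * u⁻¹ * (w * u * w⁻¹ * u⁻¹) := fun u v w => by
      have e := RedPts82.commutator_bimul u v w (hcom v⁻¹ 1 _ (hCq u w))
      refine ⟨e, ?_⟩
      have e' := congrArg (·⁻¹) e
      simp only [_root_.mul_inv_rev, _root_.inv_inv, ← _root_.mul_assoc] at e'
      simp only [_root_.mul_inv_rev, ← _root_.mul_assoc]
      rw [e']
      simpa [_root_.mul_assoc] using hcom (v * u * v⁻¹ * u⁻¹) 1 _ (hCq w u)
    constructor
    all_goals
      rw [← cancel_epi π₁, ← cancel_epi π₂, ← cancel_epi π₃]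
      simp only [MonObj.comp_mul, ← Category.assoc (_ : _ ⟶ _) (lift _ _), comp_lift]
      rw [hx, hx', hy, ← MonObj.mul_comp _ _ q, hφv, hφv, hφv]
    · exact (key _ _ _).2
    · exact (key _ _ _).1
  -- the pairing is trivial over an algebraic closure
  let f := Spec.map (CommRingCat.ofHom (algebraMap k (AlgebraicClosure k)))
  haveI : Surjective f :=
    ⟨fun x => ⟨(Classical.arbitrary (PrimeSpectrum (AlgebraicClosure k)) : _), Subsingleton.elim _ _⟩⟩
  haveI : Flat f := by
    rw [HasRingHomProperty.Spec_iff (P := @Flat)]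
    exact RingHom.flat_algebraMap_iff.2 inferInstance
  let T' := Red.bc f G'
  haveI : Subsingleton (Spec (CommRingCat.of (AlgebraicClosure k))) :=
    inferInstanceAs (Subsingleton (PrimeSpectrum (AlgebraicClosure k)))
  haveI : IsSeparated (Red.bc f G).hom := SGA3a.isSeparated_of_subsingleton _
  let φ' : T' ⊗ T' ⟶ Red.bc f G := RedPts82.ofBase f
    (lift (RedPts82.toBase f (fst T' T')) (RedPts82.toBase f (snd T' T')) ≫ φ)
  have hφ' : ∀ {W : Over (Spec (CommRingCat.of (AlgebraicClosure k)))} (a b : W ⟶ T'),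
      RedPts82.toBase f (lift a b ≫ φ') = lift (RedPts82.toBase f a) (RedPts82.toBase f b) ≫ φ := fun a b => by
    rw [RedPts82.toBase_comp, RedPts82.toBase_ofBase, ← Category.assoc, comp_lift, ← RedPts82.toBase_comp,
      ← RedPts82.toBase_comp, lift_fst, lift_snd]
  have h1 : φ' = 1 := pairing_trivial (TorusBC.isTorus_bc f hT) φ'
    (fun a a' b => RedPts82.toBase_injective f (by
      rw [RedPts82.toBase_mul, hφ', hφ', hφ', RedPts82.toBase_mul]; exact (hmul _ _ _).1))
    (fun a b b' => RedPts82.toBase_injective f (by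
      rw [RedPts82.toBase_mul, hφ', hφ', hφ', RedPts82.toBase_mul]; exact (hmul _ _ _).2))
  let W₀ := G' ⊗ G'
  let p : (Over.map f).obj (Red.bc f W₀) ⟶ W₀ := RedPts82.toBase f (𝟙 _)
  haveI : Epi p := by
    haveI : Epi p.left := by
      rw [show p.left = Limits.pullback.fst W₀.hom f from (RedPts82.toBase_left f _).trans (Category.id_comp _)]
      haveI : Flat (Limits.pullback.fst W₀.hom f) := MorphismProperty.pullback_fst _ _ inferInstance
      haveI : Surjective (Limits.pullback.fst W₀.hom f) := MorphismProperty.pullback_fst _ _ inferInstance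
      exact Flat.epi_of_flat_of_surjective _
    exact (Over.forget _).epi_of_epi_map (f := p) ‹Epi p.left›
  have hφ1 : φ = 1 := by
    rw [← cancel_epi p, MonObj.comp_one]
    have h2 := hφ' (RedPts82.ofBase f (p ≫ fst G' G')) (RedPts82.ofBase f (p ≫ snd G' G'))
    rw [RedPts82.toBase_ofBase, RedPts82.toBase_ofBase, lift_comp_fst_snd, h1, MonObj.comp_one] at h2
    rw [← h2]
    exact RedPts82.toBase_one f
  have h3 := hφv g h
  rw [hφ1, MonObj.comp_one] at h3
  calc g * h = (g * h * g⁻¹ * h⁻¹) * h * g := by group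
    _ = h * g := by rw [← h3, _root_.one_mul]

end Field

end Groth.Agent.CAlg6.CommExt
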