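import Mathlib
import Groth.Agent.FBase64.TensorField

/-!
`K ⊗[k'] A` is a reduced quotient of a reduced `K ⊗[k] A` for `k'/k` separable.
-/

set_option autoImplicit false

universe u

open TensorProduct

namespace Groth.Agent.CAlg6

/-- Elements `d` with `d ∈ (d ^ 2)` generate a radical ideal in a reduced ring. -/
theorem isRadical_span_of_mem_sq {T : Type*} [CommRing T] [IsReduced T] (s : Set T)
    (hs : ∀ x ∈ s, ∃ v, x = v * x ^ 2) : (Ideal.span s).IsRadical := by
  intro x ⟨n, hn⟩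
  have key : ∀ z ∈ Ideal.span s, ∃ e ∈ Ideal.span s, e * z = z := by
    intro z hz
    refine Submodule.span_induction (fun y hy => ?_) ⟨0, zero_mem _, mul_zero 0⟩ (fun a b _ _ ha hb => ?_)
      (fun r a _ ha => ?_) hz
    · obtain ⟨v, hv⟩ := hs y hy
      exact ⟨v * y, Ideal.mul_mem_left _ _ (Ideal.subset_span hy), by linear_combination -hv⟩
    · obtain ⟨e, he, hea⟩ := ha
      obtain ⟨g, hg, hgb⟩ := hb
      refine ⟨e + g - e * g, sub_mem (add_mem he hg) (Ideal.mul_mem_left _ _ hg), ?_⟩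
      linear_combination (1 - g) * hea + (1 - e) * hgb
    · obtain ⟨e, he, hea⟩ := ha
      exact ⟨e, he, by rw [smul_eq_mul, mul_left_comm, hea]⟩
  obtain ⟨e, he, hex⟩ := key _ hn
  rcases Nat.eq_zero_or_pos n with rfl | hn0
  · rw [pow_zero] at hn
    simpa using Ideal.mul_mem_left _ x hn
  have h1 : ((1 - e) * x) ^ n = 0 := by
    rw [mul_pow]
    obtain ⟨m, rfl⟩ : ∃ m, n = m + 1 := ⟨n - 1, by omega⟩
    rw [pow_succ (1 - e), mul_assoc, show (1 - e) * x ^ (m + 1) = 0 by linear_combination -hex, mul_zero]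
  have h2 : (1 - e) * x = 0 := IsReduced.eq_zero _ ⟨n, h1⟩
  rw [show x = e * x by linear_combination h2]
  exact Ideal.mul_mem_right _ _ he

theorem isReduced_tensor_of_isSeparable {k k' K A : Type u} [Field k] [Field k'] [Algebra k k']
    [Algebra.IsSeparable k k'] [CommRing K] [Algebra k K] [Algebra k' K] [IsScalarTower k k' K]
    [CommRing A] [Algebra k A] [Algebra k' A] [IsScalarTower k k' A] [IsReduced (K ⊗[k] A)] :
    IsReduced (K ⊗[k'] A) := by
  let δ : k' → K ⊗[k] A := fun c =>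
    algebraMap k' K c ⊗ₜ[k] (1 : A) - (1 : K) ⊗ₜ[k] algebraMap k' A c
  let J := Ideal.span (Set.range δ)
  have hJ : J.IsRadical := by
    refine isRadical_span_of_mem_sq _ ?_
    rintro _ ⟨a, rfl⟩
    let i : k' →ₐ[k] K ⊗[k] A :=
      (Algebra.TensorProduct.includeRight : A →ₐ[k] K ⊗[k] A).comp (IsScalarTower.toAlgHom k k' A)
    let j : k' →ₐ[k] K ⊗[k] A :=
      (Algebra.TensorProduct.includeLeft : K →ₐ[k] K ⊗[k] A).comp (IsScalarTower.toAlgHom k k' K)
    have hd : δ a = j a - i a := rfl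
    let f := minpoly k a
    have hu : IsUnit (Polynomial.aeval a f.derivative) :=
      isUnit_iff_ne_zero.2 ((Algebra.IsSeparable.isSeparable k a).aeval_derivative_ne_zero (minpoly.aeval k a))
    obtain ⟨w, hw⟩ := (f.map (algebraMap k (K ⊗[k] A))).binomExpansion (i a) (δ a)
    rw [hd, add_sub_cancel, Polynomial.derivative_map, Polynomial.eval_map_algebraMap,
      Polynomial.eval_map_algebraMap, Polynomial.eval_map_algebraMap, Polynomial.aeval_algHom_apply,
      Polynomial.aeval_algHom_apply, Polynomial.aeval_algHom_apply, minpoly.aeval, map_zero, map_zero,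
      zero_add, eq_comm, ← hd] at hw
    obtain ⟨v, hv⟩ := (hu.map i).exists_left_inv
    exact ⟨-(v * w), by linear_combination v * hw - δ a * hv⟩
  let mkJ := Ideal.Quotient.mk J
  have hbal : ∀ (c : k') (x : K) (y : A), mkJ ((c • x) ⊗ₜ[k] y) = mkJ (x ⊗ₜ[k] (c • y)) := by
    intro c x y
    rw [Ideal.Quotient.eq]
    rw [show (c • x) ⊗ₜ[k] y - x ⊗ₜ[k] (c • y) = δ c * (x ⊗ₜ[k] y) by
      simp only [δ, sub_mul, Algebra.TensorProduct.tmul_mul_tmul, one_mul, Algebra.smul_def]]
    exact Ideal.mul_mem_right _ _ (Ideal.subset_span ⟨c, rfl⟩)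
  let fwd : K ⊗[k] A →ₐ[k] K ⊗[k'] A := Algebra.TensorProduct.lift
    (Algebra.TensorProduct.includeLeft : K →ₐ[k] K ⊗[k'] A)
    ((Algebra.TensorProduct.includeRight : A →ₐ[k'] K ⊗[k'] A).restrictScalars k)
    (fun _ _ => Commute.all _ _)
  have hfwd : ∀ x y, fwd (x ⊗ₜ[k] y) = x ⊗ₜ[k'] y := fun x y => by simp [fwd]
  have hzero : ∀ d ∈ J, fwd d = 0 := by
    intro d hd
    refine (Ideal.span_le (I := RingHom.ker fwd.toRingHom)).2 ?_ hd
    rintro _ ⟨c, rfl⟩
    show fwd (δ c) = 0
    rw [map_sub, hfwd, hfwd, Algebra.algebraMap_eq_smul_one, Algebra.algebraMap_eq_smul_one,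
      TensorProduct.smul_tmul, sub_self]
  let bwd : K ⊗[k'] A →+ (K ⊗[k] A) ⧸ J := TensorProduct.liftAddHom
    { toFun := fun x =>
        { toFun := fun y => mkJ (x ⊗ₜ[k] y)
          map_zero' := by simp
          map_add' := fun y y' => by rw [tmul_add, map_add] }
      map_zero' := by ext y; simp
      map_add' := fun x x' => by ext y; simp [add_tmul] }
    (fun c x y => hbal c x y)
  have hbf : ∀ z, bwd (fwd z) = mkJ z := by
    intro z
    induction z with
    | zero => simp
    | add a b ha hb => rw [map_add, map_add, ha, hb, map_add]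
    | tmul x y => rw [hfwd]; rfl
  have hsurj : Function.Surjective fwd := by
    intro z
    induction z with
    | zero => exact ⟨0, map_zero _⟩
    | add a b ha hb =>
      obtain ⟨a', rfl⟩ := ha; obtain ⟨b', rfl⟩ := hb
      exact ⟨a' + b', map_add _ _ _⟩
    | tmul x y => exact ⟨x ⊗ₜ[k] y, hfwd x y⟩
  refine ⟨fun z ⟨n, hn⟩ => ?_⟩
  obtain ⟨x, rfl⟩ := hsurj z
  have h2 := hbf (x ^ n)
  rw [map_pow fwd, hn, map_zero] at h2
  exact hzero x (hJ ⟨n, Ideal.Quotient.eq_zero_iff_mem.1 h2.symm⟩)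

theorem isReduced_tensor_of_perfect_base {k P E S : Type u} [Field k] [Field P] [PerfectField P]
    [Algebra k P] [Field E] [Algebra k E] [Algebra P E] [IsScalarTower k P E] [CommRing S]
    [Algebra k S] [IsReduced (P ⊗[k] S)] : IsReduced (E ⊗[k] S) := by
  have : IsReduced (E ⊗[P] (P ⊗[k] S)) :=
    Groth.Agent.FBase64.isReduced_tensor_of_perfectField P (P ⊗[k] S) E
  exact isReduced_of_injective (Algebra.TensorProduct.cancelBaseChange k P P E S).symm
    (AlgEquiv.injective _)

end Groth.Agent.CAlg6
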