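import Mathlib
import Groth.Agent.S11180
import Groth.Agent.CAlg1.Complete

/-!
Compatible families over complete local flat algebras.
-/

set_option autoImplicit false
set_option linter.unusedSectionVars false

universe u

open TensorProduct IsLocalRing

namespace Groth.Agent.CAlg6.CompleteFamily

variable (A : Type u) [CommRing A] [IsNoetherianRing A]

/-- A family over the complete Noetherian local flat algebras. -/
def Fam (M : Type u) [AddCommGroup M] [Module A M] : Type (u+1) :=
  ∀ (B : Type u) [CommRing B] [Algebra A B] [IsNoetherianRing B] [IsLocalRing B],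
    IsAdicComplete (maximalIdeal B) B → Module.Flat A B → TensorProduct A B M

variable {A} {M : Type u} [AddCommGroup M] [Module A M]

/-- Compatibility. -/
def IsCompat (x : Fam A M) : Prop :=
  ∀ (B : Type u) [CommRing B] [Algebra A B] [IsNoetherianRing B] [IsLocalRing B]
    (hB : IsAdicComplete (maximalIdeal B) B) (hBf : Module.Flat A B) (B' : Type u) [CommRing B']
    [Algebra A B'] [IsNoetherianRing B'] [IsLocalRing B'] (hB' : IsAdicComplete (maximalIdeal B') B')
    (hB'f : Module.Flat A B') (g : B →ₐ[A] B'),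
      LinearMap.rTensor M g.toLinearMap (x B hB hBf) = x B' hB' hB'f

/-- Coming from an element. -/
def Comes (x : Fam A M) (m : M) : Prop :=
  ∀ (B : Type u) [CommRing B] [Algebra A B] [IsNoetherianRing B] [IsLocalRing B]
    (hB : IsAdicComplete (maximalIdeal B) B) (hBf : Module.Flat A B), x B hB hBf = (1 : B) ⊗ₜ[A] m

variable (A M) in
/-- Every compatible family comes from an element. -/
def Surj : Prop := ∀ x : Fam A M, IsCompat x → ∃ m, Comes x m

theorem eq_of_comes {x : Fam A M} {m m' : M} (h : Comes x m) (h' : Comes x m') : m = m' := by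
  rw [← sub_eq_zero]
  refine Groth.Agent.S11180.result A M (m - m') fun B _ _ _ _ hB hBf => ?_
  rw [tmul_sub, ← h B hB hBf, ← h' B hB hBf, sub_self]

/-- Universal property of the completion of a local algebra. -/
theorem exists_algHom_completion {R : Type u} [CommRing R] [IsLocalRing R] [Algebra A R]
    {B' : Type u} [CommRing B'] [IsLocalRing B'] [Algebra A B']
    [IsAdicComplete (maximalIdeal B') B'] (ψ : R →ₐ[A] B')
    (hψ : (maximalIdeal R).map ψ.toRingHom ≤ maximalIdeal B') :
    Nonempty (AdicCompletion (maximalIdeal R) R →ₐ[A] B') := by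
  let f : (n : ℕ) → AdicCompletion (maximalIdeal R) R →+* B' ⧸ maximalIdeal B' ^ n := fun n =>
    (Ideal.quotientMap (maximalIdeal B' ^ n) ψ.toRingHom (Ideal.map_le_iff_le_comap.1 (by
      rw [Ideal.map_pow]; exact Ideal.pow_right_mono hψ n))).comp
      (AdicCompletion.evalₐ (maximalIdeal R) n).toRingHom
  have hf : ∀ {m n : ℕ} (hle : m ≤ n), (Ideal.Quotient.factorPow _ hle).comp (f n) = f m := by
    intro m n hle
    refine RingHom.ext fun y => ?_
    obtain ⟨c, rfl⟩ := AdicCompletion.mk_surjective (maximalIdeal R) R y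
    have e : ∀ k, AdicCompletion.evalₐ (maximalIdeal R) k (AdicCompletion.mk (maximalIdeal R) R c) =
        Ideal.Quotient.mk (maximalIdeal R ^ k) (c.val k) := fun k => AdicCompletion.evalₐ_mk _ _ _
    simp only [f, RingHom.comp_apply, AlgHom.toRingHom_eq_coe, RingHom.coe_coe]
    rw [e n, e m, Ideal.quotientMap_mk, Ideal.quotientMap_mk]
    show Ideal.Quotient.mk _ (ψ (c.val n)) = Ideal.Quotient.mk _ (ψ (c.val m))
    rw [Ideal.Quotient.eq, ← map_sub]
    have := c.2 hle
    rw [SModEq.sub_mem, smul_eq_mul, Ideal.mul_top] at this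
    rw [← neg_mem_iff, ← map_neg, neg_sub]
    refine Ideal.pow_right_mono hψ m ?_
    rw [← Ideal.map_pow]
    exact Ideal.mem_map_of_mem ψ.toRingHom this
  refine ⟨{ IsAdicComplete.liftRingHom (maximalIdeal B') f hf with commutes' := fun c => ?_ }⟩
  show IsAdicComplete.liftRingHom (maximalIdeal B') f hf _ = _
  rw [IsScalarTower.algebraMap_apply A R (AdicCompletion (maximalIdeal R) R), AdicCompletion.algebraMap_apply]
  have hh : IsHausdorff (maximalIdeal B') B' := inferInstance
  refine (IsHausdorff.eq_iff_smodEq (I := maximalIdeal B')).2 fun n => ?_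
  rw [SModEq.sub_mem, smul_eq_mul, Ideal.mul_top, ← Ideal.Quotient.eq, IsAdicComplete.mk_liftRingHom]
  simp [f]

/-- Vanishing after base change. -/
theorem one_tmul_eq_zero {B B' : Type u} [CommRing B] [CommRing B'] [Algebra A B] [Algebra A B']
    [Algebra B B'] [IsScalarTower A B B'] (z : B ⊗[A] M)
    (hz : LinearMap.rTensor M (IsScalarTower.toAlgHom A B B').toLinearMap z = 0) :
    (1 : B') ⊗ₜ[B] z = 0 := by
  apply (AlgebraTensorModule.cancelBaseChange A B B B' M).injective
  rw [map_zero, ← hz]
  clear hz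
  induction z using TensorProduct.induction_on with
  | zero => simp
  | add u v hu hv => rw [tmul_add, map_add, map_add, hu, hv]
  | tmul u v =>
    rw [AlgebraTensorModule.cancelBaseChange_tmul, LinearMap.rTensor_tmul]
    congr 1
    show u • (1 : B') = algebraMap B B' u
    rw [Algebra.smul_def, mul_one]

/-- Vanishing in a completed localization means vanishing in the localization. -/
theorem exists_smul_eq_zero {B : Type u} [CommRing B] [IsNoetherianRing B] (Q : Ideal B) [Q.IsPrime]
    {N : Type u} [AddCommGroup N] [Module B N] (z : N)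
    (hz : (1 : AdicCompletion (maximalIdeal (Localization.AtPrime Q)) (Localization.AtPrime Q)) ⊗ₜ[B] z = 0) :
    ∃ u ∉ Q, u • z = 0 := by
  let BQ := Localization.AtPrime Q
  let B' := AdicCompletion (maximalIdeal BQ) BQ
  have : IsNoetherianRing BQ := IsLocalization.isNoetherianRing Q.primeCompl _ inferInstance
  have : Module.FaithfullyFlat BQ B' := Module.FaithfullyFlat.of_flat_of_isLocalHom
  have h2 : (1 : B') ⊗ₜ[BQ] ((1 : BQ) ⊗ₜ[B] z) = 0 := by
    apply (AlgebraTensorModule.cancelBaseChange B BQ BQ B' N).injective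
    rw [AlgebraTensorModule.cancelBaseChange_tmul, one_smul, map_zero, hz]
  have h3 : (1 : BQ) ⊗ₜ[B] z = 0 :=
    (Module.FaithfullyFlat.one_tmul_eq_zero_iff BQ (BQ ⊗[B] N) (A := B') _).1 h2
  obtain ⟨u, hu⟩ := (IsLocalizedModule.eq_zero_iff Q.primeCompl (TensorProduct.mk B BQ N 1)).1 h3
  exact ⟨u, u.2, hu⟩

section Quot

variable (p : Ideal A) [p.IsPrime]

/-- Transport of a fraction to a completed localization over the prime. -/
theorem smul_eq_of_over (x : Fam A (A ⧸ p)) (hx : IsCompat x) :
    ∃ s : A, s ∉ p ∧ ∃ a : A ⧸ p, ∀ (B : Type u) [CommRing B] [Algebra A B] [IsNoetherianRing B]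
      [IsLocalRing B] (hB : IsAdicComplete (maximalIdeal B) B) (hBf : Module.Flat A B),
      s • x B hB hBf = (1 : B) ⊗ₜ[A] a := by
  let R := Localization.AtPrime p
  have : IsNoetherianRing R := IsLocalization.isNoetherianRing p.primeCompl _ inferInstance
  let B0 := AdicCompletion (maximalIdeal R) R
  have : IsNoetherianRing B0 := CAlg1.isNoetherianRing_adicCompletion _
    (maximalIdeal R).fg_of_isNoetherianRing
  have hflat0 : Module.Flat A B0 := Module.Flat.trans A R B0
  let y0 := x B0 inferInstance hflat0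
  obtain ⟨b, hb⟩ : ∃ b : B0, y0 = b ⊗ₜ[A] (1 : A ⧸ p) := by
    suffices ∀ y : B0 ⊗[A] (A ⧸ p), ∃ b : B0, y = b ⊗ₜ[A] (1 : A ⧸ p) from this y0
    intro y
    induction y using TensorProduct.induction_on with
    | zero => exact ⟨0, (zero_tmul _ _).symm⟩
    | add u v hu hv =>
      obtain ⟨u', rfl⟩ := hu; obtain ⟨v', rfl⟩ := hv
      exact ⟨u' + v', (add_tmul _ _ _).symm⟩
    | tmul u v =>
      obtain ⟨v, rfl⟩ := Ideal.Quotient.mk_surjective v
      exact ⟨v • u, by rw [smul_tmul, Algebra.smul_def, mul_one, Ideal.Quotient.algebraMap_eq]⟩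
  obtain ⟨r, hr⟩ := (AdicCompletion.residueField_map_bijective R).2 (residue B0 b)
  obtain ⟨r, rfl⟩ := residue_surjective r
  rw [ResidueField.map_residue, ← sub_eq_zero, ← map_sub, residue_eq_zero_iff] at hr
  obtain ⟨⟨a, s⟩, rfl⟩ := IsLocalization.mk'_surjective p.primeCompl r
  have hkill : ∀ z ∈ maximalIdeal B0, z ⊗ₜ[A] (1 : A ⧸ p) = 0 := by
    intro z hz
    rw [AdicCompletion.maximalIdeal_eq_map,
      (congrArg (Ideal.map (algebraMap R B0)) (Localization.AtPrime.map_eq_maximalIdeal (I := p)).symm).trans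
        (Ideal.map_map _ _), ← IsScalarTower.algebraMap_eq A R B0] at hz
    induction hz using Submodule.span_induction with
    | mem z hz =>
      obtain ⟨c, hc, rfl⟩ := hz
      rw [Algebra.algebraMap_eq_smul_one, smul_tmul,
        show c • (1 : A ⧸ p) = 0 by
          rw [Algebra.smul_def, mul_one, Ideal.Quotient.algebraMap_eq, Ideal.Quotient.eq_zero_iff_mem.2 hc],
        tmul_zero]
    | zero => rw [zero_tmul]
    | add u v _ _ hu hv => rw [add_tmul, hu, hv, add_zero]
    | smul c z _ hz =>
      rw [← smul_tmul', hz, smul_zero]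
  have h0 : (s : A) • y0 = (1 : B0) ⊗ₜ[A] Ideal.Quotient.mk p a := by
    have h1 := hkill _ hr
    rw [sub_tmul, sub_eq_zero] at h1
    rw [hb, ← h1, smul_tmul']
    have hmk : (s : A) • algebraMap R B0 (IsLocalization.mk' R a s) = algebraMap A B0 a := by
      rw [Algebra.smul_def, IsScalarTower.algebraMap_apply A R B0, IsScalarTower.algebraMap_apply A R B0,
        ← map_mul, mul_comm, IsLocalization.mk'_spec]
    rw [hmk, Algebra.algebraMap_eq_smul_one, smul_tmul, Algebra.smul_def, mul_one,
      Ideal.Quotient.algebraMap_eq]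
  refine ⟨s, s.2, Ideal.Quotient.mk p a, fun B _ _ _ _ hB hBf => ?_⟩
  rw [← sub_eq_zero]
  set z := (s : A) • x B hB hBf - (1 : B) ⊗ₜ[A] Ideal.Quotient.mk p a with hz
  -- the annihilator of `z` meets the complement of `p`
  have hloc : ∀ (Q : Ideal B) [Q.IsPrime], Q.comap (algebraMap A B) = p →
      ∃ u ∉ Q, u • z = 0 := by
    intro Q _ hQ
    let BQ := Localization.AtPrime Q
    have : IsNoetherianRing BQ := IsLocalization.isNoetherianRing Q.primeCompl _ inferInstance
    let B' := AdicCompletion (maximalIdeal BQ) BQ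
    have : IsNoetherianRing B' := CAlg1.isNoetherianRing_adicCompletion _
      (maximalIdeal BQ).fg_of_isNoetherianRing
    have hBQ : Module.Flat A BQ := Module.Flat.trans A B BQ
    have hflat' : Module.Flat A B' := Module.Flat.trans A BQ B'
    let g : B →ₐ[A] B' := IsScalarTower.toAlgHom A B B'
    have hgc := hx B hB hBf B' inferInstance hflat' g
    -- the map out of `B0`
    have hu : ∀ t : p.primeCompl, IsUnit (algebraMap A B' t) := fun t => by
      rw [IsScalarTower.algebraMap_apply A B B', IsScalarTower.algebraMap_apply B BQ B']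
      exact (IsLocalization.map_units BQ (⟨algebraMap A B t, fun h => t.2 (hQ ▸ h)⟩ : Q.primeCompl)).map _
    let ψ : R →+* B' := IsLocalization.lift (M := p.primeCompl) hu
    have hψa : ∀ c : A, ψ (algebraMap A R c) = algebraMap A B' c := fun c => IsLocalization.lift_eq _ c
    have hψm : (maximalIdeal R).map ψ ≤ maximalIdeal B' := by
      refine le_of_eq_of_le ((congrArg (Ideal.map ψ) (Localization.AtPrime.map_eq_maximalIdeal (I := p)).symm).trans
        (Ideal.map_map _ _)) ?_
      rw [Ideal.map_le_iff_le_comap]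
      intro c hc
      rw [Ideal.mem_comap, RingHom.comp_apply, hψa, IsScalarTower.algebraMap_apply A B B',
        IsScalarTower.algebraMap_apply B BQ B', mem_maximalIdeal, mem_nonunits_iff]
      intro hunit
      have := (isUnit_map_iff (algebraMap BQ B') _).1 hunit
      rw [IsLocalization.AtPrime.isUnit_to_map_iff BQ Q] at this
      exact this (hQ.ge hc)
    let ψA : R →ₐ[A] B' := { ψ with commutes' := hψa }
    obtain ⟨φ⟩ := exists_algHom_completion ψA hψm
    have h0' := congrArg (LinearMap.rTensor (A ⧸ p) φ.toLinearMap) h0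
    rw [map_smul, hx B0 inferInstance hflat0 B' inferInstance hflat' φ] at h0'
    have hz' : LinearMap.rTensor (A ⧸ p) g.toLinearMap z = 0 := by
      rw [hz, map_sub, map_smul, hgc, sub_eq_zero, h0']
      simp
    exact exists_smul_eq_zero Q z (one_tmul_eq_zero z hz')
  let I : Ideal B := LinearMap.ker (LinearMap.toSpanSingleton B (B ⊗[A] (A ⧸ p)) z)
  have hpI : ∀ c ∈ p, algebraMap A B c • z = 0 := by
    intro c hc
    rw [algebraMap_smul]
    induction z using TensorProduct.induction_on with
    | zero => rw [smul_zero]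
    | add u v hu hv => rw [smul_add, hu, hv, add_zero]
    | tmul u v =>
      obtain ⟨v, rfl⟩ := Ideal.Quotient.mk_surjective v
      rw [← tmul_smul, Algebra.smul_def, Ideal.Quotient.algebraMap_eq, ← map_mul,
        Ideal.Quotient.eq_zero_iff_mem.2 (Ideal.mul_mem_right _ _ hc), tmul_zero]
  obtain ⟨t, htp, htI⟩ : ∃ t ∉ p, algebraMap A B t ∈ I := by
    by_contra hcon
    push Not at hcon
    have hdis : Disjoint (I : Set B) (Algebra.algebraMapSubmonoid B p.primeCompl : Set B) :=
      Set.disjoint_right.2 fun _ ⟨t, ht, he⟩ => he ▸ hcon t ht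
    obtain ⟨Q, hQ, hIQ, hQd⟩ := Ideal.exists_le_prime_disjoint I _ hdis
    have hQp : Q.comap (algebraMap A B) = p := by
      refine le_antisymm (fun c hc => ?_) fun c hc => hIQ (by simpa [I] using hpI c hc)
      by_contra hcp
      exact Set.disjoint_left.1 hQd hc ⟨c, hcp, rfl⟩
    obtain ⟨u, huQ, hu⟩ := hloc Q hQp
    exact huQ (hIQ (by simpa [I] using hu))
  have hinj : Function.Injective (LinearMap.lTensor B (LinearMap.lsmul A (A ⧸ p) t)) := by
    refine Module.Flat.lTensor_preserves_injective_linearMap (M := B) _ ?_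
    rw [injective_iff_map_eq_zero]
    intro v hv
    obtain ⟨v, rfl⟩ := Ideal.Quotient.mk_surjective v
    rw [LinearMap.lsmul_apply, Algebra.smul_def, Ideal.Quotient.algebraMap_eq, ← map_mul,
      Ideal.Quotient.eq_zero_iff_mem] at hv
    exact Ideal.Quotient.eq_zero_iff_mem.2 ((‹p.IsPrime›.mem_or_mem hv).resolve_left htp)
  apply hinj
  rw [map_zero]
  have htz : t • z = 0 := by
    have : algebraMap A B t • z = 0 := by simpa [I] using htI
    rwa [algebraMap_smul] at this
  rw [← htz]
  clear_value z
  clear hz hloc htI hpI htz I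
  induction z using TensorProduct.induction_on with
  | zero => simp
  | add u v hu hv => rw [map_add, smul_add, hu, hv]
  | tmul u v => rw [LinearMap.lTensor_tmul, LinearMap.lsmul_apply, tmul_smul]

theorem surj_quotient : Surj A (A ⧸ p) := by
  intro x hx
  obtain ⟨s, hs, a, ha⟩ := smul_eq_of_over p x hx
  -- `a` is a multiple of `s`
  let S : Submodule A (A ⧸ p) := LinearMap.range (LinearMap.lsmul A (A ⧸ p) s)
  have hq : S.mkQ a = 0 := by
    refine Groth.Agent.S11180.result A _ _ fun B _ _ _ _ hB hBf => ?_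
    have h := congrArg (LinearMap.lTensor B S.mkQ) (ha B hB hBf)
    rw [LinearMap.lTensor_tmul, map_smul] at h
    rw [← h]
    generalize LinearMap.lTensor B S.mkQ (x B hB hBf) = w
    induction w using TensorProduct.induction_on with
    | zero => rw [smul_zero]
    | add u v hu hv => rw [smul_add, hu, hv, add_zero]
    | tmul u v =>
      obtain ⟨v, rfl⟩ := S.mkQ_surjective v
      rw [← tmul_smul, ← map_smul,
        show S.mkQ (s • v) = 0 from (Submodule.Quotient.mk_eq_zero S).2 ⟨v, rfl⟩, tmul_zero]
  obtain ⟨c, hc⟩ := (Submodule.Quotient.mk_eq_zero S).1 hq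
  refine ⟨c, fun B _ _ _ _ hB hBf => ?_⟩
  have hinj : Function.Injective (LinearMap.lTensor B (LinearMap.lsmul A (A ⧸ p) s)) := by
    refine Module.Flat.lTensor_preserves_injective_linearMap (M := B) _ ?_
    rw [injective_iff_map_eq_zero]
    intro v hv
    obtain ⟨v, rfl⟩ := Ideal.Quotient.mk_surjective v
    rw [LinearMap.lsmul_apply, Algebra.smul_def, Ideal.Quotient.algebraMap_eq, ← map_mul,
      Ideal.Quotient.eq_zero_iff_mem] at hv
    exact Ideal.Quotient.eq_zero_iff_mem.2 ((‹p.IsPrime›.mem_or_mem hv).resolve_left hs)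
  apply hinj
  rw [LinearMap.lTensor_tmul, show LinearMap.lsmul A (A ⧸ p) s c = a from hc, ← ha B hB hBf]
  generalize x B hB hBf = w
  induction w using TensorProduct.induction_on with
  | zero => simp
  | add u v hu hv => rw [map_add, smul_add, hu, hv]
  | tmul u v => rw [LinearMap.lTensor_tmul, LinearMap.lsmul_apply, tmul_smul]

end Quot

/-- Pushforward of a family. -/
noncomputable def push {N : Type u} [AddCommGroup N] [Module A N] (f : M →ₗ[A] N) (x : Fam A M) :
    Fam A N :=
  fun B _ _ _ _ hB hBf => LinearMap.lTensor B f (x B hB hBf)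

theorem isCompat_push {N : Type u} [AddCommGroup N] [Module A N] (f : M →ₗ[A] N) {x : Fam A M}
    (hx : IsCompat x) : IsCompat (push f x) := by
  intro B _ _ _ _ hB hBf B' _ _ _ _ hB' hB'f g
  simp only [push]
  rw [← LinearMap.comp_apply, LinearMap.rTensor_comp_lTensor, ← LinearMap.lTensor_comp_rTensor,
    LinearMap.comp_apply, hx B hB hBf B' hB' hB'f g]

theorem surj_of_equiv {N : Type u} [AddCommGroup N] [Module A N] (e : M ≃ₗ[A] N) (h : Surj A N) :
    Surj A M := by
  intro x hx
  obtain ⟨n, hn⟩ := h _ (isCompat_push e.toLinearMap hx)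
  refine ⟨e.symm n, fun B _ _ _ _ hB hBf => ?_⟩
  apply (LinearEquiv.lTensor B e).injective
  show LinearMap.lTensor B e.toLinearMap _ = LinearMap.lTensor B e.toLinearMap _
  rw [LinearMap.lTensor_tmul]
  simpa [push] using hn B hB hBf

theorem surj_of_exact {N₁ N₃ : Type u} [AddCommGroup N₁] [Module A N₁] [AddCommGroup N₃] [Module A N₃]
    (f : N₁ →ₗ[A] M) (g : M →ₗ[A] N₃) (hf : Function.Injective f) (hg : Function.Surjective g)
    (h : Function.Exact f g) (h₁ : Surj A N₁) (h₃ : Surj A N₃) : Surj A M := by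
  intro x hx
  obtain ⟨m3, hm3⟩ := h₃ _ (isCompat_push g hx)
  obtain ⟨m2, rfl⟩ := hg m3
  have hex : ∀ (B : Type u) [CommRing B] [Algebra A B] [IsNoetherianRing B] [IsLocalRing B]
      (hB : IsAdicComplete (maximalIdeal B) B) (hBf : Module.Flat A B),
      ∃ y, LinearMap.lTensor B f y = x B hB hBf - (1 : B) ⊗ₜ[A] m2 := fun B _ _ _ _ hB hBf =>
    ((lTensor_exact B h hg) _).1 (by
      rw [map_sub, LinearMap.lTensor_tmul, show LinearMap.lTensor B g (x B hB hBf) = _ from hm3 B hB hBf,
        sub_self])
  have hinj : ∀ (B : Type u) [CommRing B] [Algebra A B], Module.Flat A B →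
      Function.Injective (LinearMap.lTensor B f) := fun B _ _ _ =>
    Module.Flat.lTensor_preserves_injective_linearMap f hf
  let y : Fam A N₁ := fun B _ _ _ _ hB hBf => (hex B hB hBf).choose
  have hy : ∀ (B : Type u) [CommRing B] [Algebra A B] [IsNoetherianRing B] [IsLocalRing B]
      (hB : IsAdicComplete (maximalIdeal B) B) (hBf : Module.Flat A B),
      LinearMap.lTensor B f (y B hB hBf) = x B hB hBf - (1 : B) ⊗ₜ[A] m2 := fun B _ _ _ _ hB hBf =>
    (hex B hB hBf).choose_spec
  have hyc : IsCompat y := by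
    intro B _ _ _ _ hB hBf B' _ _ _ _ hB' hB'f φ
    apply hinj B' hB'f
    rw [← LinearMap.comp_apply, LinearMap.lTensor_comp_rTensor, ← LinearMap.rTensor_comp_lTensor,
      LinearMap.comp_apply, hy, hy, map_sub, hx B hB hBf B' hB' hB'f φ, LinearMap.rTensor_tmul]
    simp
  obtain ⟨m1, hm1⟩ := h₁ y hyc
  refine ⟨f m1 + m2, fun B _ _ _ _ hB hBf => ?_⟩
  have := hy B hB hBf
  rw [hm1 B hB hBf, LinearMap.lTensor_tmul] at this
  rw [tmul_add, this, sub_add_cancel]

theorem surj_of_finite [Module.Finite A M] : Surj A M := by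
  refine IsNoetherianRing.induction_on_isQuotientEquivQuotientPrime A (M := M) ‹_›
    (motive := fun N _ _ _ => Surj A N) ?_ ?_ ?_
  · intro N _ _ _ _ x _
    refine ⟨0, fun B _ _ _ _ hB hBf => ?_⟩
    rw [tmul_zero]
    generalize x B hB hBf = w
    induction w using TensorProduct.induction_on with
    | zero => rfl
    | add u v hu hv => rw [hu, hv, add_zero]
    | tmul u v => rw [Subsingleton.elim v 0, tmul_zero]
  · intro N _ _ _ p e
    exact surj_of_equiv e (surj_quotient p.1)
  · intro N₁ _ _ _ N₂ _ _ _ N₃ _ _ _ f g hf hg hfg h₁ h₃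
    exact surj_of_exact f g hf hg hfg h₁ h₃

end Groth.Agent.CAlg6.CompleteFamily
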