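import Groth.Agent.Comod33.UniFilt
import Groth.Agent.Comod33.MultQuot
import Groth.Agent.SGA3b53.DiagLift
import Groth.Agent.SGA3b53.BaseChange
import Mathlib.LinearAlgebra.Eigenspace.Triangularizable

/-!
The conilpotent component of a commutative affine group and the largest subgroup of multiplicative type.
-/

universe u

set_option maxHeartbeats 1000000
set_option synthInstance.maxHeartbeats 100000

open TensorProduct WithConv

noncomputable section

namespace Groth.Agent.CAlg6.Conil

open Groth.Agent.Comod33 Groth.Agent.Comod33.UniFilt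

variable {k : Type u} [Field k] {A : Type u} [CommRing A] [HopfAlgebra k A] [Coalgebra.IsCocomm k A]

local notation "ε" => CoalgebraStruct.counit (R := k)
local notation "Δ" => CoalgebraStruct.comul (R := k)
local notation "S" => HopfAlgebraStruct.antipode (R := k)

theorem T_split (f : D k A) (a : A) : T f a = T (f - f.ofConv 1 • (1 : D k A)) a + f.ofConv 1 • a := by
  rw [T_sub, T_smul, T_oneD, sub_add_cancel]

theorem counit_T (f : D k A) (a : A) : ε (T f a) = f.ofConv a := by
  rw [← one_apply, apply_T, one_mul]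

/-- the difference `Δ a - a ⊗ 1` has first legs one step below -/
theorem comul_sub_mem {m : ℕ} {a : A} (ha : a ∈ K k A (m + 1)) :
    Δ a - a ⊗ₜ[k] (1 : A) ∈ LinearMap.range ((K k A m).subtype.rTensor A) := by
  rw [mem_range_rTensor_iff]
  intro f
  have h : rc f (Δ a - a ⊗ₜ[k] (1 : A)) = T (toConv f - f 1 • (1 : D k A)) a := by
    rw [map_sub, rc_tmul, T_sub, T_smul, T_oneD]
    rfl
  rw [h]
  exact T_mem_K_pred (sub_mem_M (toConv f)) ha

/-- the filtration is multiplicative -/
theorem mul_mem_K : ∀ (N : ℕ) {m n : ℕ} {a b : A}, m + n ≤ N → a ∈ K k A m → b ∈ K k A n →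
    a * b ∈ K k A (m + n - 1) := by
  intro N
  induction N with
  | zero =>
    intro m n a b h ha _
    rw [show m = 0 by omega] at ha
    rw [eq_zero_of_mem_K_zero ha, zero_mul]
    exact zero_mem _
  | succ N ih =>
    intro m n a b h ha hb
    rcases m with _ | m
    · rw [eq_zero_of_mem_K_zero ha, zero_mul]; exact zero_mem _
    rcases n with _ | n
    · rw [eq_zero_of_mem_K_zero hb, mul_zero]; exact zero_mem _
    rw [show m + 1 + (n + 1) - 1 = m + n + 1 by omega]
    refine mem_K_succ fun f hf => ?_
    show rc f.ofConv (Δ (a * b)) ∈ _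
    obtain ⟨y, hy⟩ := comul_sub_mem ha
    rw [Bialgebra.comul_mul, eq_add_of_sub_eq' hy.symm, add_mul, map_add]
    refine add_mem ?_ ?_
    · have e : rc f.ofConv (a ⊗ₜ[k] (1 : A) * Δ b) = a * T f b := by
        show _ = a * rc f.ofConv (Δ b)
        generalize Δ b = z
        induction z with
        | zero => simp
        | add p q hp hq => simp only [map_add, mul_add, hp, hq]
        | tmul p q => simp
      rw [e]
      have := ih (m := m + 1) (n := n) (by omega) ha (T_mem_K_pred hf hb)
      rwa [show m + 1 + n - 1 = m + n by omega] at this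
    · clear hy
      induction y with
      | zero => simp
      | add p q hp hq => simp only [map_add, add_mul]; exact add_mem hp hq
      | tmul p q =>
        have e : rc f.ofConv ((K k A m).subtype.rTensor A (p ⊗ₜ[k] q) * Δ b) =
            (p : A) * T (toConv (f.ofConv ∘ₗ LinearMap.mulLeft k q)) b := by
          show _ = (p : A) * rc _ (Δ b)
          rw [LinearMap.rTensor_tmul, Submodule.subtype_apply]
          generalize Δ b = z
          induction z with
          | zero => simp
          | add u v hu hv => simp only [map_add, mul_add, hu, hv]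
          | tmul u v => simp
        rw [e]
        have := ih (m := m) (n := n + 1) (by omega) p.2
          (T_mem_K (toConv (f.ofConv ∘ₗ LinearMap.mulLeft k q)) hb)
        rwa [show m + (n + 1) - 1 = m + n by omega] at this

theorem antipode_mem_K : ∀ (n : ℕ) {a : A}, a ∈ K k A n → S a ∈ K k A n := by
  intro n
  induction n with
  | zero => intro a ha; rw [eq_zero_of_mem_K_zero ha, map_zero]; exact zero_mem _
  | succ n ih =>
    intro a ha
    refine mem_K_succ fun f hf => ?_
    have e : T f (S a) = S (T (toConv (f.ofConv ∘ₗ S)) a) := by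
      show rc f.ofConv (Δ (S a)) = S (rc _ (Δ a))
      rw [Hopf35.comul_antipode]
      conv_rhs => rw [← Coalgebra.comm_comul k a]
      generalize Δ a = z
      induction z with
      | zero => simp
      | add p q hp hq => simp only [map_add, hp, hq]
      | tmul p q => simp
    rw [e]
    refine ih (T_mem_K_pred ?_ ha)
    rw [mem_M, WithConv.ofConv_toConv, LinearMap.comp_apply, HopfAlgebra.antipode_one]
    exact hf

variable (k A) in
/-- the conilpotent component -/
def conil : Subalgebra k A where
  carrier := {a | ∃ n, a ∈ K k A n}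
  mul_mem' := fun {a b} ⟨m, hm⟩ ⟨n, hn⟩ => ⟨_, mul_mem_K (m + n) le_rfl hm hn⟩
  add_mem' := fun {a b} ⟨m, hm⟩ ⟨n, hn⟩ =>
    ⟨max m n, add_mem (K_mono (le_max_left m n) hm) (K_mono (le_max_right m n) hn)⟩
  algebraMap_mem' r := ⟨1, by
    rw [Algebra.algebraMap_eq_smul_one]
    exact Submodule.smul_mem _ _ (one_mem_K (n := 0))⟩

theorem isSubHopf_conil : SubHopf.IsSubHopf (conil k A) := by
  refine ⟨fun b ⟨n, hn⟩ => ?_, fun b ⟨n, hn⟩ => ⟨n, antipode_mem_K n hn⟩⟩
  let W := (conil k A).toSubmodule
  have h1 : Δ b ∈ LinearMap.range (W.subtype.rTensor A) :=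
    (mem_range_rTensor_iff W _).2 fun f => ⟨n, T_mem_K (toConv f) hn⟩
  have h2 : Δ b ∈ LinearMap.range (W.subtype.lTensor A) := by
    obtain ⟨y, hy⟩ := h1
    refine ⟨TensorProduct.comm k _ _ y, ?_⟩
    rw [← Coalgebra.comm_comul k b, ← hy]
    exact LinearMap.congr_fun (TensorProduct.ext' (g := W.subtype.lTensor A ∘ₗ
      (TensorProduct.comm k W A).toLinearMap) (h := (TensorProduct.comm k A A).toLinearMap ∘ₗ
        W.subtype.rTensor A) fun p q => by simp) y
  obtain ⟨r, hr⟩ := W.subtype.exists_leftInverse_of_injective W.ker_subtype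
  refine ⟨TensorProduct.map r r (Δ b), ?_⟩
  have e1 : (W.subtype ∘ₗ r).rTensor A (Δ b) = Δ b := by
    obtain ⟨y, hy⟩ := h1
    rw [← hy, ← LinearMap.comp_apply, ← LinearMap.rTensor_comp, LinearMap.comp_assoc, hr, LinearMap.comp_id]
  have e2 : (W.subtype ∘ₗ r).lTensor A (Δ b) = Δ b := by
    obtain ⟨y, hy⟩ := h2
    rw [← hy, ← LinearMap.comp_apply, ← LinearMap.lTensor_comp, LinearMap.comp_assoc, hr, LinearMap.comp_id]
  show TensorProduct.map W.subtype W.subtype (TensorProduct.map r r _) = _
  rw [← LinearMap.comp_apply, ← TensorProduct.map_comp, ← LinearMap.rTensor_comp_lTensor,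
    LinearMap.comp_apply, e2, e1]

/-- the inclusion of the conilpotent component has unipotent source -/
theorem isUnipotent_conil :
    letI := SubHopf.hopfAlgebra (isSubHopf_conil (k := k) (A := A))
    HopfRep.IsUnipotent k (conil k A) := by
  letI := SubHopf.hopfAlgebra (isSubHopf_conil (k := k) (A := A))
  intro V _ _ cV hfin hnt
  haveI := hfin
  haveI := hnt
  let φ : conil k A →ₐc[k] A := SubHopf.incl isSubHopf_conil
  have hφ : Function.Injective φ := Subtype.val_injective
  let coB := HopfRep.Comod.coact (k := k) (A := conil k A) (V := V)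
  letI cD : HopfRep.Comod k A V := push (φ : conil k A →ₗc[k] A) cV
  have hco : ∀ v : V, HopfRep.Comod.coact (k := k) (A := A) v = (φ : conil k A →ₗ[k] A).lTensor V (coB v) :=
    fun v => rfl
  have hx : ∀ x : V ⊗[k] conil k A, ∃ N, ∀ f ∈ M k A ^ N,
      rc f.ofConv ((φ : conil k A →ₗ[k] A).lTensor V x) = 0 := by
    intro x
    induction x with
    | zero => exact ⟨0, fun f _ => by simp⟩
    | tmul v b =>
      obtain ⟨N, hN⟩ := b.2
      refine ⟨N, fun f hf => ?_⟩
      rw [LinearMap.lTensor_tmul, rc_tmul]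
      exact (congrArg (fun c : k => c • v) (hN f hf)).trans (zero_smul k v)
    | add p q hp hq =>
      obtain ⟨N₁, h₁⟩ := hp
      obtain ⟨N₂, h₂⟩ := hq
      exact ⟨max N₁ N₂, fun f hf => by
        rw [map_add, map_add, h₁ f (Ideal.pow_le_pow_right (le_max_left N₁ N₂) hf),
          h₂ f (Ideal.pow_le_pow_right (le_max_right N₁ N₂) hf), add_zero]⟩
  let bV := Module.finBasis k V
  choose Nf hNf using fun i => hx (coB (bV i))
  have hex : ∃ N, ∀ f ∈ M k A ^ N, (dact f.ofConv : V →ₗ[k] V) = 0 :=
    ⟨Finset.univ.sup Nf, fun f hf => bV.ext fun i => by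
      rw [dact_apply, hco, LinearMap.zero_apply]
      exact hNf i f (Ideal.pow_le_pow_right (Finset.le_sup (f := Nf) (Finset.mem_univ i)) hf)⟩
  classical
  let n := Nat.find hex
  have hn := Nat.find_spec hex
  have hn0 : n ≠ 0 := fun h0 => by
    obtain ⟨v, hv⟩ := exists_ne (0 : V)
    refine hv ?_
    have := LinearMap.congr_fun (hn (1 : D k A) (by
      rw [show Nat.find hex = 0 from h0, Submodule.pow_zero, Ideal.one_eq_top]; trivial)) v
    simpa [LinearMap.convOne_def, dact_counit] using this
  have hmin : ¬ ∀ f ∈ M k A ^ (n - 1), (dact f.ofConv : V →ₗ[k] V) = 0 := Nat.find_min hex (by omega)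
  push Not at hmin
  obtain ⟨g, hg, hne⟩ := hmin
  obtain ⟨v, hv⟩ : ∃ v : V, dact g.ofConv v ≠ 0 := by
    by_contra h
    push Not at h
    exact hne (LinearMap.ext h)
  intro hbot
  let w : V := dact g.ofConv v
  have hw : ∀ f : A →ₗ[k] k, dact f w = f 1 • w := by
    intro f
    let f' : D k A := toConv f - f 1 • (1 : D k A)
    have h0 : dact f'.ofConv w = 0 := by
      show dact f'.ofConv (dact g.ofConv v) = 0
      rw [dact_dact, WithConv.toConv_ofConv, WithConv.toConv_ofConv]
      refine LinearMap.congr_fun (hn _ ?_) v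
      rw [show Nat.find hex = (n - 1) + 1 from (Nat.sub_add_cancel (Nat.pos_of_ne_zero hn0)).symm,
        Submodule.pow_succ, mul_comm f' g]
      exact Ideal.mul_mem_mul hg (sub_mem_M (toConv f))
    have e : f = f'.ofConv + f 1 • CoalgebraStruct.counit := by
      ext a
      simp [f', LinearMap.convOne_def]
    conv_lhs => rw [e, dact_add, dact_smul, LinearMap.add_apply, LinearMap.smul_apply, dact_counit, h0, zero_add]
  have hw' : w ∈ @HopfRep.fixedPts k (conil k A) _ _ _ V _ _ cV := by
    apply Module.Flat.lTensor_preserves_injective_linearMap (M := V) (φ : conil k A →ₗ[k] A) hφ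
    rw [LinearMap.lTensor_tmul, show (φ : conil k A →ₗ[k] A) 1 = 1 from map_one φ]
    show (φ : conil k A →ₗ[k] A).lTensor V (coB w) = w ⊗ₜ[k] (1 : A)
    rw [← hco]
    refine eq_of_rc fun f => ?_
    rw [← dact_apply, hw, rc_tmul]
  rw [hbot, Submodule.mem_bot] at hw'
  exact hv hw'

omit [Coalgebra.IsCocomm k A] in
theorem no_prim_of_isMultTypeConst {C : Type u} [CommRing C] [HopfAlgebra k C]
    (h : SGA3b.IsMultTypeConst k C) {x : C} (hx : Diag.IsPrim (k := k) x) : x = 0 := by
  obtain ⟨R', _, _, hff, hd⟩ := h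
  haveI := hff
  haveI : Nontrivial (R' ⊗[k] k) := Module.FaithfullyFlat.lTensor_nontrivial k R' k
  haveI : Nontrivial R' := (TensorProduct.rid k R').injective.nontrivial
  obtain ⟨m, hm⟩ := Ideal.exists_maximal R'
  let F := R' ⧸ m
  letI : Field F := Ideal.Quotient.field m
  obtain ⟨M', _, ⟨e⟩⟩ : SGA3b.IsDiag F (F ⊗[k] C) := SGA3b53.isDiag_tower R' F hd
  have hF : HopfRep.IsDiagonalizable F (F ⊗[k] C) := by
    rw [HopfRep.IsDiagonalizable, eq_top_iff]
    intro z _
    rw [show z = e.symm (e z) from (e.toAlgEquiv.symm_apply_apply z).symm]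
    induction (e z) using MonoidAlgebra.induction_linear with
    | zero => rw [map_zero]; exact zero_mem _
    | add f g hf hg => rw [map_add]; exact add_mem hf hg
    | single m r =>
      rw [show MonoidAlgebra.single m r = r • MonoidAlgebra.of F M' m by simp, map_smul]
      exact Submodule.smul_mem _ _ (Submodule.subset_span ((MonoidAlgebra.isGroupLikeElem_of m).map e.symm))
  exact Diag.no_prim_descend (K := F) (fun z hz => Diag.no_prim_of_isDiagonalizable hF hz) hx

/-- maps to groups without primitive functions kill the augmentation of the conilpotent component -/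
theorem map_eq_smul_one {C : Type u} [CommRing C] [HopfAlgebra k C] (π : A →ₐc[k] C)
    (hC : ∀ x : C, Diag.IsPrim (k := k) x → x = 0) :
    ∀ (n : ℕ) {a : A}, a ∈ K k A n → π a = ε a • (1 : C) := by
  intro n
  induction n with
  | zero => intro a ha; simp [eq_zero_of_mem_K_zero ha]
  | succ n ih =>
    intro a ha
    have h1 : (π : A →ₗ[k] C).rTensor A (Δ a) =
        π a ⊗ₜ[k] (1 : A) + (1 : C) ⊗ₜ[k] a - ε a • ((1 : C) ⊗ₜ[k] (1 : A)) := by
      refine eq_of_rc fun f => ?_
      let f' : D k A := toConv f - f 1 • (1 : D k A)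
      have e1 : rc f ((π : A →ₗ[k] C).rTensor A (Δ a)) = π (T (toConv f) a) := rc_rTensor f _ _
      rw [e1, T_split, map_add, map_smul, ih (T_mem_K_pred (sub_mem_M _) ha), counit_T, map_sub, map_add,
        map_smul, rc_tmul, rc_tmul, rc_tmul]
      simp only [WithConv.ofConv_sub, WithConv.ofConv_smul, WithConv.ofConv_toConv, LinearMap.sub_apply,
        LinearMap.smul_apply, one_apply, smul_eq_mul, sub_smul, mul_smul]
      rw [smul_comm (ε a) (f 1)]
      abel
    have h2 := congrArg ((π : A →ₗ[k] C).lTensor C) h1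
    rw [← LinearMap.comp_apply, LinearMap.lTensor_comp_rTensor] at h2
    rw [show TensorProduct.map (π : A →ₗ[k] C) (π : A →ₗ[k] C) (Δ a) = Δ (π a) from
      CoalgHomClass.map_comp_comul_apply π a] at h2
    simp only [map_sub, map_add, map_smul, LinearMap.lTensor_tmul] at h2
    rw [show (π : A →ₗ[k] C) 1 = 1 from map_one π] at h2
    refine sub_eq_zero.1 (hC _ ?_)
    show Δ (π a - ε a • (1 : C)) = _
    rw [map_sub, map_smul, Bialgebra.comul_one, Algebra.TensorProduct.one_def, h2, sub_tmul, tmul_sub]
    simp only [TensorProduct.smul_tmul', TensorProduct.tmul_smul]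
    show π a ⊗ₜ[k] (1 : C) + 1 ⊗ₜ[k] π a - _ - _ = _
    abel

section Decomp

theorem T_comm (f g : D k A) (a : A) : T f (T g a) = T g (T f a) :=
  sub_eq_zero.1 (eq_zero_of_forall (k := k) fun x => by
    show x.ofConv _ = 0
    rw [map_sub, apply_T, apply_T, apply_T, apply_T, mul_right_comm, sub_self])

/-- contraction after multiplication by a group-like element -/
theorem T_mul_glike {s : A} (hs : IsGroupLikeElem k s) (f : D k A) (y : A) :
    T f (s * y) = s * T (toConv (f.ofConv ∘ₗ LinearMap.mulLeft k s)) y := by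
  show rc f.ofConv (Δ (s * y)) = s * rc _ (Δ y)
  rw [Bialgebra.comul_mul, hs.comul_eq_tmul_self]
  generalize Δ y = z
  induction z with
  | zero => simp
  | add p q hp hq => simp only [map_add, mul_add, hp, hq]
  | tmul p q => simp

/-- stability under all contractions -/
def Stable (U : Submodule k A) : Prop := ∀ f : D k A, ∀ y ∈ U, T f y ∈ U

theorem stable_map {U : Submodule k A} (hU : Stable U) (f : D k A) (c : k) :
    Stable (U.map (T f - c • LinearMap.id)) := by
  rintro g _ ⟨y, hy, rfl⟩
  refine ⟨T g y, hU g y hy, ?_⟩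
  simp only [LinearMap.sub_apply, LinearMap.smul_apply, LinearMap.id_apply, map_sub, map_smul, T_comm]

theorem pow_apply_comm {U : Submodule k A} (hU : Stable U) (f g : D k A) (c : k) :
    ∀ (d : ℕ) (y : A), ((T f - c • LinearMap.id : Module.End k A) ^ d) (T g y) =
      T g (((T f - c • LinearMap.id : Module.End k A) ^ d) y) := by
  intro d
  induction d with
  | zero => intro y; rfl
  | succ d ih =>
    intro y
    simp only [pow_succ', Module.End.mul_apply, ih, LinearMap.sub_apply, LinearMap.smul_apply,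
      LinearMap.id_apply, map_sub, map_smul, T_comm g f]

/-- a nilpotent operator shrinks a stable subspace -/
theorem map_lt {U : Submodule k A} [Module.Finite k U] (hU : Stable U) (hne : U ≠ ⊥) {f : D k A} {c : k}
    (hnil : ∀ y ∈ U, ∃ d, ((T f - c • LinearMap.id : Module.End k A) ^ d) y = 0) :
    U.map (T f - c • LinearMap.id) < U := by
  let N : Module.End k A := T f - c • LinearMap.id
  have hst : ∀ y ∈ U, N y ∈ U := fun y hy => sub_mem (hU f y hy) (U.smul_mem c hy)
  refine lt_of_le_of_ne (Submodule.map_le_iff_le_comap.2 hst) fun e => hne ((Submodule.eq_bot_iff U).2 ?_)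
  have hsur : Function.Surjective (N.restrict hst) := fun z => by
    obtain ⟨w, hw, hwz⟩ : (z : A) ∈ U.map N := e.ge z.2
    exact ⟨⟨w, hw⟩, Subtype.ext hwz⟩
  have hinj : Function.Injective (N.restrict hst) := LinearMap.injective_iff_surjective.2 hsur
  intro y hy
  obtain ⟨d, hd⟩ := hnil y hy
  induction d generalizing y with
  | zero => exact hd
  | succ d ih =>
    rw [pow_succ, Module.End.mul_apply] at hd
    have h0 := ih (N y) (hst y hy) hd
    exact congrArg Subtype.val (hinj (a₁ := ⟨y, hy⟩) (a₂ := 0) (by rw [map_zero]; exact Subtype.ext h0))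

/-- a family of eigenvalues -/
def HasWeight (U : Submodule k A) (χ : D k A → k) : Prop :=
  ∀ f : D k A, ∀ y ∈ U, ∃ d, ((T f - χ f • LinearMap.id : Module.End k A) ^ d) y = 0

/-- a common eigenvector -/
theorem exists_common {χ : D k A → k} : ∀ (d : ℕ) (U : Submodule k A) [Module.Finite k U],
    Module.finrank k U ≤ d → Stable U → U ≠ ⊥ → HasWeight U χ →
    ∃ v ∈ U, v ≠ 0 ∧ ∀ f, T f v = χ f • v := by
  intro d
  induction d with
  | zero =>
    intro U _ hd _ hne _
    exact absurd (Submodule.finrank_eq_zero.1 (Nat.le_zero.1 hd)) hne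
  | succ d ih =>
    intro U _ hd hU hne hw
    by_cases h : ∀ f, ∀ y ∈ U, T f y = χ f • y
    · obtain ⟨v, hv, hv0⟩ := (Submodule.ne_bot_iff U).1 hne
      exact ⟨v, hv, hv0, fun f => h f v hv⟩
    push Not at h
    obtain ⟨f, y, hy, hne'⟩ := h
    have hlt := map_lt hU hne (hw f)
    have hle : Module.finrank k (U.map (T f - χ f • LinearMap.id)) ≤ d := by
      have := Submodule.finrank_lt_finrank_of_lt hlt
      omega
    have hne2 : U.map (T f - χ f • LinearMap.id) ≠ ⊥ := fun e => by
      have h0 := (Submodule.eq_bot_iff _).1 e _ ⟨y, hy, rfl⟩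
      rw [LinearMap.sub_apply, LinearMap.smul_apply, LinearMap.id_apply, sub_eq_zero] at h0
      exact hne' h0
    haveI : Module.Finite k (U.map (T f - χ f • LinearMap.id)) := Module.Finite.map U _
    obtain ⟨v, hv, h⟩ := ih _ hle (stable_map hU f _) hne2 fun g y hy => hw g y (hlt.le hy)
    exact ⟨v, hlt.le hv, h⟩

/-- a subspace with one weight is a translate of the filtration -/
theorem mul_mem_of_weight {g s : A} (hs : IsGroupLikeElem k s) (hsg : s * g = 1) :
    ∀ (d : ℕ) (U : Submodule k A) [Module.Finite k U],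
    Module.finrank k U ≤ d → Stable U → HasWeight U (fun f => f.ofConv g) → ∀ y ∈ U, s * y ∈ K k A d := by
  intro d
  induction d with
  | zero =>
    intro U _ hd _ _ y hy
    rw [Submodule.finrank_eq_zero.1 (Nat.le_zero.1 hd), Submodule.mem_bot] at hy
    rw [hy, mul_zero]
    exact zero_mem _
  | succ d ih =>
    intro U _ hd hU hw y hy
    by_cases hne : U = ⊥
    · rw [hne, Submodule.mem_bot] at hy
      rw [hy, mul_zero]
      exact zero_mem _
    refine mem_K_succ fun f hf => ?_
    rw [T_mul_glike hs]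
    let fs : D k A := toConv (f.ofConv ∘ₗ LinearMap.mulLeft k s)
    have h0 : fs.ofConv g = 0 := by
      show f.ofConv (s * g) = 0
      rw [hsg]; exact hf
    have hlt : U.map (T fs - fs.ofConv g • LinearMap.id) < U := map_lt hU hne (hw fs)
    have hle : Module.finrank k (U.map (T fs - fs.ofConv g • LinearMap.id)) ≤ d := by
      have := Submodule.finrank_lt_finrank_of_lt hlt
      omega
    haveI : Module.Finite k (U.map (T fs - fs.ofConv g • LinearMap.id)) := Module.Finite.map U _
    refine ih _ hle (stable_map hU fs _) (fun g' z hz => hw g' z (hlt.le hz)) _ ⟨y, hy, ?_⟩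
    simp [h0, fs]

variable (k A) in
/-- translates of the conilpotent component by group-like elements -/
def glConil : Submodule k A :=
  Submodule.span k {x : A | ∃ g y : A, IsGroupLikeElem k g ∧ y ∈ conil k A ∧ x = g * y}

/-- a subspace with one weight lies in a translate -/
theorem weight_le {U : Submodule k A} [Module.Finite k U] (hU : Stable U) {χ : D k A → k}
    (hw : HasWeight U χ) : U ≤ glConil k A := by
  by_cases hne : U = ⊥
  · rw [hne]; exact bot_le
  obtain ⟨v, -, hv0, hv⟩ := exists_common _ U le_rfl hU hne hw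
  have hfv : ∀ f : D k A, f.ofConv v = χ f * ε v := fun f => by
    rw [← counit_T f v, hv, map_smul, smul_eq_mul]
  have hεv : ε v ≠ 0 := fun h0 => hv0 (eq_zero_of_forall fun f => by rw [hfv, h0, mul_zero])
  let g : A := (ε v)⁻¹ • v
  have hg1 : ε g = 1 := by rw [map_smul, smul_eq_mul, inv_mul_cancel₀ hεv]
  have hfg : ∀ f : D k A, f.ofConv g = χ f := fun f => by
    rw [map_smul, smul_eq_mul, hfv f, mul_comm (χ f), ← mul_assoc, inv_mul_cancel₀ hεv, one_mul]
  have hg : IsGroupLikeElem k g := by
    refine ⟨hg1, eq_of_rc fun f => ?_⟩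
    show T (toConv f) g = rc f (g ⊗ₜ[k] g)
    rw [rc_tmul, show T (toConv f) g = χ (toConv f) • g by rw [map_smul, hv, smul_comm]]
    exact congrArg (fun c : k => c • g) (hfg (toConv f)).symm
  let s : A := S g
  have hsg : s * g = 1 := Diag.grouplike_mul_inv hg
  intro y hy
  have hmem := mul_mem_of_weight (g := g) (TrigStr.isGroupLike_antipode hg) hsg _ U le_rfl hU
    (fun f z hz => by simpa only [hfg] using hw f z hz) y hy
  refine Submodule.subset_span ⟨g, s * y, hg, ⟨_, hmem⟩, ?_⟩
  rw [← mul_assoc, mul_comm g s, hsg, one_mul]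

/-- decomposition of a finite stable subspace -/
theorem stable_le_glConil [IsAlgClosed k] : ∀ (d : ℕ) (U : Submodule k A) [Module.Finite k U],
    Module.finrank k U ≤ d → Stable U → U ≤ glConil k A := by
  intro d
  induction d with
  | zero =>
    intro U _ hd _
    rw [Submodule.finrank_eq_zero.1 (Nat.le_zero.1 hd)]
    exact bot_le
  | succ d ih =>
    intro U _ hd hU
    let t : D k A → Module.End k U := fun f => (T f).restrict (hU f)
    have hpow : ∀ (f : D k A) (c : k) (n : ℕ) (x : U),
        ((((t f - c • 1) ^ n) x : U) : A) = ((T f - c • LinearMap.id : Module.End k A) ^ n) (x : A) := by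
      intro f c n
      induction n with
      | zero => intro x; rfl
      | succ n ihn =>
        intro x
        rw [pow_succ, pow_succ, Module.End.mul_apply, Module.End.mul_apply, ihn]
        rfl
    by_cases hone : ∀ f, ∃ μ, (t f).maxGenEigenspace μ = ⊤
    · choose χ hχ using hone
      refine weight_le hU (χ := χ) fun f y hy => ?_
      have hm : (⟨y, hy⟩ : U) ∈ (t f).maxGenEigenspace (χ f) := by rw [hχ]; trivial
      obtain ⟨n, hn⟩ := (Module.End.mem_maxGenEigenspace _ _ _).1 hm
      exact ⟨n, by rw [← hpow f _ n ⟨y, hy⟩, hn]; rfl⟩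
    push Not at hone
    obtain ⟨f, hf⟩ := hone
    have hsub : ∀ μ, ((t f).maxGenEigenspace μ).map U.subtype ≤ glConil k A := by
      intro μ
      haveI : Module.Finite k (((t f).maxGenEigenspace μ).map U.subtype) := Module.Finite.map _ _
      refine ih _ ?_ ?_
      · rw [← LinearEquiv.finrank_eq (Submodule.equivMapOfInjective _ U.injective_subtype _)]
        have := Submodule.finrank_lt (hf μ)
        omega
      · rintro g _ ⟨x, hx, rfl⟩
        refine ⟨⟨T g x, hU g _ x.2⟩, ?_, rfl⟩
        obtain ⟨n, hn⟩ := (Module.End.mem_maxGenEigenspace _ _ _).1 hx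
        refine (Module.End.mem_maxGenEigenspace _ _ _).2 ⟨n, Subtype.ext ?_⟩
        rw [hpow, pow_apply_comm hU]
        have h0 := hpow f μ n x
        rw [hn] at h0
        rw [← h0]
        exact map_zero _
    intro y hy
    have h1 : (⊤ : Submodule k U).map U.subtype ≤ glConil k A := by
      rw [← Module.End.iSup_maxGenEigenspace_eq_top (t f), Submodule.map_iSup]
      exact iSup_le hsub
    exact h1 ⟨⟨y, hy⟩, trivial, rfl⟩

theorem mem_glConil [IsAlgClosed k] (a : A) : a ∈ glConil k A := by
  obtain ⟨U, hfin, ha, hU⟩ := exists_finite_subcomod_mem (k := k) (A := A) a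
  exact stable_le_glConil _ U le_rfl (fun f y hy => T_mem hU f hy) ha

end Decomp

section BaseChange

variable {K₁ : Type u} [Field K₁] [Algebra k K₁]

/-- the conilpotent filtration of a base change -/
theorem coord_mem_K {n : ℕ} {z : K₁ ⊗[k] A} (hz : z ∈ K K₁ (K₁ ⊗[k] A) n) (l : K₁ →ₗ[k] k) :
    TensorProduct.lid k A (l.rTensor A z) ∈ K k A n := by
  intro g hg
  let φ : D k A →+* D K₁ (K₁ ⊗[k] A) :=
    { toFun := fun f => toConv (Diag.extFun f.ofConv)
      map_one' := ofConv_injective (TensorProduct.AlgebraTensorModule.ext fun c a => by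
        simp [Diag.extFun_tmul, one_apply])
      map_mul' := fun f g => ofConv_injective (TensorProduct.AlgebraTensorModule.ext fun c a => by
        simp only [WithConv.ofConv_toConv, Diag.extFun_tmul]
        rw [LinearMap.convMul_apply, LinearMap.convMul_apply]
        rw [show CoalgebraStruct.comul (R := K₁) (c ⊗ₜ[k] a) =
          AlgebraTensorModule.tensorTensorTensorComm k K₁ k K₁ K₁ K₁ A A
            (((1 : K₁) ⊗ₜ[K₁] c) ⊗ₜ[k] Δ a) from rfl]
        generalize Δ a = w
        induction w with
        | zero => simp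
        | add p q hp hq => simp only [tmul_add, map_add, add_smul, hp, hq]
        | tmul p q => simp [Diag.extFun_tmul, Algebra.smul_def, mul_assoc, mul_left_comm, mul_comm])
      map_zero' := ofConv_injective (TensorProduct.AlgebraTensorModule.ext fun c a => by simp [Diag.extFun_tmul])
      map_add' := fun f g => ofConv_injective (TensorProduct.AlgebraTensorModule.ext fun c a => by
        simp [Diag.extFun_tmul, add_smul]) }
  have hM : (M k A).map φ ≤ M K₁ (K₁ ⊗[k] A) := Ideal.map_le_iff_le_comap.2 fun f hf => by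
    rw [Ideal.mem_comap, mem_M]
    show Diag.extFun f.ofConv (1 : K₁ ⊗[k] A) = 0
    rw [Algebra.TensorProduct.one_def, Diag.extFun_tmul, mem_M.1 hf, zero_smul]
  have hpow : (M k A ^ n).map φ ≤ M K₁ (K₁ ⊗[k] A) ^ n := by
    rw [Ideal.map_pow]
    exact Ideal.pow_right_mono hM n
  have h0 : Diag.extFun g.ofConv z = 0 := hz _ (hpow (Ideal.mem_map_of_mem φ hg))
  have key : ∀ w : K₁ ⊗[k] A, g.ofConv (TensorProduct.lid k A (l.rTensor A w)) = l (Diag.extFun g.ofConv w) := by
    intro w
    induction w with
    | zero => simp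
    | add p q hp hq => simp only [map_add, hp, hq]
    | tmul c a => simp [Diag.extFun_tmul, mul_comm]
  rw [key, h0, map_zero]

theorem map_baseChange_eq_smul_one {C : Type u} [CommRing C] [HopfAlgebra k C] (π : A →ₐc[k] C) {n : ℕ}
    (hπ : ∀ a ∈ K k A n, π a = ε a • (1 : C)) {z : K₁ ⊗[k] A} (hz : z ∈ K K₁ (K₁ ⊗[k] A) n) :
    ∃ c : K₁, Bialgebra.TensorProduct.map (BialgHom.id K₁ K₁) π z = c • (1 : K₁ ⊗[k] C) := by
  classical
  let b := Module.Free.chooseBasis k K₁
  let w := TensorProduct.equivFinsuppOfBasisLeft b z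
  have hw : ∀ i, w i ∈ K k A n := by
    intro i
    have key : ∀ x : K₁ ⊗[k] A, TensorProduct.equivFinsuppOfBasisLeft b x i =
        TensorProduct.lid k A ((b.coord i).rTensor A x) := by
      intro x
      induction x with
      | zero => simp
      | add p q hp hq => simp only [map_add, Finsupp.add_apply, hp, hq]
      | tmul c a => rw [TensorProduct.equivFinsuppOfBasisLeft_apply_tmul_apply]; simp
    show TensorProduct.equivFinsuppOfBasisLeft b z i ∈ _
    rw [key]
    exact coord_mem_K hz _
  refine ⟨∑ i ∈ w.support, ε (w i) • b i, ?_⟩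
  rw [← (TensorProduct.equivFinsuppOfBasisLeft b).symm_apply_apply z,
    TensorProduct.equivFinsuppOfBasisLeft_symm_apply, Finsupp.sum, map_sum, Finset.sum_smul]
  refine Finset.sum_congr rfl fun i _ => ?_
  show b i ⊗ₜ[k] π (w i) = _
  rw [hπ _ (hw i), TensorProduct.tmul_smul, Algebra.TensorProduct.one_def, TensorProduct.smul_tmul',
    TensorProduct.smul_tmul', smul_eq_mul, mul_one]

end BaseChange

/-- a Hopf algebra spanned by group-like elements is diagonalisable -/
theorem isDiag_of_isDiagonalizable {F : Type u} [Field F] {C : Type u} [CommRing C] [HopfAlgebra F C]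
    (h : HopfRep.IsDiagonalizable F C) : SGA3b.IsDiag F C := by
  let G := GroupLike F C
  let γ : G →* C := { toFun := GroupLike.val, map_one' := rfl, map_mul' := fun _ _ => rfl }
  obtain ⟨θ, hθ⟩ := SGA3b53.exists_bialgHom_of_grouplike γ fun m => m.isGroupLikeElem_val
  have hli : LinearIndependent F (GroupLike.val : G → C) := linearIndep_groupLikeVal
  have hspan : ⊤ ≤ Submodule.span F (Set.range (GroupLike.val : G → C)) := by
    rw [← h]
    exact Submodule.span_mono fun a ha => ⟨⟨a, ha⟩, rfl⟩
  let B := Module.Basis.mk hli hspan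
  have he : (θ : MonoidAlgebra F G →ₗ[F] C) =
      ((MonoidAlgebra.basis G F).equiv B (Equiv.refl G)).toLinearMap := by
    refine (MonoidAlgebra.basis G F).ext fun g => ?_
    rw [LinearEquiv.coe_coe, Module.Basis.equiv_apply, Module.Basis.mk_apply]
    show θ ((MonoidAlgebra.basis G F) g) = (g : C)
    rw [MonoidAlgebra.basis_apply, hθ, one_smul]
    rfl
  exact ⟨G, inferInstance, ⟨(BialgEquiv.ofBijective θ (by
    rw [show (θ : MonoidAlgebra F G → C) = (θ : MonoidAlgebra F G →ₗ[F] C) from rfl, he]
    exact LinearEquiv.bijective _)).symm⟩⟩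

/-- the quotient by the ideal of the conilpotent component is of multiplicative type -/
theorem isMultTypeConst_quotient (J : Ideal A) [J.IsHopfIdeal k]
    (hJ : ∀ n, ∀ a ∈ K k A n, a - ε a • (1 : A) ∈ J) : SGA3b.IsMultTypeConst k (A ⧸ J) := by
  let F := AlgebraicClosure k
  let π : A →ₐc[k] A ⧸ J := Bialgebra.Quotient.mkBialgHom (R := k) J
  let πF : F ⊗[k] A →ₐc[F] F ⊗[k] (A ⧸ J) := Bialgebra.TensorProduct.map (BialgHom.id F F) π
  have hπ : ∀ n, ∀ a ∈ K k A n, π a = ε a • (1 : A ⧸ J) := fun n a ha =>
    Ideal.Quotient.eq.2 (hJ n a ha)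
  have hD : HopfRep.IsDiagonalizable F (F ⊗[k] (A ⧸ J)) := by
    rw [HopfRep.IsDiagonalizable, eq_top_iff]
    rintro c -
    obtain ⟨z, rfl⟩ := MultQuot.surjective_mk F J c
    show πF z ∈ _
    induction (mem_glConil (k := F) z : z ∈ glConil F (F ⊗[k] A)) using Submodule.span_induction with
    | mem x hx =>
      obtain ⟨g, y, hg, ⟨n, hy⟩, rfl⟩ := hx
      obtain ⟨r, hr⟩ := map_baseChange_eq_smul_one π (hπ n) hy
      rw [map_mul, hr, mul_smul_comm, mul_one]
      exact Submodule.smul_mem _ _ (Submodule.subset_span (hg.map πF))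
    | zero => simp
    | add x y _ _ hx hy => rw [map_add]; exact add_mem hx hy
    | smul c x _ hx => rw [map_smul]; exact Submodule.smul_mem _ c hx
  exact ⟨F, inferInstance, inferInstance, inferInstance, isDiag_of_isDiagonalizable hD⟩

/-- the largest subgroup of multiplicative type -/
theorem exists_largest :
    ∃ (J : Ideal A) (_ : J.IsHopfIdeal k), SGA3b.IsMultTypeConst k (A ⧸ J) ∧
      (∀ (I : Ideal A) [I.IsHopfIdeal k], SGA3b.IsMultTypeConst k (A ⧸ I) → J ≤ I) ∧
      ∃ (B : Type u) (_ : CommRing B) (_ : HopfAlgebra k B) (φ : B →ₐc[k] A), Function.Injective φ ∧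
        J = Ideal.map (φ : B →+* A) (RingHom.ker (Bialgebra.counitAlgHom k B)) ∧ HopfRep.IsUnipotent k B := by
  letI := SubHopf.hopfAlgebra (isSubHopf_conil (k := k) (A := A))
  let φ : conil k A →ₐc[k] A := SubHopf.incl isSubHopf_conil
  let J : Ideal A := Ideal.map (φ : conil k A →+* A) (RingHom.ker (Bialgebra.counitAlgHom k (conil k A)))
  haveI : J.IsHopfIdeal k := Unip38.isHopfIdeal_map_aug φ
  have hJ : ∀ n, ∀ a ∈ K k A n, a - ε a • (1 : A) ∈ J := by
    intro n a ha
    have hB : a - ε a • (1 : A) ∈ conil k A := sub_mem ⟨n, ha⟩ (Subalgebra.smul_mem _ (one_mem _) _)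
    refine Ideal.mem_map_of_mem (φ : conil k A →+* A) (x := ⟨_, hB⟩) ?_
    show ε (a - ε a • (1 : A)) = 0
    simp
  refine ⟨J, inferInstance, isMultTypeConst_quotient J hJ, fun I _ hI => Ideal.map_le_iff_le_comap.2 ?_,
    conil k A, inferInstance, inferInstance, φ, Subtype.val_injective, rfl, isUnipotent_conil⟩
  rintro ⟨b, n, hn⟩ hb
  rw [Ideal.mem_comap]
  refine Ideal.Quotient.eq_zero_iff_mem.1 ?_
  show Bialgebra.Quotient.mkBialgHom (R := k) I b = 0
  rw [map_eq_smul_one _ (fun x => no_prim_of_isMultTypeConst hI) n hn, show ε b = 0 from hb, zero_smul]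

end Groth.Agent.CAlg6.Conil
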