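import Groth.Agent.CAlg6.ConilComp
import Groth.Agent.Comod33.UnipotentBC
import Groth.Agent.Unip38.Unipotent
import Mathlib.FieldTheory.Perfect
import Mathlib.RingTheory.Flat.FaithfullyFlat.Basic

/-!
A commutative affine group over a perfect field is the product of its largest subgroups of multiplicative type
and a unipotent subgroup.
-/

universe u

set_option maxHeartbeats 1000000
set_option synthInstance.maxHeartbeats 100000

open TensorProduct WithConv

noncomputable section

namespace Groth.Agent.CAlg6.Conil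

open Groth.Agent.Comod33 Groth.Agent.Comod33.UniFilt

variable {k : Type u} [Field k] {A : Type u} [CommRing A] [HopfAlgebra k A] [Coalgebra.IsCocomm k A]

local notation "ε" => CoalgebraStruct.counit (R := k)
local notation "Δ" => CoalgebraStruct.comul (R := k)
local notation "S" => HopfAlgebraStruct.antipode (R := k)

/-- `T f` kills a translate on whose group-like element `f` vanishes -/
theorem T_pow_translate {g : A} (hg : IsGroupLikeElem k g) {f : D k A} (hfg : f.ofConv g = 0) :
    ∀ (n : ℕ) {z : A}, z ∈ K k A n → ((T f : Module.End k A) ^ n) (g * z) = 0 := by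
  intro n
  induction n with
  | zero => intro z hz; simp [eq_zero_of_mem_K_zero hz]
  | succ n ih =>
    intro z hz
    rw [pow_succ, Module.End.mul_apply, T_mul_glike hg]
    refine ih (T_mem_K_pred ?_ hz)
    rw [mem_M]
    show f.ofConv (g * 1) = 0
    rw [mul_one, hfg]

/-- `T f` is injective on a translate on whose group-like element `f` is one -/
theorem eq_zero_of_T_translate {g : A} (hg : IsGroupLikeElem k g) {f : D k A} (hfg : f.ofConv g = 1) :
    ∀ (n : ℕ) {z : A}, z ∈ K k A n → T f (g * z) = 0 → z = 0 := by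
  intro n
  induction n with
  | zero => intro z hz _; exact eq_zero_of_mem_K_zero hz
  | succ n ih =>
    intro z hz h0
    refine ih ?_ h0
    let h : D k A := toConv (f.ofConv ∘ₗ LinearMap.mulLeft k g)
    have h1 : T h z = 0 := by
      have h2 := congrArg (fun x => S g * x) h0
      simp only [T_mul_glike hg, mul_zero, ← mul_assoc, Diag.grouplike_mul_inv hg, one_mul] at h2
      exact h2
    have hh : h.ofConv 1 = 1 := by
      show f.ofConv (g * 1) = 1
      rw [mul_one, hfg]
    have h3 := T_split h z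
    rw [h1, hh, one_smul (M := k) (α := A)] at h3
    rw [eq_neg_of_add_eq_zero_right h3.symm]
    exact neg_mem (T_mem_K_pred (sub_mem_M h) hz |> fun hm => by simpa only [hh] using hm)

/-- translates of the conilpotent component by distinct group-like elements are independent -/
theorem translates_independent (s : Finset (GroupLike k A)) (z : GroupLike k A → A)
    (hz : ∀ g ∈ s, z g ∈ conil k A) (hsum : ∑ g ∈ s, (g : A) * z g = 0) : ∀ g ∈ s, z g = 0 := by
  classical
  intro g₀ hg₀
  let b := Module.Basis.span (linearIndep_groupLikeVal (R := k) (A := A))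
  obtain ⟨ψ, hψ⟩ := LinearMap.exists_extend (b.coord g₀)
  have hval : ∀ g : GroupLike k A, ψ (g : A) = if g = g₀ then 1 else 0 := fun g => by
    have := LinearMap.congr_fun hψ (b g)
    rw [LinearMap.comp_apply, Submodule.subtype_apply, Module.Basis.coord_apply, b.repr_self,
      Finsupp.single_apply, Module.Basis.span_apply] at this
    exact this
  choose! n hn using hz
  let N := s.sup n
  let f : D k A := toConv ψ
  have h := congrArg ((T f : Module.End k A) ^ N) hsum
  rw [map_sum, map_zero, Finset.sum_eq_single g₀] at h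
  · have key : ∀ (m : ℕ) (z' : A), z' ∈ K k A N →
        ((T f : Module.End k A) ^ m) ((g₀ : A) * z') = 0 → z' = 0 := by
      intro m
      induction m with
      | zero =>
        intro z' _ h0
        have h2 := congrArg (fun x => S (g₀ : A) * x) (show (g₀ : A) * z' = 0 from h0)
        simpa [← mul_assoc, Diag.grouplike_mul_inv g₀.isGroupLikeElem_val] using h2
      | succ m ihm =>
        intro z' hz' h0
        rw [pow_succ, Module.End.mul_apply, T_mul_glike g₀.isGroupLikeElem_val] at h0
        have h2 := ihm _ (T_mem_K _ hz') h0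
        refine eq_zero_of_T_translate g₀.isGroupLikeElem_val (f := f)
          (show ψ (g₀ : A) = 1 by rw [hval, if_pos rfl]) N hz' ?_
        rw [T_mul_glike g₀.isGroupLikeElem_val, h2, mul_zero]
    exact key N _ (K_mono (Finset.le_sup hg₀) (hn g₀ hg₀)) h
  · intro g hg hne
    exact T_pow_translate g.isGroupLikeElem_val (f := f)
      (show ψ (g : A) = 0 by rw [hval, if_neg hne]) N (K_mono (Finset.le_sup hg) (hn g hg))
  · exact fun h' => absurd hg₀ h'

section Split

variable {F : Type u} [Field F] [Algebra k F]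

/-- the extension of the filtration -/
theorem one_tmul_mem_K : ∀ (n : ℕ) {b : A}, b ∈ K k A n → (1 : F) ⊗ₜ[k] b ∈ K F (F ⊗[k] A) n := by
  intro n
  induction n with
  | zero => intro b hb; rw [eq_zero_of_mem_K_zero hb, tmul_zero]; exact zero_mem _
  | succ n ih =>
    intro b hb
    obtain ⟨y, hy⟩ := comul_sub_mem hb
    refine mem_K_succ fun G hG => ?_
    let ι : A →ₗ[k] F ⊗[k] A := TensorProduct.mk k F A 1
    have hc : CoalgebraStruct.comul (R := F) ((1 : F) ⊗ₜ[k] b) =
        AlgebraTensorModule.tensorTensorTensorComm k F k F F F A A (((1 : F) ⊗ₜ[F] (1 : F)) ⊗ₜ[k] Δ b) := rfl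
    show rc G.ofConv (CoalgebraStruct.comul (R := F) ((1 : F) ⊗ₜ[k] b)) ∈ _
    rw [hc, eq_add_of_sub_eq' hy.symm, tmul_add, map_add, map_add]
    refine add_mem ?_ ?_
    · have h1 : G.ofConv ((1 : F) ⊗ₜ[k] (1 : A)) = 0 := by
        rw [← Algebra.TensorProduct.one_def]; exact hG
      simp [h1]
    · clear hy hc
      induction y with
      | zero => simp
      | add p q hp hq => simp only [map_add, tmul_add]; exact add_mem hp hq
      | tmul p q =>
        simp only [LinearMap.rTensor_tmul, Submodule.subtype_apply, AlgebraTensorModule.tensorTensorTensorComm_tmul,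
          rc_tmul]
        exact Submodule.smul_mem _ _ (ih p.2)

/-- sums of translates of augmented conilpotent functions contain no combination of group-like elements -/
theorem eq_zero_of_mem_span_of_eq {L : Type u} [Field L] {C : Type u} [CommRing C] [HopfAlgebra L C]
    [Coalgebra.IsCocomm L C] {x : C} (hx : x ∈ Submodule.span L {g : C | IsGroupLikeElem L g})
    (hx' : x ∈ Submodule.span L {w : C | ∃ g y : C, IsGroupLikeElem L g ∧ y ∈ conil L C ∧
      CoalgebraStruct.counit (R := L) y = 0 ∧ w = g * y}) : x = 0 := by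
  classical
  let Φ : (GroupLike L C →₀ C) →ₗ[L] C := Finsupp.lsum L fun g => LinearMap.mulLeft L (g : C)
  have key : ∀ (p : C → Prop) (T₀ : Set C),
      (∀ w ∈ T₀, ∃ g y : C, IsGroupLikeElem L g ∧ p y ∧ w = g * y) → p 0 →
      (∀ a b, p a → p b → p (a + b)) → (∀ (c : L) a, p a → p (c • a)) → ∀ z ∈ Submodule.span L T₀,
      ∃ v : GroupLike L C →₀ C, (∀ g, p (v g)) ∧ z = Φ v := by
    intro p T₀ hT h0 hadd hsmul z hz
    induction hz using Submodule.span_induction with
    | mem w hw =>
      obtain ⟨g, y, hg, hy, rfl⟩ := hT w hw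
      refine ⟨Finsupp.single ⟨g, hg⟩ y, fun g' => ?_, ?_⟩
      · rw [Finsupp.single_apply]
        split_ifs
        · exact hy
        · exact h0
      · rw [Finsupp.lsum_single]; rfl
    | zero => exact ⟨0, fun _ => h0, (map_zero Φ).symm⟩
    | add a b _ _ ha hb =>
      obtain ⟨u, hu, rfl⟩ := ha
      obtain ⟨v, hv, rfl⟩ := hb
      exact ⟨u + v, fun g => hadd _ _ (hu g) (hv g), (map_add Φ u v).symm⟩
    | smul c a _ ha =>
      obtain ⟨u, hu, rfl⟩ := ha
      exact ⟨c • u, fun g => hsmul c _ (hu g), (map_smul Φ c u).symm⟩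
  obtain ⟨u, hu, hxu⟩ := key (fun y : C => ∃ c : L, y = c • (1 : C)) {g : C | IsGroupLikeElem L g}
    (fun w hw => ⟨w, 1, hw, ⟨(1 : L), (one_smul L (1 : C)).symm⟩, (mul_one w).symm⟩) ⟨(0 : L), (zero_smul L (1 : C)).symm⟩
    (fun a b ⟨c, hc⟩ ⟨d, hd⟩ => ⟨c + d, by rw [hc, hd, add_smul]⟩)
    (fun e a ⟨c, hc⟩ => ⟨e * c, by rw [hc, smul_smul]⟩) x hx
  obtain ⟨v, hv, hxv⟩ := key (fun y => y ∈ conil L C ∧ CoalgebraStruct.counit (R := L) y = 0)
    {w : C | ∃ g y : C, IsGroupLikeElem L g ∧ y ∈ conil L C ∧ CoalgebraStruct.counit (R := L) y = 0 ∧ w = g * y}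
    (fun w ⟨g, y, hg, hy, hy0, e⟩ => ⟨g, y, hg, ⟨hy, hy0⟩, e⟩) ⟨zero_mem _, map_zero _⟩
    (fun a b ha hb => ⟨add_mem ha.1 hb.1, by rw [map_add, ha.2, hb.2, add_zero]⟩)
    (fun c a ha => ⟨Subalgebra.smul_mem _ ha.1 c, by rw [map_smul, ha.2, smul_zero]⟩) x hx'
  have hd : Φ (u - v) = 0 := by rw [map_sub, ← hxu, ← hxv, sub_self]
  rw [hxu]
  refine Finset.sum_eq_zero fun g hg => ?_
  have h1 : (u - v) g = 0 := by
    by_cases hgs : g ∈ (u - v).support
    · refine translates_independent (u - v).support (fun g => (u - v) g) (fun g _ => ?_) hd g hgs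
      obtain ⟨c, hc⟩ := hu g
      exact sub_mem (hc ▸ Subalgebra.smul_mem _ (one_mem _) c) (hv g).1
    · exact Finsupp.notMem_support_iff.1 hgs
  obtain ⟨c, hc⟩ := hu g
  have h2 := (hv g).2
  rw [Finsupp.sub_apply, sub_eq_zero] at h1
  rw [← h1, hc, map_smul, Bialgebra.counit_one, smul_eq_mul, mul_one] at h2
  show (g : C) * u g = 0
  rw [hc, h2, zero_smul, mul_zero]

variable (k A) in
/-- the kernel ideal of the quotient by the characters -/
def charIdeal : Ideal A :=
  Ideal.map ((MultQuot.chars k A (AlgebraicClosure k)).val : MultQuot.chars k A (AlgebraicClosure k) →+* A)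
    (RingHom.ker ((Bialgebra.counitAlgHom k A).comp (MultQuot.chars k A (AlgebraicClosure k)).val))

/-- the projection of the product of the two factors -/
def tau (J I : Ideal A) : A →ₐ[k] (A ⧸ J) ⊗[k] (A ⧸ I) :=
  (Algebra.TensorProduct.map (Ideal.Quotient.mkₐ k J) (Ideal.Quotient.mkₐ k I)).comp (Bialgebra.comulAlgHom k A)

section Perfect

variable [PerfectField k]

open MultQuot in
/-- group-like functions over the algebraic closure come from characters -/
theorem exists_chars_preimage {g : AlgebraicClosure k ⊗[k] A} (hg : IsGroupLikeElem (AlgebraicClosure k) g) :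
    ∃ w : AlgebraicClosure k ⊗[k] chars k A (AlgebraicClosure k),
      Algebra.TensorProduct.map (AlgHom.id (AlgebraicClosure k) (AlgebraicClosure k))
        (chars k A (AlgebraicClosure k)).val w = g := by
  classical
  let Ω := AlgebraicClosure k
  let bA := Module.Free.chooseBasis k A
  let r := TensorProduct.equivFinsuppOfBasisRight bA g
  let L : IntermediateField k Ω := IntermediateField.adjoin k (r.support.image r : Set Ω)
  haveI : FiniteDimensional k L := IntermediateField.finiteDimensional_adjoin fun x _ =>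
    (Algebra.IsAlgebraic.isAlgebraic x).isIntegral
  let N : IntermediateField k Ω := IntermediateField.normalClosure k L Ω
  haveI : IsGalois k N := ⟨⟩
  have hLN : L ≤ N := fun x hx => L.val.fieldRange_le_normalClosure ⟨⟨x, hx⟩, rfl⟩
  have hmem : ∀ i ∈ r.support, r i ∈ N := fun i hi =>
    hLN (IntermediateField.subset_adjoin k _ (by simp only [Finset.coe_image]; exact ⟨i, hi, rfl⟩))
  obtain ⟨g', hg'⟩ : ∃ g' : N ⊗[k] A, emb A N.val g' = g := by
    refine ⟨∑ i ∈ r.support.attach, (⟨r i, hmem i i.2⟩ : N) ⊗ₜ[k] bA i, ?_⟩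
    rw [map_sum]
    conv_rhs => rw [← (TensorProduct.equivFinsuppOfBasisRight bA).symm_apply_apply g,
      TensorProduct.equivFinsuppOfBasisRight_symm_apply, Finsupp.sum, ← Finset.sum_attach]
    rfl
  have hgl : IsGroupLikeElem N g' := (isGroupLike_emb_iff N.val).1 (hg'.symm ▸ hg)
  obtain ⟨w, hw⟩ := exists_preimage (F := N) (Submodule.subset_span (s := {g : N ⊗[k] A | IsGroupLikeElem N g}) hgl)
  have hle : chars k A N ≤ chars k A Ω := by
    intro a ha
    show (1 : Ω) ⊗ₜ[k] a ∈ Submodule.span Ω _
    rw [show (1 : Ω) ⊗ₜ[k] a = emb A N.val ((1 : N) ⊗ₜ[k] a) by rw [emb_tmul, map_one]]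
    have ha' : (1 : N) ⊗ₜ[k] a ∈ Submodule.span N {g : N ⊗[k] A | IsGroupLikeElem N g} := ha
    generalize (1 : N) ⊗ₜ[k] a = t at ha' ⊢
    induction ha' using Submodule.span_induction with
    | mem x hx => exact Submodule.subset_span ((isGroupLike_emb_iff N.val).2 hx)
    | zero => rw [map_zero]; exact zero_mem _
    | add x y _ _ hx hy => rw [map_add]; exact add_mem hx hy
    | smul c x _ hx => rw [emb_smul]; exact Submodule.smul_mem _ _ hx
  refine ⟨Algebra.TensorProduct.map N.val (Subalgebra.inclusion hle) w, ?_⟩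
  rw [← hg', ← hw]
  clear hw
  induction w with
  | zero => simp
  | add p q hp hq => simp only [map_add, hp, hq]
  | tmul c b => rfl

/-- the algebra is generated by the characters and the conilpotent component -/
theorem surjective_mul :
    Function.Surjective (Algebra.TensorProduct.productMap (MultQuot.chars k A (AlgebraicClosure k)).val
      (conil k A).val) := by
  classical
  let Ω := AlgebraicClosure k
  let m := Algebra.TensorProduct.productMap (MultQuot.chars k A Ω).val (conil k A).val
  let mΩ := Algebra.TensorProduct.map (AlgHom.id Ω Ω) m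
  rw [show (⇑m) = ⇑m.toLinearMap from rfl, ← Module.FaithfullyFlat.lTensor_surjective_iff_surjective k Ω]
  intro z
  suffices hz : z ∈ mΩ.range by
    obtain ⟨w, hw⟩ := hz
    exact ⟨w, hw⟩
  induction (mem_glConil (k := Ω) z : z ∈ glConil Ω (Ω ⊗[k] A)) using Submodule.span_induction with
  | mem x hx =>
    obtain ⟨g, y, hg, ⟨n, hy⟩, rfl⟩ := hx
    refine mul_mem ?_ ?_
    · obtain ⟨w, hw⟩ := exists_chars_preimage hg
      rw [← hw]
      refine ⟨Algebra.TensorProduct.map (AlgHom.id Ω Ω) Algebra.TensorProduct.includeLeft w, ?_⟩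
      clear hw
      induction w with
      | zero => simp
      | add p q hp hq => simp only [map_add, hp, hq]
      | tmul c b => simp [mΩ, m]
    · let b := Module.Free.chooseBasis k Ω
      rw [← (TensorProduct.equivFinsuppOfBasisLeft b).symm_apply_apply y,
        TensorProduct.equivFinsuppOfBasisLeft_symm_apply, Finsupp.sum]
      refine sum_mem fun i _ => ?_
      have hi : TensorProduct.equivFinsuppOfBasisLeft b y i ∈ K k A n := by
        have key : ∀ x : Ω ⊗[k] A, TensorProduct.equivFinsuppOfBasisLeft b x i =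
            TensorProduct.lid k A ((b.coord i).rTensor A x) := by
          intro x
          induction x with
          | zero => simp
          | add p q hp hq => simp only [map_add, Finsupp.add_apply, hp, hq]
          | tmul c a => rw [TensorProduct.equivFinsuppOfBasisLeft_apply_tmul_apply]; simp
        rw [key]
        exact coord_mem_K hy _
      exact ⟨b i ⊗ₜ[k] ((1 : MultQuot.chars k A Ω) ⊗ₜ[k] (⟨_, n, hi⟩ : conil k A)), by simp [mΩ, m]⟩
  | zero => exact zero_mem _
  | add p q _ _ hp hq => exact add_mem hp hq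
  | smul c p _ hp => exact Subalgebra.smul_mem _ hp c

open MultQuot in
/-- the product decomposition -/
theorem exists_unique_unipotent_complement (J : Ideal A) [J.IsHopfIdeal k]
    (hJ : SGA3b.IsMultTypeConst k (A ⧸ J))
    (hJmax : ∀ (I : Ideal A) [I.IsHopfIdeal k], SGA3b.IsMultTypeConst k (A ⧸ I) → J ≤ I) :
    ∃! I : Ideal A, ∃ (_ : I.IsHopfIdeal k), HopfRep.IsUnipotent k (A ⧸ I) ∧
      Function.Bijective ((Algebra.TensorProduct.map (Ideal.Quotient.mkₐ k J) (Ideal.Quotient.mkₐ k I)).comp
        (Bialgebra.comulAlgHom k A)) := by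
  classical
  let Ω := AlgebraicClosure k
  let B := chars k A Ω
  have hB : SubHopf.IsSubHopf B := isSubHopf_chars
  letI := SubHopf.hopfAlgebra hB
  have hC : SubHopf.IsSubHopf (conil k A) := isSubHopf_conil
  letI := SubHopf.hopfAlgebra hC
  let φ : B →ₐc[k] A := SubHopf.incl hB
  let ψ : conil k A →ₐc[k] A := SubHopf.incl hC
  let π : A →ₐc[k] A ⧸ J := Bialgebra.Quotient.mkBialgHom (R := k) J
  -- the given ideal is generated by the augmented conilpotent component
  obtain ⟨hJeq, hπC⟩ : J = Ideal.map (ψ : conil k A →+* A) (RingHom.ker (Bialgebra.counitAlgHom k (conil k A))) ∧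
      ∀ n, ∀ a ∈ K k A n, π a = ε a • (1 : A ⧸ J) := by
    let J₀ : Ideal A := Ideal.map (ψ : conil k A →+* A) (RingHom.ker (Bialgebra.counitAlgHom k (conil k A)))
    haveI : J₀.IsHopfIdeal k := Unip38.isHopfIdeal_map_aug ψ
    have h0 : ∀ n, ∀ a ∈ K k A n, π a = ε a • (1 : A ⧸ J) := fun n a ha =>
      map_eq_smul_one π (fun x => no_prim_of_isMultTypeConst hJ) n ha
    refine ⟨le_antisymm (hJmax J₀ (isMultTypeConst_quotient J₀ fun n a ha => ?_)) ?_, h0⟩
    · have hmem : a - ε a • (1 : A) ∈ conil k A := sub_mem ⟨n, ha⟩ (Subalgebra.smul_mem _ (one_mem _) _)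
      refine Ideal.mem_map_of_mem (ψ : conil k A →+* A) (x := ⟨_, hmem⟩) ?_
      show ε (a - ε a • (1 : A)) = 0
      simp
    · refine Ideal.map_le_iff_le_comap.2 ?_
      rintro ⟨b, n, hn⟩ hb
      rw [Ideal.mem_comap]
      refine Ideal.Quotient.eq_zero_iff_mem.1 ?_
      show π b = 0
      rw [h0 n b hn, show ε b = 0 from hb, zero_smul]
  have hm := surjective_mul (k := k) (A := A)
  -- the characters map bijectively to the quotient
  let r : B →ₐc[k] A ⧸ J := π.comp φ
  have hrs : Function.Surjective r := by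
    intro c
    obtain ⟨a, rfl⟩ := Ideal.Quotient.mk_surjective c
    obtain ⟨w, rfl⟩ := hm a
    induction w with
    | zero => exact ⟨0, by simp⟩
    | add p q hp hq =>
      obtain ⟨p', hp'⟩ := hp
      obtain ⟨q', hq'⟩ := hq
      exact ⟨p' + q', by rw [map_add, map_add, map_add, hp', hq']⟩
    | tmul b y =>
      obtain ⟨n, hn⟩ := y.2
      refine ⟨ε (y : A) • b, ?_⟩
      show π (φ (ε (y : A) • b)) = π ((b : A) * (y : A))
      rw [map_mul, hπC n _ hn, mul_smul_comm, mul_one, ← map_smul]
      rfl
  have hri : Function.Injective r := by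
    rw [injective_iff_map_eq_zero]
    intro b hb
    have hmemJ : (b : A) ∈ J := Ideal.Quotient.eq_zero_iff_mem.1 hb
    refine Subtype.ext (Algebra.TensorProduct.includeRight_injective (R := k) (A := Ω)
      (algebraMap k Ω).injective (?_ : (1 : Ω) ⊗ₜ[k] (b : A) = (1 : Ω) ⊗ₜ[k] (0 : A)))
    rw [tmul_zero]
    refine eq_zero_of_mem_span_of_eq (C := Ω ⊗[k] A) b.2 ?_
    let W := {w : Ω ⊗[k] A | ∃ g y : Ω ⊗[k] A, IsGroupLikeElem Ω g ∧ y ∈ conil Ω (Ω ⊗[k] A) ∧
      CoalgebraStruct.counit (R := Ω) y = 0 ∧ w = g * y}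
    have key : ∀ x ∈ J, ∀ c : Ω ⊗[k] A, c * ((1 : Ω) ⊗ₜ[k] x) ∈ Submodule.span Ω W := by
      intro x hx
      rw [hJeq] at hx
      induction hx using Submodule.span_induction with
      | mem x hx =>
        obtain ⟨⟨y, n, hn⟩, hy0, rfl⟩ := hx
        intro c
        induction (mem_glConil (k := Ω) c : c ∈ glConil Ω (Ω ⊗[k] A)) using Submodule.span_induction with
        | mem z hz =>
          obtain ⟨g, y', hg, hy', rfl⟩ := hz
          refine Submodule.subset_span ⟨g, y' * ((1 : Ω) ⊗ₜ[k] y), hg, mul_mem hy' ⟨n, one_tmul_mem_K n hn⟩, ?_,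
            by rw [← mul_assoc]; rfl⟩
          rw [Bialgebra.counit_mul, TensorProduct.counit_tmul, show ε y = 0 from hy0]
          simp
        | zero => rw [zero_mul]; exact zero_mem _
        | add p q _ _ hp hq => rw [add_mul]; exact add_mem hp hq
        | smul e p _ hp => rw [smul_mul_assoc]; exact Submodule.smul_mem _ e hp
      | zero => intro c; rw [tmul_zero, mul_zero]; exact zero_mem _
      | add p q _ _ hp hq => intro c; rw [tmul_add, mul_add]; exact add_mem (hp c) (hq c)
      | smul a p _ hp =>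
        intro c
        rw [smul_eq_mul, ← one_mul (1 : Ω), ← Algebra.TensorProduct.tmul_mul_tmul, ← mul_assoc]
        exact hp _
    have := key _ hmemJ 1
    rwa [one_mul] at this
  let σ : A ⧸ J →ₐ[k] B := (AlgEquiv.ofBijective (r : B →ₐ[k] A ⧸ J) ⟨hri, hrs⟩).symm.toAlgHom
  have hσ : ∀ b : B, σ (π (b : A)) = b := fun b =>
    (AlgEquiv.ofBijective (r : B →ₐ[k] A ⧸ J) ⟨hri, hrs⟩).symm_apply_apply b
  let e : A →ₐ[k] A := B.val.comp (σ.comp (π : A →ₐ[k] A ⧸ J))
  have heB : ∀ b : B, e b = b := fun b => congrArg Subtype.val (hσ b)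
  have heC : ∀ y : conil k A, e y = ε (y : A) • (1 : A) := by
    intro y
    obtain ⟨n, hn⟩ := y.2
    show B.val (σ (π (y : A))) = _
    rw [hπC n _ hn, map_smul, map_one, map_smul, map_one]
  let e' : A →ₐ[k] A := (Algebra.TensorProduct.lift (AlgHom.id k A)
    ((HopfAlgebra.antipodeAlgHom k A).comp e) fun _ _ => Commute.all _ _).comp (Bialgebra.comulAlgHom k A)
  have heB' : ∀ b : B, e' b = ε (b : A) • (1 : A) := by
    intro b
    show Algebra.TensorProduct.lift (AlgHom.id k A) ((HopfAlgebra.antipodeAlgHom k A).comp e)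
      (fun _ _ => Commute.all _ _) (Δ (b : A)) = _
    rw [← SubHopf.val₂_comul hB b, ← Algebra.algebraMap_eq_smul_one,
      ← HopfAlgebra.mul_antipode_lTensor_comul_apply (R := k) (b : A), ← SubHopf.val₂_comul hB b]
    generalize SubHopf.comul hB b = w
    induction w with
    | zero => simp
    | add p q hp hq => simp only [map_add, hp, hq]
    | tmul p q =>
      simp only [Algebra.TensorProduct.map_tmul, Algebra.TensorProduct.lift_tmul, AlgHom.id_apply,
        LinearMap.lTensor_tmul, LinearMap.mul'_apply, AlgHom.comp_apply, Subalgebra.coe_val, heB]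
      rfl
  have heC' : ∀ y : conil k A, e' y = y := by
    intro y
    show Algebra.TensorProduct.lift (AlgHom.id k A) ((HopfAlgebra.antipodeAlgHom k A).comp e)
      (fun _ _ => Commute.all _ _) (Δ (y : A)) = _
    have h2 := congrArg (fun w => TensorProduct.rid k A w) (Coalgebra.lTensor_counit_comul (R := k) (y : A))
    simp only [TensorProduct.rid_tmul, one_smul] at h2
    refine Eq.trans ?_ h2
    rw [← SubHopf.val₂_comul hC y]
    generalize SubHopf.comul hC y = w
    induction w with
    | zero => simp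
    | add p q hp hq => simp only [map_add, hp, hq]
    | tmul p q =>
      simp only [Algebra.TensorProduct.map_tmul, Algebra.TensorProduct.lift_tmul, AlgHom.id_apply,
        LinearMap.lTensor_tmul, TensorProduct.rid_tmul, AlgHom.comp_apply, Subalgebra.coe_val, heC, map_smul,
        map_one, mul_smul_comm, mul_one]
  -- the unipotent subgroup
  let I : Ideal A := Ideal.map (φ : B →+* A) (RingHom.ker (Bialgebra.counitAlgHom k B))
  haveI : I.IsHopfIdeal k := Unip38.isHopfIdeal_map_aug φ
  let p : A →ₐc[k] A ⧸ I := Bialgebra.Quotient.mkBialgHom (R := k) I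
  have hpB : ∀ b : B, p (b : A) = ε (b : A) • (1 : A ⧸ I) := by
    intro b
    have hmem : (b : A) - ε (b : A) • (1 : A) ∈ I := by
      refine Ideal.mem_map_of_mem (φ : B →+* A) (x := b - ε (b : A) • 1) ?_
      show ε ((b : A) - ε (b : A) • (1 : A)) = 0
      simp
    exact Ideal.Quotient.eq.2 hmem
  have heI : ∀ x ∈ I, e' x = 0 := by
    intro x hx
    refine (Ideal.map_le_iff_le_comap.2 ?_ : I ≤ RingHom.ker e') hx
    intro b hb
    rw [Ideal.mem_comap, RingHom.mem_ker]
    show e' (b : A) = 0
    rw [heB', show ε (b : A) = 0 from hb, zero_smul]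
  let ē' : A ⧸ I →ₐ[k] A := Ideal.Quotient.liftₐ I e' heI
  let pC : conil k A →ₐc[k] A ⧸ I := p.comp ψ
  have hpi : Function.Injective pC := fun y z h => Subtype.ext <|
    (heC' y).symm.trans ((congrArg ē' h).trans (heC' z))
  have hps : Function.Surjective pC := by
    intro c
    obtain ⟨a, rfl⟩ := Ideal.Quotient.mk_surjective c
    obtain ⟨w, rfl⟩ := hm a
    induction w with
    | zero => exact ⟨0, by simp⟩
    | add s t hs ht =>
      obtain ⟨s', hs'⟩ := hs
      obtain ⟨t', ht'⟩ := ht
      exact ⟨s' + t', by rw [map_add, map_add, map_add, hs', ht']⟩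
    | tmul b y =>
      refine ⟨ε (b : A) • y, ?_⟩
      show p (ψ (ε (b : A) • y)) = p ((b : A) * (y : A))
      rw [map_mul, hpB, smul_mul_assoc, one_mul, ← map_smul]
      rfl
  have hU : HopfRep.IsUnipotent k (A ⧸ I) :=
    isUnipotent_of_injective ((BialgEquiv.ofBijective pC ⟨hpi, hps⟩).symm : A ⧸ I →ₐc[k] conil k A)
      (EquivLike.injective _) isUnipotent_conil
  -- the product map is bijective
  let τ := tau (k := k) J I
  have hτB : ∀ b : B, τ b = π (b : A) ⊗ₜ[k] (1 : A ⧸ I) := by
    intro b
    show Algebra.TensorProduct.map _ _ (Δ (b : A)) = _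
    have h2 := congrArg (fun w => TensorProduct.rid k A w) (Coalgebra.lTensor_counit_comul (R := k) (b : A))
    simp only [TensorProduct.rid_tmul, one_smul] at h2
    conv_rhs => rw [← h2]
    rw [← SubHopf.val₂_comul hB b]
    generalize SubHopf.comul hB b = w
    induction w with
    | zero => simp
    | add s t hs ht => simp only [map_add, add_tmul, hs, ht]
    | tmul s t =>
      simp only [Algebra.TensorProduct.map_tmul, Subalgebra.coe_val, LinearMap.lTensor_tmul,
        TensorProduct.rid_tmul, map_smul, TensorProduct.smul_tmul', ← TensorProduct.tmul_smul]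
      exact (congrArg (fun c => π (s : A) ⊗ₜ[k] c) (hpB t)).trans
        ((TensorProduct.tmul_smul _ _ _).trans (TensorProduct.smul_tmul' _ _ _))
  have hτC : ∀ y : conil k A, τ y = (1 : A ⧸ J) ⊗ₜ[k] p (y : A) := by
    intro y
    show Algebra.TensorProduct.map _ _ (Δ (y : A)) = _
    have h2 := congrArg (fun w => TensorProduct.lid k A w) (Coalgebra.rTensor_counit_comul (R := k) (y : A))
    simp only [TensorProduct.lid_tmul, one_smul] at h2
    conv_rhs => rw [← h2]
    rw [← SubHopf.val₂_comul hC y]
    generalize SubHopf.comul hC y = w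
    induction w with
    | zero => simp
    | add s t hs ht => simp only [map_add, tmul_add, hs, ht]
    | tmul s t =>
      simp only [Algebra.TensorProduct.map_tmul, Subalgebra.coe_val, LinearMap.rTensor_tmul,
        TensorProduct.lid_tmul, map_smul, TensorProduct.tmul_smul, TensorProduct.smul_tmul']
      obtain ⟨n, hn⟩ := s.2
      exact congrArg (fun c => c ⊗ₜ[k] p (t : A)) (hπC n _ hn)
  have hτs : Function.Surjective τ := by
    intro z
    induction z with
    | zero => exact ⟨0, map_zero _⟩
    | add s t hs ht =>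
      obtain ⟨s', rfl⟩ := hs
      obtain ⟨t', rfl⟩ := ht
      exact ⟨s' + t', map_add _ _ _⟩
    | tmul c d =>
      obtain ⟨b, rfl⟩ := hrs c
      obtain ⟨y, rfl⟩ := hps d
      refine ⟨(b : A) * (y : A), ?_⟩
      rw [map_mul, hτB, hτC, Algebra.TensorProduct.tmul_mul_tmul, mul_one, one_mul]
      rfl
  have hτi : Function.Injective τ := by
    let L : (A ⧸ J) ⊗[k] (A ⧸ I) →ₐ[k] A := Algebra.TensorProduct.productMap (B.val.comp σ) ē'
    have hL : ∀ a, L (τ a) = a := by
      intro a
      obtain ⟨w, rfl⟩ := hm a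
      induction w with
      | zero => simp
      | add s t hs ht => simp only [map_add, hs, ht]
      | tmul b y =>
        rw [Algebra.TensorProduct.productMap_apply_tmul, map_mul, map_mul]
        congr 1
        · show L (τ (b : A)) = b
          rw [hτB, Algebra.TensorProduct.productMap_apply_tmul, map_one, mul_one]
          exact heB b
        · show L (τ (y : A)) = y
          rw [hτC, Algebra.TensorProduct.productMap_apply_tmul, map_one, one_mul]
          exact heC' y
    exact Function.LeftInverse.injective hL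
  refine ⟨I, ⟨inferInstance, hU, hτi, hτs⟩, ?_⟩
  rintro I' ⟨hI', hU', hbij⟩
  haveI := hI'
  let q : A →ₐc[k] A ⧸ I' := Bialgebra.Quotient.mkBialgHom (R := k) I'
  have hqB : ∀ b : B, q (b : A) = ε (b : A) • (1 : A ⧸ I') := by
    intro b
    let qΩ := Bialgebra.TensorProduct.map (BialgHom.id Ω Ω) q
    have hspan : ∀ z ∈ Submodule.span Ω {g : Ω ⊗[k] A | IsGroupLikeElem Ω g},
        qΩ z = CoalgebraStruct.counit (R := Ω) z • (1 : Ω ⊗[k] (A ⧸ I')) := by
      intro z hz
      induction hz using Submodule.span_induction with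
      | mem g hg =>
        rw [Unip38.eq_one_of_isGroupLikeElem (isUnipotent_baseChange hU' Ω) ((hg : IsGroupLikeElem Ω g).map qΩ),
          (hg : IsGroupLikeElem Ω g).counit_eq_one, one_smul]
      | zero => simp
      | add s t _ _ hs ht => rw [map_add, map_add, hs, ht, add_smul]
      | smul c s _ hs => rw [map_smul, map_smul, hs, smul_eq_mul, mul_smul]
    refine Diag.tmul_one_injective (K := Ω) (k := k) ?_
    have h := hspan _ b.2
    rw [TensorProduct.counit_tmul] at h
    show (1 : Ω) ⊗ₜ[k] q (b : A) = (1 : Ω) ⊗ₜ[k] _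
    rw [TensorProduct.tmul_smul, show (1 : Ω) ⊗ₜ[k] q (b : A) = qΩ ((1 : Ω) ⊗ₜ[k] (b : A)) from rfl, h]
    simp [Algebra.TensorProduct.one_def]
  have hle : I ≤ I' := Ideal.map_le_iff_le_comap.2 fun b hb => by
    rw [Ideal.mem_comap]
    refine Ideal.Quotient.eq_zero_iff_mem.1 ?_
    show q (b : A) = 0
    rw [hqB, show ε (b : A) = 0 from hb, zero_smul]
  let θ : A ⧸ I →ₐ[k] A ⧸ I' := Ideal.Quotient.factorₐ k hle
  have hθ : ∀ a, Algebra.TensorProduct.map (AlgHom.id k (A ⧸ J)) θ (τ a) =
      Algebra.TensorProduct.map (Ideal.Quotient.mkₐ k J) (Ideal.Quotient.mkₐ k I') (Δ a) := by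
    intro a
    show Algebra.TensorProduct.map _ θ (Algebra.TensorProduct.map _ _ (Δ a)) = _
    generalize Δ a = w
    induction w with
    | zero => simp
    | add s t hs ht => simp only [map_add, hs, ht]
    | tmul s t => rfl
  have hmi : Function.Injective (θ.toLinearMap.lTensor (A ⧸ J)) := by
    intro s t hst
    obtain ⟨s', rfl⟩ := hτs s
    obtain ⟨t', rfl⟩ := hτs t
    refine congrArg τ (hbij.1 ?_)
    show Algebra.TensorProduct.map _ _ (Δ s') = Algebra.TensorProduct.map _ _ (Δ t')
    rw [← hθ, ← hθ]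
    exact hst
  haveI : Nontrivial (A ⧸ J) := Bialgebra.nontrivial (R := k) (A := A ⧸ J)
  have hθi : Function.Injective θ :=
    (Module.FaithfullyFlat.lTensor_injective_iff_injective k (A ⧸ J) θ.toLinearMap).1 hmi
  refine le_antisymm (fun x hx => ?_) hle
  refine Ideal.Quotient.eq_zero_iff_mem.1 (hθi ?_)
  rw [map_zero]
  exact Ideal.Quotient.eq_zero_iff_mem.2 hx

end Perfect

end Split

end Groth.Agent.CAlg6.Conil
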