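import Mathlib
import Groth.Agent.EGA4Alg4.RangeRows

/-!
Images of constructible sets under maps of finite type, and their closed points.
-/

set_option autoImplicit false
set_option linter.style.haveILetI false

universe u

open Topology PrimeSpectrum

namespace Groth.Agent.CAlg6.ConsImage

variable {R S : Type u} [CommRing R] [CommRing S] [Algebra R S]

/-- A basic piece containing a given point. -/
theorem exists_piece {E : Set (PrimeSpectrum S)} (hE : IsConstructible E) {q : PrimeSpectrum S}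
    (hq : q ∈ E) : ∃ (G : Set S) (h : S), G ⊆ q.asIdeal ∧ h ∉ q.asIdeal ∧
      zeroLocus G \ zeroLocus {h} ⊆ E := by
  obtain ⟨D, rfl⟩ := exists_constructibleSetData_iff.2 hE
  obtain ⟨C, hC, hqC⟩ := Set.mem_iUnion₂.1 hq
  exact ⟨Set.range C.g, C.f, hqC.1, fun h => hqC.2 (by simpa [PrimeSpectrum.mem_zeroLocus] using h),
    Set.subset_biUnion_of_mem (u := fun C : PrimeSpectrum.BasicConstructibleSetData S => C.toSet) hC⟩

/-- If a constructible set misses a fibre, it misses the fibres over a neighbourhood in the closure. -/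
theorem exists_avoid {E : Set (PrimeSpectrum S)} (hE : IsConstructible E) {ξ : PrimeSpectrum R}
    (hξ : ξ ∉ comap (algebraMap R S) '' E) :
    ∃ g : R, g ∉ ξ.asIdeal ∧ ∀ p ∈ comap (algebraMap R S) '' E, ξ.asIdeal ≤ p.asIdeal → g ∈ p.asIdeal := by
  classical
  obtain ⟨D, rfl⟩ := exists_constructibleSetData_iff.2 hE
  have key : ∀ C ∈ D, ∃ g : R, g ∉ ξ.asIdeal ∧
      ∀ q ∈ C.toSet, ξ.asIdeal ≤ (comap (algebraMap R S) q).asIdeal → algebraMap R S g ∈ q.asIdeal := by
    intro C hC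
    let M : Submonoid S := Submonoid.powers C.f ⊔ ξ.asIdeal.primeCompl.map (algebraMap R S)
    let I : Ideal S := Ideal.span (Set.range C.g) ⊔ ξ.asIdeal.map (algebraMap R S)
    by_cases hdisj : Disjoint (I : Set S) (M : Set S)
    · obtain ⟨P, hP, hIP, hPM⟩ := Ideal.exists_le_prime_disjoint I M hdisj
      refine absurd ⟨⟨P, hP⟩, Set.mem_iUnion₂.2 ⟨C, hC, ?_, ?_⟩, ?_⟩ hξ
      · exact fun x hx => hIP (Ideal.mem_sup_left (Ideal.subset_span hx))
      · intro h
        exact Set.disjoint_left.1 hPM (h rfl) (Submonoid.mem_sup_left ⟨1, pow_one _⟩)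
      · refine PrimeSpectrum.ext (le_antisymm (fun r hr => ?_) fun r hr => ?_)
        · by_contra hrξ
          exact Set.disjoint_left.1 hPM (show algebraMap R S r ∈ P from hr)
            (Submonoid.mem_sup_right ⟨r, hrξ, rfl⟩)
        · exact hIP (Ideal.mem_sup_right (Ideal.mem_map_of_mem _ hr))
    · obtain ⟨z, hzI, hzM⟩ := Set.not_disjoint_iff.1 hdisj
      obtain ⟨a, ⟨n, rfl⟩, _, ⟨r, hr, rfl⟩, rfl⟩ := Submonoid.mem_sup.1 hzM
      refine ⟨r, hr, fun q hq hle => ?_⟩
      have hIq : I ≤ q.asIdeal := sup_le (Ideal.span_le.2 hq.1) (Ideal.map_le_iff_le_comap.2 hle)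
      refine (q.2.mem_or_mem (hIq hzI)).resolve_left fun h => hq.2 ?_
      have := q.2.mem_of_pow_mem n h
      simpa [PrimeSpectrum.mem_zeroLocus] using this
  choose g hg hgq using key
  refine ⟨∏ C ∈ D.attach, g C.1 C.2, fun h => ?_, ?_⟩
  · obtain ⟨C, -, hC⟩ := Ideal.IsPrime.prod_mem_iff.1 h
    exact hg C.1 C.2 hC
  · rintro _ ⟨q, hq, rfl⟩ hle
    obtain ⟨C, hC, hqC⟩ := Set.mem_iUnion₂.1 hq
    exact Ideal.IsPrime.prod_mem_iff.2 ⟨⟨C, hC⟩, Finset.mem_attach _ _, hgq C hC q hqC hle⟩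

variable [Algebra.FiniteType R S]

/-- The image of a constructible set contains an open piece of the closure of each of its points. -/
theorem exists_open_piece {E : Set (PrimeSpectrum S)} (hE : IsConstructible E) {ξ : PrimeSpectrum R}
    (hξ : ξ ∈ comap (algebraMap R S) '' E) :
    ∃ g : R, g ∉ ξ.asIdeal ∧ ∀ p : PrimeSpectrum R, ξ.asIdeal ≤ p.asIdeal → g ∉ p.asIdeal →
      p ∈ comap (algebraMap R S) '' E := by
  obtain ⟨q, hq, rfl⟩ := hξ
  obtain ⟨G, h, hG, hh, hsub⟩ := exists_piece hE hq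
  let P : Ideal R := (comap (algebraMap R S) q).asIdeal
  let B := Localization.Away (Ideal.Quotient.mk q.asIdeal h)
  have hne : Ideal.Quotient.mk q.asIdeal h ≠ 0 := fun e => hh (Ideal.Quotient.eq_zero_iff_mem.1 e)
  let φ : R ⧸ P →+* B := (algebraMap (S ⧸ q.asIdeal) B).comp
    (Ideal.quotientMap q.asIdeal (algebraMap R S) le_rfl)
  have hφ : Function.Injective φ :=
    (IsLocalization.injective B (powers_le_nonZeroDivisors_of_noZeroDivisors hne)).comp
      Ideal.quotientMap_injective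
  have hft : φ.FiniteType := by
    have h1 : ((algebraMap (S ⧸ q.asIdeal) B).comp
        ((Ideal.Quotient.mk q.asIdeal).comp (algebraMap R S))).FiniteType := by
      refine RingHom.FiniteType.comp ?_ (RingHom.FiniteType.comp
        (RingHom.FiniteType.of_surjective _ Ideal.Quotient.mk_surjective)
        (RingHom.finiteType_algebraMap.2 inferInstance))
      exact RingHom.finiteType_algebraMap.2 (IsLocalization.finiteType_of_monoid_fg (Submonoid.powers (Ideal.Quotient.mk q.asIdeal h)) B)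
    exact RingHom.FiniteType.of_comp_finiteType (f := Ideal.Quotient.mk P) h1
  algebraize [φ]
  have : Nontrivial B := hφ.nontrivial
  have : IsDomain B :=
    IsLocalization.isDomain_localization (powers_le_nonZeroDivisors_of_noZeroDivisors hne)
  obtain ⟨s, hs, hsub'⟩ := EGA4Alg4.Range13.exists_basicOpen_subset_range (B := B) (⊥ : Ideal (R ⧸ P))
    (fun _ _ => bot_le) (⊥ : Ideal B)
    (by rw [← RingHom.ker_eq_comap_bot]; exact (RingHom.injective_iff_ker_eq_bot φ).1 hφ)
  obtain ⟨g, rfl⟩ := Ideal.Quotient.mk_surjective s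
  refine ⟨g, fun hg => hs (by rw [Ideal.mem_bot, Ideal.Quotient.eq_zero_iff_mem]; exact hg), fun p hp hgp => ?_⟩
  have hker : RingHom.ker (Ideal.Quotient.mk P) ≤ p.asIdeal := by rw [Ideal.mk_ker]; exact hp
  have hprime : (p.asIdeal.map (Ideal.Quotient.mk P)).IsPrime :=
    Ideal.map_isPrime_of_surjective Ideal.Quotient.mk_surjective hker
  have hcomap : (p.asIdeal.map (Ideal.Quotient.mk P)).comap (Ideal.Quotient.mk P) = p.asIdeal := by
    rw [Ideal.comap_map_of_surjective _ Ideal.Quotient.mk_surjective, ← RingHom.ker_eq_comap_bot,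
      sup_eq_left.2 hker]
  obtain ⟨Q', hQ', hQ'p⟩ := hsub' _ hprime (fun hc => hgp (by rw [← hcomap]; exact hc))
  let ψ : S →+* B := (algebraMap (S ⧸ q.asIdeal) B).comp (Ideal.Quotient.mk q.asIdeal)
  refine ⟨⟨Q'.comap ψ, Ideal.comap_isPrime ψ Q'⟩, hsub ⟨fun x hx => ?_, ?_⟩, ?_⟩
  · show ψ x ∈ Q'
    rw [RingHom.comp_apply, Ideal.Quotient.eq_zero_iff_mem.2 (hG hx), map_zero]
    exact zero_mem _
  · intro hc
    exact hQ'.ne_top (Ideal.eq_top_of_isUnit_mem _ (hc rfl)
      (IsLocalization.Away.algebraMap_isUnit (Ideal.Quotient.mk q.asIdeal h)))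
  · refine PrimeSpectrum.ext ?_
    show (Q'.comap ψ).comap (algebraMap R S) = p.asIdeal
    rw [← hcomap, ← hQ'p, Ideal.comap_comap, Ideal.comap_comap]
    rfl

/-- Closure of a point as a zero locus. -/
theorem mem_closure_iff (ξ p : PrimeSpectrum R) : p ∈ closure {ξ} ↔ ξ.asIdeal ≤ p.asIdeal := by
  rw [PrimeSpectrum.closure_singleton, PrimeSpectrum.mem_zeroLocus, SetLike.coe_subset_coe]

omit [Algebra.FiniteType R S] in
theorem isClosed_of_closedIn [IsJacobsonRing S] {E : Set (PrimeSpectrum S)} (hE : IsConstructible E)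
    {y : PrimeSpectrum S} (hy : y ∈ E) (hcl : closure {y} ∩ E = {y}) : IsClosed ({y} : Set _) := by
  obtain ⟨G, h, hG, hh, hsub⟩ := exists_piece hE hy
  refine isClosed_singleton_of_isLocallyClosed_singleton ?_
  refine ⟨(zeroLocus {h})ᶜ, closure {y}, (isClosed_zeroLocus _).isOpen_compl, isClosed_closure, ?_⟩
  refine Set.Subset.antisymm ?_ ?_
  · rintro _ rfl
    exact ⟨fun hc => hh (hc rfl), subset_closure rfl⟩
  · rintro z ⟨hz, hz'⟩
    rw [← hcl]
    refine ⟨hz', hsub ⟨fun x hx => ?_, hz⟩⟩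
    exact ((mem_closure_iff y z).1 hz') (hG hx)

theorem closedIn_of_isClosed {X : Type*} [TopologicalSpace X] {E : Set X} {y : X} (hy : y ∈ E)
    (h : IsClosed ({y} : Set X)) : y ∈ E ∧ closure {y} ∩ E = {y} := by
  refine ⟨hy, ?_⟩
  rw [h.closure_eq, Set.inter_eq_left, Set.singleton_subset_iff]
  exact hy

theorem isClosed_comap [IsJacobsonRing R] {y : PrimeSpectrum S} (hy : IsClosed ({y} : Set _)) :
    IsClosed ({comap (algebraMap R S) y} : Set _) := by
  rw [PrimeSpectrum.isClosed_singleton_iff_isMaximal] at hy ⊢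
  let K := S ⧸ y.asIdeal
  letI : Field K := Ideal.Quotient.field _
  have : Algebra.FiniteType R K :=
    Algebra.FiniteType.of_surjective (Ideal.Quotient.mkₐ R y.asIdeal) (Ideal.Quotient.mkₐ_surjective R _)
  have : Module.Finite R K := finite_of_finite_type_of_isJacobsonRing R K
  have h := Ideal.isMaximal_comap_of_isIntegral_of_isMaximal (R := R) (⊥ : Ideal K)
  rw [← RingHom.ker_eq_comap_bot, show algebraMap R K = (Ideal.Quotient.mk y.asIdeal).comp (algebraMap R S) from rfl,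
    ← RingHom.comap_ker, Ideal.mk_ker] at h
  exact h

/-- Closed points of the image. -/
theorem exists_closed_over [IsJacobsonRing S] {E : Set (PrimeSpectrum S)} (hE : IsConstructible E)
    {ξ : PrimeSpectrum R} (hcl : IsClosed ({ξ} : Set _)) (hξ : ξ ∈ comap (algebraMap R S) '' E) :
    ∃ y ∈ E, IsClosed ({y} : Set _) ∧ comap (algebraMap R S) y = ξ := by
  obtain ⟨q, hq, hqξ⟩ := hξ
  obtain ⟨G, h, hG, hh, hsub⟩ := exists_piece hE hq
  let Z : Set (PrimeSpectrum S) := (zeroLocus {h})ᶜ ∩ (zeroLocus G ∩ comap (algebraMap R S) ⁻¹' {ξ})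
  have hZ : IsLocallyClosed Z :=
    ⟨_, _, (isClosed_zeroLocus _).isOpen_compl,
      (isClosed_zeroLocus _).inter (hcl.preimage (PrimeSpectrum.continuous_comap _)), rfl⟩
  have hne : Z.Nonempty := ⟨q, fun hc => hh (hc rfl), hG, hqξ⟩
  obtain ⟨y, ⟨hy1, hy2, hy3⟩, hy⟩ := nonempty_inter_closedPoints hne hZ
  exact ⟨y, hsub ⟨hy2, hy1⟩, hy, hy3⟩

end Groth.Agent.CAlg6.ConsImage
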