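import Groth.Agent.SGA3a.NeutralQC
import Groth.Agent.Grp57.Shear
import Groth.Agent.SpPts86.LocPMore
import Mathlib.AlgebraicGeometry.Morphisms.Flat

/-! Products of a morphism which is flat above the generic points of the fibres of a group. -/

set_option autoImplicit false
universe u
open CategoryTheory CategoryTheory.Limits MonoidalCategory CartesianMonoidalCategory MonObj GrpObj AlgebraicGeometry

noncomputable section

namespace Groth.Agent.CAlg6.DenseMul

open Groth.Agent.SGA3a

variable {S : Scheme.{u}} (G : Over S) [GrpObj G]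

theorem exists_mul [LocallyOfFiniteType G.hom] (U : G.left.Opens)
    (hU : ∀ (s : S) (g : ↥(G.hom.base ⁻¹' {s})), closure {g} ∈ irreducibleComponents ↥(G.hom.base ⁻¹' {s}) →
      (g : G.left) ∈ U) (x : G.left) :
    ∃ w : (G ⊗ G).left, (fst G G).left w ∈ U ∧ (snd G G).left w ∈ U ∧ μ[G].left w = x := by
  let s := G.hom x
  let f : Spec (CommRingCat.of (S.residueField s)) ⟶ S := S.fromSpecResidueField s
  letI : GrpObj (bcO f G) := bcOGrp G f
  haveI : LocallyOfFiniteType (bcO f G).hom := inferInstanceAs (LocallyOfFiniteType (pullback.snd G.hom f))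
  let W : (bcO f G).left.Opens := prO f G ⁻¹ᵁ U
  have hd : Dense (W : Set (bcO f G).left) := by
    intro z
    let e : (bcO f G).left ≃ₜ ↥(G.hom.base ⁻¹' {s}) := G.hom.fiberHomeo s
    have hirr : IsIrreducible (irreducibleComponent z) := isIrreducible_irreducibleComponent
    let g' := hirr.genericPoint
    have hg' : closure {g'} = irreducibleComponent z := by
      rw [hirr.genericPoint_closure_eq]
      exact isClosed_irreducibleComponent.closure_eq
    have he : closure {e g'} ∈ irreducibleComponents ↥(G.hom.base ⁻¹' {s}) := by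
      have h1 : closure {e g'} = e '' irreducibleComponent z := by
        refine (Eq.trans ?_ (e.image_closure {g'}).symm).trans (congrArg (e '' ·) hg')
        exact congrArg closure Set.image_singleton.symm
      rw [h1]
      exact image_mem_irreducibleComponents_of_isPreirreducible_fiber e e.continuous e.isOpenMap
        (fun y => (Set.subsingleton_singleton.preimage e.injective).isPreirreducible) e.surjective
        (irreducibleComponent_mem_irreducibleComponents z)
    have hmem : g' ∈ W := hU s (e g') he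
    exact closure_mono (Set.singleton_subset_iff.2 hmem) (hg'.symm ▸ mem_irreducibleComponent)
  obtain ⟨z, hz⟩ : x ∈ Set.range (prO f G) := (range_prO_residue G s).ge rfl
  obtain ⟨w, ⟨h1, h2⟩, h3⟩ :=
    (Grp57.mul_image_dense W W hd (haveI : Nonempty (bcO f G).left := ⟨z⟩; hd.nonempty)).ge (Set.mem_univ z)
  refine ⟨pairO f G w, ?_, ?_, ?_⟩
  · rw [pairO_fst_apply]; exact h1
  · rw [pairO_snd_apply]; exact h2
  · rw [pairO_mul_apply]; exact (congrArg _ h3).trans hz

theorem flat_ι_comp {X Y : Scheme.{u}} (f : X ⟶ Y) (V : X.Opens) (h : ∀ x ∈ V, (f.stalkMap x).hom.Flat) :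
    Flat (V.ι ≫ f) := by
  refine (Flat.iff_flat_stalkMap _).2 fun v => ?_
  show ((V.ι ≫ f).stalkMap v).hom.Flat
  refine (Scheme.Hom.stalkMap_comp V.ι f v).symm ▸ ?_
  exact (h _ v.2).comp (RingHom.Flat.of_bijective (ConcreteCategory.bijective_of_isIso (V.ι.stalkMap v)))

theorem product_fppf [LocallyOfFinitePresentation G.hom] [Flat G.hom] {Y : Over S} (g : Y ⟶ G)
    [Flat g.left] [LocallyOfFinitePresentation g.left]
    (hU : ∀ (s : S) (p : ↥(G.hom.base ⁻¹' {s})), closure {p} ∈ irreducibleComponents ↥(G.hom.base ⁻¹' {s}) →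
      (p : G.left) ∈ Set.range g.left) :
    Flat ((g ⊗ₘ g) ≫ μ[G]).left ∧ LocallyOfFinitePresentation ((g ⊗ₘ g) ≫ μ[G]).left ∧
      Surjective ((g ⊗ₘ g) ≫ μ[G]).left := by
  haveI : Flat μ[G].left := Grp57.mul_prop @Flat inferInstance
  haveI : LocallyOfFinitePresentation μ[G].left := Grp57.mul_prop @LocallyOfFinitePresentation inferInstance
  haveI : Flat (g ⊗ₘ g).left := by
    rw [Over.tensorHom_left]
    exact MorphismProperty.pullbackMap (P := @Flat) ‹Flat g.left› ‹Flat g.left› (Over.w g).symm (Over.w g).symm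
  haveI : LocallyOfFinitePresentation (g ⊗ₘ g).left := by
    rw [Over.tensorHom_left]
    exact MorphismProperty.pullbackMap (P := @LocallyOfFinitePresentation) ‹_› ‹_› (Over.w g).symm (Over.w g).symm
  rw [Over.comp_left]
  refine ⟨inferInstance, inferInstance, ⟨fun x => ?_⟩⟩
  let U : G.left.Opens := ⟨Set.range g.left, g.left.isOpenMap.isOpen_range⟩
  obtain ⟨w, h1, h2, h3⟩ := exists_mul G U hU x
  obtain ⟨v, hv⟩ : w ∈ Set.range (g ⊗ₘ g).left := by
    rw [Over.tensorHom_left, Scheme.Pullback.range_map]
    exact ⟨h1, h2⟩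
  exact ⟨v, by rw [Scheme.Hom.comp_apply, hv, h3]⟩

end Groth.Agent.CAlg6.DenseMul
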