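import Mathlib

/-!
The different ideal commutes with localization of the base.
-/

set_option autoImplicit false
set_option linter.unusedSectionVars false
set_option linter.style.haveILetI false

universe u

open nonZeroDivisors

namespace Groth.Agent.CAlg6

theorem trace_algebraMap_mul {A K L : Type u} [CommRing A] [Field K] [Field L] [Algebra A K] [Algebra A L]
    [Algebra K L] [IsScalarTower A K L] (a : A) (z : L) :
    Algebra.trace K L (algebraMap A L a * z) = algebraMap A K a * Algebra.trace K L z := by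
  rw [← Algebra.smul_def, ← algebraMap_smul K a z, map_smul, smul_eq_mul]

section Mem

variable (A K : Type u) {B L : Type u} [CommRing A] [IsDomain A] [IsIntegrallyClosed A] [Field K] [CommRing B]
  [IsDedekindDomain B] [Field L] [Algebra A K] [Algebra B L] [Algebra A B] [Algebra K L] [Algebra A L]
  [IsScalarTower A K L] [IsScalarTower A B L] [IsFractionRing A K] [IsFractionRing B L]
  [Module.IsTorsionFree A B] [FiniteDimensional K L] [Algebra.IsSeparable K L] [IsIntegralClosure B A L]

theorem mem_differentIdeal_iff (x : B) :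
    x ∈ differentIdeal A B ↔
      ∀ y : L, (∀ b : B, Algebra.trace K L (y * algebraMap B L b) ∈ (algebraMap A K).range) →
        algebraMap B L x * y ∈ (algebraMap B L).range := by
  have h1 : x ∈ differentIdeal A B ↔ algebraMap B L x ∈ IsLocalization.coeSubmodule L (differentIdeal A B) := by
    rw [IsLocalization.mem_coeSubmodule]
    exact ⟨fun h => ⟨x, h, rfl⟩, fun ⟨y, hy, e⟩ => IsFractionRing.injective B L e ▸ hy⟩
  rw [h1, coeSubmodule_differentIdeal A K, Submodule.mem_div_iff_forall_mul_mem]
  refine forall_congr' fun y => ?_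
  have hy : y ∈ Submodule.traceDual A K (1 : Submodule B L) ↔
      ∀ b : B, Algebra.trace K L (y * algebraMap B L b) ∈ (algebraMap A K).range := by
    rw [Submodule.mem_traceDual]
    exact ⟨fun h b => h _ (Submodule.mem_one.2 ⟨b, rfl⟩), fun h a ha => by
      obtain ⟨b, rfl⟩ := Submodule.mem_one.1 ha; exact h b⟩
  rw [hy, Submodule.mem_one]
  rfl

end Mem

theorem map_differentIdeal_localization {A B K L Aₛ Bₛ : Type u} [CommRing A] [IsDomain A]
    [IsIntegrallyClosed A] [CommRing B] [IsDedekindDomain B] [Algebra A B] [Module.Finite A B]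
    [Module.IsTorsionFree A B] [Field K] [Field L] [Algebra A K] [IsFractionRing A K] [Algebra B L]
    [IsFractionRing B L] [Algebra A L] [Algebra K L] [IsScalarTower A K L] [IsScalarTower A B L]
    [FiniteDimensional K L] [Algebra.IsSeparable K L] [IsIntegralClosure B A L]
    (S : Submonoid A) [CommRing Aₛ] [IsDomain Aₛ] [IsIntegrallyClosed Aₛ] [CommRing Bₛ] [IsDedekindDomain Bₛ]
    [Algebra A Aₛ] [Algebra B Bₛ] [Algebra Aₛ Bₛ] [Algebra A Bₛ] [IsScalarTower A Aₛ Bₛ] [IsScalarTower A B Bₛ]
    [IsLocalization S Aₛ] [IsLocalization (Algebra.algebraMapSubmonoid B S) Bₛ] [Module.IsTorsionFree Aₛ Bₛ]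
    [Algebra Aₛ K] [IsScalarTower A Aₛ K] [IsFractionRing Aₛ K] [Algebra Bₛ L] [IsScalarTower B Bₛ L]
    [IsFractionRing Bₛ L] [Algebra Aₛ L] [IsScalarTower Aₛ K L] [IsScalarTower Aₛ Bₛ L]
    [IsIntegralClosure Bₛ Aₛ L] :
    Ideal.map (algebraMap B Bₛ) (differentIdeal A B) = differentIdeal Aₛ Bₛ := by
  classical
  obtain ⟨G, hG⟩ := Module.Finite.fg_top (R := A) (M := B)
  have hsL : ∀ s : S, algebraMap B L (algebraMap A B s) = algebraMap A L s := fun s =>
    (IsScalarTower.algebraMap_apply A B L s).symm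
  refine le_antisymm (Ideal.map_le_iff_le_comap.2 fun x hx => ?_) fun z hz => ?_
  · rw [Ideal.mem_comap, mem_differentIdeal_iff (L := L) Aₛ K]
    intro y hy
    have hy' : ∀ b : B, ∃ s : S, Algebra.trace K L (algebraMap A L s * y * algebraMap B L b) ∈ (algebraMap A K).range := by
      intro b
      obtain ⟨t, ht⟩ := hy (algebraMap B Bₛ b)
      rw [← IsScalarTower.algebraMap_apply B Bₛ L] at ht
      obtain ⟨⟨a, s⟩, has⟩ := IsLocalization.surj S t
      refine ⟨s, a, ?_⟩
      rw [mul_assoc, trace_algebraMap_mul (A := A) (K := K), ← ht, IsScalarTower.algebraMap_apply A Aₛ K a, ← has,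
        map_mul, ← IsScalarTower.algebraMap_apply A Aₛ K, mul_comm]
    choose s hs using hy'
    let σ : S := ∏ b ∈ G, s b
    have hσ : ∀ b : B, Algebra.trace K L (algebraMap A L σ * y * algebraMap B L b) ∈ (algebraMap A K).range := by
      intro b
      have hb : b ∈ Submodule.span A (G : Set B) := hG ▸ Submodule.mem_top
      induction hb using Submodule.span_induction with
      | mem b hb =>
        obtain ⟨c, hc⟩ : s b ∣ σ := Finset.dvd_prod_of_mem s hb
        obtain ⟨a, ha⟩ := hs b
        refine ⟨c * a, ?_⟩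
        rw [map_mul (algebraMap A K), ha, hc, Submonoid.coe_mul, map_mul (algebraMap A L),
          show algebraMap A L (s b : A) * algebraMap A L (c : A) * y * algebraMap B L b =
            algebraMap A L (c : A) * (algebraMap A L (s b : A) * y * algebraMap B L b) by ring,
          trace_algebraMap_mul (A := A) (K := K)]
      | zero => exact ⟨0, by simp⟩
      | add u v _ _ hu hv => rw [map_add, mul_add, map_add]; exact add_mem hu hv
      | smul r u _ hu =>
        obtain ⟨a, ha⟩ := hu
        refine ⟨r * a, ?_⟩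
        rw [Algebra.smul_def r u, map_mul (algebraMap B L), ← IsScalarTower.algebraMap_apply A B L, ← mul_assoc,
          mul_comm _ (algebraMap A L r), mul_assoc, map_mul (algebraMap A K), ha,
          trace_algebraMap_mul (A := A) (K := K)]
    obtain ⟨w, hw⟩ := (mem_differentIdeal_iff A K x).1 hx _ hσ
    have hu : IsUnit (algebraMap B Bₛ (algebraMap A B σ)) :=
      IsLocalization.map_units Bₛ (⟨algebraMap A B σ, ⟨σ, σ.2, rfl⟩⟩ : Algebra.algebraMapSubmonoid B S)
    obtain ⟨v, hv⟩ := hu
    refine ⟨algebraMap B Bₛ w * ↑v⁻¹, ?_⟩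
    have h1 : algebraMap Bₛ L (v : Bₛ) * algebraMap Bₛ L ↑v⁻¹ = 1 := by rw [← map_mul, Units.mul_inv, map_one]
    rw [hv, ← IsScalarTower.algebraMap_apply B Bₛ L, hsL] at h1
    rw [map_mul, ← IsScalarTower.algebraMap_apply B Bₛ L, hw, ← IsScalarTower.algebraMap_apply B Bₛ L]
    linear_combination (algebraMap B L x * y) * h1
  · obtain ⟨⟨b, s'⟩, hbs⟩ := IsLocalization.surj (Algebra.algebraMapSubmonoid B S) z
    have hbD : algebraMap B Bₛ b ∈ differentIdeal Aₛ Bₛ := hbs ▸ Ideal.mul_mem_right _ _ hz
    let D := FractionalIdeal.dual A K (1 : FractionalIdeal B⁰ L)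
    obtain ⟨H, hH⟩ := FractionalIdeal.isNoetherian D |>.noetherian ⊤ |>.map (Submodule.subtype _)
    rw [Submodule.map_top, Submodule.range_subtype, FractionalIdeal.coe_dual_one] at hH
    have hmem : ∀ y ∈ H, ∃ t : S, algebraMap A L t * (algebraMap B L b * y) ∈ (algebraMap B L).range := by
      intro y hy
      have hyD : y ∈ Submodule.traceDual A K (1 : Submodule B L) := hH ▸ Submodule.subset_span hy
      obtain ⟨w, hw⟩ := (mem_differentIdeal_iff (L := L) Aₛ K _).1 hbD y fun c => by
        obtain ⟨⟨c0, t⟩, hct⟩ := IsLocalization.surj (Algebra.algebraMapSubmonoid B S) c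
        obtain ⟨_, s, hs, rfl⟩ := t
        obtain ⟨a, ha⟩ := (Submodule.mem_traceDual.1 hyD) (algebraMap B L c0) (Submodule.mem_one.2 ⟨c0, rfl⟩)
        rw [Algebra.traceForm_apply] at ha
        refine ⟨IsLocalization.mk' Aₛ a ⟨s, hs⟩, ?_⟩
        have hc : algebraMap Bₛ L c * algebraMap A L s = algebraMap B L c0 := by
          rw [IsScalarTower.algebraMap_apply B Bₛ L, ← hct, map_mul, ← IsScalarTower.algebraMap_apply B Bₛ L,
            ← IsScalarTower.algebraMap_apply A B L]
        have hs0 : algebraMap A K s ≠ 0 := by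
          have hu : IsUnit (algebraMap A Aₛ s) := IsLocalization.map_units Aₛ (⟨s, hs⟩ : S)
          rw [IsScalarTower.algebraMap_apply A Aₛ K]
          exact (hu.map _).ne_zero
        refine mul_left_cancel₀ hs0 ?_
        have h1 : algebraMap A K s * algebraMap Aₛ K (IsLocalization.mk' Aₛ a ⟨s, hs⟩) = algebraMap A K a := by
          rw [IsScalarTower.algebraMap_apply A Aₛ K, ← map_mul, IsLocalization.mk'_spec'_mk,
            ← IsScalarTower.algebraMap_apply A Aₛ K]
        rw [h1, ha, ← trace_algebraMap_mul (A := A) (K := K), ← hc]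
        ring_nf
      obtain ⟨⟨w0, t⟩, hwt⟩ := IsLocalization.surj (Algebra.algebraMapSubmonoid B S) w
      obtain ⟨_, s, hs, rfl⟩ := t
      refine ⟨⟨s, hs⟩, w0, ?_⟩
      rw [IsScalarTower.algebraMap_apply B Bₛ L, ← hwt, map_mul, hw, ← IsScalarTower.algebraMap_apply B Bₛ L,
        ← IsScalarTower.algebraMap_apply B Bₛ L, ← IsScalarTower.algebraMap_apply A B L]
      ring
    choose! t ht using hmem
    let τ : S := ∏ y ∈ H, t y
    have hτb : algebraMap A B τ * b ∈ differentIdeal A B := by
      rw [mem_differentIdeal_iff (L := L) A K]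
      intro y hy
      have hy' : y ∈ Submodule.span B (H : Set L) := by
        rw [hH, Submodule.mem_traceDual]
        intro a ha
        obtain ⟨c, rfl⟩ := Submodule.mem_one.1 ha
        exact hy c
      rw [map_mul, hsL, mul_assoc]
      clear hy
      induction hy' using Submodule.span_induction with
      | mem y hy =>
        obtain ⟨c, hc⟩ : t y ∣ τ := Finset.dvd_prod_of_mem t hy
        obtain ⟨w, hw⟩ := ht y hy
        refine ⟨algebraMap A B c * w, ?_⟩
        rw [hc, Submonoid.coe_mul, map_mul, map_mul, hw, ← IsScalarTower.algebraMap_apply A B L]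
        ring
      | zero => exact ⟨0, by simp⟩
      | add u v _ _ hu hv => rw [mul_add, mul_add]; exact add_mem hu hv
      | smul r u _ hu =>
        obtain ⟨w, hw⟩ := hu
        exact ⟨r * w, by rw [map_mul, hw, Algebra.smul_def]; ring⟩
    have hz' : z * algebraMap B Bₛ (s' * algebraMap A B τ) ∈ Ideal.map (algebraMap B Bₛ) (differentIdeal A B) := by
      have : z * algebraMap B Bₛ (s' * algebraMap A B τ) = algebraMap B Bₛ (algebraMap A B τ * b) := by
        rw [map_mul, ← mul_assoc, hbs, map_mul, mul_comm]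
      rw [this]
      exact Ideal.mem_map_of_mem _ hτb
    have hu : IsUnit (algebraMap B Bₛ (s' * algebraMap A B τ)) := IsLocalization.map_units Bₛ
      (s' * ⟨algebraMap A B τ, ⟨τ, τ.2, rfl⟩⟩ : Algebra.algebraMapSubmonoid B S)
    exact (Ideal.mul_unit_mem_iff_mem _ hu).1 hz'

end Groth.Agent.CAlg6
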