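import Mathlib

/-!
The theorem of Eakin-Nagata, in Formanek's form: a ring having a faithful finite Noetherian
module (for the bigger ring or for itself) is Noetherian.
-/

set_option autoImplicit false

universe u v w

namespace Groth.Agent.CAlg6.EakinNagata

open Submodule

variable {R : Type u} [CommRing R]

/-- A finite module which is Noetherian is Noetherian over a ring that is Noetherian modulo its
annihilator, and conversely. -/
theorem isNoetherianRing_of_faithful {M : Type v} [AddCommGroup M] [Module R M] [Module.Finite R M]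
    [IsNoetherian R M] (hf : ∀ r : R, (∀ m : M, r • m = 0) → r = 0) : IsNoetherianRing R := by
  obtain ⟨n, s, hs⟩ := Module.Finite.exists_fin (R := R) (M := M)
  let φ : R →ₗ[R] (Fin n → M) := LinearMap.pi fun i => LinearMap.toSpanSingleton R M (s i)
  refine isNoetherianRing_iff.2 (isNoetherian_of_injective φ ?_)
  rw [← LinearMap.ker_eq_bot, LinearMap.ker_eq_bot']
  intro r hr
  refine hf r fun m => ?_
  have hm : m ∈ span R (Set.range s) := hs ▸ Submodule.mem_top
  induction hm using Submodule.span_induction with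
  | mem x hx => obtain ⟨i, rfl⟩ := hx; simpa [φ] using congrFun hr i
  | zero => exact smul_zero _
  | add x y _ _ hx hy => rw [smul_add, hx, hy, add_zero]
  | smul c x _ hx => rw [smul_comm, hx, smul_zero]

/-- Formanek: a finite faithful module with the ascending chain condition on submodules `I • M`. -/
theorem isNoetherian_of_extended_acc {M : Type v} [AddCommGroup M] [Module R M] [Module.Finite R M]
    (hacc : WellFoundedGT (Set.range fun I : Ideal R => I • (⊤ : Submodule R M))) :
    IsNoetherian R M := by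
  classical
  by_contra hM
  let 𝒮 : Set (Set.range fun I : Ideal R => I • (⊤ : Submodule R M)) :=
    {e | ¬ IsNoetherian R (M ⧸ (e : Submodule R M))}
  have hne : 𝒮.Nonempty := by
    refine ⟨⟨_, ⊥, rfl⟩, fun h => hM ?_⟩
    have hb : (⊥ : Ideal R) • (⊤ : Submodule R M) = ⊥ := Submodule.bot_smul _
    haveI : IsNoetherian R (M ⧸ ((⊥ : Ideal R) • (⊤ : Submodule R M))) := h
    exact isNoetherian_of_linearEquiv (Submodule.quotEquivOfEqBot _ hb)
  obtain ⟨⟨E, I, rfl⟩, hE, hmax⟩ := hacc.wf.has_min 𝒮 hne
  let E : Submodule R M := I • ⊤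
  have key : ∀ J : Ideal R, E < E ⊔ J • ⊤ → IsNoetherian R (M ⧸ (E ⊔ J • (⊤ : Submodule R M))) := by
    intro J hJ
    by_contra hc
    have h2 : E ⊔ J • (⊤ : Submodule R M) = (I ⊔ J) • ⊤ := (Submodule.sup_smul _ _ _).symm
    exact hmax ⟨E ⊔ J • ⊤, I ⊔ J, h2.symm⟩ hc (show E < E ⊔ J • ⊤ from hJ)
  -- a maximal submodule above `E` with the same annihilator of the quotient
  obtain ⟨n, s, hs⟩ := Module.Finite.exists_fin (R := R) (M := M)
  let S : Set (Submodule R M) := {N | E ≤ N ∧ ∀ r : R, (∀ i, r • s i ∈ N) → ∀ i, r • s i ∈ E}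
  have hgen : ∀ (N : Submodule R M) (r : R), (∀ i, r • s i ∈ N) → ∀ m : M, r • m ∈ N := by
    intro N r hr m
    have hm : m ∈ span R (Set.range s) := hs ▸ Submodule.mem_top
    induction hm using Submodule.span_induction with
    | mem x hx => obtain ⟨i, rfl⟩ := hx; exact hr i
    | zero => rw [smul_zero]; exact zero_mem _
    | add x y _ _ hx hy => rw [smul_add]; exact add_mem hx hy
    | smul c x _ hx => rw [smul_comm]; exact N.smul_mem c hx
  obtain ⟨N, -, hN⟩ := zorn_le_nonempty₀ S (fun c hc hchain y hy => by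
    refine ⟨sSup c, ⟨(hc hy).1.trans (le_sSup hy), fun r hr => ?_⟩, fun z hz => le_sSup hz⟩
    choose Ni hNi hNim using fun i => (Submodule.mem_sSup_of_directed ⟨y, hy⟩
      hchain.directedOn).1 (hr i)
    obtain ⟨z, hz, hzle⟩ : ∃ z ∈ c, ∀ i, Ni i ≤ z := by
      have : ∀ t : Finset (Fin n), ∃ z ∈ c, ∀ i ∈ t, Ni i ≤ z := by
        intro t
        induction t using Finset.induction_on with
        | empty => exact ⟨y, hy, fun i hi => absurd hi (Finset.notMem_empty i)⟩
        | insert a t _ ih =>
          obtain ⟨z, hz, hzle⟩ := ih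
          obtain ⟨w, hw, hw1, hw2⟩ := hchain.directedOn z hz (Ni a) (hNi a)
          exact ⟨w, hw, fun i hi => (Finset.mem_insert.1 hi).elim (fun h => h ▸ hw2)
            fun h => (hzle i h).trans hw1⟩
      obtain ⟨z, hz, hzle⟩ := this Finset.univ
      exact ⟨z, hz, fun i => hzle i (Finset.mem_univ i)⟩
    exact (hc hz).2 r fun i => hzle i (hNim i)) E ⟨le_rfl, fun r hr => hr⟩
  obtain ⟨⟨hEN, hNf⟩, hNmax⟩ := hN
  have hann : ∀ r : R, (∀ m : M, r • m ∈ N) → ∀ m : M, r • m ∈ E := fun r hr =>
    hgen E r (hNf r fun i => hr _)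
  -- every submodule above `N` is finitely generated modulo `N`
  have hMN : IsNoetherian R (M ⧸ N) := by
    refine ⟨fun P => ?_⟩
    by_cases hP : P = ⊥
    · exact hP ▸ Submodule.fg_bot
    let P' := P.comap N.mkQ
    have hNP : N < P' := by
      refine lt_of_le_of_ne (fun x hx => ?_) fun h => hP ?_
      · change N.mkQ x ∈ P
        rw [Submodule.mkQ_apply, (Submodule.Quotient.mk_eq_zero N).2 hx]
        exact zero_mem _
      · rw [eq_bot_iff]
        intro q hq
        obtain ⟨m, rfl⟩ := Submodule.mkQ_surjective N q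
        have : m ∈ P' := hq
        rw [← h] at this
        exact (Submodule.Quotient.mk_eq_zero N).2 this
    have hnot : P' ∉ S := fun h => hNP.not_ge (hNmax h hNP.le)
    obtain ⟨r, hr1, i₀, hr2⟩ : ∃ r : R, (∀ i, r • s i ∈ P') ∧ ∃ i, r • s i ∉ E := by
      by_contra hcon
      push Not at hcon
      exact hnot ⟨hEN.trans hNP.le, hcon⟩
    let F : Submodule R M := E ⊔ Ideal.span {r} • ⊤
    have hEF : E < F := lt_of_le_of_ne le_sup_left fun h => hr2 (h ▸ Submodule.mem_sup_right
      (Submodule.smul_mem_smul (Ideal.mem_span_singleton_self r) Submodule.mem_top))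
    haveI : IsNoetherian R (M ⧸ F) := key _ hEF
    -- the image of `r • M` is finitely generated and lies in `P`
    let Q : Submodule R (M ⧸ N) := F.map N.mkQ
    have hQfg : Q.FG := by
      have hQeq : Q = (Ideal.span {r} • (⊤ : Submodule R M)).map N.mkQ := by
        change (E ⊔ Ideal.span {r} • ⊤).map N.mkQ = _
        rw [Submodule.map_sup, sup_eq_right.2]
        rintro _ ⟨x, hx, rfl⟩
        rw [Submodule.mkQ_apply, (Submodule.Quotient.mk_eq_zero N).2 (hEN hx)]
        exact zero_mem _
      rw [hQeq]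
      refine Submodule.FG.map _ ?_
      rw [Submodule.ideal_span_singleton_smul]
      exact Submodule.FG.map _ Module.Finite.fg_top
    have hQP : Q ≤ P := by
      rintro _ ⟨x, hx, rfl⟩
      have hle : F ≤ P' := by
        refine sup_le (hEN.trans hNP.le) ?_
        rw [Submodule.smul_le]
        intro a ha m _
        obtain ⟨b, rfl⟩ := Ideal.mem_span_singleton'.1 ha
        rw [mul_smul]
        exact P'.smul_mem _ (hgen P' r hr1 m)
      exact hle hx
    haveI : IsNoetherian R ((M ⧸ N) ⧸ Q) := by
      refine isNoetherian_of_surjective (Submodule.mapQ F Q N.mkQ fun x hx => ⟨x, hx, rfl⟩) (LinearMap.range_eq_top.2 fun q => ?_)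
      obtain ⟨q, rfl⟩ := Submodule.mkQ_surjective Q q
      obtain ⟨m, rfl⟩ := Submodule.mkQ_surjective N q
      exact ⟨Submodule.Quotient.mk m, rfl⟩
    refine Submodule.fg_of_fg_map_of_fg_inf_ker Q.mkQ (IsNoetherian.noetherian _) ?_
    rwa [Submodule.ker_mkQ, inf_eq_right.2 hQP]
  -- so the ring modulo the annihilator is Noetherian
  refine hE ?_
  let 𝔞 : Ideal R := Module.annihilator R (M ⧸ E)
  have ha : Module.IsTorsionBySet R (M ⧸ E) 𝔞 := fun x a => Module.mem_annihilator.1 a.2 x
  have ha' : Module.IsTorsionBySet R (M ⧸ N) 𝔞 := fun x a => by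
    obtain ⟨m, rfl⟩ := Submodule.mkQ_surjective N x
    rw [Submodule.mkQ_apply, ← Submodule.Quotient.mk_smul, Submodule.Quotient.mk_eq_zero]
    have h1 := Module.mem_annihilator.1 a.2 (Submodule.Quotient.mk m)
    rw [← Submodule.Quotient.mk_smul, Submodule.Quotient.mk_eq_zero] at h1
    exact hEN h1
  letI := ha.module
  letI := ha'.module
  haveI : IsScalarTower R (R ⧸ 𝔞) (M ⧸ E) := ha.isScalarTower
  haveI : IsScalarTower R (R ⧸ 𝔞) (M ⧸ N) := ha'.isScalarTower
  haveI : Module.Finite (R ⧸ 𝔞) (M ⧸ N) := Module.Finite.of_restrictScalars_finite R _ _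
  haveI : Module.Finite (R ⧸ 𝔞) (M ⧸ E) := Module.Finite.of_restrictScalars_finite R _ _
  haveI : IsNoetherian (R ⧸ 𝔞) (M ⧸ N) := isNoetherian_of_tower R hMN
  haveI : IsNoetherianRing (R ⧸ 𝔞) := by
    refine isNoetherianRing_of_faithful (M := M ⧸ N) fun r hr => ?_
    obtain ⟨r, rfl⟩ := Ideal.Quotient.mk_surjective r
    refine Ideal.Quotient.eq_zero_iff_mem.2 (Module.mem_annihilator.2 fun q => ?_)
    obtain ⟨m, rfl⟩ := Submodule.mkQ_surjective E q
    rw [Submodule.mkQ_apply, ← Submodule.Quotient.mk_smul, Submodule.Quotient.mk_eq_zero]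
    refine hann r (fun m => ?_) m
    rw [← Submodule.Quotient.mk_eq_zero, Submodule.Quotient.mk_smul]
    exact hr (Submodule.Quotient.mk m)
  haveI : IsNoetherian (R ⧸ 𝔞) (M ⧸ E) := isNoetherian_of_isNoetherianRing_of_finite _ _
  refine isNoetherian_iff'.2 (StrictMono.wellFoundedGT (β := Submodule (R ⧸ 𝔞) (M ⧸ E))
    (f := fun N' : Submodule R (M ⧸ E) =>
      ({ carrier := (N' : Set (M ⧸ E))
         add_mem' := add_mem
         zero_mem' := zero_mem _
         smul_mem' := fun c x hx => by
          obtain ⟨c, rfl⟩ := Ideal.Quotient.mk_surjective c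
          exact N'.smul_mem c hx } : Submodule (R ⧸ 𝔞) (M ⧸ E))) fun a b hab => hab)

/-- Eakin-Nagata. -/
theorem isNoetherianRing_of_finite_extension {A : Type w} [CommRing A] [IsNoetherianRing A]
    [Algebra R A] [Module.Finite R A] (hinj : Function.Injective (algebraMap R A)) :
    IsNoetherianRing R := by
  haveI : IsNoetherian R A := by
    refine isNoetherian_of_extended_acc ?_
    refine StrictMono.wellFoundedGT (β := Ideal A) (f := fun e =>
      ({ carrier := (e.1 : Set A)
         add_mem' := add_mem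
         zero_mem' := zero_mem _
         smul_mem' := fun c x hx => ?_ } : Ideal A)) fun a b hab => hab
    obtain ⟨I, hI⟩ := e.2
    change x ∈ (e.1 : Submodule R A) at hx
    change c • x ∈ (e.1 : Submodule R A)
    rw [← show I • (⊤ : Submodule R A) = e.1 from hI, Ideal.smul_top_eq_map] at hx ⊢
    exact (I.map (algebraMap R A)).mul_mem_left c hx
  refine isNoetherianRing_of_faithful (M := A) fun r hr => hinj ?_
  rw [map_zero, Algebra.algebraMap_eq_smul_one, hr]

end Groth.Agent.CAlg6.EakinNagata
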