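import Mathlib

/-!
Local rings essentially of finite type: presentation at a maximal ideal over the maximal ideal.
-/

set_option autoImplicit false

universe u

open IsLocalRing

namespace Groth.Agent.CAlg6

/-- A valuation ring of the residue field of `S` centred on the maximal ideal of `R`. -/
theorem exists_valuation_centred (R : Type u) [CommRing R] [IsLocalRing R] {K : Type u} [Field K] (f : R →+* K) :
    ∃ V : ValuationSubring K, (∀ r, f r ∈ V) ∧ ∀ r ∈ maximalIdeal R, f r ∈ V.nonunits := by
  let I : Ideal f.range := (maximalIdeal R).map f.rangeRestrict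
  have hI : I ≠ ⊤ := by
    intro h
    obtain ⟨r, hr, hr1⟩ := (Ideal.mem_map_iff_of_surjective _ f.rangeRestrict_surjective).1
      (h.ge (Submodule.mem_top (x := (1 : f.range))))
    have h1 : f r = 1 := congrArg Subtype.val hr1
    have : IsUnit (1 - r) :=
      (IsLocalRing.isUnit_or_isUnit_of_isUnit_add (a := r) (b := 1 - r) (by simp)).resolve_left
        fun hu => (mem_maximalIdeal r).1 hr hu
    have h2 := this.map f
    rw [map_sub, map_one, h1, sub_self] at h2
    exact not_isUnit_zero h2
  obtain ⟨V, hV, hnu⟩ := I.image_subset_nonunits_valuationSubring hI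
  exact ⟨V, fun r => hV ⟨r, rfl⟩,
    fun r hr => hnu ⟨f.rangeRestrict r, Ideal.mem_map_of_mem _ hr, rfl⟩⟩

/-- Presentation of a local algebra essentially of finite type. -/
theorem exists_localization_presentation (R S : Type u) [CommRing R] [CommRing S] [Algebra R S]
    [IsLocalRing R] [IsLocalRing S] [Algebra.EssFiniteType R S] :
    ∃ (n : ℕ) (m : Ideal (MvPolynomial (Fin n) R)) (_ : m.IsMaximal), m.under R = maximalIdeal R ∧
      ∃ (φ : Localization.AtPrime m →ₐ[R] S) (T : Submonoid φ.range), IsLocalization T S := by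
  classical
  obtain ⟨σ, hσ⟩ := (Algebra.essFiniteType_iff R S).1 inferInstance
  let n := σ.card
  let x : Fin n → S := fun i => (σ.equivFin.symm i : S)
  let K := ResidueField S
  obtain ⟨V, hVR, hVm⟩ := exists_valuation_centred R ((residue S).comp (algebraMap R S))
  have hy : ∀ i, ∃ y : S, residue S y ∈ V ∧
      ∀ U : Subalgebra R S, y ∈ U → ∃ t ∈ U, IsUnit t ∧ x i * t ∈ U := by
    intro i
    by_cases hi : residue S (x i) ∈ V
    · exact ⟨x i, hi, fun U hU => ⟨1, U.one_mem, isUnit_one, by rwa [mul_one]⟩⟩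
    · have hu : IsUnit (x i) := by
        by_contra hu
        exact hi (((residue_eq_zero_iff _).2 ((mem_maximalIdeal _).2 hu)).symm ▸ V.zero_mem)
      obtain ⟨u, hu⟩ := hu
      refine ⟨↑u⁻¹, ?_, fun U hU => ⟨↑u⁻¹, hU, Units.isUnit _, by rw [← hu, Units.mul_inv]; exact U.one_mem⟩⟩
      rw [show residue S (↑u⁻¹ : S) = (residue S (x i))⁻¹ from eq_inv_of_mul_eq_one_left (by
        rw [← map_mul, ← hu, Units.inv_mul, map_one])]
      exact (V.mem_or_inv_mem _).resolve_left hi
  choose y hyV hyx using hy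
  let ψ : MvPolynomial (Fin n) R →ₐ[R] S := MvPolynomial.aeval y
  have hψV : ∀ p, residue S (ψ p) ∈ V := fun p => by
    induction p using MvPolynomial.induction_on with
    | C a =>
      simp only [ψ, MvPolynomial.aeval_C]
      exact hVR a
    | add p q hp hq => rw [map_add, map_add]; exact add_mem hp hq
    | mul_X p i hp =>
      rw [map_mul, map_mul]
      refine mul_mem hp ?_
      simp only [ψ, MvPolynomial.aeval_X]
      exact hyV i
  let θ : MvPolynomial (Fin n) R →+* V := ((residue S).comp ψ.toRingHom).codRestrict V.toSubring hψV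
  let P : Ideal (MvPolynomial (Fin n) R) := (maximalIdeal V).comap θ
  obtain ⟨m, hm, hPm⟩ := Ideal.exists_le_maximal P (Ideal.IsPrime.ne_top inferInstance)
  have hmR : maximalIdeal R ≤ m.under R := fun r hr => by
    refine hPm ?_
    have h1 : _ ∈ (V.nonunits : Set (ResidueField S)) := hVm r hr
    rw [← V.image_maximalIdeal] at h1
    obtain ⟨z, hz, hzr⟩ := h1
    show θ (algebraMap R _ r) ∈ maximalIdeal V
    convert hz
    refine Subtype.ext ?_
    show residue S (ψ (algebraMap R _ r)) = _
    rw [AlgHom.commutes, hzr]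
    rfl
  refine ⟨n, m, hm, ((maximalIdeal.isMaximal R).eq_of_le (Ideal.IsPrime.ne_top inferInstance) hmR).symm, ?_⟩
  have hunit : ∀ p : m.primeCompl, IsUnit (ψ p) := by
    rintro ⟨p, hp⟩
    by_contra hc
    refine hp (hPm ?_)
    show θ p ∈ maximalIdeal V
    convert zero_mem (maximalIdeal V)
    exact Subtype.ext ((residue_eq_zero_iff _).2 ((mem_maximalIdeal _).2 hc))
  let φ : Localization.AtPrime m →ₐ[R] S := IsLocalization.liftAlgHom (M := m.primeCompl) (f := ψ) hunit
  have hφ : ∀ p, φ (algebraMap _ _ p) = ψ p := fun p =>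
    IsLocalization.lift_eq (M := m.primeCompl) (S := Localization.AtPrime m) hunit p
  refine ⟨φ, (IsUnit.submonoid S).comap (algebraMap φ.range S), ?_⟩
  let U := φ.range
  have hyU : ∀ i, y i ∈ U := fun i => ⟨algebraMap _ _ (MvPolynomial.X i), (hφ _).trans (MvPolynomial.aeval_X y i)⟩
  have key : ∀ s ∈ Algebra.adjoin R (σ : Set S), ∃ t ∈ U, IsUnit t ∧ s * t ∈ U := by
    intro s hs
    induction hs using Algebra.adjoin_induction with
    | mem s hs =>
      obtain ⟨i, hi⟩ : ∃ i, x i = s := ⟨σ.equivFin ⟨s, hs⟩, by simp [x]⟩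
      exact hi ▸ hyx i U (hyU i)
    | algebraMap r => exact ⟨1, U.one_mem, isUnit_one, by rw [mul_one]; exact U.algebraMap_mem r⟩
    | add a b _ _ ha hb =>
      obtain ⟨t, ht, htu, hta⟩ := ha
      obtain ⟨t', ht', htu', htb⟩ := hb
      refine ⟨t * t', U.mul_mem ht ht', htu.mul htu', ?_⟩
      have : (a + b) * (t * t') = a * t * t' + t * (b * t') := by ring
      rw [this]
      exact U.add_mem (U.mul_mem hta ht') (U.mul_mem ht htb)
    | mul a b _ _ ha hb =>
      obtain ⟨t, ht, htu, hta⟩ := ha
      obtain ⟨t', ht', htu', htb⟩ := hb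
      refine ⟨t * t', U.mul_mem ht ht', htu.mul htu', ?_⟩
      rw [mul_mul_mul_comm]
      exact U.mul_mem hta htb
  constructor; constructor
  · exact fun t => t.2
  · intro s
    obtain ⟨t, ht, htu, hts⟩ := hσ s
    obtain ⟨a, ha, hau, hta⟩ := key t ht
    obtain ⟨b, hb, hbu, hsb⟩ := key _ hts
    have hnum : s * (t * a * b) ∈ U := by
      have : s * (t * a * b) = s * t * b * a := by ring
      rw [this]
      exact U.mul_mem hsb ha
    exact ⟨⟨⟨s * (t * a * b), hnum⟩, ⟨⟨t * a * b, U.mul_mem hta hb⟩, (htu.mul hau).mul hbu⟩⟩, rfl⟩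
  · intro a b e
    exact ⟨1, by simpa using Subtype.ext e⟩

end Groth.Agent.CAlg6
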