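import Groth.Prelude.Def_FlatCA
import Mathlib.RingTheory.Localization.BaseChange
import Mathlib.RingTheory.LocalRing.ResidueField.Ideal
import Mathlib.RingTheory.LocalRing.ResidueField.Fiber
import Mathlib.LinearAlgebra.TensorProduct.RightExactness
import Mathlib.RingTheory.TensorProduct.Maps

/-!
The fibre module as a localisation of the quotient by the prime.
-/

set_option autoImplicit false

universe u

open TensorProduct

namespace Groth.Agent.CAlg6

variable {R S : Type u} [CommRing R] [CommRing S] [Algebra R S] {p : Ideal R} [p.IsPrime]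
  {N : Type u} [AddCommGroup N] [Module S N] [Module R N] [IsScalarTower R S N]

theorem mem_map_smul_top_iff (I : Ideal R) (x : N) :
    x ∈ I.map (algebraMap R S) • (⊤ : Submodule S N) ↔ x ∈ I • (⊤ : Submodule R N) := by
  rw [← Submodule.restrictScalars_mem R (I.map (algebraMap R S) • (⊤ : Submodule S N)) x,
    Ideal.smul_restrictScalars, Submodule.restrictScalars_top]

omit [Module S N] [IsScalarTower R S N] in
/-- Kernel of `N → N ⊗ κ(p)`. -/
theorem tmul_one_eq_zero_iff (n : N) :
    n ⊗ₜ[R] (1 : p.ResidueField) = 0 ↔ ∃ r ∉ p, r • n ∈ p • (⊤ : Submodule R N) := by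
  constructor
  · intro h
    let Rp := Localization.AtPrime p
    let m := IsLocalRing.maximalIdeal Rp
    let π : Rp →ₗ[R] p.ResidueField := (IsScalarTower.toAlgHom R Rp p.ResidueField).toLinearMap
    have hπ : Function.Surjective π := IsLocalRing.residue_surjective
    have hex : Function.Exact (m.restrictScalars R).subtype π := by
      intro x
      show IsLocalRing.residue Rp x = 0 ↔ _
      rw [IsLocalRing.residue_eq_zero_iff]
      exact ⟨fun hx => ⟨⟨x, hx⟩, rfl⟩, fun ⟨⟨y, hy⟩, e⟩ => e ▸ hy⟩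
    have h0 : (π.lTensor N) (n ⊗ₜ[R] (1 : Rp)) = 0 := by
      rw [LinearMap.lTensor_tmul]
      exact (congrArg (n ⊗ₜ[R] ·) (map_one (IsScalarTower.toAlgHom R Rp p.ResidueField))).trans h
    obtain ⟨y, hy⟩ := (lTensor_exact N hex hπ _).1 h0
    have key : ∀ y : N ⊗[R] (m.restrictScalars R), ∃ s ∉ p, ∃ x ∈ p • (⊤ : Submodule R N),
        s • ((m.restrictScalars R).subtype.lTensor N y) = x ⊗ₜ[R] (1 : Rp) := by
      intro y
      induction y using TensorProduct.induction_on with
      | zero =>
        exact ⟨1, p.primeCompl.one_mem, 0, zero_mem _, by rw [map_zero, smul_zero, zero_tmul]⟩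
      | tmul a b =>
        obtain ⟨⟨q, s⟩, hqs⟩ := IsLocalization.surj p.primeCompl (b : Rp)
        have hq : q ∈ p := by
          rw [← IsLocalization.AtPrime.to_map_mem_maximal_iff Rp p, ← hqs]
          exact Ideal.mul_mem_right _ _ b.2
        refine ⟨s, s.2, q • a, Submodule.smul_mem_smul hq trivial, ?_⟩
        rw [LinearMap.lTensor_tmul, ← tmul_smul, smul_tmul, Submodule.coe_subtype, Algebra.smul_def,
          mul_comm, hqs, ← Algebra.algebraMap_eq_smul_one]
      | add a b ha hb =>
        obtain ⟨s, hs, x, hx, hsx⟩ := ha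
        obtain ⟨t, ht, z, hz, htz⟩ := hb
        refine ⟨t * s, p.primeCompl.mul_mem ht hs, t • x + s • z,
          add_mem (Submodule.smul_mem _ t hx) (Submodule.smul_mem _ s hz), ?_⟩
        rw [map_add, smul_add, mul_smul, hsx, mul_comm, mul_smul, htz, add_tmul, smul_tmul',
          smul_tmul']
    obtain ⟨s, hs, x, hx, hsx⟩ := key y
    rw [hy, smul_tmul'] at hsx
    let f : N →ₗ[R] Rp ⊗[R] N := TensorProduct.mk R Rp N 1
    have hf : f (s • n) = f x := by
      have := congrArg (TensorProduct.comm R N Rp) hsx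
      simpa [f, smul_tmul'] using this
    obtain ⟨⟨t, ht⟩, e⟩ := IsLocalizedModule.exists_of_eq (S := p.primeCompl) (f := f) hf
    refine ⟨t * s, p.primeCompl.mul_mem ht hs, ?_⟩
    rw [mul_smul]
    change t • s • n = t • x at e
    rw [e]
    exact Submodule.smul_mem _ t hx
  · rintro ⟨r, hr, h⟩
    have hzero : ∀ x ∈ p • (⊤ : Submodule R N), x ⊗ₜ[R] (1 : p.ResidueField) = 0 := by
      intro x hx
      refine Submodule.smul_induction_on hx (fun a ha y _ => ?_)
        (fun a b ha hb => by rw [add_tmul, ha, hb, add_zero])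
      rw [smul_tmul, ← Algebra.algebraMap_eq_smul_one,
        Ideal.algebraMap_residueField_eq_zero.2 ha, tmul_zero]
    have h1 := hzero _ h
    rw [smul_tmul, ← Algebra.algebraMap_eq_smul_one] at h1
    have hu : algebraMap R p.ResidueField r ≠ 0 := fun e => hr (Ideal.algebraMap_residueField_eq_zero.1 e)
    have h2 := congrArg (LinearMap.lTensor N (LinearMap.mulRight R (algebraMap R p.ResidueField r)⁻¹)) h1
    rwa [LinearMap.lTensor_tmul, map_zero, LinearMap.mulRight_apply, mul_inv_cancel₀ hu] at h2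

attribute [local instance] Algebra.TensorProduct.rightAlgebra

/-- The fibre module is `N ⊗ κ(p)`. -/
theorem exists_fiberEquiv : ∃ e : FlatCA.fiberMod p S N ≃ₗ[S] N ⊗[R] p.ResidueField,
    ∀ n : N, e (FlatCA.toFiberMod p S N n) = n ⊗ₜ[R] (1 : p.ResidueField) := by
  refine ⟨((TensorProduct.comm S (p.Fiber S) N).trans
    (TensorProduct.congr (LinearEquiv.refl S N)
      (Algebra.TensorProduct.commRight R S p.ResidueField).symm.toLinearEquiv)).trans
    (AlgebraTensorModule.cancelBaseChange R S S N p.ResidueField), fun n => ?_⟩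
  change AlgebraTensorModule.cancelBaseChange R S S N p.ResidueField
    (n ⊗ₜ[S] ((Algebra.TensorProduct.commRight R S p.ResidueField).symm 1)) = _
  rw [map_one, Algebra.TensorProduct.one_def, AlgebraTensorModule.cancelBaseChange_tmul, one_smul]

theorem toFiberMod_eq_zero_iff (n : N) : FlatCA.toFiberMod p S N n = 0 ↔
    ∃ r ∉ p, algebraMap R S r • n ∈ p.map (algebraMap R S) • (⊤ : Submodule S N) := by
  obtain ⟨e, he⟩ := exists_fiberEquiv (p := p) (S := S) (N := N)
  rw [← e.map_eq_zero_iff, he, tmul_one_eq_zero_iff]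
  simp only [mem_map_smul_top_iff, algebraMap_smul]

theorem exists_smul_eq_toFiberMod (x : FlatCA.fiberMod p S N) :
    ∃ r ∉ p, ∃ n : N, algebraMap R S r • x = FlatCA.toFiberMod p S N n := by
  obtain ⟨e, he⟩ := exists_fiberEquiv (p := p) (S := S) (N := N)
  suffices ∀ y : N ⊗[R] p.ResidueField, ∃ r ∉ p, ∃ n : N,
      r • y = n ⊗ₜ[R] (1 : p.ResidueField) by
    obtain ⟨r, hr, n, h⟩ := this (e x)
    exact ⟨r, hr, n, e.injective (by rw [map_smul, he, algebraMap_smul, h])⟩
  intro y
  induction y using TensorProduct.induction_on with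
  | zero => exact ⟨1, p.primeCompl.one_mem, 0, by rw [smul_zero, zero_tmul]⟩
  | tmul a c =>
    obtain ⟨c, rfl⟩ := IsLocalRing.residue_surjective c
    obtain ⟨⟨q, s⟩, hqs⟩ := IsLocalization.surj p.primeCompl c
    refine ⟨s, s.2, q • a, ?_⟩
    rw [← tmul_smul, smul_tmul, Algebra.smul_def, ← Algebra.algebraMap_eq_smul_one,
      IsScalarTower.algebraMap_apply R (Localization.AtPrime p) p.ResidueField,
      IsScalarTower.algebraMap_apply R (Localization.AtPrime p) p.ResidueField,
      IsLocalRing.ResidueField.algebraMap_eq, ← map_mul, ← hqs, mul_comm]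
  | add a b ha hb =>
    obtain ⟨s, hs, x, hsx⟩ := ha
    obtain ⟨t, ht, z, htz⟩ := hb
    refine ⟨t * s, p.primeCompl.mul_mem ht hs, t • x + s • z, ?_⟩
    rw [smul_add, mul_smul, hsx, mul_comm, mul_smul, htz, add_tmul, smul_tmul', smul_tmul']

theorem isUnit_includeRight_algebraMap {r : R} (hr : r ∉ p) :
    IsUnit ((Algebra.TensorProduct.includeRight (R := R) (A := p.ResidueField) (B := S))
      (algebraMap R S r)) := by
  rw [AlgHom.commutes, IsScalarTower.algebraMap_apply R p.ResidueField (p.Fiber S)]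
  exact ((isUnit_iff_ne_zero).2 fun e => hr (Ideal.algebraMap_residueField_eq_zero.1 e)).map _

theorem includeRight_smul (s : S) (x : FlatCA.fiberMod p S N) :
    (Algebra.TensorProduct.includeRight (R := R) (A := p.ResidueField) (B := S)) s • x = s • x := by
  have h : ∀ y : (p.Fiber S) ⊗[S] N, algebraMap S (p.Fiber S) s • y = s • y :=
    fun y => algebraMap_smul (p.Fiber S) s y
  exact h x

theorem mem_ass_iff {M : Type u} [AddCommGroup M] [Module S M] {q : Ideal S} :
    q ∈ FlatCA.ass S M ↔ q.IsPrime ∧ ∃ m : M, ∀ s : S, s ∈ q ↔ s • m = 0 := by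
  unfold FlatCA.ass
  simp only [Set.mem_ofPred_eq, SetLike.ext_iff, Submodule.mem_annihilator_span_singleton]

/-- Associated primes of the fibre module correspond to those over the fibre ring. -/
theorem ass_fiberMod_iff (q : Ideal S) :
    q ∈ FlatCA.ass S (FlatCA.fiberMod p S N) ∧ q.comap (algebraMap R S) = p ↔
      ∃ Q ∈ FlatCA.ass (p.Fiber S) (FlatCA.fiberMod p S N),
        Q.comap (Algebra.TensorProduct.includeRight (R := R) (A := p.ResidueField) (B := S)).toRingHom = q := by
  let ι := (Algebra.TensorProduct.includeRight (R := R) (A := p.ResidueField) (B := S))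
  constructor
  · rintro ⟨h, hqp⟩
    obtain ⟨hq, x, hx⟩ := mem_ass_iff.1 h
    let Q : Ideal (p.Fiber S) := (Submodule.span (p.Fiber S) {x}).annihilator
    have hmem : ∀ y, y ∈ Q ↔ y • x = 0 := fun y => Submodule.mem_annihilator_span_singleton _ _
    have hQ : Q.comap ι.toRingHom = q := by
      ext s
      rw [Ideal.mem_comap, hmem, hx]
      show ι s • x = 0 ↔ _
      rw [includeRight_smul]
    have hclear : ∀ y : p.Fiber S, ∃ u : p.Fiber S, IsUnit u ∧ ∃ s : S, u * y = ι s := fun y => by
      obtain ⟨r, hr, s, h⟩ := Ideal.Fiber.exists_smul_eq_one_tmul (p := p) y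
      refine ⟨_, isUnit_includeRight_algebraMap hr, s, ?_⟩
      rw [AlgHom.commutes, ← Algebra.smul_def, h]; rfl
    refine ⟨Q, ⟨⟨fun htop => ?_, fun {y z} hyz => ?_⟩, x, rfl⟩, hQ⟩
    · exact hq.ne_top (by rw [← hQ, htop, Ideal.comap_top])
    · obtain ⟨u, hu, s, hs⟩ := hclear y
      obtain ⟨v, hv, t, ht⟩ := hclear z
      have hst : s * t ∈ q := by
        rw [← hQ, Ideal.mem_comap]
        show ι (s * t) ∈ Q
        rw [map_mul, ← hs, ← ht, mul_mul_mul_comm]
        exact Q.mul_mem_left _ hyz
      rcases hq.mem_or_mem hst with h | h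
      · left
        rw [← hQ, Ideal.mem_comap] at h
        change ι s ∈ Q at h
        rw [← hs] at h
        exact (Q.unit_mul_mem_iff_mem hu).1 h
      · right
        rw [← hQ, Ideal.mem_comap] at h
        change ι t ∈ Q at h
        rw [← ht] at h
        exact (Q.unit_mul_mem_iff_mem hv).1 h
  · rintro ⟨Q, hQ, rfl⟩
    obtain ⟨hQp, x, hx⟩ := mem_ass_iff.1 hQ
    refine ⟨mem_ass_iff.2 ⟨Ideal.comap_isPrime _ _, x, fun s => ?_⟩, ?_⟩
    · rw [Ideal.mem_comap, hx]
      show ι s • x = 0 ↔ _
      rw [includeRight_smul]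
    · rw [Ideal.comap_comap, show ι.toRingHom.comp (algebraMap R S) = algebraMap R (p.Fiber S) from
        ι.comp_algebraMap]
      exact (Ideal.over_def Q p).symm

/-- `R ∖ p` acts injectively on `N/pN` for `N` flat. -/
theorem mem_smul_top_of_smul_mem [Module.Flat R N] {r : R} (hr : r ∉ p) {n : N}
    (h : r • n ∈ p • (⊤ : Submodule R N)) : n ∈ p • (⊤ : Submodule R N) := by
  let e := TensorProduct.tensorQuotEquivQuotSMul N p
  have hinj : Function.Injective (LinearMap.lTensor N (LinearMap.lsmul R (R ⧸ p) r)) := by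
    refine Module.Flat.lTensor_preserves_injective_linearMap (M := N) _ ?_
    rw [injective_iff_map_eq_zero]
    intro a ha
    obtain ⟨a, rfl⟩ := Ideal.Quotient.mk_surjective a
    change Ideal.Quotient.mk p (r * a) = 0 at ha
    rw [Ideal.Quotient.eq_zero_iff_mem] at ha ⊢
    exact ((‹p.IsPrime›).mem_or_mem ha).resolve_left hr
  have he : ∀ m : N, e (m ⊗ₜ[R] (1 : R ⧸ p)) = Submodule.Quotient.mk m := fun m => by
    show TensorProduct.quotTensorEquivQuotSMul N p ((Ideal.Quotient.mk p 1) ⊗ₜ[R] m) = _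
    rw [TensorProduct.quotTensorEquivQuotSMul_mk_tmul, one_smul]
  have h1 : n ⊗ₜ[R] (1 : R ⧸ p) = 0 := by
    apply hinj
    rw [map_zero, LinearMap.lTensor_tmul, LinearMap.lsmul_apply, tmul_smul, smul_tmul']
    apply e.injective
    rw [he, map_zero, (Submodule.Quotient.mk_eq_zero _).2 h]
  have := congrArg e h1
  rwa [he, map_zero, Submodule.Quotient.mk_eq_zero] at this

end Groth.Agent.CAlg6
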