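import Mathlib
import Groth.Agent.EGA4H10.ProjDim
import Groth.Agent.CAlg1.Serre
import Groth.Agent.S2049

/-!
Projective dimension over a local ring which is flat over a valuation ring with regular closed fibre.
-/

set_option autoImplicit false

universe u

namespace Groth.Agent.CAlg6.FibrePD

open CategoryTheory IsLocalRing TensorProduct

variable {V : Type u} [CommRing V] {A : Type u} [CommRing A] [Algebra V A]

/-- Torsion-free over the base, for a module over the algebra. -/
def TF (V : Type u) [CommRing V] (A : Type u) [CommRing A] [Algebra V A] (M : Type u)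
    [AddCommGroup M] [Module A M] : Prop :=
  ∀ (v : V) (m : M), v ≠ 0 → algebraMap V A v • m = 0 → m = 0

theorem TF.submodule {M : Type u} [AddCommGroup M] [Module A M] (h : TF V A M) (K : Submodule A M) :
    TF V A K := fun v m hv hm => Subtype.ext (h v m.1 hv (congrArg Subtype.val hm))

theorem TF.pi {ι : Type} (hA : TF V A A) : TF V A (ι → A) := fun v m hv hm =>
  funext fun i => hA v (m i) hv (congrFun hm i)

theorem TF.of_injective {M N : Type u} [AddCommGroup M] [Module A M] [AddCommGroup N] [Module A N]
    (h : TF V A N) (f : M →ₗ[A] N) (hf : Function.Injective f) : TF V A M := fun v m hv hm =>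
  hf (by rw [map_zero]; exact h v (f m) hv (by rw [← map_smul, hm, map_zero]))

variable [IsDomain V] [ValuationRing V] {P : Ideal V}

theorem exists_eq_smul {F : Type u} [AddCommGroup F] [Module A F] {x : F}
    (hx : x ∈ P.map (algebraMap V A) • (⊤ : Submodule A F)) :
    ∃ a ∈ P, ∃ f : F, x = algebraMap V A a • f := by
  induction hx using Submodule.smul_induction_on' with
  | smul r hr f hf =>
    clear hf
    rw [Ideal.map] at hr
    induction hr using Submodule.span_induction generalizing f with
    | mem y hy => obtain ⟨a, ha, rfl⟩ := hy; exact ⟨a, ha, f, rfl⟩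
    | zero => exact ⟨0, P.zero_mem, 0, by simp⟩
    | add y z _ _ hy hz =>
      obtain ⟨a, ha, g, hg⟩ := hy f
      obtain ⟨b, hb, g', hg'⟩ := hz f
      rcases ValuationRing.dvd_total a b with ⟨c, rfl⟩ | ⟨c, rfl⟩
      · exact ⟨a, ha, g + algebraMap V A c • g', by rw [add_smul, hg, hg', smul_add, smul_smul, map_mul]⟩
      · exact ⟨b, hb, algebraMap V A c • g + g', by rw [add_smul, hg, hg', smul_add, smul_smul, map_mul]⟩
    | smul c y _ hy =>
      obtain ⟨a, ha, g, hg⟩ := hy f
      exact ⟨a, ha, c • g, by rw [smul_eq_mul, mul_smul, hg, smul_comm]⟩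
  | add y _ z _ hy hz =>
    obtain ⟨a, ha, g, rfl⟩ := hy
    obtain ⟨b, hb, g', rfl⟩ := hz
    rcases ValuationRing.dvd_total a b with ⟨c, rfl⟩ | ⟨c, rfl⟩
    · exact ⟨a, ha, g + algebraMap V A c • g', by rw [smul_add, smul_smul, map_mul]⟩
    · exact ⟨b, hb, algebraMap V A c • g + g', by rw [smul_add, smul_smul, map_mul]⟩

/-- The kernel of a map to a torsion-free module is pure for the extended ideal. -/
theorem ker_inter {F M : Type u} [AddCommGroup F] [Module A F] [AddCommGroup M] [Module A M]
    (hM : TF V A M) (q : F →ₗ[A] M) (x : LinearMap.ker q)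
    (hx : (x : F) ∈ P.map (algebraMap V A) • (⊤ : Submodule A F)) :
    x ∈ P.map (algebraMap V A) • (⊤ : Submodule A (LinearMap.ker q)) := by
  obtain ⟨a, ha, f, hf⟩ := exists_eq_smul hx
  by_cases ha0 : a = 0
  · have : x = 0 := Subtype.ext (by rw [hf, ha0, map_zero, zero_smul]; rfl)
    rw [this]; exact zero_mem _
  have h1 : q f = 0 := hM a (q f) ha0 (by rw [← map_smul, ← hf]; exact x.2)
  have h2 : x = algebraMap V A a • (⟨f, h1⟩ : LinearMap.ker q) := Subtype.ext hf
  rw [h2]
  exact Submodule.smul_mem_smul (Ideal.mem_map_of_mem _ ha) Submodule.mem_top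

theorem projective_quot (I : Ideal A) (F : Type u) [AddCommGroup F] [Module A F] [Module.Free A F] :
    Module.Projective (A ⧸ I) (F ⧸ I • (⊤ : Submodule A F)) :=
  Module.Projective.of_equiv
    ((TensorProduct.quotTensorEquivQuotSMul F I).extendScalarsOfSurjective (R := A) (S := A ⧸ I)
      Ideal.Quotient.mk_surjective)

variable (V A) in
/-- The standing hypotheses. -/
structure Hyp [IsLocalRing A] (P : Ideal V) : Prop where
  tf : TF V A A
  le : P.map (algebraMap V A) ≤ maximalIdeal A
  fp : ∀ (M : Type u) [AddCommGroup M] [Module A M] [Module.Finite A M], TF V A M →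
    Module.FinitePresentation A M

variable [IsLocalRing A]

theorem projective_of_quot (H : Hyp V A P) (M : Type u) [AddCommGroup M] [Module A M]
    [Module.Finite A M] (hM : TF V A M) [IsLocalRing (A ⧸ P.map (algebraMap V A))]
    [Module.Projective (A ⧸ P.map (algebraMap V A))
      (M ⧸ P.map (algebraMap V A) • (⊤ : Submodule A M))] : Module.Projective A M := by
  set I := P.map (algebraMap V A)
  haveI : Module.Finite (A ⧸ I) (M ⧸ I • (⊤ : Submodule A M)) :=
    Module.Finite.of_restrictScalars_finite A _ _
  haveI : Module.Free (A ⧸ I) (M ⧸ I • (⊤ : Submodule A M)) :=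
    Module.free_of_flat_of_isLocalRing
  let b := Module.finBasis (A ⧸ I) (M ⧸ I • (⊤ : Submodule A M))
  let r := Module.finrank (A ⧸ I) (M ⧸ I • (⊤ : Submodule A M))
  choose s hs using fun i => Submodule.Quotient.mk_surjective _ (b i)
  let q : (Fin r → A) →ₗ[A] M := Fintype.linearCombination A s
  have hjac : I ≤ (⊥ : Ideal A).jacobson :=
    H.le.trans (IsLocalRing.maximalIdeal_le_jacobson _)
  have hmk : ∀ c : Fin r → A, Submodule.Quotient.mk (p := I • (⊤ : Submodule A M)) (q c) =
      ∑ i, Ideal.Quotient.mk I (c i) • b i := fun c => by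
    simp only [q, Fintype.linearCombination_apply]
    rw [← Submodule.mkQ_apply, map_sum]
    refine Finset.sum_congr rfl fun i _ => ?_
    rw [map_smul, Submodule.mkQ_apply, hs]
    exact (IsScalarTower.algebraMap_smul (A ⧸ I) (c i) (b i)).symm
  have hq : Function.Surjective q := by
    rw [← LinearMap.range_eq_top, eq_top_iff]
    refine Submodule.le_of_le_smul_of_le_jacobson_bot Module.Finite.fg_top hjac fun m _ => ?_
    choose c hc using fun i => Ideal.Quotient.mk_surjective (b.repr (Submodule.Quotient.mk m) i)
    have h1 : m - q c ∈ I • (⊤ : Submodule A M) := by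
      rw [← Submodule.Quotient.mk_eq_zero, Submodule.Quotient.mk_sub, hmk]
      rw [Finset.sum_congr rfl fun i _ => by rw [hc], b.sum_repr, sub_self]
    rw [← add_sub_cancel (q c) m]
    exact add_mem (Submodule.mem_sup_left (LinearMap.mem_range_self q c)) (Submodule.mem_sup_right h1)
  haveI := H.fp M hM
  have hK : LinearMap.ker q = ⊥ := by
    refine Submodule.eq_bot_of_le_smul_of_le_jacobson_bot I _
      (Module.FinitePresentation.fg_ker q hq) (fun x hx => ?_) hjac
    have h0 := hmk x
    rw [LinearMap.mem_ker.1 hx, Submodule.Quotient.mk_zero] at h0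
    have h1 := Fintype.linearIndependent_iff.1 b.linearIndependent _ h0.symm
    have h2 : x ∈ I • (⊤ : Submodule A (Fin r → A)) := by
      rw [pi_eq_sum_univ' x]
      exact Submodule.sum_mem _ fun i _ => Submodule.smul_mem_smul
        (Ideal.Quotient.eq_zero_iff_mem.1 (h1 i)) Submodule.mem_top
    have h3 := Submodule.mem_map_of_mem (f := (LinearMap.ker q).subtype)
      (ker_inter hM q ⟨x, hx⟩ h2)
    rwa [Submodule.map_smul'', Submodule.map_top, Submodule.range_subtype] at h3
  exact Module.Projective.of_equiv
    (LinearEquiv.ofBijective q ⟨LinearMap.ker_eq_bot.1 hK, hq⟩)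

theorem hasPD_of_quot (H : Hyp V A P) [IsLocalRing (A ⧸ P.map (algebraMap V A))] :
    ∀ (n : ℕ) (M : Type u) [AddCommGroup M] [Module A M] [Module.Finite A M], TF V A M →
      HasProjectiveDimensionLE (ModuleCat.of (A ⧸ P.map (algebraMap V A))
        (M ⧸ P.map (algebraMap V A) • (⊤ : Submodule A M))) n →
      HasProjectiveDimensionLE (ModuleCat.of A M) n := by
  intro n
  induction n with
  | zero =>
    intro M _ _ _ hM h
    rw [EGA4H10.hasPD_zero_iff] at h ⊢
    exact projective_of_quot H M hM
  | succ n ih =>
    intro M _ _ _ hM h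
    set I := P.map (algebraMap V A)
    obtain ⟨r, q, hq⟩ := Module.Finite.exists_fin' A M
    haveI := H.fp M hM
    haveI : Module.Finite A (LinearMap.ker q) :=
      Module.Finite.iff_fg.2 (Module.FinitePresentation.fg_ker q hq)
    rw [EGA4H10.hasPD_succ_iff (LinearMap.ker q).subtype q (Submodule.injective_subtype _)
      (LinearMap.exact_subtype_ker_map q) hq]
    refine ih _ ((TF.pi H.tf).submodule _) ?_
    have hle1 : I • (⊤ : Submodule A (LinearMap.ker q)) ≤
        (I • (⊤ : Submodule A (Fin r → A))).comap (LinearMap.ker q).subtype := by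
      rw [← Submodule.map_le_iff_le_comap, Submodule.map_smul'']
      exact Submodule.smul_mono le_rfl le_top
    have hle2 : I • (⊤ : Submodule A (Fin r → A)) ≤ (I • (⊤ : Submodule A M)).comap q := by
      rw [← Submodule.map_le_iff_le_comap, Submodule.map_smul'']
      exact Submodule.smul_mono le_rfl le_top
    let g := (Submodule.mapQ _ _ (LinearMap.ker q).subtype hle1).extendScalarsOfSurjective (S := A ⧸ I)
      Ideal.Quotient.mk_surjective
    let f := (Submodule.mapQ _ _ q hle2).extendScalarsOfSurjective (S := A ⧸ I)
      Ideal.Quotient.mk_surjective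
    haveI := projective_quot I (Fin r → A)
    refine (EGA4H10.hasPD_succ_iff g f ?_ ?_ ?_ n).1 h
    · intro a b hab
      induction a using Submodule.Quotient.induction_on with
      | H a =>
        induction b using Submodule.Quotient.induction_on with
        | H b =>
          have h1 : ((a - b : LinearMap.ker q) : Fin r → A) ∈ I • (⊤ : Submodule A (Fin r → A)) :=
            (Submodule.Quotient.eq _).1 hab
          exact (Submodule.Quotient.eq _).2 (ker_inter hM q _ h1)
    · intro y
      induction y using Submodule.Quotient.induction_on with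
      | H y =>
        constructor
        · intro hy
          have h1 : q y ∈ I • (⊤ : Submodule A M) := (Submodule.Quotient.mk_eq_zero _).1 hy
          have h2 : I • (⊤ : Submodule A M) = (I • (⊤ : Submodule A (Fin r → A))).map q := by
            rw [Submodule.map_smul'', Submodule.map_top, LinearMap.range_eq_top.2 hq]
          rw [h2] at h1
          obtain ⟨z, hz, hzy⟩ := h1
          refine ⟨Submodule.Quotient.mk ⟨y - z, by rw [LinearMap.mem_ker, map_sub, hzy, sub_self]⟩, ?_⟩
          refine (Submodule.Quotient.eq _).2 ?_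
          simpa using neg_mem hz
        · rintro ⟨x, hx⟩
          induction x using Submodule.Quotient.induction_on with
          | H x =>
            rw [← hx]
            exact (Submodule.Quotient.mk_eq_zero _).2 (by simp [LinearMap.mem_ker.1 x.2])
    · intro y
      induction y using Submodule.Quotient.induction_on with
      | H y => obtain ⟨z, rfl⟩ := hq y; exact ⟨Submodule.Quotient.mk z, rfl⟩

variable (H : Hyp V A P) [IsRegularLocalRing (A ⧸ P.map (algebraMap V A))] {n : ℕ}
  (hn : ringKrullDim (A ⧸ P.map (algebraMap V A)) = n)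
include H hn

theorem hasPD_of_tf (M : Type u) [AddCommGroup M] [Module A M] [Module.Finite A M] (hM : TF V A M) :
    HasProjectiveDimensionLE (ModuleCat.of A M) n :=
  hasPD_of_quot H n M hM (CAlg1.hasPD_of_regular _ hn _)

theorem hasPD_of_fp (M : Type u) [AddCommGroup M] [Module A M] [Module.FinitePresentation A M] :
    HasProjectiveDimensionLE (ModuleCat.of A M) (n + 1) := by
  obtain ⟨r, q, hq⟩ := Module.Finite.exists_fin' A M
  haveI : Module.Finite A (LinearMap.ker q) :=
    Module.Finite.iff_fg.2 (Module.FinitePresentation.fg_ker q hq)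
  rw [EGA4H10.hasPD_succ_iff (LinearMap.ker q).subtype q (Submodule.injective_subtype _)
    (LinearMap.exact_subtype_ker_map q) hq]
  exact hasPD_of_tf H hn _ ((TF.pi H.tf).submodule _)

theorem hasPD_of_reflexive (M : Type u) [AddCommGroup M] [Module A M] [Module.FinitePresentation A M]
    [Module.IsReflexive A M] : HasProjectiveDimensionLE (ModuleCat.of A M) (n - 1) := by
  -- the dual is finitely presented
  obtain ⟨r, q, hq⟩ := Module.Finite.exists_fin' A M
  obtain ⟨s, t, ht⟩ : ∃ (s : ℕ) (t : (Fin s → A) →ₗ[A] (Fin r → A)), LinearMap.range t = LinearMap.ker q := by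
    obtain ⟨s, g, hg⟩ := Submodule.fg_iff_exists_fin_generating_family.1
      (Module.FinitePresentation.fg_ker q hq)
    exact ⟨s, Fintype.linearCombination A g, (Fintype.range_linearCombination A g).trans hg⟩
  have hTFdual : ∀ m : ℕ, TF V A (Module.Dual A (Fin m → A)) := fun m v f hv hf =>
    LinearMap.ext fun x => H.tf v (f x) hv (LinearMap.congr_fun hf x)
  haveI : Module.Finite A (Module.Dual A M) := by
    haveI : Module.Finite A (LinearMap.range t.dualMap) := inferInstance
    haveI := H.fp _ ((hTFdual s).submodule (LinearMap.range t.dualMap))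
    haveI := H.fp _ (hTFdual r)
    let T : Module.Dual A (Fin r → A) →ₗ[A] ↥(LinearMap.range t.dualMap) := t.dualMap.rangeRestrict
    have hT : Function.Surjective T := LinearMap.surjective_rangeRestrict _
    have hfg : (LinearMap.ker t.dualMap.rangeRestrict).FG :=
      Module.FinitePresentation.fg_ker (R := A) (M := Module.Dual A (Fin r → A))
        (N := ↥(LinearMap.range t.dualMap)) T hT
    rw [LinearMap.ker_rangeRestrict] at hfg
    haveI : Module.Finite A (LinearMap.ker t.dualMap) := Module.Finite.iff_fg.2 hfg
    let e : Module.Dual A M →ₗ[A] LinearMap.ker t.dualMap :=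
      q.dualMap.codRestrict _ fun f => LinearMap.ext fun x => by
        have : q (t x) = 0 := LinearMap.mem_ker.1 (ht ▸ LinearMap.mem_range_self t x)
        simp [this]
    have he : Function.Bijective e := by
      refine ⟨fun f g h => LinearMap.dualMap_injective_of_surjective hq (congrArg Subtype.val h), fun f => ?_⟩
      have hle : LinearMap.ker q ≤ LinearMap.ker (f.1 : (Fin r → A) →ₗ[A] A) := by
        rw [← ht]
        rintro _ ⟨x, rfl⟩
        exact LinearMap.congr_fun (LinearMap.mem_ker.1 f.2) x
      refine ⟨(LinearMap.ker q).liftQ f.1 hle ∘ₗ (q.quotKerEquivOfSurjective hq).symm.toLinearMap,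
        Subtype.ext (LinearMap.ext fun x => ?_)⟩
      have h1 : (q.quotKerEquivOfSurjective hq).symm (q x) = Submodule.Quotient.mk x := by
        rw [LinearEquiv.symm_apply_eq]; rfl
      change (LinearMap.ker q).liftQ f.1 hle ((q.quotKerEquivOfSurjective hq).symm (q x)) = f.1 x
      rw [h1, Submodule.liftQ_apply]
    exact Module.Finite.equiv (LinearEquiv.ofBijective e he).symm
  have hTFM' : TF V A (Module.Dual A M) := fun v f hv hf =>
    LinearMap.ext fun x => H.tf v (f x) hv (LinearMap.congr_fun hf x)
  haveI := H.fp _ hTFM'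
  obtain ⟨a, p, hp⟩ := Module.Finite.exists_fin' A (Module.Dual A M)
  obtain ⟨b, j, hj⟩ : ∃ (b : ℕ) (j : (Fin b → A) →ₗ[A] (Fin a → A)), LinearMap.range j = LinearMap.ker p := by
    obtain ⟨b, g, hg⟩ := Submodule.fg_iff_exists_fin_generating_family.1
      (Module.FinitePresentation.fg_ker p hp)
    exact ⟨b, Fintype.linearCombination A g, (Fintype.range_linearCombination A g).trans hg⟩
  let i : M →ₗ[A] Module.Dual A (Fin a → A) := p.dualMap ∘ₗ Module.Dual.eval A M
  have hi : Function.Injective i :=
    (LinearMap.dualMap_injective_of_surjective hp).comp (Module.bijective_dual_eval A M).1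
  have hex : Function.Exact i j.dualMap.rangeRestrict := by
    intro f
    constructor
    · intro hf
      have hf' : j.dualMap f = 0 := congrArg Subtype.val hf
      have hle : LinearMap.ker p ≤ LinearMap.ker f := by
        rw [← hj]
        rintro _ ⟨x, rfl⟩
        exact LinearMap.congr_fun hf' x
      obtain ⟨m, hm⟩ := (Module.bijective_dual_eval A M).2
        ((LinearMap.ker p).liftQ f hle ∘ₗ (p.quotKerEquivOfSurjective hp).symm.toLinearMap)
      refine ⟨m, LinearMap.ext fun x => ?_⟩
      have h1 : (p.quotKerEquivOfSurjective hp).symm (p x) = Submodule.Quotient.mk x := by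
        rw [LinearEquiv.symm_apply_eq]; rfl
      change Module.Dual.eval A M m (p x) = f x
      rw [hm, LinearMap.comp_apply, LinearEquiv.coe_coe, h1, Submodule.liftQ_apply]
    · rintro ⟨m, rfl⟩
      refine Subtype.ext (LinearMap.ext fun x => ?_)
      have : p (j x) = 0 := LinearMap.mem_ker.1 (hj ▸ LinearMap.mem_range_self j x)
      simp [i, this]
  have hC : HasProjectiveDimensionLE (ModuleCat.of A
      (Module.Dual A (Fin b → A) ⧸ LinearMap.range j.dualMap)) (n + 1) := by
    haveI : Module.FinitePresentation A (Module.Dual A (Fin b → A) ⧸ LinearMap.range j.dualMap) :=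
      Module.finitePresentation_of_free_of_surjective (Submodule.mkQ _) (Submodule.mkQ_surjective _)
        (by rw [Submodule.ker_mkQ]; exact Module.Finite.iff_fg.1 inferInstance)
    exact hasPD_of_fp H hn _
  have hR : HasProjectiveDimensionLE (ModuleCat.of A (LinearMap.range j.dualMap)) n :=
    (EGA4H10.hasPD_succ_iff (LinearMap.range j.dualMap).subtype (Submodule.mkQ _)
      (Submodule.injective_subtype _) (LinearMap.exact_subtype_mkQ _) (Submodule.mkQ_surjective _) n).1 hC
  have hR' : HasProjectiveDimensionLE (ModuleCat.of A (LinearMap.range j.dualMap)) (n - 1 + 1) := by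
    haveI := hR
    exact hasProjectiveDimensionLT_of_ge _ (n + 1) _ (by omega)
  exact (EGA4H10.hasPD_succ_iff i j.dualMap.rangeRestrict hi hex
    (LinearMap.surjective_rangeRestrict _) (n - 1)).1 hR'

omit H hn

section Instance

variable (V : Type u) [CommRing V] [IsDomain V] [ValuationRing V]
  (B : Type u) [CommRing B] [Algebra V B] [Module.Flat V B] [Algebra.FinitePresentation V B]
  (q : Ideal B) [q.IsPrime]

theorem hyp_atPrime : Hyp V (Localization.AtPrime q) (Ideal.comap (algebraMap V B) q) := by
  set p := Ideal.comap (algebraMap V B) q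
  haveI : Module.Flat B (Localization.AtPrime q) := IsLocalization.flat _ q.primeCompl
  haveI : Module.Flat V (Localization.AtPrime q) := Module.Flat.trans V B _
  refine ⟨fun v a hv h => ?_, ?_, fun M _ _ _ hM => ?_⟩
  · rw [algebraMap_smul] at h
    exact (smul_eq_zero.1 h).resolve_left hv
  · rw [Ideal.map_le_iff_le_comap]
    intro v hv
    rw [Ideal.mem_comap, IsScalarTower.algebraMap_apply V B (Localization.AtPrime q),
      IsLocalization.AtPrime.to_map_mem_maximal_iff (Localization.AtPrime q) q]
    exact hv
  haveI hp : p.IsPrime := Ideal.IsPrime.comap (algebraMap V B)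
  let V' := Localization.AtPrime p
  have hu : ∀ y : p.primeCompl, IsUnit (algebraMap V (Localization.AtPrime q) y) := fun y => by
    rw [IsScalarTower.algebraMap_apply V B (Localization.AtPrime q)]
    exact IsLocalization.map_units (Localization.AtPrime q) ⟨algebraMap V B y, show algebraMap V B y ∈ q.primeCompl from y.2⟩
  letI : Algebra V' (Localization.AtPrime q) := (IsLocalization.lift hu).toAlgebra
  haveI : IsScalarTower V V' (Localization.AtPrime q) :=
    .of_algebraMap_eq fun v => (IsLocalization.lift_eq hu v).symm
  haveI : IsDomain V' := IsLocalization.isDomain_localization p.primeCompl_le_nonZeroDivisors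
  haveI : ValuationRing V' := (Prufer29.valuationRing_atPrime_iff p).mpr fun a b => by
    rcases ValuationRing.dvd_total b a with ⟨c, hc⟩ | ⟨c, hc⟩
    · exact ⟨c, 1, hp.one_notMem, .inl (by rw [hc, one_mul, mul_comm])⟩
    · exact ⟨c, 1, hp.one_notMem, .inr (by rw [hc, one_mul, mul_comm])⟩
  haveI : IsLocalHom (algebraMap V' (Localization.AtPrime q)) := ⟨fun x hx => by
    obtain ⟨⟨v, s⟩, hvs⟩ := IsLocalization.surj p.primeCompl x
    have h1 := congrArg (algebraMap V' (Localization.AtPrime q)) hvs
    rw [map_mul, ← IsScalarTower.algebraMap_apply, ← IsScalarTower.algebraMap_apply] at h1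
    have h2 : IsUnit (algebraMap V (Localization.AtPrime q) v) := h1 ▸ hx.mul (hu s)
    rw [IsScalarTower.algebraMap_apply V B (Localization.AtPrime q),
      IsLocalization.AtPrime.isUnit_to_map_iff (Localization.AtPrime q) q] at h2
    have h3 : IsUnit (algebraMap V V' v) := IsLocalization.map_units V' (⟨v, show v ∈ p.primeCompl from h2⟩ : p.primeCompl)
    rw [← hvs] at h3
    exact isUnit_of_mul_isUnit_left h3⟩
  haveI : Algebra.EssFiniteType V (Localization.AtPrime q) := Algebra.EssFiniteType.comp V B _
  haveI : Algebra.EssFiniteType V' (Localization.AtPrime q) := Algebra.EssFiniteType.of_comp V V' _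
  letI : Module V' M := Module.compHom M (algebraMap V' (Localization.AtPrime q))
  haveI : IsScalarTower V' (Localization.AtPrime q) M := IsScalarTower.of_algebraMap_smul fun _ _ => rfl
  haveI : Module.Flat V' M := by
    rw [Module.Flat.flat_iff_torsion_eq_bot_of_isBezout, eq_bot_iff]
    rintro m ⟨⟨x, hx⟩, hm⟩
    obtain ⟨⟨v, s⟩, hvs⟩ := IsLocalization.surj p.primeCompl x
    have hv : v ≠ 0 := by
      rintro rfl
      rw [map_zero] at hvs
      exact nonZeroDivisors.ne_zero hx ((IsLocalization.map_units V' s).mul_left_eq_zero.1 hvs)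
    refine (Submodule.mem_bot _).2 (hM v m hv ?_)
    have h1 : algebraMap V' (Localization.AtPrime q) x • m = 0 := hm
    rw [IsScalarTower.algebraMap_apply V V' (Localization.AtPrime q), ← hvs, map_mul, mul_comm, mul_smul, h1,
      smul_zero]
  exact Groth.Agent.S2049.result (A := V')

end Instance

end Groth.Agent.CAlg6.FibrePD
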