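import Mathlib
import Groth.Agent.S2089
import Groth.Agent.EGA4Alg4.Depth
import Groth.Agent.EGA4Alg4.IntegralDim
import Groth.Agent.EGA4H10.CompleteJ2
import Groth.Agent.CAlg1.Regular
import Groth.Agent.Cohen12.Structure

/-!
The minimal primes of a Noetherian local ring flat over a complete local domain of dimension at
least two have coheight at least two.
-/

set_option autoImplicit false

universe u

namespace Groth.Agent.CAlg6.FlatC2

open IsLocalRing RingTheory.Sequence TensorProduct
open scoped Pointwise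

/-- The dual of an algebra as a module over the algebra. -/
def DualMod (R D : Type u) [CommRing R] [CommRing D] [Algebra R D] : Type u := D →ₗ[R] R

variable (R D : Type u) [CommRing R] [CommRing D] [Algebra R D]

noncomputable instance : AddCommGroup (DualMod R D) := inferInstanceAs (AddCommGroup (D →ₗ[R] R))
noncomputable instance : Module R (DualMod R D) := inferInstanceAs (Module R (D →ₗ[R] R))

noncomputable instance : Module D (DualMod R D) where
  smul d φ := (LinearMap.comp φ (LinearMap.mulLeft R d) : D →ₗ[R] R)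
  one_smul φ := LinearMap.ext fun e => congrArg (show D →ₗ[R] R from φ) (one_mul e)
  mul_smul d d' φ := LinearMap.ext fun e =>
    congrArg (show D →ₗ[R] R from φ) (show d * d' * e = d' * (d * e) by ring)
  smul_zero _ := rfl
  zero_smul φ := LinearMap.ext fun e => by
    change (show D →ₗ[R] R from φ) (0 * e) = 0
    rw [zero_mul, map_zero]
  smul_add _ _ _ := rfl
  add_smul d d' φ := LinearMap.ext fun e => by
    change (show D →ₗ[R] R from φ) ((d + d') * e) = (show D →ₗ[R] R from φ) (d * e) +
      (show D →ₗ[R] R from φ) (d' * e)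
    rw [add_mul, map_add]

instance : IsScalarTower R D (DualMod R D) := ⟨fun r d φ => LinearMap.ext fun e => by
  change (show D →ₗ[R] R from φ) ((r • d) * e) = r • (show D →ₗ[R] R from φ) (d * e)
  rw [smul_mul_assoc, map_smul]⟩

theorem finite_dual [IsNoetherianRing R] [Module.Finite R D] : Module.Finite D (DualMod R D) := by
  haveI : Module.Finite R (D →ₗ[R] R) := inferInstance
  haveI : Module.Finite R (DualMod R D) := this
  exact Module.Finite.of_restrictScalars_finite R D _

theorem exists_faithful [IsDomain R] [IsDomain D] [IsNoetherianRing R] [Module.Finite R D]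
    (hinj : Function.Injective (algebraMap R D)) :
    ∃ φ : DualMod R D, ∀ d : D, d • φ = 0 → d = 0 := by
  classical
  let K := FractionRing R
  have h1 : Function.Injective ((Algebra.linearMap R D).lTensor K) :=
    Module.Flat.lTensor_preserves_injective_linearMap _ hinj
  have h2 : (1 : K) ⊗ₜ[R] (1 : D) ≠ 0 := fun h => by
    have h3 : (1 : K) ⊗ₜ[R] (1 : R) = 0 := h1 (by simpa using h)
    simpa using congrArg (TensorProduct.rid R K) h3
  obtain ⟨ψ, hψ⟩ := Module.Projective.exists_dual_ne_zero K h2
  let φ₀ : D →ₗ[R] K := ψ.restrictScalars R ∘ₗ TensorProduct.mk R K D 1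
  obtain ⟨n, g, hg⟩ := Module.Finite.exists_fin (R := R) (M := D)
  obtain ⟨⟨b, hb⟩, hbg⟩ := IsLocalization.exist_integer_multiples (nonZeroDivisors R)
    (Finset.univ : Finset (Fin n)) (fun i => φ₀ (g i))
  have h4 : ∀ d : D, ∃ t : R, algebraMap R K t = b • φ₀ d := by
    intro d
    have hd : d ∈ Submodule.span R (Set.range g) := hg ▸ Submodule.mem_top
    induction hd using Submodule.span_induction with
    | mem x hx =>
      obtain ⟨i, rfl⟩ := hx
      obtain ⟨t, ht⟩ := hbg i (Finset.mem_univ i)
      exact ⟨t, ht⟩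
    | zero => exact ⟨0, by simp⟩
    | add x y _ _ hx hy =>
      obtain ⟨s, hs⟩ := hx
      obtain ⟨t, ht⟩ := hy
      exact ⟨s + t, by rw [map_add, hs, ht, map_add, smul_add]⟩
    | smul c x _ hx =>
      obtain ⟨s, hs⟩ := hx
      exact ⟨c * s, by rw [map_smul, smul_comm, ← hs, Algebra.smul_def, map_mul]⟩
  choose t ht using h4
  have htinj := IsFractionRing.injective R K
  let φ : D →ₗ[R] R :=
    { toFun := t
      map_add' := fun a c => htinj (by rw [map_add, ht, ht, ht, map_add, smul_add])
      map_smul' := fun r a => htinj (by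
        rw [ht, map_smul, smul_comm, ← ht, RingHom.id_apply, smul_eq_mul, map_mul, Algebra.smul_def]) }
  have hφ1 : φ 1 ≠ 0 := fun h => by
    have h5 : algebraMap R K (t 1) = b • φ₀ 1 := ht 1
    rw [show t 1 = 0 from h, map_zero, Algebra.smul_def, zero_eq_mul] at h5
    rcases h5 with h5 | h5
    · exact nonZeroDivisors.ne_zero hb (htinj (h5.trans (map_zero _).symm))
    · exact hψ h5
  refine ⟨φ, fun d hd => ?_⟩
  by_contra hd0
  haveI : Algebra.IsIntegral R D := Algebra.IsIntegral.of_finite R D
  obtain ⟨c, hc, hc0⟩ := Submodule.exists_mem_ne_zero_of_ne_bot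
    (show (Ideal.span {d}).comap (algebraMap R D) ≠ ⊥ from fun h =>
      hd0 (Ideal.span_singleton_eq_bot.1 (Ideal.eq_bot_of_comap_eq_bot h)))
  obtain ⟨e, he⟩ := Ideal.mem_span_singleton'.1 hc
  have h6 : φ (d * e) = 0 := LinearMap.congr_fun (show φ ∘ₗ LinearMap.mulLeft R d = 0 from hd) e
  rw [mul_comm, he, Algebra.algebraMap_eq_smul_one, map_smul, smul_eq_mul] at h6
  exact hφ1 ((mul_eq_zero.1 h6).resolve_left hc0)

theorem isWeaklyRegular_dual [IsDomain R] {x y : R} (h : IsWeaklyRegular R [x, y]) :
    IsWeaklyRegular (DualMod R D) [x, y] := by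
  rw [isWeaklyRegular_cons_iff, isWeaklyRegular_cons_iff] at h ⊢
  obtain ⟨hx, hy, -⟩ := h
  refine ⟨fun φ ψ h => LinearMap.ext fun e => hx (LinearMap.congr_fun h e), ?_,
    IsWeaklyRegular.nil _ _⟩
  intro a b hab
  induction a using Submodule.Quotient.induction_on with
  | H φ =>
    induction b using Submodule.Quotient.induction_on with
    | H ψ =>
      simp only [← Submodule.Quotient.mk_smul, Submodule.Quotient.eq, ← smul_sub] at hab ⊢
      obtain ⟨χ, -, hχ⟩ := hab
      have h1 : ∀ e, ∃ t : R, x * t = (show D →ₗ[R] R from φ - ψ) e := by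
        intro e
        have h2 : x * (show D →ₗ[R] R from χ) e = y * (show D →ₗ[R] R from φ - ψ) e :=
          LinearMap.congr_fun hχ e
        have h3 : y • (Submodule.Quotient.mk ((show D →ₗ[R] R from φ - ψ) e) : QuotSMulTop x R) =
            y • 0 := by
          rw [smul_zero, ← Submodule.Quotient.mk_smul, Submodule.Quotient.mk_eq_zero]
          exact ⟨(show D →ₗ[R] R from χ) e, trivial, h2⟩
        obtain ⟨t, -, ht⟩ := (Submodule.Quotient.mk_eq_zero _).1 (hy h3)
        exact ⟨t, ht⟩
      choose t ht using h1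
      refine ⟨({ toFun := t
                 map_add' := fun a b => hx (by
                  show x * _ = x * _
                  rw [ht, mul_add, ht, ht, map_add])
                 map_smul' := fun r a => hx (by
                  show x * _ = x * _
                  rw [ht, map_smul, RingHom.id_apply, smul_eq_mul, smul_eq_mul, ← ht]
                  ring) } : D →ₗ[R] R), trivial, LinearMap.ext fun e => ht e⟩

theorem two_le_coheight {D S : Type u} [CommRing D] [IsDomain D] [IsLocalRing D] [IsNoetherianRing D]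
    [IsAdicComplete (maximalIdeal D) D] [CommRing S] [IsLocalRing S] [IsNoetherianRing S]
    [Algebra D S] [Module.Flat D S] [IsLocalHom (algebraMap D S)]
    (hdim : (2 : WithBot ℕ∞) ≤ ringKrullDim D) (Q : Ideal S) (hQ : Q ∈ minimalPrimes S) :
    (2 : WithBot ℕ∞) ≤ ringKrullDim (S ⧸ Q) := by
  obtain ⟨R, _, _, _, _, hfin, hinj, -⟩ := EGA4H10.exists_finite_regular D
  haveI : Algebra.IsIntegral R D := Algebra.IsIntegral.of_finite R D
  have hdR : ringKrullDim R = ringKrullDim D :=
    (EGA4Alg4.ringKrullDim_eq_of_integral R D hinj).symm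
  obtain ⟨l, hlen, hl⟩ : ∃ l : List R, l.length = (maximalIdeal R).spanFinrank ∧
      Ideal.ofList l = maximalIdeal R := by
    classical
    obtain ⟨t, ht, hts⟩ := Submodule.FG.exists_span_finset_card_eq_spanFinrank
      (IsNoetherian.noetherian (maximalIdeal R))
    exact ⟨t.toList, by rw [Finset.length_toList, ht], by simp [Ideal.ofList, ← hts]⟩
  have h2 : 2 ≤ l.length := by
    rw [← hdR, ← IsRegularLocalRing.spanFinrank_maximalIdeal (R := R)] at hdim
    rw [hlen]
    exact_mod_cast hdim
  obtain ⟨x, y, l', rfl⟩ : ∃ x y l', l = x :: y :: l' := by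
    match l, h2 with
    | [], h => simp at h
    | [_], h => simp at h
    | x :: y :: l', _ => exact ⟨x, y, l', rfl⟩
  have hxy : IsWeaklyRegular R [x, y] :=
    EGA4Alg4.isWeaklyRegular_take (CAlg1.isWeaklyRegular_params R _ hl hlen) 2
  have hmem : ∀ r ∈ [x, y], r ∈ maximalIdeal R := fun r hr => hl ▸ Ideal.subset_span (by
    simp only [Set.mem_setOf_eq, List.mem_cons] at hr ⊢
    tauto)
  haveI := finite_dual R D
  obtain ⟨φ, hφ⟩ := exists_faithful R D hinj
  let N := DualMod R D
  let M := S ⊗[D] N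
  have hreg : IsWeaklyRegular M (([x, y].map (algebraMap R D)).map (algebraMap D S)) :=
    IsWeaklyRegular.of_flat_of_isBaseChange (TensorProduct.isBaseChange D N S)
      ((isWeaklyRegular_map_algebraMap_iff D N [x, y]).2 (isWeaklyRegular_dual R D hxy))
  have hmemS : ∀ r ∈ ([x, y].map (algebraMap R D)).map (algebraMap D S), r ∈ maximalIdeal S := by
    intro r hr
    simp only [List.mem_map] at hr
    obtain ⟨d, ⟨r, hr, rfl⟩, rfl⟩ := hr
    haveI : IsLocalHom (algebraMap R D) := RingHom.IsIntegral.isLocalHom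
      Algebra.IsIntegral.isIntegral hinj
    have h1 : algebraMap R D r ∈ maximalIdeal D := fun h => hmem r hr (isUnit_of_map_unit _ _ h)
    exact fun h => h1 (isUnit_of_map_unit _ _ h)
  let g : S →ₗ[S] M := LinearMap.toSpanSingleton S M (1 ⊗ₜ φ)
  have hg : Function.Injective g := by
    have h1 : Function.Injective ((LinearMap.toSpanSingleton D N φ).lTensor S) :=
      Module.Flat.lTensor_preserves_injective_linearMap _ (by
        rw [← LinearMap.ker_eq_bot, LinearMap.ker_eq_bot']
        exact hφ)
    intro a b hab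
    have h2 : a ⊗ₜ[D] (1 : D) = b ⊗ₜ[D] (1 : D) := h1 (by
      simp only [LinearMap.lTensor_tmul, LinearMap.toSpanSingleton_apply, one_smul]
      have h5 : a • ((1 : S) ⊗ₜ[D] φ) = b • ((1 : S) ⊗ₜ[D] φ) := hab
      rw [TensorProduct.smul_tmul', TensorProduct.smul_tmul', smul_eq_mul, smul_eq_mul, mul_one, mul_one] at h5
      exact h5)
    simpa using congrArg (TensorProduct.rid D S) h2
  have hQass : Q ∈ associatedPrimes S M := by
    refine associatedPrimes.subset_of_injective hg ?_
    refine Module.associatedPrimes.minimalPrimes_annihilator_subset_associatedPrimes S S ?_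
    have : Module.annihilator S S = ⊥ := by
      rw [eq_bot_iff]
      intro a ha
      simpa using Module.mem_annihilator.1 ha (1 : S)
    rw [this]
    exact hQ
  haveI : Nontrivial M := nontrivial_of_ne _ 0 fun h =>
    one_ne_zero (hg ((LinearMap.toSpanSingleton_apply_one S M _).trans (h.trans (map_zero g).symm)))
  have h3 := EGA4Alg4.length_le_depth (A := S) (M := M) hreg hmemS
  have h4 := Groth.Agent.S2089.result (M := M) Q hQass
  refine le_trans ?_ h4
  simp only [List.length_map, List.length_cons, List.length_nil, zero_add] at h3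
  norm_num at h3
  exact WithBot.coe_le_coe.2 h3

theorem two_le_coheight_of_flat {A B : Type u} [CommRing A] [IsLocalRing A] [IsNoetherianRing A]
    [IsAdicComplete (maximalIdeal A) A] [CommRing B] [IsLocalRing B] [IsNoetherianRing B]
    [Algebra A B] [Module.Flat A B] [IsLocalHom (algebraMap A B)]
    (hA : ∀ q ∈ minimalPrimes A, (2 : WithBot ℕ∞) ≤ ringKrullDim (A ⧸ q))
    (Q : Ideal B) (hQ : Q ∈ minimalPrimes B) : (2 : WithBot ℕ∞) ≤ ringKrullDim (B ⧸ Q) := by
  haveI := hQ.1.1
  obtain ⟨q, hq, hqQ⟩ := Ideal.exists_minimalPrimes_le (bot_le : (⊥ : Ideal A) ≤ Q.under A)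
  haveI := hq.1.1
  obtain ⟨Q', hQ'le, hQ'p, hQ'over⟩ := Ideal.exists_ideal_le_liesOver_of_le (q := Q.under A) Q hqQ
  have hQQ : Q' = Q := le_antisymm hQ'le (hQ.2 ⟨hQ'p, bot_le⟩ hQ'le)
  have hqmap : q.map (algebraMap A B) ≤ Q := by
    rw [← hQQ, Ideal.map_le_iff_le_comap]
    exact le_of_eq hQ'over.over
  haveI : IsLocalRing (A ⧸ q) :=
    IsLocalRing.of_surjective' (Ideal.Quotient.mk q) Ideal.Quotient.mk_surjective
  haveI := Cohen12.isAdicComplete_quotient q
  set J := q.map (algebraMap A B)
  haveI : Nontrivial (B ⧸ J) :=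
    Ideal.Quotient.nontrivial_iff.2 fun h => hQ.1.1.ne_top (top_le_iff.1 (h ▸ hqmap))
  haveI : IsLocalRing (B ⧸ J) :=
    IsLocalRing.of_surjective' (Ideal.Quotient.mk J) Ideal.Quotient.mk_surjective
  haveI : Module.Flat (A ⧸ q) (B ⧸ J) := by
    let e : ((A ⧸ q) ⊗[A] B) ≃ₗ[A] B ⧸ J :=
      (TensorProduct.comm A (A ⧸ q) B) ≪≫ₗ
        ((Algebra.TensorProduct.quotIdealMapEquivTensorQuot B q).symm.toLinearEquiv.restrictScalars A)
    exact Module.Flat.of_linearEquiv
      (e.symm.extendScalarsOfSurjective (R := A) (S := A ⧸ q) Ideal.Quotient.mk_surjective)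
  haveI : IsLocalHom (algebraMap (A ⧸ q) (B ⧸ J)) := ⟨fun x hx => by
    obtain ⟨a, rfl⟩ := Ideal.Quotient.mk_surjective x
    haveI : IsLocalHom (Ideal.Quotient.mk J) :=
      IsLocalHom.of_surjective _ Ideal.Quotient.mk_surjective
    exact ((isUnit_of_map_unit (algebraMap A B) a
      (isUnit_of_map_unit (Ideal.Quotient.mk J) _ hx))).map _⟩
  have hQm : Q.map (Ideal.Quotient.mk J) ∈ minimalPrimes (B ⧸ J) := by
    have hker : RingHom.ker (Ideal.Quotient.mk J) ≤ Q := by rwa [Ideal.mk_ker]
    refine ⟨⟨Ideal.map_isPrime_of_surjective Ideal.Quotient.mk_surjective hker, bot_le⟩, ?_⟩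
    rintro P ⟨hP, -⟩ hle
    haveI := hP
    have h1 : P.comap (Ideal.Quotient.mk J) ≤ Q := by
      refine (Ideal.comap_mono hle).trans_eq ?_
      rw [Ideal.comap_map_of_surjective _ Ideal.Quotient.mk_surjective, sup_eq_left]
      exact hker
    have h2 : Q ≤ P.comap (Ideal.Quotient.mk J) := hQ.2 ⟨Ideal.IsPrime.comap _, bot_le⟩ h1
    exact Ideal.map_le_iff_le_comap.2 h2
  have h := two_le_coheight (D := A ⧸ q) (S := B ⧸ J) (hA q hq) _ hQm
  rwa [ringKrullDim_eq_of_ringEquiv ((DoubleQuot.quotQuotEquivQuotSup J Q).trans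
    (Ideal.quotEquivOfEq (sup_eq_right.2 hqmap)))] at h

end Groth.Agent.CAlg6.FlatC2
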