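import Mathlib
import Groth.Prelude.Def_FlatMod2
import Groth.Prelude.Def_Pi1
import Groth.Agent.CAlg4.ReducedCurve
import Groth.Agent.Div89.Reflexive
import Groth.Agent.FlatMor68.FlatFiniteRank
import Groth.Agent.Om3.Chart

set_option autoImplicit false
universe u
open CategoryTheory AlgebraicGeometry TopologicalSpace Opposite
open scoped TensorProduct

namespace Groth.Agent.CAlg6.FlatHartogs

section Alg
variable {R : Type u} [CommRing R] [IsNoetherianRing R]
  (hnor : ∀ (p : Ideal R) [p.IsPrime], IsDomain (Localization.AtPrime p) ∧ IsIntegrallyClosed (Localization.AtPrime p))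
  {ι : Type u} [Fintype ι] (f : ι → R) (hf : ∀ p : Ideal R, p.IsPrime → p.height ≤ 1 → ∃ i, f i ∉ p)

noncomputable def d₀ (n : ℕ) : R →ₗ[R] ι → R := LinearMap.pi fun i => LinearMap.lsmul R R (f i ^ n)

noncomputable def d₁ (n : ℕ) : (ι → R) →ₗ[R] ι × ι → R :=
  LinearMap.pi fun ij => f ij.2 ^ n • LinearMap.proj ij.1 - f ij.1 ^ n • LinearMap.proj ij.2

include hnor hf in
lemma exists_ne_zero (p : Ideal R) [p.IsPrime] : ∃ i, algebraMap R (Localization.AtPrime p) (f i) ≠ 0 := by
  obtain ⟨hd, -⟩ := hnor p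
  let q : Ideal R := (⊥ : Ideal (Localization.AtPrime p)).comap (algebraMap R (Localization.AtPrime p))
  have : q.IsPrime := Ideal.isPrime_bot.comap _
  have hq : q.height = 0 := by
    show (Ideal.under R (⊥ : Ideal (Localization.AtPrime p))).height = 0
    rw [IsLocalization.height_under p.primeCompl]; exact Ideal.height_bot
  obtain ⟨i, hi⟩ := hf q inferInstance (by rw [hq]; exact zero_le_one)
  exact ⟨i, fun h => hi (by simpa [q] using h)⟩

include hnor hf in
lemma exact_d (n : ℕ) : Function.Exact (d₀ f n) (d₁ f n) := by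
  classical
  intro m
  refine ⟨fun hm => ?_, ?_⟩
  swap
  · rintro ⟨a, rfl⟩
    funext ij
    simp only [d₁, d₀, LinearMap.pi_apply, LinearMap.sub_apply, LinearMap.smul_apply, LinearMap.proj_apply,
      LinearMap.lsmul_apply, smul_eq_mul, Pi.zero_apply]
    ring
  have hcomp : ∀ i j, f j ^ n * m i = f i ^ n * m j := fun i j => by
    have := congrFun hm (i, j)
    simpa [d₁, sub_eq_zero] using this
  let I : Ideal R := (LinearMap.range (d₀ f n)).comap (LinearMap.toSpanSingleton R (ι → R) m)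
  suffices hI : I = ⊤ by
    have h1 := (Ideal.eq_top_iff_one I).1 hI
    simp only [I, Submodule.mem_comap, LinearMap.toSpanSingleton_apply, one_smul] at h1
    exact h1
  by_contra hI
  obtain ⟨p, hp, hle⟩ := Ideal.exists_le_maximal I hI
  haveI := hp.isPrime
  obtain ⟨hdom, hic⟩ := hnor p
  haveI := hdom; haveI := hic
  let L := Localization.AtPrime p
  let φ := algebraMap R L
  haveI : IsNoetherianRing L := IsLocalization.isNoetherianRing p.primeCompl _ inferInstance
  obtain ⟨i, hi⟩ := exists_ne_zero hnor f hf p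
  have hi' : φ (f i) ^ n ≠ 0 := pow_ne_zero n hi
  obtain ⟨c, hc⟩ := CAlg4.ReducedCurve.dvd_of_forall_height_one (φ (f i) ^ n) (φ (m i)) hi' fun q _ hq _ => by
    haveI : (q.comap φ).IsPrime := Ideal.IsPrime.comap φ
    obtain ⟨j, hj⟩ := hf (q.comap φ) inferInstance (by
      show (Ideal.under R q).height ≤ 1
      rw [IsLocalization.height_under p.primeCompl, hq])
    have hu : IsUnit (algebraMap L (Localization.AtPrime q) (φ (f j)) ^ n) :=
      (IsLocalization.map_units _ (⟨φ (f j), hj⟩ : q.primeCompl)).pow n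
    refine hu.dvd_mul_left.1 ⟨algebraMap L (Localization.AtPrime q) (φ (m j)), ?_⟩
    simp only [← map_pow, ← map_mul, hcomp i j]
  obtain ⟨r, s, rfl⟩ := IsLocalization.exists_mk'_eq p.primeCompl c
  have hall : ∀ j, φ (f j ^ n * r) = φ (↑s * m j) := fun j => by
    refine mul_left_cancel₀ hi' ?_
    calc φ (f i) ^ n * φ (f j ^ n * r)
        = φ (f j ^ n) * ((φ (f i) ^ n) * IsLocalization.mk' L r s * φ s) := by
          rw [mul_assoc _ (IsLocalization.mk' L r s), IsLocalization.mk'_spec, map_mul]; ring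
      _ = φ s * φ (f j ^ n * m i) := by rw [← hc, map_mul φ (f j ^ n) (m i)]; ring
      _ = φ (f i) ^ n * φ (↑s * m j) := by rw [hcomp, map_mul, map_mul, map_pow]; ring
  choose t ht using fun j => (IsLocalization.eq_iff_exists p.primeCompl L).1 (hall j)
  have hmem : (∏ j, (t j : R)) * s ∈ I := by
    simp only [I, Submodule.mem_comap, LinearMap.toSpanSingleton_apply, LinearMap.mem_range]
    refine ⟨(∏ j, (t j : R)) * r, funext fun j => ?_⟩
    simp only [d₀, LinearMap.pi_apply, LinearMap.lsmul_apply, smul_eq_mul, Pi.smul_apply]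
    rw [← Finset.mul_prod_erase Finset.univ (fun k => (t k : R)) (Finset.mem_univ j)]
    calc _ = (∏ x ∈ Finset.univ.erase j, (t x : R)) * ((t j : R) * (f j ^ n * r)) := by ring
      _ = _ := by rw [ht j]; ring
  rcases (hp.isPrime.mem_or_mem (hle hmem)) with h | h
  · obtain ⟨j, -, hj⟩ := (hp.isPrime.prod_mem_iff).1 h
    exact (t j).2 hj
  · exact s.2 h

include hnor hf in
lemma injective_d₀ (n : ℕ) : Function.Injective (d₀ f n) := by
  classical
  rw [injective_iff_map_eq_zero]
  intro a ha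
  let I : Ideal R := LinearMap.ker (LinearMap.toSpanSingleton R R a)
  suffices hI : I = ⊤ by
    have := (Ideal.eq_top_iff_one I).1 hI
    simpa [I] using this
  by_contra hI
  obtain ⟨p, hp, hle⟩ := Ideal.exists_le_maximal I hI
  haveI := hp.isPrime
  haveI := (hnor p).1
  obtain ⟨i, hi⟩ := exists_ne_zero hnor f hf p
  have h1 : f i ^ n * a = 0 := congrFun ha i
  have h2 : algebraMap R (Localization.AtPrime p) a = 0 := by
    have := congrArg (algebraMap R (Localization.AtPrime p)) h1
    rw [map_mul, map_pow, map_zero, mul_eq_zero] at this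
    exact this.resolve_left (pow_ne_zero n hi)
  obtain ⟨t, ht⟩ := (IsLocalization.map_eq_zero_iff p.primeCompl _ a).1 h2
  exact t.2 (hle (by simpa [I] using ht))

variable {M : Type u} [AddCommGroup M] [Module R M] [Module.Flat R M]

include hnor hf in
theorem module_inj (n : ℕ) (x : M) (h : ∀ i, f i ^ n • x = 0) : x = 0 := by
  classical
  have hinj : Function.Injective ((d₀ f n).rTensor M) :=
    Module.Flat.rTensor_preserves_injective_linearMap _ (injective_d₀ hnor f hf n)
  apply (TensorProduct.lid R M).symm.injective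
  apply hinj
  rw [map_zero, map_zero]
  apply (TensorProduct.piScalarRight R R M ι).injective.comp (TensorProduct.comm R (ι → R) M).injective
  funext i
  simp [d₀, h i]

include hnor hf in
theorem module_surj (n : ℕ) (m : ι → M) (h : ∀ i j, f j ^ n • m i = f i ^ n • m j) : ∃ x : M, ∀ i, f i ^ n • x = m i := by
  classical
  let e := (TensorProduct.comm R (ι → R) M).trans (TensorProduct.piScalarRight R R M ι)
  let e₂ := (TensorProduct.comm R (ι × ι → R) M).trans (TensorProduct.piScalarRight R R M (ι × ι))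
  have hd : ∀ z, e₂ ((d₁ f n).rTensor M z) = fun ij => f ij.2 ^ n • e z ij.1 - f ij.1 ^ n • e z ij.2 := by
    intro z
    induction z using TensorProduct.induction_on with
    | zero => funext ij; simp
    | tmul a b => funext ij; simp [e, e₂, d₁, sub_smul, mul_smul]
    | add u v hu hv => funext ij; simp only [map_add, hu, hv, Pi.add_apply, smul_add]; abel
  obtain ⟨z, hz⟩ := ((Module.Flat.rTensor_exact M (exact_d hnor f hf n)) (e.symm m)).1
    (e₂.injective (by rw [hd, map_zero, LinearEquiv.apply_symm_apply]; funext ij; simp [h]))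
  refine ⟨TensorProduct.lid R M z, fun i => ?_⟩
  rw [← LinearEquiv.apply_symm_apply e m, ← hz]
  clear hz
  induction z using TensorProduct.induction_on with
  | zero => simp
  | tmul a b => simp [e, d₀, mul_smul]
  | add u v hu hv => simp only [map_add, smul_add, hu, hv, Pi.add_apply]

end Alg

section Sch
open Groth.Agent.QC70 Groth.Agent.Div89
variable {S : Scheme.{u}}

theorem res_bijective [IsNoetherian S] (hS : Pi1.IsNormalScheme S) (A : S.Modules) (hA : Coh.IsQCoh A)
    (hAfl : FlatMod.IsFlat A) (U : S.Opens) (hU : ∀ s : S, ringKrullDim (S.presheaf.stalk s) ≤ 1 → s ∈ U)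
    (V : S.affineOpens) : Function.Bijective (res A (inf_le_left : V.1 ⊓ U ≤ V.1)) := by
  classical
  haveI : A.IsQuasicoherent := hA
  have hV : IsAffineOpen V.1 := V.2
  haveI := FlatMor68.FlatFiniteRank.flat_sections_self A hAfl hV
  haveI : IsNoetherianRing Γ(S, V.1) := IsLocallyNoetherian.component_noetherian V
  have hloc := isLocAt_of_isQuasicoherent A hV
  have hb : ∀ x : (V.1 ⊓ U : S.Opens), ∃ g : Γ(S, V.1), (x : S) ∈ S.basicOpen g ∧ S.basicOpen g ≤ V.1 ⊓ U := by
    rintro ⟨x, hx⟩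
    obtain ⟨g, hg, hgx⟩ := hV.exists_basicOpen_le (V := V.1 ⊓ U) ⟨x, hx⟩ hx.1
    exact ⟨g, hgx, hg⟩
  choose g hgx hgle using hb
  obtain ⟨t, ht⟩ := (NoetherianSpace.isCompact ((V.1 ⊓ U : S.Opens) : Set S)).elim_finite_subcover
    (fun x : (V.1 ⊓ U : S.Opens) => (S.basicOpen (g x) : Set S)) (fun x => (S.basicOpen (g x)).2)
    (fun x hx => Set.mem_iUnion.2 ⟨⟨x, hx⟩, hgx ⟨x, hx⟩⟩)
  let f : t → Γ(S, V.1) := fun x => g x.1
  have hfle : ∀ i, S.basicOpen (f i) ≤ V.1 ⊓ U := fun i => hgle _
  have hcov : (V.1 ⊓ U : S.Opens) ≤ ⨆ i, S.basicOpen (f i) := fun x hx => by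
    obtain ⟨a, ha, hxa⟩ := Set.mem_iUnion₂.1 (ht hx)
    exact Opens.mem_iSup.2 ⟨⟨a, ha⟩, hxa⟩
  have hnor : ∀ (p : Ideal Γ(S, V.1)) [p.IsPrime], IsDomain (Localization.AtPrime p) ∧ IsIntegrallyClosed (Localization.AtPrime p) := by
    intro p hp
    obtain ⟨x, hx, rfl⟩ := exists_point V p
    obtain ⟨h1, h2⟩ := hS x
    letI := stalkAlg V.1 x hx
    haveI := isLocalization_stalk V x hx
    let e := IsLocalization.algEquiv (primeAt V x hx).primeCompl (Localization.AtPrime (primeAt V x hx)) (S.presheaf.stalk x)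
    haveI := h1
    exact ⟨e.toRingEquiv.toMulEquiv.isDomain _, .of_equiv e.toRingEquiv.symm⟩
  have hf : ∀ p : Ideal Γ(S, V.1), p.IsPrime → p.height ≤ 1 → ∃ i, f i ∉ p := by
    intro p hp hh
    obtain ⟨x, hx, rfl⟩ := exists_point V p
    have hxU : x ∈ U := hU x (by rw [ringKrullDim_stalk_eq_height V x hx]; exact_mod_cast hh)
    obtain ⟨i, hi⟩ := Opens.mem_iSup.1 (hcov ⟨hx, hxU⟩)
    exact ⟨i, (mem_basicOpen_iff_notMem V x hx (f i)).1 hi⟩
  have hunit : ∀ i, IsUnit (resO S (S.basicOpen_le (f i)) (f i)) := fun i => RingedSpace.isUnit_res_basicOpen _ _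
  refine ⟨?_, ?_⟩
  · intro a b hab
    choose n hn using fun i => hloc.eq_zero_of (f i) (a - b) (by
      rw [res_sub, ← res_res (inf_le_left : V.1 ⊓ U ≤ V.1) (hfle i), ← res_res (inf_le_left : V.1 ⊓ U ≤ V.1) (hfle i) b, hab, sub_self])
    refine sub_eq_zero.1 (module_inj hnor f hf (Finset.univ.sup n) (a - b) fun i => ?_)
    obtain ⟨k, hk⟩ := Nat.exists_eq_add_of_le (Finset.le_sup (f := n) (Finset.mem_univ i))
    rw [hk, add_comm, pow_add, mul_smul, hn i, smul_zero]
  · intro s
    choose n m hm using fun i => hloc.exists_of (f i) (res A (hfle i) s)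
    let n₀ := Finset.univ.sup n
    let m₀ : t → Γ(A, V.1) := fun i => f i ^ (n₀ - n i) • m i
    have hm₀ : ∀ i, res A (S.basicOpen_le (f i)) (m₀ i) = resO S (S.basicOpen_le (f i)) (f i) ^ n₀ • res A (hfle i) s := by
      intro i
      rw [res_pow_smul, hm, ← mul_smul, ← pow_add, Nat.sub_add_cancel (Finset.le_sup (f := n) (Finset.mem_univ i))]
    clear_value m₀
    have hd : ∀ i j, ∃ N : ℕ, (f i * f j) ^ N • (f j ^ n₀ • m₀ i - f i ^ n₀ • m₀ j) = 0 := by
      intro i j
      refine hloc.eq_zero_of (f i * f j) _ ?_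
      have hi : S.basicOpen (f i * f j) ≤ S.basicOpen (f i) := by rw [S.basicOpen_mul]; exact inf_le_left
      have hj : S.basicOpen (f i * f j) ≤ S.basicOpen (f j) := by rw [S.basicOpen_mul]; exact inf_le_right
      rw [res_sub, res_pow_smul, res_pow_smul, ← res_res (S.basicOpen_le (f i)) hi, ← res_res (S.basicOpen_le (f j)) hj,
        hm₀, hm₀, res_smul, res_smul, resO_pow, resO_pow, resO_resO, resO_resO, res_res, res_res, ← mul_smul, ← mul_smul,
        sub_eq_zero]
      exact congrArg (fun r => r • _) (mul_comm _ _)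
    choose N hN using hd
    let N₀ := Finset.univ.sup fun ij : t × t => N ij.1 ij.2
    obtain ⟨x, hx⟩ := module_surj hnor f hf (n₀ + N₀) (fun i => f i ^ N₀ • m₀ i) fun i j => by
      obtain ⟨k, hk⟩ := Nat.exists_eq_add_of_le
        (Finset.le_sup (f := fun ij : t × t => N ij.1 ij.2) (Finset.mem_univ (i, j)))
      change N₀ = _ at hk
      have h0 : (f i * f j) ^ N₀ • (f j ^ n₀ • m₀ i - f i ^ n₀ • m₀ j) = 0 := by
        rw [hk, add_comm, pow_add, mul_smul, hN, smul_zero]
      rw [smul_sub, sub_eq_zero, ← mul_smul, ← mul_smul] at h0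
      rw [← mul_smul, ← mul_smul]
      rwa [show f j ^ (n₀ + N₀) * f i ^ N₀ = (f i * f j) ^ N₀ * f j ^ n₀ by ring,
        show f i ^ (n₀ + N₀) * f j ^ N₀ = (f i * f j) ^ N₀ * f i ^ n₀ by ring]
    refine ⟨x, section_ext' A (fun i => S.basicOpen (f i)) hfle hcov _ _ fun i => ?_⟩
    rw [res_res]
    have h1 := congrArg (res A (S.basicOpen_le (f i))) (hx i)
    rw [res_pow_smul, res_pow_smul, hm₀, ← mul_smul, ← pow_add, add_comm N₀ n₀] at h1
    exact ((hunit i).pow (n₀ + N₀)).smul_left_cancel.1 h1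

theorem isIso_unit [IsNoetherian S] (hS : Pi1.IsNormalScheme S) (A : S.Modules) (hA : Coh.IsQCoh A)
    (hAfl : FlatMod.IsFlat A) (U : S.Opens) (hU : ∀ s : S, ringKrullDim (S.presheaf.stalk s) ≤ 1 → s ∈ U) :
    IsIso ((Scheme.Modules.restrictAdjunction U.ι).unit.app A) := by
  set φ := (Scheme.Modules.restrictAdjunction U.ι).unit.app A
  have hb : ∀ (O : S.Opens) (p : S), p ∈ O → ∃ W : S.Opens, p ∈ W ∧ W ≤ O ∧ Function.Bijective (φ.app W) := by
    intro O p hp
    obtain ⟨_, ⟨W, hW, rfl⟩, hpW, hWO⟩ := S.isBasis_affineOpens.exists_subset_of_mem_open hp O.2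
    refine ⟨W, hpW, hWO, ?_⟩
    have hr := res_bijective hS A hA hAfl U hU ⟨W, hW⟩
    have he : ⇑(φ.app W) = res A (himage U W).le ∘ res A (inf_le_left : W ⊓ U ≤ W) := funext fun s => by
      simp only [Function.comp_apply, res_res]; rfl
    rw [he]
    refine Function.Bijective.comp ?_ hr
    exact ⟨fun a b hab => by simpa only [res_res, res_self] using congrArg (res A (himage U W).ge) hab,
      fun b => ⟨res A (himage U W).ge b, by rw [res_res, res_self]⟩⟩
  haveI := Om3.mono_of_basis φ fun O p hp => (hb O p hp).imp fun _ h => ⟨h.1, h.2.1, h.2.2.1⟩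
  haveI := Om3.epi_of_basis φ fun O p hp => (hb O p hp).imp fun _ h => ⟨h.1, h.2.1, h.2.2.2⟩
  exact isIso_of_mono_of_epi φ

end Sch
end Groth.Agent.CAlg6.FlatHartogs
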