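import Groth.Agent.SGA3a.FlatHom
import Groth.Agent.SGA3a.DominantHom
import Groth.Agent.SGA3a.GrpFibreFlat
import Groth.Agent.SGA3a.GrpNeutral
import Groth.Agent.SGA3a.NeutralSet
import Groth.Agent.AlgGrp79.Pullback

/-!
Flatness of a homomorphism in terms of the neutral components and of the quotients by the reduced subgroups
(SGA 3 VI_A).
-/

set_option autoImplicit false
universe u

open CategoryTheory CategoryTheory.Limits MonoidalCategory CartesianMonoidalCategory MonObj GrpObj AlgebraicGeometry

noncomputable section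

namespace Groth.Agent.CAlg6.FlatRedQuot

variable {k : Type u} [Field k]

theorem isPullback_unit {G G' Y : Over (Spec (CommRingCat.of k))} [GrpObj G] [GrpObj G'] (b : G' ⟶ G) [IsMonHom b]
    (q : G ⟶ Y) (hq : IsPullback ((b ▷ G) ≫ μ[G]) (snd G' G) q q) :
    IsPullback b.left G'.hom q.left (η[G].left ≫ q.left) := by
  let l : G' ⟶ G' ⊗ G := lift (𝟙 G') (toUnit G' ≫ η[G])
  have h1 : IsPullback l.left G'.hom (snd G' G).left η[G].left := by
    refine IsPullback.of_right (h₁₂ := (fst G' G).left) (v₁₃ := G'.hom) (h₂₂ := G.hom) ?_ ?_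
      (IsPullback.of_hasPullback G'.hom G.hom)
    · rw [show l.left ≫ (fst G' G).left = 𝟙 _ by rw [← Over.comp_left, lift_fst]; rfl,
        show η[G].left ≫ G.hom = 𝟙 (Spec (CommRingCat.of k)) from Over.w η[G]]
      exact IsPullback.of_horiz_isIso ⟨by simp⟩
    · rw [← Over.comp_left, lift_snd, Over.comp_left, Over.toUnit_left]
  have h := h1.paste_horiz (AlgGrp79.isPullback_left hq)
  rw [← Over.comp_left] at h
  have e : l ≫ ((b ▷ G) ≫ μ[G]) = b := by
    rw [← Category.assoc, lift_whiskerRight, Category.id_comp, ← Hom.mul_def, ← Hom.one_def, _root_.mul_one]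
  rwa [e] at h

omit [Field k] in
theorem apply_eq_apply_unit {k : Type u} [Field k] {F F' X : Over (Spec (CommRingCat.of k))} [GrpObj F] [GrpObj F']
    (a : F' ⟶ F) [IsMonHom a] [Surjective a.left] (p : F ⟶ X) (hp : IsPullback ((a ▷ F) ≫ μ[F]) (snd F' F) p p)
    (f : F.left) : p.left f = p.left (Grp57.unitPt F) := by
  obtain ⟨f', rfl⟩ := a.left.surjective f
  have h := isPullback_unit a p hp
  rw [← Scheme.Hom.comp_apply, h.w, Scheme.Hom.comp_apply, Scheme.Hom.comp_apply]
  exact congrArg (fun t => p.left (η[F].left t)) (Subsingleton.elim (α := PrimeSpectrum k) _ _)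

theorem generic_of_component (G : Over (Spec (CommRingCat.of k))) [GrpObj G] [LocallyOfFiniteType G.hom] :
    ∃ ξ : G.left, ξ ∈ connectedComponent (Grp57.unitPt G) ∧ (∀ z, z ⤳ ξ → z = ξ) ∧
      connectedComponent (Grp57.unitPt G) ⊆ closure {ξ} := by
  obtain ⟨ξ, hξ⟩ := QuasiSober.sober (Grp57.connectedComponent_unit G).1 isClosed_connectedComponent
  refine ⟨ξ, hξ.mem, fun z hz => ?_, fun y hy => (hξ.specializes hy).mem_closure⟩
  exact ((hξ.specializes (hz.mem_open (SGA3a.isOpen_connectedComponent_unit G) hξ.mem)).antisymm hz).eq.symm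

theorem main {F G F' G' : Over (Spec (CommRingCat.of k))} [GrpObj F] [GrpObj G] [GrpObj F'] [GrpObj G']
    [LocallyOfFiniteType F.hom] [LocallyOfFiniteType G.hom] (u : F ⟶ G) [IsMonHom u]
    (a : F' ⟶ F) [IsMonHom a] [Surjective a.left]
    [IsReduced G'.left] (b : G' ⟶ G) [IsMonHom b] [IsClosedImmersion b.left]
    {X Y : Over (Spec (CommRingCat.of k))} (p : F ⟶ X) [Flat p.left] [Surjective p.left] [LocallyOfFinitePresentation p.left]
    (hp : IsPullback ((a ▷ F) ≫ μ[F]) (snd F' F) p p)
    (q : G ⟶ Y) [Flat q.left] [LocallyOfFinitePresentation q.left]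
    (hq : IsPullback ((b ▷ G) ≫ μ[G]) (snd G' G) q q)
    (v : X ⟶ Y) (hv : p ≫ v = u ≫ q) :
    Flat u.left ↔ connectedComponent (Grp57.unitPt G) ⊆
      closure (u.left '' connectedComponent (Grp57.unitPt F)) ∧ Flat v.left := by
  obtain ⟨η', hη'C, hη', hη'cl⟩ := generic_of_component G
  have hue : u.left (Grp57.unitPt F) = Grp57.unitPt G := by
    show u.left (η[F].left _) = η[G].left _
    rw [← Scheme.Hom.comp_apply, ← Over.comp_left, IsMonHom.one_hom]
  have hvl : p.left ≫ v.left = u.left ≫ q.left := congrArg Over.Hom.left hv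
  constructor
  · intro hu
    refine ⟨?_, ?_⟩
    · have h1 : η' ⤳ u.left (Grp57.unitPt F) := by
        rw [hue]
        exact specializes_iff_mem_closure.2 (hη'cl mem_connectedComponent)
      obtain ⟨w, hw, hwη⟩ := Flat.generalizingMap u.left h1
      refine hη'cl.trans (closure_mono (Set.singleton_subset_iff.2 ⟨w, ?_, hwη⟩))
      exact hw.mem_open (SGA3a.isOpen_connectedComponent_unit F) mem_connectedComponent
    · have : Flat (p.left ≫ v.left) := by rw [hvl]; infer_instance
      exact FlatMor66.flat_of_comp_surjective p.left v.left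
  · rintro ⟨hdom, hvflat⟩
    have : Subsingleton (Spec (CommRingCat.of k)) := inferInstanceAs (Subsingleton (PrimeSpectrum k))
    obtain ⟨ξ, hξC, hξ, hξcl⟩ := generic_of_component F
    have huξ : u.left ξ = η' := by
      refine hη' _ (specializes_iff_mem_closure.2 ?_)
      refine closure_minimal ?_ isClosed_closure (hdom hη'C)
      rintro _ ⟨f, hf, rfl⟩
      exact ((specializes_iff_mem_closure.2 (hξcl hf)).map u.left.continuous).mem_closure
    let P := pullback v.left q.left
    let g : P ⟶ X.left := pullback.fst v.left q.left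
    let w : F.left ⟶ P := pullback.lift p.left u.left hvl
    have hwg : w ≫ g = p.left := pullback.lift_fst _ _ _
    have hws : w ≫ pullback.snd v.left q.left = u.left := pullback.lift_snd _ _ _
    have : Flat g := MorphismProperty.pullback_fst (P := @Flat) _ _ ‹_›
    have : LocallyOfFinitePresentation g := MorphismProperty.pullback_fst (P := @LocallyOfFinitePresentation) _ _ ‹_›
    have : LocallyOfFiniteType g := inferInstance
    let x : X.left := p.left ξ
    have hx : x = p.left (Grp57.unitPt F) := apply_eq_apply_unit a p hp ξ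
    -- the rational point
    let x0 : Spec (CommRingCat.of k) ⟶ X.left := (η[F] ≫ p).left
    obtain ⟨⟨x', σ⟩, hσ⟩ := (Scheme.SpecToEquivOfField k X.left).symm.surjective x0
    have hσ' : Spec.map σ ≫ X.left.fromSpecResidueField x' = x0 := hσ
    have hxx : x' = x := by
      have h := congr($hσ' (IsLocalRing.closedPoint k))
      rw [Scheme.Hom.comp_apply, Scheme.fromSpecResidueField_apply] at h
      rw [h, hx]
      rfl
    subst hxx
    let jx := X.left.fromSpecResidueField x
    have hsec : Spec.map σ ≫ jx ≫ X.hom = 𝟙 _ := by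
      rw [← Category.assoc, hσ']
      exact Over.w (η[F] ≫ p)
    have : IsIso σ := by
      have h2 : Spec.preimage (jx ≫ X.hom) ≫ σ = 𝟙 _ := Spec.map_injective (by
        rw [Spec.map_comp, Spec.map_preimage, Spec.map_id]; exact hsec)
      rw [ConcreteCategory.isIso_iff_bijective]
      exact ⟨RingHom.injective _, fun c => ⟨Spec.preimage (jx ≫ X.hom) c, congr($h2 c)⟩⟩
    -- the fibre of `P`
    have hb := isPullback_unit b q hq
    have hy : η[G].left ≫ q.left = x0 ≫ v.left := by
      show (η[G] ≫ q).left = ((η[F] ≫ p) ≫ v).left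
      rw [Category.assoc, hv, ← Category.assoc, IsMonHom.one_hom (f := u)]
    have hbσ : IsPullback b.left (G'.hom ≫ Spec.map σ) q.left (jx ≫ v.left) := by
      refine IsPullback.of_iso hb (Iso.refl _) (Iso.refl _) (asIso (Spec.map σ)) (Iso.refl _) ?_ ?_ ?_ ?_
      · simp
      · simp
      · simp
      · simp only [Iso.refl_hom, Category.comp_id, asIso_hom]
        rw [hy, ← hσ', Category.assoc]
    have hfib : IsPullback (g.fiberι x ≫ pullback.snd v.left q.left) (g.fiberToSpecResidueField x) q.left (jx ≫ v.left) :=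
      (IsPullback.of_hasPullback g jx).flip.paste_vert (IsPullback.of_hasPullback v.left q.left) |>.flip
    let e : g.fiber x ≅ G'.left := IsPullback.isoIsPullback _ _ hfib hbσ
    have he : e.hom ≫ b.left = g.fiberι x ≫ pullback.snd v.left q.left :=
      IsPullback.isoIsPullback_hom_fst _ _ hfib hbσ
    have : IsReduced (g.fiber x) := isReduced_of_isOpenImmersion e.hom
    -- the point
    obtain ⟨w0, hw0⟩ : ξ ∈ Set.range (p.left.fiberι x) := by rw [Scheme.Hom.range_fiberι]; rfl
    let Fw : p.left.fiber x ⟶ g.fiber x :=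
      pullback.lift (p.left.fiberι x ≫ w) (p.left.fiberToSpecResidueField x) (by
        rw [Category.assoc, hwg]; exact pullback.condition)
    have hz : b.left (e.hom (Fw w0)) = η' := by
      rw [← Scheme.Hom.comp_apply e.hom, he, Scheme.Hom.comp_apply, ← Scheme.Hom.comp_apply Fw,
        show Fw ≫ g.fiberι x = p.left.fiberι x ≫ w from pullback.lift_fst _ _ _, Scheme.Hom.comp_apply, hw0,
        ← Scheme.Hom.comp_apply, hws, huξ]
    have hzmax : ∀ z, z ⤳ Fw w0 → z = Fw w0 := by
      intro z hz'
      apply e.hom.homeomorph.injective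
      apply b.left.isEmbedding.injective
      refine (hη' _ (hz ▸ (hz'.map e.hom.continuous).map b.left.continuous)).trans hz.symm
    have hflatF : (Fw.stalkMap w0).hom.Flat := by
      let := (SGA3a.isField_stalk_maximal hzmax).toField
      algebraize [(Fw.stalkMap w0).hom]
      show Module.Flat _ _
      infer_instance
    have hwflat : (w.stalkMap ξ).hom.Flat := by
      rw [← hw0]
      exact (SGA3a.GrpLocus.flat_fiberMap_iff w g hwg x Fw (pullback.lift_fst _ _ _) (pullback.lift_snd _ _ _) w0).1 hflatF
    have : Flat (pullback.snd v.left q.left) := MorphismProperty.pullback_snd (P := @Flat) _ _ ‹_›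
    have huflat : (u.left.stalkMap ξ).hom.Flat := by
      rw [← hws, Scheme.Hom.stalkMap_comp]
      exact RingHom.Flat.comp (Flat.stalkMap _ _) hwflat
    exact SGA3a.flat_hom_of_flat_at u ξ huflat

end Groth.Agent.CAlg6.FlatRedQuot
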