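import Mathlib
import Groth.Prelude.Def_VecGrp

set_option autoImplicit false
universe u
open CategoryTheory AlgebraicGeometry
open scoped TensorProduct MonObj
open VecGrp

namespace Groth.Agent.CAlg6.GModStable

variable {R : Type u} [CommRing R]

section Loc
variable {Q : Type u} [AddCommGroup Q] [Module R Q] {B : Type u} [CommRing B] [Algebra R B]

lemma exists_pow_smul_eq_zero (f : B) (z : B ⊗[R] Q)
    (h : Wmap (M := Q) (IsScalarTower.toAlgHom R B (Localization.Away f)) z = 0) : ∃ n : ℕ, f ^ n • z = 0 := by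
  have hL : IsLocalizedModule (Submonoid.powers f) (TensorProduct.mk B (Localization.Away f) (B ⊗[R] Q) 1) :=
    (isLocalizedModule_iff_isBaseChange (Submonoid.powers f) _ _).2 (TensorProduct.isBaseChange _ _ _)
  have key : ∀ y : B ⊗[R] Q, TensorProduct.AlgebraTensorModule.cancelBaseChange R B (Localization.Away f) (Localization.Away f) Q
      ((1 : Localization.Away f) ⊗ₜ[B] y) = Wmap (M := Q) (IsScalarTower.toAlgHom R B (Localization.Away f)) y := by
    intro y
    induction y using TensorProduct.induction_on with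
    | zero => simp
    | tmul b m => simp [Algebra.smul_def]
    | add x y hx hy => simp [TensorProduct.tmul_add, hx, hy]
  have h0 : TensorProduct.mk B (Localization.Away f) (B ⊗[R] Q) 1 z = 0 :=
    (TensorProduct.AlgebraTensorModule.cancelBaseChange R B (Localization.Away f) (Localization.Away f) Q).injective
      (by rw [map_zero, ← h, ← key]; rfl)
  obtain ⟨⟨_, n, rfl⟩, hn⟩ := (IsLocalizedModule.eq_zero_iff (Submonoid.powers f) _).1 h0
  exact ⟨n, hn⟩

lemma eq_zero_of_local (z : B ⊗[R] Q) (h : ∀ p : PrimeSpectrum B, ∃ f : B, f ∉ p.asIdeal ∧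
    Wmap (M := Q) (IsScalarTower.toAlgHom R B (Localization.Away f)) z = 0) : z = 0 := by
  let I : Ideal B := LinearMap.ker (LinearMap.toSpanSingleton B _ z)
  by_contra hz
  have hI : I ≠ ⊤ := fun e => hz (by
    have := (Ideal.eq_top_iff_one I).1 e
    simpa [I] using this)
  obtain ⟨P, hP, hIP⟩ := Ideal.exists_le_maximal I hI
  obtain ⟨f, hf, hf0⟩ := h ⟨P, hP.isPrime⟩
  obtain ⟨n, hn⟩ := exists_pow_smul_eq_zero f z hf0
  exact hf (hP.isPrime.mem_of_pow_mem n (hIP (by simpa [I] using hn)))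

end Loc

variable {G : Over (Spec (CommRingCat.of R))} [GrpObj G] {E : Type u} [AddCommGroup E] [Module R E]
  (m : GMod G E) {J : Type u} [Finite J] {A : J → Type u} [∀ j, CommRing (A j)] [∀ j, Algebra R (A j)]
  (pts : ∀ j, pt R (A j) ⟶ G)

/-- every point of `G` is locally induced by one of the given points -/
def Covers : Prop :=
  ∀ (B : Type u) [CommRing B] [Algebra R B] (g : pt R B ⟶ G) (p : PrimeSpectrum B), ∃ f : B, f ∉ p.asIdeal ∧
    ∃ (j : J) (φ : A j →ₐ[R] Localization.Away f),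
      ptMap (IsScalarTower.toAlgHom R B (Localization.Away f)) ≫ g = ptMap φ ≫ pts j

variable {pts}

lemma wmap_one {B B' : Type u} [CommRing B] [Algebra R B] [CommRing B'] [Algebra R B'] (φ : B →ₐ[R] B') (x : E) :
    Wmap (M := E) φ ((1 : B) ⊗ₜ[R] x) = (1 : B') ⊗ₜ[R] x := by
  rw [Wmap_tmul, map_one]

omit [Finite J] in
lemma forall_eq_zero (hcov : Covers pts) {Q : Type u} [AddCommGroup Q] [Module R Q] (q : E →ₗ[R] Q) (x : E)
    (hx : ∀ j, q.baseChange (A j) (m.ρ (A j) (pts j) ((1 : A j) ⊗ₜ[R] x)) = 0)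
    (B : Type u) [CommRing B] [Algebra R B] (g : pt R B ⟶ G) :
    q.baseChange B (m.ρ B g ((1 : B) ⊗ₜ[R] x)) = 0 := by
  refine eq_zero_of_local _ fun p => ?_
  obtain ⟨f, hf, j, φ, hφ⟩ := hcov B g p
  refine ⟨f, hf, ?_⟩
  rw [baseChange_natural, m.naturality, wmap_one, hφ, ← wmap_one φ x, ← m.naturality, ← baseChange_natural, hx j, map_zero]

lemma mem_range_baseChange_iff (N : Submodule R E) (B : Type u) [CommRing B] [Algebra R B] (z : B ⊗[R] E) :
    z ∈ LinearMap.range (N.subtype.baseChange B) ↔ N.mkQ.baseChange B z = 0 := by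
  have h := lTensor_exact B (LinearMap.exact_subtype_mkQ N) N.mkQ_surjective
  rw [LinearMap.baseChange_eq_ltensor]
  exact ((h z).trans (by simp [LinearMap.baseChange_eq_ltensor])).symm

/-- the largest submodule of `N₀` sent into `N₀` by all the given points -/
noncomputable def stable (N₀ : Submodule R E) : Submodule R E :=
  Submodule.map N₀.subtype (LinearMap.ker (LinearMap.pi fun j =>
    ((N₀.mkQ.baseChange (A j)).restrictScalars R) ∘ₗ ((m.ρ (A j) (pts j)).toLinearMap.restrictScalars R) ∘ₗ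
      (TensorProduct.mk R (A j) E 1) ∘ₗ N₀.subtype))

omit [Finite J] in
lemma mem_stable_iff (N₀ : Submodule R E) (x : E) :
    x ∈ stable m (pts := pts) N₀ ↔ x ∈ N₀ ∧ ∀ j, N₀.mkQ.baseChange (A j) (m.ρ (A j) (pts j) ((1 : A j) ⊗ₜ[R] x)) = 0 := by
  simp only [stable, Submodule.mem_map, LinearMap.mem_ker]
  constructor
  · rintro ⟨y, hy, rfl⟩
    exact ⟨y.2, fun j => congrFun hy j⟩
  · rintro ⟨hx, h⟩
    exact ⟨⟨x, hx⟩, funext fun j => h j, rfl⟩

theorem stable_stable [∀ j, Module.Flat R (A j)] (hcov : Covers pts) (N₀ : Submodule R E) (x : E)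
    (hx : x ∈ stable m (pts := pts) N₀) (B : Type u) [CommRing B] [Algebra R B] (g : pt R B ⟶ G) :
    m.ρ B g ((1 : B) ⊗ₜ[R] x) ∈ LinearMap.range ((stable m (pts := pts) N₀).subtype.baseChange B) := by
  classical
  cases nonempty_fintype J
  rw [mem_range_baseChange_iff]
  refine forall_eq_zero m hcov _ x (fun j => ?_) B g
  rw [← mem_range_baseChange_iff]
  obtain ⟨hxN, hx0⟩ := (mem_stable_iff m N₀ x).1 hx
  obtain ⟨y, hy⟩ := (mem_range_baseChange_iff N₀ (A j) _).2 (hx0 j)
  let c : ∀ i, N₀ →ₗ[R] A i ⊗[R] (E ⧸ N₀) := fun i =>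
    ((N₀.mkQ.baseChange (A i)).restrictScalars R) ∘ₗ ((m.ρ (A i) (pts i)).toLinearMap.restrictScalars R) ∘ₗ
      (TensorProduct.mk R (A i) E 1) ∘ₗ N₀.subtype
  suffices hker : (LinearMap.pi c).lTensor (A j) y = 0 by
    obtain ⟨w, hw⟩ := (Module.Flat.lTensor_exact (A j) (LinearMap.exact_subtype_ker_map (LinearMap.pi c)) y).1 hker
    let incl : LinearMap.ker (LinearMap.pi c) →ₗ[R] stable m (pts := pts) N₀ :=
      N₀.subtype.restrict fun z hz => Submodule.mem_map_of_mem hz
    refine ⟨incl.lTensor (A j) w, ?_⟩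
    rw [← hy, ← hw, LinearMap.baseChange_eq_ltensor, LinearMap.baseChange_eq_ltensor,
      ← LinearMap.lTensor_comp_apply, ← LinearMap.lTensor_comp_apply]
    rfl
  have hproj : ∀ i, (c i).lTensor (A j) y = 0 := by
    intro i
    let ι₁ : A j →ₐ[R] A j ⊗[R] A i := Algebra.TensorProduct.includeLeft
    let ι₂ : A i →ₐ[R] A j ⊗[R] A i := Algebra.TensorProduct.includeRight
    have hass : ∀ (b : A j) (z : A i ⊗[R] (E ⧸ N₀)),
        (TensorProduct.assoc R (A j) (A i) (E ⧸ N₀)).symm (b ⊗ₜ[R] z) = ι₁ b • Wmap ι₂ z := by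
      intro b z
      induction z using TensorProduct.induction_on with
      | zero => simp
      | tmul a e => simp [ι₁, ι₂, TensorProduct.smul_tmul']
      | add u v hu hv => simp [TensorProduct.tmul_add, hu, hv]
    have key : ∀ y : A j ⊗[R] N₀, (TensorProduct.assoc R (A j) (A i) (E ⧸ N₀)).symm ((c i).lTensor (A j) y) =
        N₀.mkQ.baseChange _ (m.ρ _ (ptMap ι₂ ≫ pts i) (Wmap ι₁ (N₀.subtype.baseChange (A j) y))) := by
      intro y
      induction y using TensorProduct.induction_on with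
      | zero => simp
      | tmul b n =>
        rw [LinearMap.lTensor_tmul, hass]
        have e : Wmap ι₁ (N₀.subtype.baseChange (A j) (b ⊗ₜ[R] n)) = ι₁ b • Wmap (M := E) ι₂ ((1 : A i) ⊗ₜ[R] (n : E)) := by
          rw [wmap_one, LinearMap.baseChange_tmul, Submodule.subtype_apply, Wmap_tmul, TensorProduct.smul_tmul',
            smul_eq_mul, mul_one]
        rw [e, LinearEquiv.map_smul, LinearMap.map_smul, ← m.naturality, ← baseChange_natural]
        rfl
      | add u v hu hv => simp only [map_add, hu, hv]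
    apply (TensorProduct.assoc R (A j) (A i) (E ⧸ N₀)).symm.injective
    rw [key, hy, map_zero, m.naturality, wmap_one, ← LinearEquiv.mul_apply, ← map_mul]
    exact forall_eq_zero m hcov _ x hx0 _ _
  apply (TensorProduct.piRight R R (A j) fun i => A i ⊗[R] (E ⧸ N₀)).injective
  funext i
  rw [map_zero, Pi.zero_apply, ← hproj i]
  clear_value c
  generalize y = y'
  induction y' using TensorProduct.induction_on with
  | zero => simp
  | tmul b n => simp
  | add u v hu hv => simp only [map_add, Pi.add_apply, hu, hv]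

omit [Finite J] in
lemma le_stable (N₀ : Submodule R E) (M : Submodule R E) (hM : M ≤ N₀)
    (h : ∀ j, ∀ x ∈ M, m.ρ (A j) (pts j) ((1 : A j) ⊗ₜ[R] x) ∈ LinearMap.range (N₀.subtype.baseChange (A j))) :
    M ≤ stable m (pts := pts) N₀ :=
  fun x hx => (mem_stable_iff m N₀ x).2 ⟨hM hx, fun j => (mem_range_baseChange_iff N₀ (A j) _).1 (h j x hx)⟩

theorem exists_fg_stable [IsNoetherianRing R] [∀ j, Module.Flat R (A j)] (hcov : Covers pts)
    (M : Submodule R E) (hM : M.FG) :
    ∃ N : Submodule R E, M ≤ N ∧ N.FG ∧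
      ∀ (B : Type u) [CommRing B] [Algebra R B] (g : pt R B ⟶ G) (x : E), x ∈ N →
        m.ρ B g ((1 : B) ⊗ₜ[R] x) ∈ LinearMap.range (N.subtype.baseChange B) := by
  classical
  obtain ⟨s, hs⟩ := hM
  choose N' hN'fin hN' using fun j => TensorProduct.exists_finite_submodule_right_of_setFinite (R := R)
    ((fun x : E => m.ρ (A j) (pts j) ((1 : A j) ⊗ₜ[R] x)) '' (s : Set E)) (s.finite_toSet.image _)
  let N₀ := M ⊔ ⨆ j, N' j
  have hN₀ : N₀.FG := Submodule.FG.sup ⟨s, hs⟩ (Submodule.fg_iSup N' fun j => Module.Finite.iff_fg.1 (hN'fin j))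
  have hle : M ≤ stable m (pts := pts) N₀ := by
    refine le_stable m N₀ M le_sup_left fun j x hx => ?_
    rw [← hs] at hx
    induction hx using Submodule.span_induction with
    | mem x hx =>
      obtain ⟨w, hw⟩ := hN' j ⟨x, hx, rfl⟩
      have hjle : N' j ≤ N₀ := le_sup_of_le_right (le_iSup N' j)
      refine ⟨(Submodule.inclusion hjle).lTensor (A j) w, ?_⟩
      rw [LinearMap.baseChange_eq_ltensor, ← LinearMap.lTensor_comp_apply]
      exact hw
    | zero => simp
    | add x y _ _ hx hy => rw [TensorProduct.tmul_add, map_add]; exact Submodule.add_mem _ hx hy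
    | smul r x _ hx =>
      rw [TensorProduct.tmul_smul, ← algebraMap_smul (A j) r, map_smul]
      exact Submodule.smul_mem _ _ hx
  refine ⟨_, hle, ?_, fun B _ _ g x hx => stable_stable m hcov N₀ x hx B g⟩
  have : Module.Finite R N₀ := Module.Finite.iff_fg.2 hN₀
  exact Submodule.FG.map _ (IsNoetherian.noetherian _)

end Groth.Agent.CAlg6.GModStable
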