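import Mathlib
import Groth.Agent.CAlg6.GModStable

set_option autoImplicit false
universe u
open CategoryTheory AlgebraicGeometry
open VecGrp

namespace Groth.Agent.CAlg6.GModStable

variable {R : Type u} [CommRing R]

/-- the structure map on an affine open -/
noncomputable def strHom (G : Over (Spec (CommRingCat.of R))) (U : G.left.Opens) : R →+* Γ(G.left, U) :=
  ((Scheme.ΓSpecIso (CommRingCat.of R)).inv ≫ G.hom.appLE ⊤ U le_top).hom

lemma spec_strHom (G : Over (Spec (CommRingCat.of R))) {U : G.left.Opens} (hU : IsAffineOpen U) :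
    hU.fromSpec ≫ G.hom = Spec.map (CommRingCat.ofHom (strHom G U)) := by
  rw [show CommRingCat.ofHom (strHom G U) = (Scheme.ΓSpecIso (CommRingCat.of R)).inv ≫ G.hom.appLE ⊤ U le_top from rfl,
    Spec.map_comp, ← IsAffineOpen.SpecMap_appLE_fromSpec G.hom (isAffineOpen_top _) hU le_top]
  simp [IsAffineOpen.fromSpec_top, Scheme.isoSpec_Spec_inv]

theorem exists_atlas (G : Over (Spec (CommRingCat.of R))) [Flat G.hom] [QuasiCompact G.hom] :
    ∃ (J : Type u) (_ : Finite J) (A : J → Type u) (_ : ∀ j, CommRing (A j)) (_ : ∀ j, Algebra R (A j))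
      (pts : ∀ j, pt R (A j) ⟶ G), (∀ j, Module.Flat R (A j)) ∧ Covers (G := G) pts := by
  classical
  have : CompactSpace G.left := (quasiCompact_iff_compactSpace G.hom).1 ‹_›
  have hb : ∀ x : G.left, ∃ U : G.left.Opens, x ∈ U ∧ IsAffineOpen U := fun x => by
    obtain ⟨_, ⟨U, hU, rfl⟩, hx, -⟩ := G.left.isBasis_affineOpens.exists_subset_of_mem_open (Set.mem_univ x) isOpen_univ
    exact ⟨U, hx, hU⟩
  choose U hxU hU using hb
  obtain ⟨t, ht⟩ := isCompact_univ.elim_finite_subcover (fun x : G.left => (U x : Set G.left)) (fun x => (U x).2)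
    (fun x _ => Set.mem_iUnion.2 ⟨x, hxU x⟩)
  letI alg : ∀ j : t, Algebra R Γ(G.left, U j) := fun j => (strHom G (U j)).toAlgebra
  let pts : ∀ j : t, pt R Γ(G.left, U j) ⟶ G := fun j => Over.homMk (hU j).fromSpec (spec_strHom G (hU j))
  refine ⟨t, inferInstance, fun j => Γ(G.left, U j), fun _ => inferInstance, alg, pts, fun j => ?_, ?_⟩
  · rw [← RingHom.flat_algebraMap_iff]
    exact RingHom.Flat.respectsIso.2 _ (Scheme.ΓSpecIso (CommRingCat.of R)).commRingCatIsoToRingEquiv.symm
      (G.hom.flat_appLE (isAffineOpen_top _) (hU j) le_top)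
  intro B _ _ g p
  let q : Spec (CommRingCat.of B) := p
  obtain ⟨a, hat, ha⟩ := Set.mem_iUnion₂.1 (ht (Set.mem_univ (g.left q)))
  obtain ⟨_, ⟨_, ⟨f, rfl⟩, rfl⟩, hpf, hfU⟩ := PrimeSpectrum.isBasis_basic_opens.exists_subset_of_mem_open
    (u := ((g.left ⁻¹ᵁ U a).1 : Set (PrimeSpectrum B))) (a := p) ha (g.left ⁻¹ᵁ U a).2
  refine ⟨f, hpf, ⟨a, hat⟩, ?_⟩
  let L := Localization.Away f
  let loc := ptMap (IsScalarTower.toAlgHom R B L)
  have hsub : Set.range (loc ≫ g).left ⊆ Set.range (hU a).fromSpec := by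
    rw [(hU a).range_fromSpec]
    rintro _ ⟨z, rfl⟩
    apply hfU
    show z.comap (algebraMap B L) ∈ PrimeSpectrum.basicOpen f
    rw [← SetLike.mem_coe, ← PrimeSpectrum.localization_away_comap_range L f]
    exact Set.mem_range_self z
  let ψ := Spec.preimage (IsOpenImmersion.lift (hU a).fromSpec (loc ≫ g).left hsub)
  have hψ : Spec.map ψ ≫ (hU a).fromSpec = (loc ≫ g).left := by
    rw [Spec.map_preimage, IsOpenImmersion.lift_fac]
  have hc : ψ.hom.comp (strHom G (U a)) = algebraMap R L := by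
    have h1 : Spec.map (CommRingCat.ofHom (strHom G (U a)) ≫ ψ) = Spec.map (CommRingCat.ofHom (algebraMap R L)) := by
      rw [Spec.map_comp, ← spec_strHom G (hU a), ← Category.assoc, hψ]
      exact Over.w (loc ≫ g)
    exact congrArg CommRingCat.Hom.hom (Spec.map_injective h1)
  refine ⟨{ toRingHom := ψ.hom, commutes' := fun r => congr($hc r) }, ?_⟩
  apply Over.OverMorphism.ext
  exact hψ.symm

end Groth.Agent.CAlg6.GModStable
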