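import Mathlib
import Groth.Prelude.Def_VecGrp
import Groth.Prelude.Def_HopfRep

set_option autoImplicit false
universe u
open CategoryTheory AlgebraicGeometry
open scoped TensorProduct MonObj
open VecGrp WithConv

namespace Groth.Agent.CAlg6.GModComod

variable {R : Type u} [CommRing R] {A : Type u} [CommRing A] [HopfAlgebra R A] {E : Type u} [AddCommGroup E] [Module R E]

variable (R A) in
noncomputable abbrev GA : Over (Spec (CommRingCat.of R)) := (Spec (CommRingCat.of A)).asOver (Spec (CommRingCat.of R))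

/-- the algebra map of a point -/
noncomputable def alg {B : Type u} [CommRing B] [Algebra R B] (g : pt R B ⟶ GA R A) : A →ₐ[R] B :=
  (Spec.mapMulEquiv.symm g).ofConv

noncomputable def point {B : Type u} [CommRing B] [Algebra R B] (f : A →ₐ[R] B) : pt R B ⟶ GA R A :=
  Spec.mapMulEquiv (toConv f)

lemma alg_point {B : Type u} [CommRing B] [Algebra R B] (f : A →ₐ[R] B) : alg (point f) = f := by
  rw [alg, point]
  exact congrArg WithConv.ofConv (Spec.mapMulEquiv.symm_apply_apply (toConv f))

lemma point_alg {B : Type u} [CommRing B] [Algebra R B] (g : pt R B ⟶ GA R A) : point (alg g) = g :=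
  Spec.mapMulEquiv.apply_symm_apply g

lemma alg_mul {B : Type u} [CommRing B] [Algebra R B] (g g' : pt R B ⟶ GA R A) :
    toConv (alg (g * g')) = toConv (alg g) * toConv (alg g') :=
  map_mul Spec.mapMulEquiv.symm g g'

lemma alg_one {B : Type u} [CommRing B] [Algebra R B] :
    alg (1 : pt R B ⟶ GA R A) = (Algebra.ofId R B).comp (Bialgebra.counitAlgHom R A) :=
  congrArg WithConv.ofConv (map_one Spec.mapMulEquiv.symm)

lemma ptMap_point {B B' : Type u} [CommRing B] [Algebra R B] [CommRing B'] [Algebra R B'] (φ : B →ₐ[R] B')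
    (f : A →ₐ[R] B) : ptMap φ ≫ point f = point (φ.comp f) := by
  apply Over.OverMorphism.ext
  show Spec.map _ ≫ Spec.map _ = Spec.map _
  rw [← Spec.map_comp]
  rfl

lemma alg_ptMap {B B' : Type u} [CommRing B] [Algebra R B] [CommRing B'] [Algebra R B'] (φ : B →ₐ[R] B')
    (g : pt R B ⟶ GA R A) : alg (ptMap φ ≫ g) = φ.comp (alg g) := by
  conv_lhs => rw [← point_alg g, ptMap_point, alg_point]

/-- `1 ⊗ x ↦ f(δ x)` -/
noncomputable def act (δ : E →ₗ[R] E ⊗[R] A) {B : Type u} [CommRing B] [Algebra R B] (f : A →ₐ[R] B) :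
    B ⊗[R] E →ₗ[B] B ⊗[R] E :=
  LinearMap.liftBaseChange B ((TensorProduct.comm R E B).toLinearMap ∘ₗ f.toLinearMap.lTensor E ∘ₗ δ)

lemma act_tmul (δ : E →ₗ[R] E ⊗[R] A) {B : Type u} [CommRing B] [Algebra R B] (f : A →ₐ[R] B) (b : B) (x : E) :
    act δ f (b ⊗ₜ[R] x) = b • TensorProduct.comm R E B (f.toLinearMap.lTensor E (δ x)) := by
  simp [act]

lemma act_one_tmul (δ : E →ₗ[R] E ⊗[R] A) {B : Type u} [CommRing B] [Algebra R B] (f : A →ₐ[R] B) (x : E) :
    act δ f ((1 : B) ⊗ₜ[R] x) = TensorProduct.comm R E B (f.toLinearMap.lTensor E (δ x)) := by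
  rw [act_tmul, one_smul]

/-- composing two actions is the coaction applied twice -/
lemma act_act (δ : E →ₗ[R] E ⊗[R] A) {B : Type u} [CommRing B] [Algebra R B] (f f' : A →ₐ[R] B) (z : E ⊗[R] A) :
    act δ f (TensorProduct.comm R E B (f'.toLinearMap.lTensor E z)) =
      TensorProduct.comm R E B (((Algebra.TensorProduct.lmul' R).comp (Algebra.TensorProduct.map f f')).toLinearMap.lTensor E
        (TensorProduct.assoc R E A A (δ.rTensor A z))) := by
  induction z using TensorProduct.induction_on with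
  | zero => simp
  | tmul y a =>
    simp only [LinearMap.lTensor_tmul, TensorProduct.comm_tmul, act_tmul, LinearMap.rTensor_tmul, AlgHom.toLinearMap_apply]
    generalize δ y = v
    induction v using TensorProduct.induction_on with
    | zero => simp
    | tmul w c => simp [TensorProduct.smul_tmul', mul_comm]
    | add u v hu hv => simp only [map_add, smul_add, TensorProduct.add_tmul, hu, hv]
  | add u v hu hv => simp only [map_add, hu, hv]

lemma act_mul_one_tmul (δ : E →ₗ[R] E ⊗[R] A)
    (hassoc : (TensorProduct.assoc R E A A).toLinearMap ∘ₗ δ.rTensor A ∘ₗ δ = (CoalgebraStruct.comul (R := R) (A := A)).lTensor E ∘ₗ δ)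
    {B : Type u} [CommRing B] [Algebra R B] (f f' : A →ₐ[R] B) (x : E) :
    act δ f (act δ f' ((1 : B) ⊗ₜ[R] x)) = act δ (toConv f * toConv f').ofConv ((1 : B) ⊗ₜ[R] x) := by
  rw [act_one_tmul, act_one_tmul, act_act]
  have := LinearMap.congr_fun hassoc x
  simp only [LinearMap.comp_apply, LinearEquiv.coe_coe] at this
  rw [this, ← LinearMap.lTensor_comp_apply]
  rfl

lemma linearMap_ext {B : Type u} [CommRing B] [Algebra R B] {F : Type u} [AddCommGroup F] [Module B F]
    (l l' : B ⊗[R] E →ₗ[B] F) (h : ∀ x : E, l ((1 : B) ⊗ₜ[R] x) = l' ((1 : B) ⊗ₜ[R] x)) : l = l' := by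
  refine LinearMap.ext fun z => ?_
  induction z using TensorProduct.induction_on with
  | zero => simp
  | tmul b x => rw [show b ⊗ₜ[R] x = b • ((1 : B) ⊗ₜ[R] x) by rw [TensorProduct.smul_tmul', smul_eq_mul, mul_one],
      map_smul, map_smul, h]
  | add u v hu hv => simp only [map_add, hu, hv]

section OfComod
variable (δ : E →ₗ[R] E ⊗[R] A)
  (hassoc : (TensorProduct.assoc R E A A).toLinearMap ∘ₗ δ.rTensor A ∘ₗ δ = (CoalgebraStruct.comul (R := R) (A := A)).lTensor E ∘ₗ δ)
  (hcounit : (CoalgebraStruct.counit (R := R) (A := A)).lTensor E ∘ₗ δ = (TensorProduct.mk R E R).flip 1)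

include hcounit in
lemma act_one (B : Type u) [CommRing B] [Algebra R B] :
    act δ ((Algebra.ofId R B).comp (Bialgebra.counitAlgHom R A)) = LinearMap.id := by
  refine linearMap_ext _ _ fun x => ?_
  rw [act_one_tmul, AlgHom.comp_toLinearMap, LinearMap.lTensor_comp_apply]
  have := LinearMap.congr_fun hcounit x
  simp only [LinearMap.comp_apply] at this
  rw [show (Bialgebra.counitAlgHom R A).toLinearMap = CoalgebraStruct.counit from rfl, this]
  simp

noncomputable def toEnd (B : Type u) [CommRing B] [Algebra R B] : (pt R B ⟶ GA R A) →* Module.End B (B ⊗[R] E) where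
  toFun g := act δ (alg g)
  map_one' := by rw [alg_one]; exact act_one δ hcounit B
  map_mul' g g' := linearMap_ext _ _ fun x => by
    rw [Module.End.mul_apply, act_mul_one_tmul δ hassoc, ← alg_mul]

noncomputable def gmod : GMod (GA R A) E where
  ρ B _ _ := (LinearMap.GeneralLinearGroup.generalLinearEquiv B (B ⊗[R] E)).toMonoidHom.comp (toEnd δ hassoc hcounit B).toHomUnits
  naturality {B B'} _ _ _ _ φ g x := by
    show Wmap φ (act δ (alg g) x) = act δ (alg (ptMap φ ≫ g)) (Wmap φ x)
    induction x using TensorProduct.induction_on with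
    | zero => simp
    | tmul b y =>
      rw [act_tmul, Wmap_smul, Wmap_tmul, act_tmul, alg_ptMap]
      congr 1
      generalize δ y = v
      induction v using TensorProduct.induction_on with
      | zero => simp
      | tmul w a => simp
      | add u v hu hv => simp only [map_add, hu, hv]
    | add u v hu hv => simp only [map_add, hu, hv]

lemma gmod_apply (B : Type u) [CommRing B] [Algebra R B] (g : pt R B ⟶ GA R A) (x : E) :
    (gmod δ hassoc hcounit).ρ B g ((1 : B) ⊗ₜ[R] x) = TensorProduct.comm R E B ((alg g).toLinearMap.lTensor E (δ x)) :=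
  act_one_tmul δ (alg g) x

end OfComod

lemma gmod_ext {G : Over (Spec (CommRingCat.of R))} [GrpObj G] (m m' : GMod G E)
    (h : ∀ (B : Type u) [CommRing B] [Algebra R B] (g : pt R B ⟶ G) (x : E), m.ρ B g ((1 : B) ⊗ₜ[R] x) = m'.ρ B g ((1 : B) ⊗ₜ[R] x)) :
    m = m' := by
  obtain ⟨ρ, _⟩ := m
  obtain ⟨ρ', _⟩ := m'
  obtain rfl : @ρ = @ρ' := by
    funext B _ _
    refine MonoidHom.ext fun g => LinearEquiv.toLinearMap_injective (linearMap_ext _ _ fun x => h B g x)
  rfl

section OfGMod
variable (m : GMod (GA R A) E)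

noncomputable def delta : E →ₗ[R] E ⊗[R] A :=
  (TensorProduct.comm R E A).symm.toLinearMap ∘ₗ ((m.ρ A (point (AlgHom.id R A))).toLinearMap.restrictScalars R) ∘ₗ
    (TensorProduct.mk R A E 1)

lemma delta_spec (B : Type u) [CommRing B] [Algebra R B] (g : pt R B ⟶ GA R A) (x : E) :
    m.ρ B g ((1 : B) ⊗ₜ[R] x) = TensorProduct.comm R E B ((alg g).toLinearMap.lTensor E (delta m x)) := by
  have h := m.naturality (alg g) (point (AlgHom.id R A)) ((1 : A) ⊗ₜ[R] x)
  rw [ptMap_point, AlgHom.comp_id, point_alg, Wmap_tmul, map_one] at h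
  rw [← h]
  have key : ∀ z : A ⊗[R] E, Wmap (alg g) z = TensorProduct.comm R E B ((alg g).toLinearMap.lTensor E ((TensorProduct.comm R E A).symm z)) := by
    intro z
    induction z using TensorProduct.induction_on with
    | zero => simp
    | tmul a e => simp
    | add u v hu hv => simp only [map_add, hu, hv]
  exact key _

lemma delta_assoc : (TensorProduct.assoc R E A A).toLinearMap ∘ₗ (delta m).rTensor A ∘ₗ delta m =
    (CoalgebraStruct.comul (R := R) (A := A)).lTensor E ∘ₗ delta m := by
  refine LinearMap.ext fun x => ?_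
  let i₁ : A →ₐ[R] A ⊗[R] A := Algebra.TensorProduct.includeLeft
  let i₂ : A →ₐ[R] A ⊗[R] A := Algebra.TensorProduct.includeRight
  have hid : (Algebra.TensorProduct.lmul' R).comp (Algebra.TensorProduct.map i₁ i₂) = AlgHom.id R (A ⊗[R] A) := by
    ext a <;> simp [i₁, i₂]
  have hmul : alg (point i₁ * point i₂) = Bialgebra.comulAlgHom R A := by
    have h := congrArg WithConv.ofConv (alg_mul (point i₁) (point i₂))
    rw [alg_point, alg_point] at h
    refine h.trans ?_
    show (Algebra.TensorProduct.lmul' R).comp ((Algebra.TensorProduct.map i₁ i₂).comp (Bialgebra.comulAlgHom R A)) = _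
    rw [← AlgHom.comp_assoc, hid, AlgHom.id_comp]
  have hlin : (m.ρ (A ⊗[R] A) (point i₁)).toLinearMap = act (delta m) i₁ :=
    linearMap_ext _ _ fun y => by rw [act_one_tmul]; simpa [alg_point] using delta_spec m _ (point i₁) y
  have h : m.ρ _ (point i₁ * point i₂) ((1 : A ⊗[R] A) ⊗ₜ[R] x) = act (delta m) i₁ (m.ρ _ (point i₂) ((1 : A ⊗[R] A) ⊗ₜ[R] x)) := by
    rw [map_mul, LinearEquiv.mul_apply, ← hlin]
    rfl
  rw [delta_spec, delta_spec, hmul, alg_point, act_act, hid] at h
  have := (TensorProduct.comm R E (A ⊗[R] A)).injective h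
  simp only [AlgHom.toLinearMap_id, LinearMap.lTensor_id, LinearMap.id_apply] at this
  simp only [LinearMap.comp_apply, LinearEquiv.coe_coe]
  exact this.symm

lemma delta_counit : (CoalgebraStruct.counit (R := R) (A := A)).lTensor E ∘ₗ delta m = (TensorProduct.mk R E R).flip 1 := by
  refine LinearMap.ext fun x => (TensorProduct.comm R E R).injective ?_
  have h := delta_spec m R 1 x
  rw [map_one, alg_one] at h
  refine Eq.trans ?_ (h.symm.trans ?_)
  · rfl
  · rfl

end OfGMod

end Groth.Agent.CAlg6.GModComod
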