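import Mathlib
import Groth.Agent.CAlg6.GModAtlas

set_option autoImplicit false
universe u
open CategoryTheory AlgebraicGeometry
open scoped TensorProduct MonObj
open VecGrp

namespace Groth.Agent.CAlg6.GModStable

variable {R : Type u} [CommRing R] {G : Over (Spec (CommRingCat.of R))}
  {Γ₀ : Type u} [CommRing Γ₀] [Algebra R Γ₀]

lemma ptMap_comp {B B' B'' : Type u} [CommRing B] [Algebra R B] [CommRing B'] [Algebra R B'] [CommRing B''] [Algebra R B'']
    (φ : B →ₐ[R] B') (ψ : B' →ₐ[R] B'') : ptMap ψ ≫ ptMap φ = ptMap (ψ.comp φ) := by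
  apply Over.OverMorphism.ext
  rw [Over.comp_left, ptMap_left, ptMap_left, ptMap_left, ← Spec.map_comp]
  rfl

lemma wmap_rTensor {E : Type u} [AddCommGroup E] [Module R E] {B B' : Type u} [CommRing B] [Algebra R B]
    [CommRing B'] [Algebra R B'] (φ : B →ₐ[R] B') (h : Γ₀ →ₐ[R] B) (z : Γ₀ ⊗[R] E) :
    Wmap (M := E) φ (h.toLinearMap.rTensor E z) = (φ.comp h).toLinearMap.rTensor E z :=
  (LinearMap.rTensor_comp_apply E _ _ z).symm

/-- evaluation of functions at points, and the descent data of a finite affine cover -/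
structure Glue (G : Over (Spec (CommRingCat.of R))) (Γ₀ : Type u) [CommRing Γ₀] [Algebra R Γ₀]
    {J : Type u} {A : J → Type u} [∀ j, CommRing (A j)] [∀ j, Algebra R (A j)] (pts : ∀ j, pt R (A j) ⟶ G) where
  ev : ∀ (B : Type u) [CommRing B] [Algebra R B], (pt R B ⟶ G) → (Γ₀ →ₐ[R] B)
  ev_nat : ∀ {B B' : Type u} [CommRing B] [Algebra R B] [CommRing B'] [Algebra R B'] (φ : B →ₐ[R] B') (g : pt R B ⟶ G),
    ev B' (ptMap φ ≫ g) = φ.comp (ev B g)
  K : Type u
  finK : Finite K
  a : K → J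
  b : K → J
  C : K → Type u
  [cC : ∀ k, CommRing (C k)]
  [aC : ∀ k, Algebra R (C k)]
  r₁ : ∀ k, A (a k) →ₐ[R] C k
  r₂ : ∀ k, A (b k) →ₐ[R] C k
  hr : ∀ k, ptMap (r₁ k) ≫ pts (a k) = ptMap (r₂ k) ≫ pts (b k)
  inj : ∀ x y : Γ₀, (∀ j, ev (A j) (pts j) x = ev (A j) (pts j) y) → x = y
  glue : ∀ z : ∀ j, A j, (∀ k, r₁ k (z (a k)) = r₂ k (z (b k))) → ∃ x : Γ₀, ∀ j, ev (A j) (pts j) x = z j

attribute [instance] Glue.cC Glue.aC

variable {J : Type u} [Finite J] {A : J → Type u} [∀ j, CommRing (A j)] [∀ j, Algebra R (A j)]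
  {pts : ∀ j, pt R (A j) ⟶ G}

section Flat
variable (T : Glue G Γ₀ pts) (F : Type u) [AddCommGroup F] [Module R F] [Module.Flat R F]

omit [Module.Flat R F] in
lemma piLeft_bij {I : Type u} [Finite I] (M : I → Type u) [∀ i, AddCommGroup (M i)] [∀ i, Module R (M i)] :
    Function.Bijective (LinearMap.pi fun i => (LinearMap.proj i).rTensor F : (∀ i, M i) ⊗[R] F →ₗ[R] ∀ i, M i ⊗[R] F) := by
  classical
  cases nonempty_fintype I
  let e := TensorProduct.comm R (∀ i, M i) F ≪≫ₗ TensorProduct.piRight R R F M ≪≫ₗ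
    LinearEquiv.piCongrRight fun i => TensorProduct.comm R F (M i)
  have : (LinearMap.pi fun i => (LinearMap.proj i).rTensor F : (∀ i, M i) ⊗[R] F →ₗ[R] ∀ i, M i ⊗[R] F) = e.toLinearMap := by
    refine TensorProduct.ext' fun x f => funext fun i => ?_
    simp [e]
  rw [this]
  exact e.bijective

theorem rTensor_ext (w w' : Γ₀ ⊗[R] F)
    (h : ∀ j, (T.ev (A j) (pts j)).toLinearMap.rTensor F w = (T.ev (A j) (pts j)).toLinearMap.rTensor F w') : w = w' := by
  let f : Γ₀ →ₗ[R] ∀ j, A j := LinearMap.pi fun j => (T.ev (A j) (pts j)).toLinearMap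
  apply Module.Flat.rTensor_preserves_injective_linearMap (M := F) f fun x y hxy => T.inj x y fun j => congrFun hxy j
  apply (piLeft_bij F A).1
  funext j
  simp only [LinearMap.pi_apply, ← LinearMap.rTensor_comp_apply, f, LinearMap.proj_pi]
  exact h j

theorem rTensor_glue (z : ∀ j, A j ⊗[R] F)
    (hz : ∀ k, (T.r₁ k).toLinearMap.rTensor F (z (T.a k)) = (T.r₂ k).toLinearMap.rTensor F (z (T.b k))) :
    ∃ w : Γ₀ ⊗[R] F, ∀ j, (T.ev (A j) (pts j)).toLinearMap.rTensor F w = z j := by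
  have := T.finK
  let f : Γ₀ →ₗ[R] ∀ j, A j := LinearMap.pi fun j => (T.ev (A j) (pts j)).toLinearMap
  let d : (∀ j, A j) →ₗ[R] ∀ k, T.C k :=
    LinearMap.pi fun k => (T.r₁ k).toLinearMap ∘ₗ LinearMap.proj (T.a k) - (T.r₂ k).toLinearMap ∘ₗ LinearMap.proj (T.b k)
  have hfd : Function.Exact f d := by
    intro x
    constructor
    · intro hx
      obtain ⟨w, hw⟩ := T.glue x fun k => sub_eq_zero.1 (congrFun hx k)
      exact ⟨w, funext hw⟩
    · rintro ⟨w, rfl⟩
      funext k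
      show T.r₁ k (T.ev (A (T.a k)) (pts _) w) - T.r₂ k (T.ev (A (T.b k)) (pts _) w) = 0
      rw [← AlgHom.comp_apply, ← AlgHom.comp_apply, ← T.ev_nat, ← T.ev_nat, T.hr, sub_self]
  obtain ⟨Z, hZ⟩ := (piLeft_bij F A).2 z
  have hproj : ∀ j, (LinearMap.proj j : (∀ j, A j) →ₗ[R] A j).rTensor F Z = z j := fun j => congrFun hZ j
  have h0 : d.rTensor F Z = 0 := by
    apply (piLeft_bij F T.C).1
    funext k
    simp only [LinearMap.pi_apply, ← LinearMap.rTensor_comp_apply, d, LinearMap.proj_pi, LinearMap.rTensor_sub,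
      LinearMap.sub_apply, map_zero, Pi.zero_apply, LinearMap.rTensor_comp, LinearMap.comp_apply, hproj, hz, sub_self]
  obtain ⟨w, hw⟩ := (Module.Flat.rTensor_exact F hfd Z).1 h0
  refine ⟨w, fun j => ?_⟩
  rw [← hproj j, ← hw, ← LinearMap.rTensor_comp_apply]
  rfl

end Flat

variable [GrpObj G]

theorem exists_fg_stable_projective [Module.Projective R Γ₀] [∀ j, Module.Flat R (A j)] (T : Glue G Γ₀ pts)
    (hcov : Covers pts) {E : Type u} [AddCommGroup E] [Module R E] [Module.Flat R E] (m : GMod G E)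
    (M : Submodule R E) (hM : M.FG) :
    ∃ N : Submodule R E, M ≤ N ∧ N.FG ∧
      ∀ (B : Type u) [CommRing B] [Algebra R B] (g : pt R B ⟶ G) (x : E), x ∈ N →
        m.ρ B g ((1 : B) ⊗ₜ[R] x) ∈ LinearMap.range (N.subtype.baseChange B) := by
  classical
  -- the coaction
  have hc : ∀ x : E, ∃ w : Γ₀ ⊗[R] E, ∀ (B : Type u) [CommRing B] [Algebra R B] (g : pt R B ⟶ G),
      (T.ev B g).toLinearMap.rTensor E w = m.ρ B g ((1 : B) ⊗ₜ[R] x) := fun x => by
    obtain ⟨w, hw⟩ := rTensor_glue T E (fun j => m.ρ (A j) (pts j) ((1 : A j) ⊗ₜ[R] x)) fun k => by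
      show Wmap (T.r₁ k) _ = Wmap (T.r₂ k) _
      rw [m.naturality, m.naturality, wmap_one, wmap_one, T.hr]
    refine ⟨w, fun B _ _ g => sub_eq_zero.1 (eq_zero_of_local _ fun p => ?_)⟩
    obtain ⟨f, hf, j, φ, hφ⟩ := hcov B g p
    refine ⟨f, hf, ?_⟩
    rw [map_sub, sub_eq_zero, wmap_rTensor, ← T.ev_nat, m.naturality, wmap_one, hφ, T.ev_nat, ← wmap_rTensor, hw,
      m.naturality, wmap_one]
  choose c hc using hc
  -- coordinates on the projective module of functions
  obtain ⟨s, hs⟩ := Module.projective_def'.1 ‹Module.Projective R Γ₀›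
  let co : E → Γ₀ →₀ E := fun x => TensorProduct.finsuppScalarLeft R E Γ₀ (s.rTensor E (c x))
  have hcx : ∀ x, c x = ∑ b ∈ (co x).support, b ⊗ₜ[R] co x b := fun x => by
    have key : ∀ u : (Γ₀ →₀ R) ⊗[R] E, (Finsupp.linearCombination R (id : Γ₀ → Γ₀)).rTensor E u =
        (TensorProduct.finsuppScalarLeft R E Γ₀ u).sum fun b y => b ⊗ₜ[R] y := by
      intro u
      induction u using TensorProduct.induction_on with
      | zero => simp
      | tmul p y =>
        rw [LinearMap.rTensor_tmul, TensorProduct.finsuppScalarLeft_apply_tmul, Finsupp.linearCombination_apply,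
          Finsupp.sum_sum_index (by simp) (by simp [TensorProduct.tmul_add]), Finsupp.sum, Finsupp.sum, TensorProduct.sum_tmul]
        refine Finset.sum_congr rfl fun i _ => ?_
        rw [Finsupp.sum_single_index (by simp), TensorProduct.smul_tmul]; rfl
      | add u v hu hv =>
        rw [map_add, map_add, hu, hv, Finsupp.sum_add_index (by simp) (by simp [TensorProduct.tmul_add])]
    have := key (s.rTensor E (c x))
    rwa [← LinearMap.rTensor_comp_apply, hs, LinearMap.rTensor_id, LinearMap.id_apply] at this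
  obtain ⟨S, hS⟩ := hM
  let N : Submodule R E := Submodule.span R ↑(S.biUnion fun x => (co x).support.image (co x))
  have hmem : ∀ x ∈ S, ∀ b, co x b ∈ N := fun x hx b => by
    by_cases hb : b ∈ (co x).support
    · exact Submodule.subset_span (Finset.mem_coe.2 (Finset.mem_biUnion.2 ⟨x, hx, Finset.mem_image_of_mem _ hb⟩))
    · rw [Finsupp.notMem_support_iff.1 hb]; exact zero_mem N
  refine ⟨N, ?_, ⟨_, rfl⟩, fun B _ _ g y hy => (mem_range_baseChange_iff N B _).2
    (forall_eq_zero m hcov N.mkQ y (fun j => (mem_range_baseChange_iff N (A j) _).1 ?_) B g)⟩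
  · rw [← hS, Submodule.span_le]
    intro x hx
    have h1 : (T.ev R 1).toLinearMap.rTensor E (c x) = (1 : R) ⊗ₜ[R] x := by
      rw [hc, map_one]; rfl
    have := congr(TensorProduct.lid R E $h1)
    rw [hcx, map_sum, map_sum, TensorProduct.lid_tmul, one_smul] at this
    rw [SetLike.mem_coe, ← this]
    refine sum_mem fun b _ => ?_
    rw [LinearMap.rTensor_tmul, TensorProduct.lid_tmul]
    exact N.smul_mem _ (hmem x hx b)
  -- stability at the universal points
  · induction hy using Submodule.span_induction with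
    | zero => simp
    | add x y _ _ hx hy => rw [TensorProduct.tmul_add, map_add]; exact Submodule.add_mem _ hx hy
    | smul r x _ hx =>
      rw [TensorProduct.tmul_smul, ← algebraMap_smul (A j) r, map_smul]
      exact Submodule.smul_mem _ _ hx
    | mem y hy =>
    obtain ⟨x, hx, hy⟩ := Finset.mem_biUnion.1 hy
    obtain ⟨b₀, -, rfl⟩ := Finset.mem_image.1 hy
    let h : ∀ i, pt R (A i ⊗[R] A j) ⟶ G := fun i =>
      (ptMap (Algebra.TensorProduct.includeRight : A j →ₐ[R] A i ⊗[R] A j) ≫ pts j) *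
        (ptMap (Algebra.TensorProduct.includeLeft : A i →ₐ[R] A i ⊗[R] A j) ≫ pts i)
    have hmu : ∀ b : Γ₀, ∃ mu : Γ₀ ⊗[R] A j, ∀ i, (T.ev (A i) (pts i)).toLinearMap.rTensor (A j) mu = T.ev _ (h i) b :=
      fun b => rTensor_glue T (A j) (fun i => T.ev _ (h i) b) fun k => by
        let ψ₁ : A (T.a k) ⊗[R] A j →ₐ[R] T.C k ⊗[R] A j := Algebra.TensorProduct.map (T.r₁ k) (AlgHom.id R (A j))
        let ψ₂ : A (T.b k) ⊗[R] A j →ₐ[R] T.C k ⊗[R] A j := Algebra.TensorProduct.map (T.r₂ k) (AlgHom.id R (A j))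
        show ψ₁ (T.ev _ (h _) b) = ψ₂ (T.ev _ (h _) b)
        rw [← AlgHom.comp_apply, ← AlgHom.comp_apply, ← T.ev_nat, ← T.ev_nat]
        have e1 : ψ₁.comp (Algebra.TensorProduct.includeRight : A j →ₐ[R] _) =
            (Algebra.TensorProduct.includeRight : A j →ₐ[R] T.C k ⊗[R] A j) := by ext a; simp [ψ₁]
        have e2 : ψ₂.comp (Algebra.TensorProduct.includeRight : A j →ₐ[R] _) =
            (Algebra.TensorProduct.includeRight : A j →ₐ[R] T.C k ⊗[R] A j) := by ext a; simp [ψ₂]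
        have e3 : ψ₁.comp (Algebra.TensorProduct.includeLeft : A (T.a k) →ₐ[R] _) =
            (Algebra.TensorProduct.includeLeft : T.C k →ₐ[R] T.C k ⊗[R] A j).comp (T.r₁ k) := by ext a; simp [ψ₁]
        have e4 : ψ₂.comp (Algebra.TensorProduct.includeLeft : A (T.b k) →ₐ[R] _) =
            (Algebra.TensorProduct.includeLeft : T.C k →ₐ[R] T.C k ⊗[R] A j).comp (T.r₂ k) := by ext a; simp [ψ₂]
        simp only [h, MonObj.comp_mul, ← Category.assoc, ptMap_comp, e1, e2, e3, e4]
        rw [← ptMap_comp (T.r₁ k), ← ptMap_comp (T.r₂ k), Category.assoc, Category.assoc, T.hr]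
    choose mu hmu using hmu
    let ρy : Γ₀ → A j ⊗[R] E := fun b => m.ρ (A j) (pts j) ((1 : A j) ⊗ₜ[R] co x b)
    have hW : (∑ b ∈ (co x).support, b ⊗ₜ[R] ρy b) =
        ∑ b ∈ (co x).support, TensorProduct.assoc R Γ₀ (A j) E (mu b ⊗ₜ[R] co x b) := by
      refine rTensor_ext T (A j ⊗[R] E) _ _ fun i => ?_
      apply (TensorProduct.assoc R (A i) (A j) E).symm.injective
      let ι₁ : A i →ₐ[R] A i ⊗[R] A j := Algebra.TensorProduct.includeLeft
      let ι₂ : A j →ₐ[R] A i ⊗[R] A j := Algebra.TensorProduct.includeRight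
      have hL : ∀ (a : A i) (z : A j ⊗[R] E), (TensorProduct.assoc R (A i) (A j) E).symm (a ⊗ₜ[R] z) = ι₁ a • Wmap ι₂ z := by
        intro a z
        induction z using TensorProduct.induction_on with
        | zero => simp
        | tmul a' e => simp [ι₁, ι₂, TensorProduct.smul_tmul']
        | add u v hu hv => simp [TensorProduct.tmul_add, hu, hv]
      have hR : ∀ (b : Γ₀) (u : Γ₀ ⊗[R] A j) (e : E), (TensorProduct.assoc R (A i) (A j) E).symm
          ((T.ev (A i) (pts i)).toLinearMap.rTensor (A j ⊗[R] E) (TensorProduct.assoc R Γ₀ (A j) E (u ⊗ₜ[R] e))) =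
          (T.ev (A i) (pts i)).toLinearMap.rTensor (A j) u ⊗ₜ[R] e := by
        intro b u e
        induction u using TensorProduct.induction_on with
        | zero => simp
        | tmul a a' => simp
        | add u v hu hv => simp only [TensorProduct.add_tmul, map_add, hu, hv]
      have hlhs : ∀ b, ι₁ (T.ev (A i) (pts i) b) • Wmap (M := E) ι₂ (ρy b) =
          m.ρ _ (ptMap ι₂ ≫ pts j) (Wmap ι₁ (T.ev (A i) (pts i) b ⊗ₜ[R] co x b)) := fun b => by
        rw [m.naturality, wmap_one, ← LinearEquiv.map_smul]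
        simp [Wmap_tmul, TensorProduct.smul_tmul']
      simp only [map_sum, LinearMap.rTensor_tmul, AlgHom.toLinearMap_apply, hL, hR (1 : Γ₀), hmu, hlhs]
      simp only [← map_sum]
      rw [show (∑ b ∈ (co x).support, T.ev (A i) (pts i) b ⊗ₜ[R] co x b) = m.ρ (A i) (pts i) ((1 : A i) ⊗ₜ[R] x) by
        rw [← hc, hcx x, map_sum]; rfl]
      rw [m.naturality, wmap_one, ← LinearEquiv.mul_apply, ← map_mul, ← hc, hcx x, map_sum]
      rfl
    let φ₀ : Γ₀ →ₗ[R] R := Finsupp.lapply b₀ ∘ₗ s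
    let P : Γ₀ ⊗[R] (A j ⊗[R] E) →ₗ[R] A j ⊗[R] E := (TensorProduct.lid R _).toLinearMap ∘ₗ φ₀.rTensor _
    have hy0 : co x b₀ = TensorProduct.lid R E (φ₀.rTensor E (c x)) := by
      simp only [co, φ₀, TensorProduct.finsuppScalarLeft_apply, ← LinearMap.rTensor_comp_apply]
    have hPZ : P (∑ b ∈ (co x).support, b ⊗ₜ[R] ρy b) = m.ρ (A j) (pts j) ((1 : A j) ⊗ₜ[R] co x b₀) := by
      rw [hy0, hcx x, map_sum, map_sum, map_sum, TensorProduct.tmul_sum, map_sum]
      refine Finset.sum_congr rfl fun b _ => ?_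
      rw [LinearMap.rTensor_tmul, TensorProduct.lid_tmul, TensorProduct.tmul_smul, ← algebraMap_smul (A j) (φ₀ b), map_smul,
        algebraMap_smul]
      simp [P, ρy]
    rw [← hPZ, hW, map_sum]
    refine Submodule.sum_mem _ fun b _ => ?_
    have hP : ∀ (u : Γ₀ ⊗[R] A j) (e : E), P (TensorProduct.assoc R Γ₀ (A j) E (u ⊗ₜ[R] e)) =
        TensorProduct.lid R (A j) (φ₀.rTensor (A j) u) ⊗ₜ[R] e := by
      intro u e
      induction u using TensorProduct.induction_on with
      | zero => simp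
      | tmul a a' => simp [P, TensorProduct.smul_tmul']
      | add u v hu hv => simp only [TensorProduct.add_tmul, map_add, hu, hv]
    rw [hP]
    exact ⟨_ ⊗ₜ[R] ⟨_, hmem x hx b⟩, LinearMap.baseChange_tmul _ _ _⟩

end Groth.Agent.CAlg6.GModStable
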