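import Mathlib
import Groth.Agent.CAlg6.GModProj

set_option autoImplicit false
universe u
open CategoryTheory AlgebraicGeometry TopologicalSpace Opposite
open scoped TensorProduct
open VecGrp

namespace Groth.Agent.CAlg6.GModStable

variable {R : Type u} [CommRing R]

theorem exists_glue (G : Over (Spec (CommRingCat.of R))) [Flat G.hom] [QuasiCompact G.hom] [QuasiSeparated G.hom] :
    letI : Algebra R Γ(G.left, ⊤) := (((Scheme.ΓSpecIso (CommRingCat.of R)).inv ≫ G.hom.appTop).hom).toAlgebra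
    ∃ (J : Type u) (_ : Finite J) (A : J → Type u) (_ : ∀ j, CommRing (A j)) (_ : ∀ j, Algebra R (A j))
      (pts : ∀ j, pt R (A j) ⟶ G), (∀ j, Module.Flat R (A j)) ∧ Covers (G := G) pts ∧
        Nonempty (Glue G Γ(G.left, ⊤) pts) := by
  classical
  letI : Algebra R Γ(G.left, ⊤) := (((Scheme.ΓSpecIso (CommRingCat.of R)).inv ≫ G.hom.appTop).hom).toAlgebra
  have : CompactSpace G.left := (quasiCompact_iff_compactSpace G.hom).1 ‹_›
  have : QuasiSeparatedSpace G.left := (quasiSeparated_iff_quasiSeparatedSpace G.hom).1 ‹_›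
  have hb : ∀ x : G.left, ∃ U : G.left.Opens, x ∈ U ∧ IsAffineOpen U := fun x => by
    obtain ⟨_, ⟨U, hU, rfl⟩, hx, -⟩ := G.left.isBasis_affineOpens.exists_subset_of_mem_open (Set.mem_univ x) isOpen_univ
    exact ⟨U, hx, hU⟩
  choose U hxU hU using hb
  obtain ⟨t, ht⟩ := isCompact_univ.elim_finite_subcover (fun x : G.left => (U x : Set G.left)) (fun x => (U x).2)
    (fun x _ => Set.mem_iUnion.2 ⟨x, hxU x⟩)
  have hfin : ∀ p : t × t, ∃ w : Finset G.left.affineOpens,
      (∀ W ∈ w, W.1 ≤ U p.1 ⊓ U p.2) ∧ ∀ x : G.left, x ∈ U p.1 ⊓ U p.2 → ∃ W ∈ w, x ∈ W.1 := by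
    intro p
    have hc : IsCompact ((U p.1 : Set G.left) ∩ U p.2) :=
      QuasiSeparatedSpace.inter_isCompact _ _ (U p.1).2 (hU _).isCompact (U p.2).2 (hU _).isCompact
    have hbasis : ∀ x ∈ ((U p.1 : Set G.left) ∩ U p.2), ∃ W : G.left.affineOpens, x ∈ W.1 ∧ W.1 ≤ U p.1 ⊓ U p.2 := fun x hx => by
      obtain ⟨_, ⟨W, hW, rfl⟩, hxW, hWU⟩ := G.left.isBasis_affineOpens.exists_subset_of_mem_open hx ((U p.1).2.inter (U p.2).2)
      exact ⟨⟨W, hW⟩, hxW, hWU⟩
    choose W hW hWU using hbasis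
    obtain ⟨w, hw⟩ := hc.elim_finite_subcover
      (fun x : ((U p.1 : Set G.left) ∩ U p.2 : Set G.left) => ((W x.1 x.2).1 : Set G.left)) (fun x => (W x.1 x.2).1.2)
      (fun x hx => Set.mem_iUnion.2 ⟨⟨x, hx⟩, hW x hx⟩)
    refine ⟨w.image fun x => W x.1 x.2, fun V hV => ?_, fun x hx => ?_⟩
    · obtain ⟨x, -, rfl⟩ := Finset.mem_image.1 hV; exact hWU _ _
    · obtain ⟨a, ha, hxa⟩ := Set.mem_iUnion₂.1 (hw hx)
      exact ⟨_, Finset.mem_image_of_mem _ ha, hxa⟩
  choose w hwle hwcov using hfin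
  letI alg : ∀ j : t, Algebra R Γ(G.left, U j) := fun j => (strHom G (U j)).toAlgebra
  let pts : ∀ j : t, pt R Γ(G.left, U j) ⟶ G := fun j => Over.homMk (hU j).fromSpec (spec_strHom G (hU j))
  -- evaluation
  let evh : ∀ (B : Type u) [CommRing B] [Algebra R B], (pt R B ⟶ G) → (Γ(G.left, ⊤) ⟶ CommRingCat.of B) :=
    fun B _ _ g => g.left.appTop ≫ (Scheme.ΓSpecIso (CommRingCat.of B)).hom
  have hevc : ∀ (B : Type u) [CommRing B] [Algebra R B] (g : pt R B ⟶ G) (r : R),
      evh B g (algebraMap R Γ(G.left, ⊤) r) = algebraMap R B r := by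
    intro B _ _ g r
    have h : (Scheme.ΓSpecIso (CommRingCat.of R)).inv ≫ G.hom.appTop ≫ evh B g = CommRingCat.ofHom (algebraMap R B) := by
      rw [show G.hom.appTop ≫ evh B g = (g.left ≫ G.hom).appTop ≫ (Scheme.ΓSpecIso (CommRingCat.of B)).hom by
        simp only [evh, Scheme.Hom.comp_appTop, Category.assoc], Over.w g]
      show _ ≫ (Spec.map (CommRingCat.ofHom (algebraMap R B))).appTop ≫ _ = _
      rw [Scheme.ΓSpecIso_naturality, Iso.inv_hom_id_assoc]
    exact congr($h r)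
  let ev : ∀ (B : Type u) [CommRing B] [Algebra R B], (pt R B ⟶ G) → (Γ(G.left, ⊤) →ₐ[R] B) :=
    fun B _ _ g => { toRingHom := (evh B g).hom, commutes' := hevc B g }
  have hres : ∀ (j : t) (x : Γ(G.left, ⊤)), ev _ (pts j) x = G.left.presheaf.map (homOfLE (le_top : U j ≤ ⊤)).op x := by
    intro j x
    have h : (hU j).fromSpec.appTop ≫ (Scheme.ΓSpecIso Γ(G.left, U j)).hom = G.left.presheaf.map (homOfLE (le_top : U j ≤ ⊤)).op := by
      rw [Scheme.Hom.appTop, IsAffineOpen.fromSpec_app_of_le (hU j) ⊤ le_top]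
      simp
    exact congr($h x)
  let K := Σ p : t × t, {W // W ∈ w p}
  have hle₁ : ∀ k : K, k.2.1.1 ≤ U k.1.1 := fun k => (hwle k.1 _ k.2.2).trans inf_le_left
  have hle₂ : ∀ k : K, k.2.1.1 ≤ U k.1.2 := fun k => (hwle k.1 _ k.2.2).trans inf_le_right
  letI algC : ∀ k : K, Algebra R Γ(G.left, k.2.1.1) := fun k => (strHom G k.2.1.1).toAlgebra
  have hstr : ∀ (V W : G.left.Opens) (h : W ≤ V) (r : R), G.left.presheaf.map (homOfLE h).op (strHom G V r) = strHom G W r := by
    intro V W h r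
    have : G.hom.appLE ⊤ V le_top ≫ G.left.presheaf.map (homOfLE h).op = G.hom.appLE ⊤ W le_top := Scheme.Hom.appLE_map _ _ _
    exact congr($this ((Scheme.ΓSpecIso (CommRingCat.of R)).inv r))
  let r₁ : ∀ k : K, Γ(G.left, U k.1.1) →ₐ[R] Γ(G.left, k.2.1.1) := fun k =>
    { toRingHom := (G.left.presheaf.map (homOfLE (hle₁ k)).op).hom, commutes' := fun r => hstr _ _ (hle₁ k) r }
  let r₂ : ∀ k : K, Γ(G.left, U k.1.2) →ₐ[R] Γ(G.left, k.2.1.1) := fun k =>
    { toRingHom := (G.left.presheaf.map (homOfLE (hle₂ k)).op).hom, commutes' := fun r => hstr _ _ (hle₂ k) r }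
  have hcovU : (⊤ : G.left.Opens) ≤ iSup fun j : t => U j := fun x _ => by
    obtain ⟨a, ha, hxa⟩ := Set.mem_iUnion₂.1 (ht (Set.mem_univ x))
    exact Opens.mem_iSup.2 ⟨⟨a, ha⟩, hxa⟩
  refine ⟨t, inferInstance, fun j => Γ(G.left, U j), fun _ => inferInstance, alg, pts, fun j => ?_, ?_, ⟨?_⟩⟩
  · rw [← RingHom.flat_algebraMap_iff]
    exact RingHom.Flat.respectsIso.2 _ (Scheme.ΓSpecIso (CommRingCat.of R)).commRingCatIsoToRingEquiv.symm
      (G.hom.flat_appLE (isAffineOpen_top _) (hU j) le_top)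
  · intro B _ _ g p
    let q : Spec (CommRingCat.of B) := p
    obtain ⟨a, hat, ha⟩ := Set.mem_iUnion₂.1 (ht (Set.mem_univ (g.left q)))
    obtain ⟨_, ⟨_, ⟨f, rfl⟩, rfl⟩, hpf, hfU⟩ := PrimeSpectrum.isBasis_basic_opens.exists_subset_of_mem_open
      (u := ((g.left ⁻¹ᵁ U a).1 : Set (PrimeSpectrum B))) (a := p) ha (g.left ⁻¹ᵁ U a).2
    refine ⟨f, hpf, ⟨a, hat⟩, ?_⟩
    let L := Localization.Away f
    let loc := ptMap (IsScalarTower.toAlgHom R B L)
    have hsub : Set.range (loc ≫ g).left ⊆ Set.range (hU a).fromSpec := by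
      rw [(hU a).range_fromSpec]
      rintro _ ⟨z, rfl⟩
      apply hfU
      show z.comap (algebraMap B L) ∈ PrimeSpectrum.basicOpen f
      rw [← SetLike.mem_coe, ← PrimeSpectrum.localization_away_comap_range L f]
      exact Set.mem_range_self z
    let ψ := Spec.preimage (IsOpenImmersion.lift (hU a).fromSpec (loc ≫ g).left hsub)
    have hψ : Spec.map ψ ≫ (hU a).fromSpec = (loc ≫ g).left := by
      rw [Spec.map_preimage, IsOpenImmersion.lift_fac]
    have hc : ψ.hom.comp (strHom G (U a)) = algebraMap R L := by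
      have h1 : Spec.map (CommRingCat.ofHom (strHom G (U a)) ≫ ψ) = Spec.map (CommRingCat.ofHom (algebraMap R L)) := by
        rw [Spec.map_comp, ← spec_strHom G (hU a), ← Category.assoc, hψ]
        exact Over.w (loc ≫ g)
      exact congrArg CommRingCat.Hom.hom (Spec.map_injective h1)
    refine ⟨{ toRingHom := ψ.hom, commutes' := fun r => congr($hc r) }, ?_⟩
    apply Over.OverMorphism.ext
    exact hψ.symm
  exact
    { ev := ev
      ev_nat := fun {B B'} _ _ _ _ φ g => AlgHom.ext fun x => by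
        have h : evh B' (ptMap φ ≫ g) = evh B g ≫ CommRingCat.ofHom φ.toRingHom := by
          simp only [evh, Over.comp_left, Scheme.Hom.comp_appTop, ptMap_left, Category.assoc]
          rw [Scheme.ΓSpecIso_naturality]
        exact congr($h x)
      K := K
      finK := inferInstance
      a := fun k => k.1.1
      b := fun k => k.1.2
      C := fun k => Γ(G.left, k.2.1.1)
      r₁ := r₁
      r₂ := r₂
      hr := fun k => by
        apply Over.OverMorphism.ext
        exact ((hU _).map_fromSpec k.2.1.2 (homOfLE (hle₁ k)).op).trans ((hU _).map_fromSpec k.2.1.2 (homOfLE (hle₂ k)).op).symm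
      inj := fun x y h => G.left.sheaf.eq_of_locally_eq' (fun j : t => U j) ⊤ (fun j => homOfLE le_top) hcovU x y fun j => by
        have := h j
        rw [hres, hres] at this
        exact this
      glue := fun z hz => by
        obtain ⟨x, hx, -⟩ := G.left.sheaf.existsUnique_gluing' (fun j : t => U j) ⊤ (fun j => homOfLE le_top) hcovU z
          (fun i j => by
            refine G.left.sheaf.eq_of_locally_eq' (fun W : {W // W ∈ w (i, j)} => W.1.1) _
              (fun W => homOfLE (hwle (i, j) _ W.2))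
              (fun x hx => by
                obtain ⟨W, hW, hxW⟩ := hwcov (i, j) x hx
                exact Opens.mem_iSup.2 ⟨⟨W, hW⟩, hxW⟩) _ _ fun W => ?_
            change ((G.left.presheaf.map _ ≫ G.left.presheaf.map _) (z i)) = ((G.left.presheaf.map _ ≫ G.left.presheaf.map _) (z j))
            rw [← Functor.map_comp, ← Functor.map_comp]
            exact hz ⟨(i, j), W⟩)
        exact ⟨x, fun j => (hres j x).trans (hx j)⟩ }

end Groth.Agent.CAlg6.GModStable
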