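import Groth.Agent.AlgGrp79.ActRep
import Groth.Agent.AlgGrp79.GModRep
import Groth.Agent.GMod80.GLHom
import Groth.Prelude.Def_NonAbH2

/-!
The global functions on a quasi-compact quasi-separated group scheme over a field form a Hopf algebra, and the
canonical morphism to its spectrum is a homomorphism (SGA 3 VI_B 11).
-/

set_option autoImplicit false
set_option linter.unusedSectionVars false
set_option backward.isDefEq.respectTransparency.types false
universe u

open CategoryTheory CategoryTheory.Limits MonoidalCategory CartesianMonoidalCategory MonObj AlgebraicGeometry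
open scoped TensorProduct
open WithConv

noncomputable section

namespace Groth.Agent.CAlg6.GammaHopf

open AlgGrp79 AlgGrp79.GLnDiag AlgGrp79.ProdSections AlgGrp79.ActRep GMod80

attribute [local instance] GLnDiag.gAlg

variable {k : Type u} [Field k] (G : Over (Spec (CommRingCat.of k))) [GrpObj G] [QuasiCompact G.hom]
  [QuasiSeparated G.hom]

def comul : Γ(G.left, ⊤) →ₐ[k] Γ(G.left, ⊤) ⊗[k] Γ(G.left, ⊤) := ActRep.Δ (NonAbH1.trivialAction G)

theorem ev_comul {P : Over (Spec (CommRingCat.of k))} (g x : P ⟶ G) (f : Γ(G.left, ⊤)) :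
    ev g x (comul G f) = pb (g * x) f := by
  rw [Hom.mul_def]; exact ev_Δ (NonAbH1.trivialAction G) g x f

theorem pb_mul : pb (fst G G * snd G G) = (ev (fst G G) (snd G G)).comp (comul G) :=
  AlgHom.ext fun f => (ev_comul G (fst G G) (snd G G) f).symm

def counit : Γ(G.left, ⊤) →ₐ[k] k where
  toRingHom := ((Scheme.ΓSpecIso (CommRingCat.of k)).hom).hom.comp
    ((η[G] : 𝟙_ (Over (Spec (CommRingCat.of k))) ⟶ G).left.appTop).hom
  commutes' r := by
    show (Scheme.ΓSpecIso (CommRingCat.of k)).hom.hom (η[G].left.appTop.hom (GLnDiag.cst G r)) = r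
    rw [show η[G].left.appTop.hom (GLnDiag.cst G r) = GLnDiag.cst _ r from comp_cst η[G] r]
    show (Scheme.ΓSpecIso (CommRingCat.of k)).hom
      (((Scheme.ΓSpecIso (CommRingCat.of k)).inv ≫ (𝟙 (Spec (CommRingCat.of k)) :).appTop) r) = r
    rw [Scheme.Hom.id_appTop, Category.comp_id, Iso.inv_hom_id_apply]

theorem pb_one {P : Over (Spec (CommRingCat.of k))} (f : Γ(G.left, ⊤)) :
    pb (1 : P ⟶ G) f = algebraMap k _ (counit G f) := by
  obtain ⟨r, hr⟩ := exists_scalar (pb η[G] f)
  have hc : counit G f = r := by
    show (Scheme.ΓSpecIso (CommRingCat.of k)).hom.hom (pb η[G] f) = r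
    rw [hr]
    show (Scheme.ΓSpecIso (CommRingCat.of k)).hom
      (((Scheme.ΓSpecIso (CommRingCat.of k)).inv ≫ (𝟙 (Spec (CommRingCat.of k)) :).appTop) r) = r
    rw [Scheme.Hom.id_appTop, Category.comp_id, Iso.inv_hom_id_apply]
  rw [one_def', pb_comp_apply, hr, hc]
  exact comp_cst _ r

def antipode : Γ(G.left, ⊤) →ₐ[k] Γ(G.left, ⊤) := pb (GrpObj.inv : G ⟶ G)

@[reducible] def bialgebra : Bialgebra k Γ(G.left, ⊤) :=
  Bialgebra.ofAlgHom (comul G) (counit G)
    (by
      refine AlgHom.ext fun f => ?_
      have h := Δ_assoc (NonAbH1.trivialAction G) f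
      rw [pb_mul] at h
      have hinj : Function.Injective
          (Algebra.TensorProduct.map (ev (fst G G) (snd G G)) (AlgHom.id k Γ(G.left, ⊤))) :=
        Module.Flat.rTensor_preserves_injective_linearMap (ev (fst G G) (snd G G)).toLinearMap (ev_injective G G)
      apply (Algebra.TensorProduct.assoc k k k _ _ _).symm.injective
      simp only [AlgHom.comp_apply, AlgEquiv.coe_toAlgHom, AlgEquiv.symm_apply_apply]
      refine hinj (Eq.trans ?_ h)
      show _ = Algebra.TensorProduct.map ((ev (fst G G) (snd G G)).comp (comul G)) (AlgHom.id k _) (comul G f)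
      rw [← AlgHom.comp_apply, ← Algebra.TensorProduct.map_comp, AlgHom.comp_id])
    (by
      refine AlgHom.ext fun f => (TensorProduct.lid k _).injective ?_
      have h1 : ∀ z : Γ(G.left, ⊤) ⊗[k] Γ(G.left, ⊤),
          TensorProduct.lid k _ (Algebra.TensorProduct.map (counit G) (AlgHom.id k _) z) =
            ev (1 : G ⟶ G) (𝟙 G) z := fun z => by
        induction z using TensorProduct.induction_on with
        | zero => simp
        | add p q hp hq => simp only [map_add, hp, hq]
        | tmul p q => simp [ev_tmul, pb_one, pb_id, Algebra.smul_def]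
      refine (h1 _).trans ?_
      show ev _ _ (comul G f) = _
      rw [ev_comul, _root_.one_mul, pb_id]
      simp)
    (by
      refine AlgHom.ext fun f => (TensorProduct.rid k _).injective ?_
      have h1 : ∀ z : Γ(G.left, ⊤) ⊗[k] Γ(G.left, ⊤),
          TensorProduct.rid k _ (Algebra.TensorProduct.map (AlgHom.id k _) (counit G) z) =
            ev (𝟙 G) (1 : G ⟶ G) z := fun z => by
        induction z using TensorProduct.induction_on with
        | zero => simp
        | add p q hp hq => simp only [map_add, hp, hq]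
        | tmul p q =>
          simp only [ev_tmul, pb_one, pb_id, Algebra.TensorProduct.map_tmul, AlgHom.id_apply, TensorProduct.rid_tmul,
            Algebra.smul_def]
          exact _root_.mul_comm _ _
      refine (h1 _).trans ?_
      show ev _ _ (comul G f) = _
      rw [ev_comul, _root_.mul_one, pb_id]
      simp)

@[reducible] def hopf : HopfAlgebra k Γ(G.left, ⊤) :=
  letI := bialgebra G
  HopfAlgebra.ofAlgHom (antipode G)
    (by
      refine AlgHom.ext fun f => ?_
      have h : ∀ z : Γ(G.left, ⊤) ⊗[k] Γ(G.left, ⊤),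
          Algebra.TensorProduct.lift (antipode G) (AlgHom.id k _) (fun _ _ => Commute.all _ _) z =
            ev (GrpObj.inv : G ⟶ G) (𝟙 G) z := fun z => by
        induction z using TensorProduct.induction_on with
        | zero => simp
        | add p q hp hq => simp only [map_add, hp, hq]
        | tmul p q => simp [ev_tmul, antipode, pb_id]
      refine (h _).trans ?_
      show ev _ _ (comul G f) = _
      rw [ev_comul, show (GrpObj.inv : G ⟶ G) = (𝟙 G)⁻¹ by rw [Hom.inv_def, Category.id_comp], inv_mul_cancel, pb_one]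
      rfl)
    (by
      refine AlgHom.ext fun f => ?_
      have h : ∀ z : Γ(G.left, ⊤) ⊗[k] Γ(G.left, ⊤),
          Algebra.TensorProduct.lift (AlgHom.id k _) (antipode G) (fun _ _ => Commute.all _ _) z =
            ev (𝟙 G) (GrpObj.inv : G ⟶ G) z := fun z => by
        induction z using TensorProduct.induction_on with
        | zero => simp
        | add p q hp hq => simp only [map_add, hp, hq]
        | tmul p q => simp [ev_tmul, antipode, pb_id]
      refine (h _).trans ?_
      show ev _ _ (comul G f) = _
      rw [ev_comul, show (GrpObj.inv : G ⟶ G) = (𝟙 G)⁻¹ by rw [Hom.inv_def, Category.id_comp], mul_inv_cancel, pb_one]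
      rfl)

/-- the affine hull -/
abbrev hull : Over (Spec (CommRingCat.of k)) :=
  letI := hopf G
  sp k Γ(G.left, ⊤)

/-- the canonical morphism -/
abbrev toHull : G ⟶ hull G := GModRep.affP G

@[reducible] def hullGrp : GrpObj (hull G) :=
  letI := hopf G
  (inferInstance : GrpObj (sp k Γ(G.left, ⊤)))

theorem comp_toHull {T : Over (Spec (CommRingCat.of k))} (t : T ⟶ G) :
    letI := hopf G
    t ≫ toHull G = GModRep.affP T ≫ Spec.mapMulEquiv (toConv (pb t)) := by
  letI := hopf G
  apply Over.OverMorphism.ext
  show t.left ≫ G.left.toSpecΓ = T.left.toSpecΓ ≫ Spec.map t.left.appTop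
  exact Scheme.toSpecΓ_naturality t.left

theorem isMonHom_toHull : letI := hullGrp G; IsMonHom (toHull G) := by
  letI := hopf G
  letI := hullGrp G
  have hmul : ∀ (T : Over (Spec (CommRingCat.of k))) (t1 t2 : T ⟶ G),
      (t1 * t2) ≫ toHull G = (t1 ≫ toHull G) * (t2 ≫ toHull G) := by
    intro T t1 t2
    rw [comp_toHull G, comp_toHull G, comp_toHull G]
    refine Eq.trans (congrArg (GModRep.affP T ≫ ·) ?_) (MonObj.comp_mul _ _ _)
    refine Eq.trans ?_ (map_mul Spec.mapMulEquiv _ _)
    congr 1
    refine WithConv.ofConv_injective (AlgHom.ext fun f => ?_)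
    rw [AlgHom.convMul_apply]
    exact (ev_comul G t1 t2 f).symm
  have hone : (1 : 𝟙_ (Over (Spec (CommRingCat.of k))) ⟶ G) ≫ toHull G = 1 := by
    have h := hmul (𝟙_ (Over (Spec (CommRingCat.of k)))) 1 1
    rw [_root_.one_mul] at h
    exact left_eq_mul.1 h
  refine ⟨?_, ?_⟩
  · rw [one_def', toUnit_unique (toUnit (𝟙_ (Over (Spec (CommRingCat.of k))))) (𝟙 _), Category.id_comp] at hone
    rw [hone, one_def', toUnit_unique (toUnit (𝟙_ (Over (Spec (CommRingCat.of k))))) (𝟙 _), Category.id_comp]
  · have h := hmul (G ⊗ G) (fst G G) (snd G G)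
    rw [Hom.mul_def, lift_fst_snd, Category.id_comp] at h
    rw [h, Hom.mul_def]
    congr 1

end Groth.Agent.CAlg6.GammaHopf
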