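import Mathlib
import Groth.Agent.CAlg6.GenDerived

/-! The derived series over a neighbourhood of the generic point. -/

set_option autoImplicit false
universe u
open CategoryTheory CategoryTheory.Limits MonoidalCategory CartesianMonoidalCategory MonObj AlgebraicGeometry

namespace Groth.Agent.CAlg6.GenDerived

attribute [local instance] GrpWord.bcGrp

variable {S : Scheme.{u}} [IsIntegral S] {G : Over S} [GrpObj G]

/-- a member of the derived series near the generic point -/
structure St (G : Over S) [GrpObj G] (U : S.Opens) where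
  D : Over S
  d : D ⟶ G
  g : GrpObj (Red.bc (GenClosure.gσ S) D)
  closed : IsClosedImmersion d.left
  good : Good U D
  flat : ∀ V ≤ U, Flat (pullback.snd D.hom V.ι)
  hom : IsMonHom ((Over.pullback (GenClosure.gσ S)).map d)
  normal : AlgGrp.IsNormalHom ((Over.pullback (GenClosure.gσ S)).map d)

variable [LocallyOfFinitePresentation G.hom] [QuasiCompact G.hom] [QuasiSeparated G.hom]

/-- shrinking the open -/
def St.mono {U U' : S.Opens} (s : St G U) (hU : genericPoint S ∈ U') (hle : U' ≤ U) : St G U' :=
  { D := s.D, d := s.d, g := s.g, closed := s.closed, good := s.good.mono hU hle,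
    flat := fun V hV => s.flat V (hV.trans hle), hom := s.hom, normal := s.normal }

theorem exists_series (hsm : ∀ s : S, Smooth (pullback.snd G.hom (S.fromSpecResidueField s))) (n : ℕ) :
    ∃ (U : S.Opens) (st : ℕ → St G U) (N : ℕ → ℕ), genericPoint S ∈ U ∧
      (∀ V ≤ U, Flat (pullback.snd G.hom V.ι)) ∧ IsIso (st 0).d ∧
      ∀ p < n, (∀ x : G.left, G.hom x ∈ U →
          (x ∈ Set.range (st (p + 1)).d.left ↔ x ∈ GrpWord.WSet (GrpWord.cmap (st p).d (st p).d) (N p))) ∧
        (∀ x : G.left, G.hom x ∈ U → x ∈ GrpWord.WSet (GrpWord.cmap (st p).d (st p).d) 1 →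
          x ∈ GrpWord.WSet (GrpWord.cmap (st p).d (st p).d) (N p)) := by
  classical
  induction n with
  | zero =>
    obtain ⟨UG, hUG, hUG'⟩ := GenClosure.exists_open_flat_lfp G.hom
    let s₀ : St G UG :=
      { D := G
        d := 𝟙 G
        g := GrpWord.bcGrp _
        closed := inferInstanceAs (IsClosedImmersion (𝟙 G.left))
        good := ⟨hUG, inferInstance, inferInstance, fun V hV => (hUG' V hV).2, fun s _ => hsm s⟩
        flat := fun V hV => (hUG' V hV).1
        hom := by rw [CategoryTheory.Functor.map_id]; infer_instance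
        normal := fun T g n => ⟨g * n * g⁻¹, by simp⟩ }
    exact ⟨UG, fun _ => s₀, fun _ => 0, hUG, fun V hV => (hUG' V hV).1, inferInstanceAs (IsIso (𝟙 G)),
      fun p hp => absurd hp (Nat.not_lt_zero p)⟩
  | succ n ih =>
    obtain ⟨U, st, N, hU, hflatG, h0, hst⟩ := ih
    letI := (st n).g
    haveI := (st n).hom
    haveI := (st n).closed
    haveI : IsClosedImmersion ((Over.pullback (GenClosure.gσ S)).map (st n).d).left := isClosedImmersion_bc _ _
    obtain ⟨D, d, U', gD, M, hdm, hd, hle, hGD, hflat, hr, h1, hn, -⟩ :=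
      exists_step (st n).d (st n).d U (st n).good (st n).good (Or.inr ⟨(st n).normal, (st n).normal⟩)
    let s' : St G U' :=
      { D := D, d := d, g := gD, closed := hd, good := hGD, flat := hflat, hom := hdm
        normal := hn ⟨(st n).normal, (st n).normal⟩ }
    refine ⟨U', fun p => if p ≤ n then (st p).mono hGD.mem hle else s',
      fun p => if p < n then N p else M, hGD.mem, fun V hV => hflatG V (hV.trans hle), ?_, fun p hp => ?_⟩
    · simp only [Nat.zero_le, if_true]; exact h0
    · let R : St G U' → St G U' → ℕ → Prop := fun s t m =>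
        (∀ x : G.left, G.hom x ∈ U' →
          (x ∈ Set.range t.d.left ↔ x ∈ GrpWord.WSet (GrpWord.cmap s.d s.d) m)) ∧
        (∀ x : G.left, G.hom x ∈ U' → x ∈ GrpWord.WSet (GrpWord.cmap s.d s.d) 1 →
          x ∈ GrpWord.WSet (GrpWord.cmap s.d s.d) m)
      show R (if p ≤ n then (st p).mono hGD.mem hle else s') (if p + 1 ≤ n then (st (p + 1)).mono hGD.mem hle else s')
        (if p < n then N p else M)
      rcases Nat.lt_succ_iff_lt_or_eq.1 hp with hp' | rfl
      · rw [if_pos hp'.le, if_pos hp', if_pos (Nat.succ_le_of_lt hp')]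
        exact ⟨fun x hx => (hst p hp').1 x (hle hx), fun x hx => (hst p hp').2 x (hle hx)⟩
      · rw [if_pos (le_refl p), if_neg (lt_irrefl p), if_neg (Nat.not_succ_le_self p)]
        exact ⟨hr, h1⟩

end Groth.Agent.CAlg6.GenDerived
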