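import Mathlib
import Groth.Agent.CAlg6.GenClosure
import Groth.Agent.CAlg6.GenSpread
import Groth.Agent.CAlg6.GenDerived
import Groth.Agent.FlatCrit65.GenFree
import Groth.Agent.SGA3a.EssFree
import Groth.Agent.SGA3a.Transporter

/-! Over an open of an integral base: essential freeness, separatedness of groups, transporters. -/

set_option autoImplicit false
universe u
open CategoryTheory CategoryTheory.Limits MonoidalCategory CartesianMonoidalCategory MonObj AlgebraicGeometry Topology
open scoped TensorProduct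

namespace Groth.Agent.CAlg6.GenEssFree

variable {S : Scheme.{u}}

lemma isPullback_comp_mono {P X Y Z W : Scheme.{u}} {a : P ⟶ X} {b : P ⟶ Y} {f : X ⟶ Z} {g : Y ⟶ Z}
    (h : IsPullback a b f g) (i : Z ⟶ W) [Mono i] : IsPullback a b (f ≫ i) (g ≫ i) := by
  refine ⟨⟨by rw [← Category.assoc, h.w, Category.assoc]⟩, ⟨PullbackCone.IsLimit.mk _
    (fun s => h.lift s.fst s.snd (by rw [← cancel_mono i, Category.assoc, Category.assoc]; exact s.condition))
    (fun s => h.lift_fst _ _ _) (fun s => h.lift_snd _ _ _) (fun s m h1 h2 => ?_)⟩⟩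
  exact h.hom_ext (by rw [h1, h.lift_fst]) (by rw [h2, h.lift_snd])

/-- essential freeness over a principal open of an affine integral scheme -/
theorem exists_open_essFree [IsIntegral S] {Y : Scheme.{u}} (f : Y ⟶ S) [LocallyOfFiniteType f] [QuasiCompact f]
    (U₁ : S.Opens) (hU₁ : genericPoint S ∈ U₁) :
    ∃ U : S.Opens, genericPoint S ∈ U ∧ U ≤ U₁ ∧ SGA3x.IsEssentiallyFree (pullback.snd f U.ι) := by
  classical
  obtain ⟨_, ⟨W, hW, rfl⟩, hηW, hWU⟩ :=
    S.isBasis_affineOpens.exists_subset_of_mem_open hU₁ U₁.2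
  let W' : S.Opens := W
  replace hW : IsAffineOpen W' := hW
  haveI : Nonempty W'.toScheme := ⟨⟨genericPoint S, hηW⟩⟩
  let A : CommRingCat.{u} := Γ(S, W')
  haveI : IsDomain A := inferInstanceAs (IsDomain Γ(S, W'))
  obtain ⟨s, hs, hsc⟩ := (isCompact_iff_finite_and_eq_biUnion_affineOpens).mp
    (f.isCompact_preimage hW.isCompact)
  have hsW : ∀ V ∈ s, (V : Y.affineOpens).1 ≤ f ⁻¹ᵁ W' := fun V hV =>
    hsc ▸ le_iSup₂ (f := fun (i : Y.affineOpens) (_ : i ∈ s) => i.1) V hV
  haveI : Finite s := hs.to_subtype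
  have hgen : ∀ V : s, ∃ g : A, g ≠ 0 ∧
      (letI := (f.appLE W' V.1.1 (hsW V.1 V.2)).hom.toAlgebra; GenFree62.FreeAway g Γ(Y, V.1.1)) := fun V => by
    letI := (f.appLE W' V.1.1 (hsW V.1 V.2)).hom.toAlgebra
    haveI : Algebra.FiniteType A Γ(Y, V.1.1) :=
      HasRingHomProperty.appLE (P := @LocallyOfFiniteType) f ‹_› ⟨W', hW⟩ V.1 (hsW V.1 V.2)
    obtain ⟨g, hg, -, hfree, -⟩ := FlatCrit65.generic_freeness (R := A) (S := Γ(Y, V.1.1)) (M := Γ(Y, V.1.1))
    exact ⟨g, hg, hfree⟩
  choose g hg hfree using hgen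
  haveI := Fintype.ofFinite s
  let G : A := ∏ V : s, g V
  have hG : G ≠ 0 := Finset.prod_ne_zero_iff.2 fun V _ => hg V
  let R : CommRingCat.{u} := CommRingCat.of (Localization.Away G)
  let π : A ⟶ R := CommRingCat.ofHom (algebraMap A (Localization.Away G))
  haveI : IsOpenImmersion (Spec.map π) := IsOpenImmersion.of_isLocalization G
  let φ : Spec R ⟶ S := Spec.map π ≫ hW.fromSpec
  haveI : IsOpenImmersion φ := inferInstance
  haveI : IsDomain R := IsLocalization.isDomain_localization (powers_le_nonZeroDivisors_of_noZeroDivisors hG)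
  haveI : Nonempty (Spec R) := ⟨(⊥ : PrimeSpectrum R)⟩
  refine ⟨φ.opensRange, ((genericPoint_spec S).mem_open_set_iff φ.opensRange.2).2 ?_, ?_, ?_⟩
  · obtain ⟨x⟩ := ‹Nonempty (Spec R)›
    exact ⟨φ x, trivial, x, rfl⟩
  · rintro _ ⟨x, rfl⟩
    refine hWU ?_
    show hW.fromSpec (Spec.map π x) ∈ (W' : Set S)
    rw [← hW.range_fromSpec]
    exact ⟨_, rfl⟩
  · let U := φ.opensRange
    let f' := pullback.snd f U.ι
    let e : (⊤ : U.toScheme.Opens).toScheme ≅ Spec R := Scheme.topIso _ ≪≫ φ.isoOpensRange.symm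
    refine SGA3a.isEssentiallyFree_of_charts fun u => ⟨⊤, R, R, e, 𝟙 R, trivial,
      RingHom.FaithfullyFlat.of_bijective Function.bijective_id, fun x => ?_⟩
    let φ₀ : Spec R ⟶ U.toScheme := Spec.map (𝟙 R) ≫ e.inv ≫ (⊤ : U.toScheme.Opens).ι
    have hφ : φ₀ ≫ U.ι = φ := by
      simp [φ₀, e, U]
    let q : pullback f' φ₀ ⟶ Y := pullback.fst f' φ₀ ≫ pullback.fst f U.ι
    have hq : IsPullback q (pullback.snd f' φ₀) f φ := by
      have h := (IsPullback.of_hasPullback f' φ₀).paste_horiz (IsPullback.of_hasPullback f U.ι)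
      rwa [hφ] at h
    have hqx : q x ∈ f ⁻¹ᵁ W' := by
      show f (q x) ∈ (W' : Set S)
      rw [← Scheme.Hom.comp_apply, hq.w, Scheme.Hom.comp_apply, ← hW.range_fromSpec]
      exact ⟨_, rfl⟩
    rw [← SetLike.mem_coe, hsc, TopologicalSpace.Opens.coe_iSup, Set.mem_iUnion] at hqx
    obtain ⟨V, hV'⟩ := hqx
    simp only [TopologicalSpace.Opens.coe_iSup, Set.mem_iUnion] at hV'
    obtain ⟨hV, hxV⟩ := hV'
    let V' : s := ⟨V, hV⟩
    let a : A ⟶ Γ(Y, V.1) := f.appLE W' V.1 (hsW V hV)
    letI : Algebra A Γ(Y, V.1) := a.hom.toAlgebra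
    let j : Spec Γ(Y, V.1) ⟶ Y := V.2.fromSpec
    have hj : j ≫ f = Spec.map a ≫ hW.fromSpec :=
      (IsAffineOpen.SpecMap_appLE_fromSpec f hW V.2 (hsW V hV)).symm
    let B : CommRingCat.{u} := CommRingCat.of (R ⊗[A] Γ(Y, V.1))
    let p₁ : Spec B ⟶ Spec R := Spec.map (CommRingCat.ofHom Algebra.TensorProduct.includeLeftRingHom)
    let p₂ : Spec B ⟶ Spec Γ(Y, V.1) := (pullbackSpecIso A R Γ(Y, V.1)).inv ≫ pullback.snd _ _
    have hB : IsPullback p₂ p₁ (j ≫ f) φ := by
      rw [hj]
      refine isPullback_comp_mono ?_ hW.fromSpec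
      refine IsPullback.of_iso (IsPullback.of_hasPullback (Spec.map π) (Spec.map a)).flip
        (pullbackSpecIso A R Γ(Y, V.1)) (Iso.refl _) (Iso.refl _) (Iso.refl _) ?_ ?_ ?_ ?_
      · simp [p₂]; rfl
      · simp only [Iso.refl_hom, Category.comp_id]
        rw [← Iso.inv_comp_eq]
        exact pullbackSpecIso_inv_fst A R Γ(Y, V.1)
      · simp
      · simp
    let v : Spec B ⟶ pullback f' φ₀ := hq.lift (p₂ ≫ j) p₁ (by rw [Category.assoc, hB.w])
    have hv : IsPullback v p₂ q j := by
      refine (IsPullback.of_bot ?_ (hq.lift_fst _ _ _).symm hq.flip.flip).flip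
      rw [hq.lift_snd]
      exact hB
    haveI : IsOpenImmersion v := MorphismProperty.of_isPullback hv.flip inferInstance
    refine ⟨⟨B, CommRingCat.ofHom Algebra.TensorProduct.includeLeftRingHom, v, inferInstance, hq.lift_snd _ _ _, ?_⟩, ?_⟩
    · rw [show (CommRingCat.ofHom (Algebra.TensorProduct.includeLeftRingHom : R →+* R ⊗[A] Γ(Y, V.1))).hom.toAlgebra =
        Algebra.TensorProduct.leftAlgebra from Algebra.algebra_ext _ _ fun _ => rfl]
      have : Module.Free R (R ⊗[A] Γ(Y, V.1)) := hfree V' R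
        (isUnit_of_dvd_unit (map_dvd _ (Finset.dvd_prod_of_mem g (Finset.mem_univ V')))
          (IsLocalization.Away.algebraMap_isUnit G))
      infer_instance
    · have hxr : q x ∈ Set.range j := by rw [V.2.range_fromSpec]; exact hxV
      obtain ⟨y, hy⟩ := hxr
      obtain ⟨z, hz, -⟩ := Scheme.exists_preimage_of_isPullback hv x y hy.symm
      exact ⟨z, hz⟩

attribute [local instance] GrpWord.bcGrp

/-- the unit of a base change -/
lemma bc_one_fst {S' : Scheme.{u}} (σ : S' ⟶ S) (G : Over S) [GrpObj G] :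
    ((η[(Over.pullback σ).obj G] : 𝟙_ (Over S') ⟶ (Over.pullback σ).obj G)).left ≫ pullback.fst G.hom σ =
      σ ≫ (η[G] : 𝟙_ (Over S) ⟶ G).left := by
  have h1 : (η[(Over.pullback σ).obj G] : 𝟙_ (Over S') ⟶ (Over.pullback σ).obj G) = 1 := by
    rw [MonObj.one_eq_one]
  rw [h1, ← map_one (GrpWord.phi σ (𝟙_ (Over S')) (G := G)), GrpWord.phi_apply, GrpWord.phiE_fst, Hom.one_def,
    Over.comp_left, Over.toUnit_left]
  simp

/-- a group is separated over an open -/
theorem exists_open_separated [IsIntegral S] (G : Over S) [GrpObj G] [LocallyOfFinitePresentation G.hom]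
    [QuasiCompact G.hom] [QuasiSeparated G.hom] :
    ∃ U : S.Opens, genericPoint S ∈ U ∧ ∀ V ≤ U, IsSeparated (Red.bc V.ι G).hom := by
  let σ := GenClosure.gσ S
  let Gη : Over (Spec (CommRingCat.of (S.residueField (genericPoint S)))) := (Over.pullback σ).obj G
  letI : GrpObj Gη := GrpWord.bcGrp σ
  haveI : IsSeparated Gη.hom := SGA3a.isSeparated_of_subsingleton Gη
  let e₀ : 𝟙_ _ ⟶ Gη := η[Gη]
  haveI : IsClosedImmersion e₀.left :=
    isClosedImmersion_of_comp_eq_id (Y := Spec (CommRingCat.of (S.residueField (genericPoint S)))) Gη.hom e₀.left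
      (Over.w e₀)
  obtain ⟨D, d, θ, hd, hθ⟩ := GenClosure.exists_closure G (𝟙_ _) e₀
  haveI := hd
  haveI : QuasiCompact D.hom := by rw [← Over.w d]; infer_instance
  haveI : LocallyOfFiniteType D.hom := by rw [← Over.w d]; infer_instance
  obtain ⟨U₁, hU₁, hU₁'⟩ := GenClosure.exists_open_flat_lfp D.hom
  let o : 𝟙_ (Over S) ⟶ G := η[G]
  let ol : S ⟶ G.left := o.left
  have hog : ol ≫ G.hom = 𝟙 S := Over.w o
  have hfst : ∀ q : (𝟙_ (Over (Spec (S.residueField (genericPoint S))))).left,
      pullback.fst G.hom σ (e₀.left q) = o.left (σ q) := fun q =>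
    congr($(bc_one_fst σ G) q)
  have hoη : o.left (genericPoint S) ∈ Set.range d.left := by
    let p : (𝟙_ (Over (Spec (S.residueField (genericPoint S))))).left := IsLocalRing.closedPoint _
    have h1 : e₀.left p ∈ Set.range ((Over.pullback σ).map d).left :=
      ⟨θ.inv.left p, congr(($((Iso.inv_comp_eq θ).2 hθ.symm)).left p)⟩
    have h2 := (GenDerived.mem_range_bc_iff σ d _).1 h1
    rw [hfst] at h2
    rwa [show σ p = genericPoint S from Scheme.fromSpecResidueField_apply _ _] at h2
  have hsub : Set.range o.left ⊆ Set.range d.left := by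
    rintro _ ⟨s, rfl⟩
    exact ((show (genericPoint S) ⤳ s from (genericPoint_spec S).specializes trivial).map ol.continuous).mem_closed
      d.left.isClosedEmbedding.isClosed_range hoη
  haveI : LocallyOfFinitePresentation (pullback.snd G.hom U₁.ι) := MorphismProperty.pullback_snd _ _ ‹_›
  let F := Over.pullback U₁.ι
  have hDlc : IsLocallyConstructible (pullback.fst G.hom U₁.ι ⁻¹' Set.range d.left) := by
    have e : pullback.fst G.hom U₁.ι ⁻¹' Set.range d.left = Set.range (F.map d).left :=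
      Set.ext fun x => (GenDerived.mem_range_bc_iff U₁.ι d x).symm
    rw [e, ← Set.image_univ]
    haveI : IsClosedImmersion (F.map d).left := GenDerived.isClosedImmersion_bc U₁.ι d
    haveI : LocallyOfFinitePresentation (F.obj G).hom := ‹LocallyOfFinitePresentation (pullback.snd G.hom U₁.ι)›
    haveI : LocallyOfFinitePresentation (F.map d).left := by
      have : LocallyOfFinitePresentation ((F.map d).left ≫ (F.obj G).hom) := by
        rw [Over.w]; exact (hU₁' U₁ le_rfl).2
      exact LimTop61.locallyOfFinitePresentation_of_comp _ (F.obj G).hom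
    exact (F.map d).left.isLocallyConstructible_image IsLocallyConstructible.univ
  have holc : IsLocallyConstructible (pullback.fst G.hom U₁.ι ⁻¹' Set.range o.left) := by
    have e : pullback.fst G.hom U₁.ι ⁻¹' Set.range o.left = Set.range (F.map o).left :=
      Set.ext fun x => (GenDerived.mem_range_bc_iff U₁.ι o x).symm
    rw [e, ← Set.image_univ]
    haveI : LocallyOfFinitePresentation (F.obj G).hom := ‹LocallyOfFinitePresentation (pullback.snd G.hom U₁.ι)›
    haveI : QuasiSeparated (F.obj G).hom := MorphismProperty.pullback_snd _ _ ‹_›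
    haveI : LocallyOfFinitePresentation (F.obj (𝟙_ (Over S))).hom :=
      MorphismProperty.pullback_snd _ _ (inferInstanceAs (LocallyOfFinitePresentation (𝟙 S)))
    haveI : QuasiCompact (F.obj (𝟙_ (Over S))).hom :=
      MorphismProperty.pullback_snd _ _ (inferInstanceAs (QuasiCompact (𝟙 S)))
    haveI : LocallyOfFinitePresentation (F.map o).left := by
      have : LocallyOfFinitePresentation ((F.map o).left ≫ (F.obj G).hom) := by rw [Over.w]; infer_instance
      exact LimTop61.locallyOfFinitePresentation_of_comp _ (F.obj G).hom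
    haveI : QuasiCompact (F.map o).left := by
      have : QuasiCompact ((F.map o).left ≫ (F.obj G).hom) := by rw [Over.w]; infer_instance
      exact QuasiCompact.of_comp _ (F.obj G).hom
    exact (F.map o).left.isLocallyConstructible_image IsLocallyConstructible.univ
  obtain ⟨V, hV, hVU, hVE⟩ := GenSpread.exists_open_disjoint' G.hom U₁ hU₁
    (E := Set.range d.left ∩ (Set.range o.left)ᶜ)
    (by
      rw [Set.preimage_inter, Set.preimage_compl]
      exact hDlc.inter (GenSpread.isLocallyConstructible_compl holc))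
    fun x hx hxE => by
      obtain ⟨x', hx', -⟩ := Scheme.Pullback.exists_preimage_pullback (f := G.hom) (g := σ) x
        (IsLocalRing.closedPoint _) (hx.trans (Scheme.fromSpecResidueField_apply _ _).symm)
      obtain ⟨q, hq⟩ := (GenDerived.mem_range_bc_iff σ d x').2 (hx'.symm ▸ hxE.1)
      refine hxE.2 ⟨σ (θ.hom.left q), ?_⟩
      rw [← hfst, ← hx', ← hq]
      exact congrArg (pullback.fst G.hom σ) congr(($hθ).left q)
  refine ⟨V, hV, fun W hW => ?_⟩
  let H : Over W.toScheme := (Over.pullback W.ι).obj G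
  letI : GrpObj H := GrpWord.bcGrp W.ι
  let oW : 𝟙_ (Over W.toScheme) ⟶ H := η[H]
  haveI : IsClosedImmersion oW.left := by
    haveI : IsImmersion (oW.left ≫ H.hom) := by
      rw [Over.w]
      exact inferInstanceAs (IsImmersion (𝟙 W.toScheme))
    haveI : IsImmersion oW.left := IsImmersion.of_comp oW.left H.hom
    refine IsClosedImmersion.of_isPreimmersion _ ?_
    have e : Set.range oW.left = pullback.fst G.hom W.ι ⁻¹' Set.range d.left := by
      ext x
      have hW1 : ∀ w, pullback.fst G.hom W.ι (oW.left w) = o.left (W.ι w) := fun w =>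
        congr($(bc_one_fst W.ι G) w)
      have h1 : x ∈ Set.range oW.left ↔ pullback.fst G.hom W.ι x ∈ Set.range o.left := by
        refine ⟨fun ⟨w, hw⟩ => ⟨W.ι w, (hW1 w).symm.trans (congrArg _ hw)⟩, fun ⟨t, ht⟩ => ?_⟩
        refine ⟨pullback.snd G.hom W.ι x, (pullback.fst G.hom W.ι).isOpenEmbedding.injective ?_⟩
        rw [hW1, ← ht]
        congr 1
        have h2 := congr($(pullback.condition (f := G.hom) (g := W.ι)) x)
        simp only [Scheme.Hom.comp_apply] at h2
        rw [← h2, ← ht]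
        exact congr($hog t)
      rw [h1, Set.mem_preimage]
      refine ⟨fun h => hsub h, fun h => by_contra fun h' => hVE _ ?_ ⟨h, h'⟩⟩
      rw [← Scheme.Hom.comp_apply, pullback.condition, Scheme.Hom.comp_apply]
      exact hW (pullback.snd G.hom W.ι x).2
    rw [e]
    exact d.left.isClosedEmbedding.isClosed_range.preimage (pullback.fst G.hom W.ι).continuous
  exact SGA3a.isSeparated_of_isClosedImmersion_one H

section
open Groth.Agent.SGA3a

/-- closed transporters along an essentially free parameter scheme -/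
theorem exists_transporter_lfp {G X Y P : Over S} (hX : SGA3x.IsEssentiallyFree X.hom) (Φ : G ⊗ X ⟶ P)
    (y : Y ⟶ P) [IsClosedImmersion y.left] [QuasiCompact X.hom] [LocallyOfFinitePresentation y.left] :
    ∃ (T : Over S) (t : T ⟶ G), IsClosedImmersion t.left ∧ LocallyOfFinitePresentation t.left ∧
      ∀ (S' : Over S) (g : S' ⟶ G), (∃ z : S' ⟶ T, z ≫ t = g) ↔
        ∀ (S'' : Over S) (s : S'' ⟶ S') (x : S'' ⟶ X), ∃ x' : S'' ⟶ Y, lift (s ≫ g) x ≫ Φ = x' ≫ y := by
  let σ : pullback X.hom G.hom ⟶ (G ⊗ X).left :=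
    pullback.lift (pullback.snd X.hom G.hom) (pullback.fst X.hom G.hom) pullback.condition.symm
  let j := pullback.fst (σ ≫ Φ.left) y.left
  obtain ⟨T₀, t₀, ht₀, hT, hlfp⟩ := exists_closed_weilRestriction (j := j) (isEssentiallyFree_snd G.hom hX)
  have hlfp' : LocallyOfFinitePresentation t₀ := hlfp inferInstance inferInstance
  refine ⟨Over.mk (t₀ ≫ G.hom), Over.homMk t₀ rfl, ht₀, hlfp', fun S' g => ⟨?_, fun h => ?_⟩⟩
  · rintro ⟨z, rfl⟩ S'' s x
    have hF := (hT _ _).1 ⟨z.left, rfl⟩
    have e : x.left ≫ X.hom = (s ≫ z ≫ Over.homMk t₀ rfl).left ≫ G.hom := by rw [Over.w, Over.w]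
    obtain ⟨l, hl⟩ := hF S''.left (pullback.lift x.left (s ≫ z ≫ Over.homMk t₀ rfl).left e) s.left (by
      rw [pullback.lift_snd]; simp)
    have key : (l ≫ pullback.snd (σ ≫ Φ.left) y.left) ≫ y.left = (lift (s ≫ z ≫ Over.homMk t₀ rfl) x ≫ Φ).left := by
      rw [Category.assoc, ← pullback.condition, ← Category.assoc, show l ≫ j = _ from hl,
        show (lift (s ≫ z ≫ Over.homMk t₀ rfl) x ≫ Φ).left = (lift (s ≫ z ≫ Over.homMk t₀ rfl) x).left ≫ Φ.left from rfl,
        ← Category.assoc]
      congr 1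
      rw [Over.lift_left]
      apply pullback.hom_ext
      · erw [Category.assoc, pullback.lift_fst, pullback.lift_snd, pullback.lift_fst]
      · erw [Category.assoc, pullback.lift_snd, pullback.lift_fst, pullback.lift_snd]
    refine ⟨Over.homMk (l ≫ pullback.snd _ _) ?_, ?_⟩
    · rw [← Over.w y, ← Category.assoc, key, Over.w]
    · ext1
      exact key.symm
  · have hF : Factors (pullback.snd X.hom G.hom) j S'.left g.left := by
      intro W a b w
      let S'' : Over S := Over.mk (b ≫ S'.hom)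
      let s : S'' ⟶ S' := Over.homMk b rfl
      let x : S'' ⟶ X := Over.homMk (a ≫ pullback.fst _ _) (by
        rw [Category.assoc, pullback.condition, ← Category.assoc, w, Category.assoc, Over.w]; rfl)
      obtain ⟨x', hx'⟩ := h S'' s x
      have e1 : a ≫ σ = (lift (s ≫ g) x).left := by
        rw [Over.lift_left]
        apply pullback.hom_ext
        · erw [Category.assoc, pullback.lift_fst, pullback.lift_fst]
          exact w
        · erw [Category.assoc, pullback.lift_snd, pullback.lift_snd]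
          rfl
      refine ⟨pullback.lift a x'.left ?_, pullback.lift_fst _ _ _⟩
      rw [← Category.assoc, e1, ← Over.comp_left, hx', Over.comp_left]
    obtain ⟨z₀, hz⟩ := (hT _ g.left).2 hF
    refine ⟨Over.homMk z₀ ?_, by ext1; exact hz⟩
    show z₀ ≫ t₀ ≫ G.hom = S'.hom
    rw [← Category.assoc, hz, Over.w]

end

end Groth.Agent.CAlg6.GenEssFree
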