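import Mathlib
import Groth.Agent.FlatCrit65.Basic

/-!
Lifting flatness from a nilpotent principal ideal, and fibres of `R ⊗[A] E` over the closed point.
-/

set_option autoImplicit false
set_option linter.unusedSectionVars false

universe u

open IsLocalRing TensorProduct

namespace Groth.Agent.CAlg6

/-- Flatness over `A` with `pA` maximal and nilpotent, from the annihilator of `p`. -/
theorem flat_of_annihilator {A E : Type u} [CommRing A] [CommRing E] [Algebra A E] (p : A) {n : ℕ}
    (hn : 0 < n) (hp : p ^ n = 0) (hmax : (Ideal.span {p}).IsMaximal)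
    (hann : ∀ z : E, algebraMap A E p * z = 0 → ∃ z', z = algebraMap A E p ^ (n - 1) * z') :
    Module.Flat A E := by
  have hI0 : IsNilpotent (Ideal.span {p}) := ⟨n, by rw [Ideal.span_singleton_pow, hp]; simp⟩
  refine FlatCrit65.flat_of_injective_of_isNilpotent (I := Ideal.span {p}) hI0 ?_ ?_
  · rw [injective_iff_map_eq_zero]
    intro z hz
    have hpI : p ∈ Ideal.span {p} := Ideal.mem_span_singleton_self _
    obtain ⟨z', rfl⟩ : ∃ z' : E, z = z' ⊗ₜ[A] (⟨p, hpI⟩ : Ideal.span {p}) := by
      clear hz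
      induction z using TensorProduct.induction_on with
      | zero => exact ⟨0, (zero_tmul _ _).symm⟩
      | add s t hs ht =>
        obtain ⟨s', rfl⟩ := hs
        obtain ⟨t', rfl⟩ := ht
        exact ⟨s' + t', (add_tmul _ _ _).symm⟩
      | tmul s t =>
        obtain ⟨t, ht⟩ := t
        obtain ⟨c, rfl⟩ := Ideal.mem_span_singleton'.1 ht
        exact ⟨c • s, (TensorProduct.smul_tmul c s (⟨p, hpI⟩ : Ideal.span {p})).symm⟩
    rw [LinearMap.lTensor_tmul] at hz
    have h1 := congrArg (TensorProduct.rid A E) hz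
    rw [TensorProduct.rid_tmul, map_zero] at h1
    have h2 : algebraMap A E p * z' = 0 := by rw [← Algebra.smul_def]; exact h1
    obtain ⟨t, rfl⟩ := hann z' h2
    rw [← map_pow, ← Algebra.smul_def, smul_tmul]
    have h3 : p ^ (n - 1) • (⟨p, hpI⟩ : Ideal.span {p}) = 0 := by
      refine Subtype.ext ?_
      show p ^ (n - 1) * p = 0
      rw [← pow_succ, Nat.sub_add_cancel hn, hp]
    rw [h3, tmul_zero]
  · let _ : Field (A ⧸ Ideal.span {p}) := Ideal.Quotient.field _
    have : Module.Free (A ⧸ Ideal.span {p}) ((A ⧸ Ideal.span {p}) ⊗[A] E) :=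
      Module.Free.of_divisionRing _ _
    infer_instance

/-- If `R/m` is a quotient of `A` by `pA`, then the closed fibre of `R → R ⊗[A] E` is `E/pE`. -/
theorem fibre_equiv {A R E F : Type u} [CommRing A] [CommRing R] [IsLocalRing R] [CommRing E] [CommRing F]
    [Algebra A R] [Algebra A E] (p : A) (hmax : (Ideal.span {p}).IsMaximal)
    (hres : Function.Surjective ((residue R).comp (algebraMap A R)))
    (hpR : algebraMap A R p ∈ maximalIdeal R)
    (π : E →+* F) (hπ : Function.Surjective π) (hπp : π (algebraMap A E p) = 0)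
    (hker : ∀ z, π z = 0 → ∃ z', z = algebraMap A E p * z') :
    Nonempty (((R ⊗[A] E) ⧸ (maximalIdeal R).map (algebraMap R (R ⊗[A] E))) ≃+* F) := by
  let I0 : Ideal A := Ideal.span {p}
  let cA : A ⧸ I0 →+* F := Ideal.Quotient.lift I0 (π.comp (algebraMap A E)) (by
    intro z hz
    obtain ⟨c, rfl⟩ := Ideal.mem_span_singleton'.1 hz
    rw [map_mul, RingHom.comp_apply π (algebraMap A E) p, hπp, mul_zero])
  let rA : A ⧸ I0 →+* ResidueField R := Ideal.Quotient.lift I0 ((residue R).comp (algebraMap A R)) (by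
    intro z hz
    obtain ⟨c, rfl⟩ := Ideal.mem_span_singleton'.1 hz
    rw [map_mul, RingHom.comp_apply (residue R) (algebraMap A R) p, (residue_eq_zero_iff _).2 hpR, mul_zero])
  have hrA : Function.Bijective rA := by
    let _ : Field (A ⧸ I0) := Ideal.Quotient.field I0
    exact ⟨rA.injective, fun z => by
      obtain ⟨c, hc⟩ := hres z
      exact ⟨Ideal.Quotient.mk I0 c, hc⟩⟩
  let er := RingEquiv.ofBijective rA hrA
  letI : Algebra A F := (π.comp (algebraMap A E)).toAlgebra
  let cR0 : R →+* F := cA.comp (er.symm.toRingHom.comp (residue R))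
  have hcR0 : ∀ c, cR0 (algebraMap A R c) = algebraMap A F c := fun c => by
    show cA (er.symm (residue R (algebraMap A R c))) = π (algebraMap A E c)
    rw [show residue R (algebraMap A R c) = er (Ideal.Quotient.mk I0 c) from rfl, er.symm_apply_apply]
    rfl
  let cR : R →ₐ[A] F := { cR0 with commutes' := hcR0 }
  let πA : E →ₐ[A] F := { π with commutes' := fun c => rfl }
  let ζ : R ⊗[A] E →ₐ[A] F := Algebra.TensorProduct.productMap cR πA
  have hζ : ∀ r t, ζ (r ⊗ₜ t) = cR0 r * π t := fun r t => Algebra.TensorProduct.productMap_apply_tmul cR πA r t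
  have hζs : Function.Surjective ζ.toRingHom := fun z => by
    obtain ⟨z, rfl⟩ := hπ z
    exact ⟨(1 : R) ⊗ₜ z, by show ζ _ = _; rw [hζ, map_one, one_mul]⟩
  let mR' := (maximalIdeal R).map (algebraMap R (R ⊗[A] E))
  have hsub : mR' ≤ RingHom.ker ζ.toRingHom := by
    refine Ideal.map_le_iff_le_comap.2 fun r hr => ?_
    show ζ (r ⊗ₜ[A] (1 : E)) = 0
    rw [hζ, show cR0 r = 0 by
      show cA (er.symm (residue R r)) = 0
      rw [(residue_eq_zero_iff r).2 hr, map_zero, map_zero], zero_mul]
  have hζker : RingHom.ker ζ.toRingHom = mR' := by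
    refine le_antisymm (fun z hz => ?_) hsub
    obtain ⟨z', hz'⟩ : ∃ z' : E, z - (1 : R) ⊗ₜ[A] z' ∈ mR' := by
      clear hz
      induction z using TensorProduct.induction_on with
      | zero => exact ⟨0, by simp⟩
      | add s t hs ht =>
        obtain ⟨s', hs⟩ := hs
        obtain ⟨t', ht⟩ := ht
        exact ⟨s' + t', by rw [tmul_add, add_sub_add_comm]; exact add_mem hs ht⟩
      | tmul r t =>
        obtain ⟨c, hc⟩ := hres (residue R r)
        refine ⟨c • t, ?_⟩
        have hm : r - algebraMap A R c ∈ maximalIdeal R := by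
          rw [← residue_eq_zero_iff, map_sub, sub_eq_zero]; exact hc.symm
        have : r ⊗ₜ[A] t - (1 : R) ⊗ₜ[A] (c • t) =
            algebraMap R (R ⊗[A] E) (r - algebraMap A R c) * ((1 : R) ⊗ₜ[A] t) := by
          rw [Algebra.TensorProduct.algebraMap_apply, Algebra.algebraMap_self, RingHom.id_apply,
            Algebra.TensorProduct.tmul_mul_tmul, mul_one, one_mul, sub_tmul,
            Algebra.algebraMap_eq_smul_one, smul_tmul]
        rw [this]
        exact Ideal.mul_mem_right _ _ (Ideal.mem_map_of_mem _ hm)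
    have h1 : π z' = 0 := by
      have := sub_mem hz (hsub hz')
      rw [sub_sub_cancel, RingHom.mem_ker] at this
      replace : ζ ((1 : R) ⊗ₜ[A] z') = 0 := this
      rwa [hζ, map_one, one_mul] at this
    obtain ⟨z'', rfl⟩ := hker z' h1
    have h2 : (1 : R) ⊗ₜ[A] (algebraMap A E p * z'') ∈ mR' := by
      have : (1 : R) ⊗ₜ[A] (algebraMap A E p * z'') =
          algebraMap R (R ⊗[A] E) (algebraMap A R p) * ((1 : R) ⊗ₜ[A] z'') := by
        rw [Algebra.TensorProduct.algebraMap_apply, Algebra.algebraMap_self, RingHom.id_apply,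
          Algebra.TensorProduct.tmul_mul_tmul, mul_one, one_mul, ← Algebra.smul_def,
          TensorProduct.tmul_smul, TensorProduct.smul_tmul', ← Algebra.algebraMap_eq_smul_one]
      rw [this]
      exact Ideal.mul_mem_right _ _ (Ideal.mem_map_of_mem _ hpR)
    simpa using add_mem hz' h2
  exact ⟨(Ideal.quotEquivOfEq hζker.symm).trans (RingHom.quotientKerEquivOfSurjective hζs)⟩

/-- An algebra over an Artinian local ring with local closed fibre is local. -/
theorem isLocalRing_of_fibre {R R' : Type u} [CommRing R] [IsLocalRing R] [IsArtinianRing R] [CommRing R']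
    [Algebra R R'] [IsLocalRing (R' ⧸ (maximalIdeal R).map (algebraMap R R'))] :
    IsLocalRing R' ∧ IsLocalHom (algebraMap R R') := by
  set mR' := (maximalIdeal R).map (algebraMap R R') with hmR'
  have hnil : ∀ P : Ideal R', P.IsPrime → mR' ≤ P := fun P hP => by
    obtain ⟨k, hk⟩ := (isArtinianRing_iff_isNilpotent_maximalIdeal R).1 inferInstance
    refine hP.le_of_pow_le (n := k) ?_
    rw [hmR', ← Ideal.map_pow, show maximalIdeal R ^ k = ⊥ from hk, Ideal.map_bot]
    exact bot_le
  have hlocR : IsLocalRing R' := by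
    refine IsLocalRing.of_unique_max_ideal ⟨(maximalIdeal (R' ⧸ mR')).comap (Ideal.Quotient.mk mR'),
      Ideal.comap_isMaximal_of_surjective _ Ideal.Quotient.mk_surjective, fun P hP => ?_⟩
    have hle := hnil P hP.isPrime
    have hmax : (P.map (Ideal.Quotient.mk mR')).IsMaximal :=
      Ideal.IsMaximal.map_of_surjective_of_ker_le Ideal.Quotient.mk_surjective (by rwa [Ideal.mk_ker])
    rw [← eq_maximalIdeal hmax, Ideal.comap_map_of_surjective _ Ideal.Quotient.mk_surjective,
      ← RingHom.ker_eq_comap_bot, Ideal.mk_ker, sup_eq_left.2 hle]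
  exact ⟨hlocR, ((local_hom_TFAE (algebraMap R R')).out 0 2).2 (hnil _ (maximalIdeal.isMaximal R').isPrime)⟩

end Groth.Agent.CAlg6
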