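import Mathlib
import Groth.Agent.Gor18.Basic

/-!
Truncated polynomial algebras `W[X_1..X_e]/(X_i^N)`.
-/

set_option autoImplicit false
set_option linter.unusedSectionVars false

universe u

namespace Groth.Agent.CAlg6

open MvPolynomial IsLocalRing

/-- Nilpotent maximal ideal implies completeness. -/
theorem isAdicComplete_of_isArtinian (R : Type u) [CommRing R] [IsLocalRing R] [IsArtinianRing R] :
    IsAdicComplete (maximalIdeal R) R := by
  obtain ⟨n, hn⟩ := (isArtinianRing_iff_isNilpotent_maximalIdeal R).1 inferInstance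
  have hbot : ∀ m, n ≤ m → (maximalIdeal R ^ m • ⊤ : Submodule R R) = ⊥ := fun m hm => by
    rw [smul_eq_mul, Ideal.mul_top, eq_bot_iff]
    exact (Ideal.pow_le_pow_right hm).trans hn.le
  have hhaus : IsHausdorff (maximalIdeal R) R := ⟨fun x hx => by
    have := hx n
    rw [hbot n le_rfl, SModEq.bot] at this
    exact this⟩
  have hpre : IsPrecomplete (maximalIdeal R) R := ⟨fun f hf => ⟨f n, fun m => by
    rcases le_total m n with h | h
    · exact hf h
    · rw [hbot m h, SModEq.bot]
      have := hf h
      rw [hbot n le_rfl, SModEq.bot] at this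
      exact this.symm⟩⟩
  exact { haus' := hhaus.haus', prec' := hpre.prec' }

variable (W : Type u) [CommRing W] (e N : ℕ)

/-- The ideal of high powers. -/
noncomputable abbrev truncIdeal : Ideal (MvPolynomial (Fin e) W) :=
  Ideal.span (Set.range fun i => X i ^ N)

/-- Truncated polynomials. -/
abbrev Trunc : Type u := MvPolynomial (Fin e) W ⧸ truncIdeal W e N

variable {W e N}

theorem mem_truncIdeal {f : MvPolynomial (Fin e) W} :
    f ∈ truncIdeal W e N ↔ ∀ m ∈ f.support, ∃ i, N ≤ m i := by
  have h : (Set.range fun i => (X i : MvPolynomial (Fin e) W) ^ N) =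
      (fun s => monomial s (1 : W)) '' Set.range fun i => Finsupp.single i N := by
    rw [← Set.range_comp]
    congr 1
    funext i
    simp [X_pow_eq_monomial]
  rw [truncIdeal, h, mem_ideal_span_monomial_image]
  simp [Finsupp.single_le_iff]

/-- The class of `X i`. -/
noncomputable def tX (i : Fin e) : Trunc W e N := Ideal.Quotient.mk _ (X i)

theorem tX_pow (i : Fin e) : (tX i : Trunc W e N) ^ N = 0 := by
  rw [tX, ← map_pow, Ideal.Quotient.eq_zero_iff_mem]
  exact Ideal.subset_span ⟨i, rfl⟩

theorem isNilpotent_tX (i : Fin e) : IsNilpotent (tX i : Trunc W e N) := ⟨N, tX_pow i⟩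

instance finite_trunc : Module.Finite W (Trunc W e N) := by
  have hint : Algebra.IsIntegral W (Trunc W e N) := by
    refine ⟨fun z => ?_⟩
    obtain ⟨f, rfl⟩ := Ideal.Quotient.mk_surjective z
    induction f using MvPolynomial.induction_on with
    | C a => exact isIntegral_algebraMap
    | add p q hp hq => rw [map_add]; exact hp.add hq
    | mul_X p i hp =>
      rw [map_mul]
      refine hp.mul ?_
      exact IsIntegral.of_pow (n := N + 1) N.succ_pos (by
        rw [pow_succ]
        show IsIntegral W ((tX i : Trunc W e N) ^ N * _)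
        rw [tX_pow, zero_mul]
        exact isIntegral_zero)
  exact Algebra.IsIntegral.finite

instance isArtinianRing_trunc [IsArtinianRing W] : IsArtinianRing (Trunc W e N) :=
  IsArtinianRing.of_finite W _

section Lift

variable {S : Type u} [CommRing S] (v : W →+* S) (y : Fin e → S) (hy : ∀ i, y i ^ N = 0)

/-- Map out of truncated polynomials. -/
noncomputable def truncLift : Trunc W e N →+* S :=
  Ideal.Quotient.lift _ (eval₂Hom v y) (by
    intro a ha
    rw [← RingHom.mem_ker]
    refine (Ideal.span_le.2 ?_) ha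
    rintro _ ⟨i, rfl⟩
    simp [hy i])

theorem truncLift_mk (f : MvPolynomial (Fin e) W) :
    truncLift v y hy (Ideal.Quotient.mk _ f) = eval₂Hom v y f := rfl

theorem truncLift_tX (i : Fin e) : truncLift v y hy (tX i) = y i := by
  simp [tX, truncLift_mk]

theorem truncLift_C (c : W) : truncLift v y hy (algebraMap W _ c) = v c := by
  rw [IsScalarTower.algebraMap_apply W (MvPolynomial (Fin e) W) (Trunc W e N)]
  simp [truncLift_mk]

/-- The lift is surjective onto a local ring generated this way. -/
theorem truncLift_surjective [IsLocalRing S] (hgen : maximalIdeal S = Ideal.span (Set.range y))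
    (hv : Function.Surjective ((residue S).comp v)) (hnil : ∃ n, maximalIdeal S ^ n = ⊥) :
    Function.Surjective (truncLift v y hy) := by
  set Ψ := truncLift v y hy with hΨ
  have h0 : ∀ s : S, ∃ z, s - Ψ z ∈ maximalIdeal S := fun s => by
    obtain ⟨c, hc⟩ := hv (residue S s)
    refine ⟨algebraMap W _ c, ?_⟩
    rw [hΨ, truncLift_C, ← residue_eq_zero_iff, map_sub, ← hc]
    exact sub_self _
  have h1 : ∀ n, ∀ s ∈ maximalIdeal S ^ n, ∃ z, s - Ψ z ∈ maximalIdeal S ^ (n + 1) := by
    intro n
    induction n with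
    | zero => intro s _; simpa using h0 s
    | succ n ih =>
      intro s hs
      rw [pow_succ'] at hs
      induction hs using Submodule.mul_induction_on' with
      | add a _ b _ ha hb =>
        obtain ⟨z, hz⟩ := ha
        obtain ⟨w, hw⟩ := hb
        refine ⟨z + w, ?_⟩
        rw [map_add, add_sub_add_comm]
        exact add_mem hz hw
      | mem_mul_mem a ha b hb =>
        obtain ⟨z, hz⟩ := ih b hb
        have ha' : a ∈ Ideal.span (Set.range y) := hgen ▸ ha
        obtain ⟨c, hc⟩ := Ideal.mem_span_range_iff_exists_fun.1 ha'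
        choose d hd using fun i => h0 (c i)
        refine ⟨(∑ i, d i * tX i) * z, ?_⟩
        have hsum : Ψ (∑ i, d i * tX i) = ∑ i, Ψ (d i) * y i := by
          simp [hΨ, map_sum, map_mul, truncLift_tX]
        have hy' : ∀ i, y i ∈ maximalIdeal S := fun i => hgen ▸ Ideal.subset_span ⟨i, rfl⟩
        have hA : a - Ψ (∑ i, d i * tX i) ∈ maximalIdeal S ^ 2 := by
          rw [hsum, ← hc, ← Finset.sum_sub_distrib]
          refine Submodule.sum_mem _ fun i _ => ?_
          rw [← sub_mul, pow_two]
          exact Ideal.mul_mem_mul (hd i) (hy' i)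
        have hA' : Ψ (∑ i, d i * tX i) ∈ maximalIdeal S := by
          rw [hsum]; exact Submodule.sum_mem _ fun i _ => Ideal.mul_mem_left _ _ (hy' i)
        rw [map_mul]
        have : a * b - Ψ (∑ i, d i * tX i) * Ψ z =
            (a - Ψ (∑ i, d i * tX i)) * b + Ψ (∑ i, d i * tX i) * (b - Ψ z) := by ring
        rw [this]
        refine add_mem ?_ ?_
        · rw [show n + 1 + 1 = 2 + n from by omega, pow_add]
          exact Ideal.mul_mem_mul hA hb
        · rw [pow_succ']
          exact Ideal.mul_mem_mul hA' hz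
  intro s
  have h2 : ∀ n, ∃ z, s - Ψ z ∈ maximalIdeal S ^ n := by
    intro n
    induction n with
    | zero => exact ⟨0, by simp⟩
    | succ n ih =>
      obtain ⟨z, hz⟩ := ih
      obtain ⟨w, hw⟩ := h1 n _ hz
      exact ⟨z + w, by rwa [map_add, ← sub_sub]⟩
  obtain ⟨n, hn⟩ := hnil
  obtain ⟨z, hz⟩ := h2 n
  rw [hn, Ideal.mem_bot, sub_eq_zero] at hz
  exact ⟨z, hz.symm⟩

end Lift

theorem trunc_eq_zero_iff {f : MvPolynomial (Fin e) W} :
    (Ideal.Quotient.mk (truncIdeal W e N) f) = 0 ↔
      ∀ m : Fin e →₀ ℕ, (∀ i, m i < N) → f.coeff m = 0 := by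
  rw [Ideal.Quotient.eq_zero_iff_mem, mem_truncIdeal]
  constructor
  · intro h m hm
    by_contra hc
    obtain ⟨i, hi⟩ := h m (mem_support_iff.2 hc)
    exact absurd (hm i) (not_lt.2 hi)
  · intro h m hm
    by_contra hc
    push Not at hc
    exact mem_support_iff.1 hm (h m hc)

/-- Torsion in a truncated polynomial ring comes from the coefficients. -/
theorem trunc_annihilator {c d : W} (hcd : ∀ x, c * x = 0 → d ∣ x) (z : Trunc W e N)
    (hz : c • z = 0) : ∃ w : Trunc W e N, z = d • w := by
  classical
  obtain ⟨f, rfl⟩ := Ideal.Quotient.mk_surjective z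
  rw [← Ideal.Quotient.mk_eq_mk, ← Submodule.Quotient.mk_smul, Ideal.Quotient.mk_eq_mk,
    trunc_eq_zero_iff] at hz
  have hsmall : ∀ m : Fin e →₀ ℕ, (∀ i, m i < N) → d ∣ f.coeff m := fun m hm => by
    refine hcd _ ?_
    have := hz m hm
    rwa [coeff_smul, smul_eq_mul] at this
  choose g hg using hsmall
  let h : MvPolynomial (Fin e) W := ∑ m ∈ f.support,
    if hm : ∀ i, m i < N then monomial m (g m hm) else 0
  refine ⟨Ideal.Quotient.mk _ h, ?_⟩
  rw [← Ideal.Quotient.mk_eq_mk, ← Ideal.Quotient.mk_eq_mk, ← Submodule.Quotient.mk_smul,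
    Ideal.Quotient.mk_eq_mk, Ideal.Quotient.mk_eq_mk, ← sub_eq_zero, ← map_sub, trunc_eq_zero_iff]
  intro m hm
  rw [coeff_sub, coeff_smul, smul_eq_mul]
  by_cases hs : m ∈ f.support
  · rw [show h.coeff m = g m hm from by
      simp only [h, coeff_sum]
      rw [Finset.sum_eq_single m]
      · simp [hm]
      · intro b _ hb
        split_ifs
        · simp [coeff_monomial, hb]
        · simp
      · simp [hs], ← hg m hm, sub_self]
  · have : h.coeff m = 0 := by
      simp only [h, coeff_sum]
      refine Finset.sum_eq_zero fun b hb => ?_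
      have hbm : b ≠ m := fun hbm => hs (hbm ▸ hb)
      split_ifs
      · simp [coeff_monomial, hbm]
      · simp
    rw [notMem_support_iff.1 hs, this, mul_zero, sub_zero]

/-- A truncated polynomial is its constant term up to a nilpotent. -/
theorem sub_constant_mem_nilradical (f : MvPolynomial (Fin e) W) :
    Ideal.Quotient.mk (truncIdeal W e N) f - algebraMap W _ (constantCoeff f) ∈
      nilradical (Trunc W e N) := by
  induction f using MvPolynomial.induction_on with
  | C a =>
    rw [IsScalarTower.algebraMap_apply W (MvPolynomial (Fin e) W) (Trunc W e N)]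
    simp
  | add p q hp hq => rw [map_add, map_add, map_add, add_sub_add_comm]; exact add_mem hp hq
  | mul_X p i hp =>
    rw [map_mul, map_mul, constantCoeff_X, mul_zero, map_zero, sub_zero]
    exact Ideal.mul_mem_left _ _ (mem_nilradical.2 (isNilpotent_tX i))

section Field

variable {l : Type u} [Field l]

theorem mem_trunc_maximal {N : ℕ} [IsLocalRing (Trunc l e N)] (i : Fin e) :
    (tX i : Trunc l e N) ∈ maximalIdeal (Trunc l e N) := by
  rw [mem_maximalIdeal, mem_nonunits_iff]
  intro h
  obtain ⟨n, hn⟩ := isNilpotent_tX (W := l) (N := N) i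
  exact not_isUnit_zero (hn ▸ h.pow n)

theorem isLocalRing_trunc {W : Type u} [CommRing W] [IsLocalRing W] (hW : IsNilpotent (maximalIdeal W))
    (hN : 0 < N) : IsLocalRing (Trunc W e N) := by
  let φ : Trunc W e N →+* ResidueField W :=
    truncLift (residue W) (fun _ => 0) (fun _ => zero_pow hN.ne')
  have hφ : Function.Surjective φ := fun y => by
    obtain ⟨c, rfl⟩ := residue_surjective y
    exact ⟨algebraMap W _ c, truncLift_C _ _ _ c⟩
  have hmax : (RingHom.ker φ).IsMaximal := RingHom.ker_isMaximal_of_surjective φ hφ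
  refine IsLocalRing.of_unique_max_ideal ⟨_, hmax, fun J hJ => ?_⟩
  refine (hmax.eq_of_le hJ.ne_top fun z hz => ?_).symm
  obtain ⟨f, rfl⟩ := Ideal.Quotient.mk_surjective z
  have h0 : constantCoeff f ∈ maximalIdeal W := by
    have h : φ.comp (Ideal.Quotient.mk (truncIdeal W e N)) = (residue W).comp constantCoeff := by
      refine MvPolynomial.ringHom_ext (fun c => ?_) fun i => ?_
      · simp [φ, truncLift_mk]
      · simp [φ, truncLift_mk]
    rw [← residue_eq_zero_iff, show residue W (constantCoeff f) = φ (Ideal.Quotient.mk _ f) from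
      (RingHom.congr_fun h f).symm]
    exact hz
  have hc : algebraMap W (Trunc W e N) (constantCoeff f) ∈ J := by
    obtain ⟨n, hn⟩ := hW
    refine nilradical_le_prime J (mem_nilradical.2 ⟨n, ?_⟩)
    rw [← map_pow, show constantCoeff f ^ n = 0 by
      simpa [hn] using Ideal.pow_mem_pow h0 n, map_zero]
  simpa using add_mem (nilradical_le_prime J (sub_constant_mem_nilradical f)) hc

theorem trunc_gorenstein (hN : 0 < N) : LocCoh.IsGorensteinLocalRing (Trunc l e N) := by
  classical
  have hloc : IsLocalRing (Trunc l e N) := isLocalRing_trunc ⟨1, by rw [pow_one, maximalIdeal_eq_bot]; rfl⟩ hN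
  rw [Gor18.artinian_gor_iff_simple_socle]
  let top : Fin e →₀ ℕ := Finsupp.equivFunOnFinite.symm fun _ => N - 1
  let t : Trunc l e N := Ideal.Quotient.mk _ (monomial top 1)
  have ht0 : t ≠ 0 := fun h => by
    have := trunc_eq_zero_iff.1 h top (fun i => by simp [top]; omega)
    simp at this
  have hsoc : ∀ z ∈ LocCoh.torsionBy (maximalIdeal (Trunc l e N)) (Trunc l e N),
      ∃ c : l, z = c • t := by
    intro z hz
    obtain ⟨f, rfl⟩ := Ideal.Quotient.mk_surjective z
    refine ⟨f.coeff top, ?_⟩
    have hct : coeff top f • t = Ideal.Quotient.mk (truncIdeal l e N) (C (coeff top f) * monomial top 1) := by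
      rw [C_mul', ← Ideal.Quotient.mk_eq_mk, Submodule.Quotient.mk_smul]
      rfl
    rw [hct, ← sub_eq_zero, ← map_sub, trunc_eq_zero_iff]
    intro m hm
    rw [coeff_sub, coeff_C_mul, coeff_monomial]
    by_cases hmt : m = top
    · subst hmt; simp
    · rw [if_neg (Ne.symm hmt), mul_zero, sub_zero]
      obtain ⟨i, hi⟩ : ∃ i, m i + 1 < N := by
        by_contra hc
        push Not at hc
        refine hmt (Finsupp.ext fun i => ?_)
        simp only [top, Finsupp.coe_equivFunOnFinite_symm]
        have := hm i; have := hc i; omega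
      have h1 : (tX i : Trunc l e N) * Ideal.Quotient.mk _ f = 0 :=
        (Submodule.mem_torsionBySet_iff _ _).1 hz ⟨_, mem_trunc_maximal i⟩
      rw [tX, ← map_mul, trunc_eq_zero_iff] at h1
      have h2 := h1 (Finsupp.single i 1 + m) (fun j => by
        rcases eq_or_ne j i with rfl | hj
        · simp; omega
        · simp [hj.symm, hm j])
      rwa [coeff_X_mul] at h2
  refine (isSimpleModule_iff_toSpanSingleton_surjective).2 ⟨⟨⟨t, ?_⟩, 0, fun h => ht0 (congrArg Subtype.val h)⟩, ?_⟩
  · refine (Submodule.mem_torsionBySet_iff _ _).2 fun ⟨a, ha⟩ => ?_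
    obtain ⟨f, rfl⟩ := Ideal.Quotient.mk_surjective a
    show Ideal.Quotient.mk _ f * t = 0
    rw [← map_mul, trunc_eq_zero_iff]
    intro m hm
    rw [coeff_mul_monomial', mul_one]
    split_ifs with hle
    · have hmeq : m = top := Finsupp.ext fun j => by
        have h1 := hle j
        have h2 := hm j
        simp only [top, Finsupp.coe_equivFunOnFinite_symm] at h1 ⊢
        omega
      subst hmeq
      rw [tsub_self]
      by_contra hc
      apply (mem_maximalIdeal _).1 ha
      have hu : IsUnit (algebraMap l (Trunc l e N) (constantCoeff f)) :=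
        (Ne.isUnit (by rw [constantCoeff_eq]; exact hc)).map _
      have hnil := mem_nilradical.1 (sub_constant_mem_nilradical (N := N) f)
      simpa using hnil.isUnit_add_right_of_commute hu (Commute.all _ _)
    · rfl
  · rintro ⟨z, hz⟩ hz0 ⟨w, hw⟩
    obtain ⟨c, rfl⟩ := hsoc z hz
    obtain ⟨d, rfl⟩ := hsoc w hw
    have hc : c ≠ 0 := fun h => hz0 (Subtype.ext (by simp [h]))
    refine ⟨algebraMap l _ (d / c), Subtype.ext ?_⟩
    show algebraMap l (Trunc l e N) (d / c) * (c • t) = d • t
    rw [← Algebra.smul_def, smul_smul, div_mul_cancel₀ d hc]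

end Field

end Groth.Agent.CAlg6
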