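import Mathlib
import Groth.Agent.CAlg6.Trunc
import Groth.Agent.Cohen12.Structure
import Groth.Agent.CAlg6.GorFibre
import Groth.Agent.Gor18.Local

/-!
Factorization of a local homomorphism of Artinian local rings by a flat map with Gorenstein fibre.
-/

set_option autoImplicit false
set_option linter.unusedSectionVars false

universe u

open IsLocalRing TensorProduct

namespace Groth.Agent.CAlg6.GorFactor

theorem nilp (A : Type u) [CommRing A] [IsLocalRing A] [IsArtinianRing A] :
    ∃ n, 0 < n ∧ maximalIdeal A ^ n = ⊥ := by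
  obtain ⟨n, hn⟩ := (isArtinianRing_iff_isNilpotent_maximalIdeal A).1 inferInstance
  refine ⟨n + 1, n.succ_pos, ?_⟩
  rw [pow_succ, show maximalIdeal A ^ n = ⊥ from hn, Ideal.bot_mul]

/-- Every Artinian local ring is finite over a ring surjecting onto its residue field. -/
theorem finite_of_residue_surjective {A0 : Type u} [CommRing A0] (R : Type u) [CommRing R] [IsLocalRing R]
    [IsArtinianRing R] [Algebra A0 R] (h : Function.Surjective ((residue R).comp (algebraMap A0 R))) :
    Module.Finite A0 R := by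
  classical
  obtain ⟨n, hn0, hn⟩ := nilp R
  obtain ⟨e, y, hy⟩ := Submodule.fg_iff_exists_fin_generating_family.1
    (IsNoetherian.noetherian (maximalIdeal R))
  have hyp : ∀ i, y i ^ n = 0 := fun i => by
    have : y i ^ n ∈ maximalIdeal R ^ n := Ideal.pow_mem_pow (hy ▸ Submodule.subset_span ⟨i, rfl⟩) n
    rwa [hn, Ideal.mem_bot] at this
  let Ψ := truncLift (algebraMap A0 R) y hyp
  have hsurj : Function.Surjective Ψ := truncLift_surjective _ y hyp hy.symm h ⟨n, hn⟩
  exact Module.Finite.of_surjective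
    ({ Ψ with commutes' := fun c => truncLift_C _ y hyp c } : Trunc A0 e n →ₐ[A0] R).toLinearMap hsurj

/-- Change of coefficients on truncated polynomials. -/
noncomputable def truncMap {W W' : Type u} [CommRing W] [CommRing W'] (φ : W →+* W') (e N : ℕ) :
    Trunc W e N →+* Trunc W' e N :=
  truncLift ((algebraMap W' (Trunc W' e N)).comp φ) tX tX_pow

theorem truncMap_mk {W W' : Type u} [CommRing W] [CommRing W'] (φ : W →+* W') {e N : ℕ}
    (f : MvPolynomial (Fin e) W) :
    truncMap φ e N (Ideal.Quotient.mk _ f) = Ideal.Quotient.mk _ (MvPolynomial.map φ f) := by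
  have h : (truncMap φ e N).comp (Ideal.Quotient.mk (truncIdeal W e N)) =
      (Ideal.Quotient.mk (truncIdeal W' e N)).comp (MvPolynomial.map φ) := by
    refine MvPolynomial.ringHom_ext (fun c => ?_) fun i => ?_
    · rw [RingHom.comp_apply, RingHom.comp_apply, truncMap, truncLift_mk, MvPolynomial.eval₂Hom_C,
        MvPolynomial.map_C]
      rfl
    · rw [RingHom.comp_apply, RingHom.comp_apply, truncMap, truncLift_mk, MvPolynomial.eval₂Hom_X',
        MvPolynomial.map_X, tX]
  exact RingHom.congr_fun h f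

theorem truncMap_C {W W' : Type u} [CommRing W] [CommRing W'] (φ : W →+* W') {e N : ℕ} (c : W) :
    truncMap φ e N (algebraMap W _ c) = algebraMap W' _ (φ c) := truncLift_C _ _ _ c

theorem truncMap_surjective {W W' : Type u} [CommRing W] [CommRing W'] (φ : W →+* W') {e N : ℕ}
    (h : Function.Surjective φ) : Function.Surjective (truncMap φ e N) := fun z => by
  obtain ⟨f, rfl⟩ := Ideal.Quotient.mk_surjective z
  obtain ⟨f', rfl⟩ := MvPolynomial.map_surjective φ h f
  exact ⟨Ideal.Quotient.mk _ f', truncMap_mk φ f'⟩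

theorem exists_of_truncMap_eq_zero {W W' : Type u} [CommRing W] [CommRing W'] (φ : W →+* W') {e N : ℕ}
    {c : W} (hφ : ∀ x, φ x = 0 → c ∣ x) (z : Trunc W e N) (hz : truncMap φ e N z = 0) :
    ∃ z', z = algebraMap W (Trunc W e N) c * z' := by
  classical
  obtain ⟨f, rfl⟩ := Ideal.Quotient.mk_surjective z
  rw [truncMap_mk, trunc_eq_zero_iff] at hz
  have hdvd : ∀ m : Fin e →₀ ℕ, (∀ i, m i < N) → c ∣ f.coeff m := fun m hm => by
    have := hz m hm
    rw [MvPolynomial.coeff_map] at this
    exact hφ _ this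
  choose d hd using hdvd
  refine ⟨Ideal.Quotient.mk _ (∑ m ∈ f.support,
    if hm : ∀ i, m i < N then MvPolynomial.monomial m (d m hm) else 0), ?_⟩
  rw [IsScalarTower.algebraMap_apply W (MvPolynomial (Fin e) W) (Trunc W e N),
    MvPolynomial.algebraMap_eq, Ideal.Quotient.algebraMap_eq, ← map_mul, ← sub_eq_zero, ← map_sub,
    trunc_eq_zero_iff]
  intro m hm
  rw [MvPolynomial.coeff_sub, MvPolynomial.coeff_C_mul, MvPolynomial.coeff_sum]
  by_cases hs : m ∈ f.support
  · rw [Finset.sum_eq_single m]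
    · rw [dif_pos hm, MvPolynomial.coeff_monomial, if_pos rfl, ← hd m hm, sub_self]
    · intro k _ hk
      split_ifs
      · simp [MvPolynomial.coeff_monomial, hk]
      · simp
    · simp [hs]
  · rw [Finset.sum_eq_zero, MvPolynomial.notMem_support_iff.1 hs, mul_zero, sub_zero]
    intro k hk
    have hkm : k ≠ m := fun h => hs (h ▸ hk)
    split_ifs
    · simp [MvPolynomial.coeff_monomial, hkm]
    · simp

/-- The final assembly, with all the data abstract. -/
theorem assemble {R S : Type u} [CommRing R] [CommRing S] [IsArtinianRing R] [IsLocalRing R] [Algebra R S]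
    {A0 E F : Type u} [CommRing A0] [CommRing E] [CommRing F] [IsArtinianRing E] [Algebra A0 R]
    [Algebra A0 E] [Module.Flat A0 E] (p : A0) (hmax : (Ideal.span {p}).IsMaximal)
    (hres : Function.Surjective ((residue R).comp (algebraMap A0 R)))
    (hpR : algebraMap A0 R p ∈ maximalIdeal R)
    (π : E →+* F) (hπ : Function.Surjective π) (hπp : π (algebraMap A0 E p) = 0)
    (hker : ∀ z, π z = 0 → ∃ z', z = algebraMap A0 E p * z')
    (hgorF : LocCoh.IsGorensteinLocalRing F)
    (Ψ : E →+* S) (hΨ : Function.Surjective Ψ)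
    (hcomm : ∀ c, Ψ (algebraMap A0 E c) = algebraMap R S (algebraMap A0 R c)) :
    ∃ (R' : Type u) (_ : CommRing R') (_ : Algebra R R'), IsArtinianRing R' ∧ IsLocalRing R' ∧
      Module.Flat R R' ∧ IsLocalHom (algebraMap R R') ∧
      LocCoh.IsGorensteinLocalRing (R' ⧸ (maximalIdeal R).map (algebraMap R R')) ∧
      ∃ g : R' →ₐ[R] S, Function.Surjective g := by
  have := finite_of_residue_surjective R hres
  have hfin : Module.Finite E (E ⊗[A0] R) := Module.Finite.base_change A0 E R
  have hart : IsArtinianRing (R ⊗[A0] E) := by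
    have : IsArtinianRing (E ⊗[A0] R) := IsArtinianRing.of_finite E (E ⊗[A0] R)
    exact (Algebra.TensorProduct.comm A0 E R).toRingEquiv.surjective.isArtinianRing
  have hflat : Module.Flat R (R ⊗[A0] E) := Module.Flat.baseChange A0 R E
  letI : Algebra A0 S := ((algebraMap R S).comp (algebraMap A0 R)).toAlgebra
  let ΨA : E →ₐ[A0] S := { Ψ with commutes' := hcomm }
  let φA : R →ₐ[A0] S := { algebraMap R S with commutes' := fun c => rfl }
  let G0 : R ⊗[A0] E →ₐ[A0] S := Algebra.TensorProduct.productMap φA ΨA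
  have hG0 : ∀ r t, G0 (r ⊗ₜ t) = algebraMap R S r * Ψ t := fun r t =>
    Algebra.TensorProduct.productMap_apply_tmul φA ΨA r t
  have hGc : ∀ r, G0 (algebraMap R (R ⊗[A0] E) r) = algebraMap R S r := fun r => by
    rw [Algebra.TensorProduct.algebraMap_apply (A := R), Algebra.algebraMap_self, RingHom.id_apply,
      hG0, map_one, mul_one]
  let G : R ⊗[A0] E →ₐ[R] S := { G0.toRingHom with commutes' := hGc }
  obtain ⟨eF⟩ := fibre_equiv (R := R) p hmax hres hpR π hπ hπp hker
  have := hgorF
  have hgorQ := Gor18.gor_of_ringEquiv eF.symm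
  have hlocq : IsLocalRing ((R ⊗[A0] E) ⧸ (maximalIdeal R).map (algebraMap R (R ⊗[A0] E))) :=
    eF.symm.isLocalRing
  obtain ⟨hlocR, hlochom⟩ := isLocalRing_of_fibre (R := R) (R' := R ⊗[A0] E)
  refine ⟨R ⊗[A0] E, inferInstance, inferInstance, hart, hlocR, hflat, hlochom, hgorQ, G, fun z => ?_⟩
  obtain ⟨z, rfl⟩ := hΨ z
  exact ⟨(1 : R) ⊗ₜ z, by show G0 _ = _; rw [hG0, map_one, one_mul]⟩

theorem exists_factor (R S : Type u) [CommRing R] [CommRing S] [IsArtinianRing R] [IsLocalRing R]
    [IsArtinianRing S] [IsLocalRing S] [Algebra R S] [IsLocalHom (algebraMap R S)] :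
    ∃ (R' : Type u) (_ : CommRing R') (_ : Algebra R R'), IsArtinianRing R' ∧ IsLocalRing R' ∧
      Module.Flat R R' ∧ IsLocalHom (algebraMap R R') ∧
      LocCoh.IsGorensteinLocalRing (R' ⧸ (maximalIdeal R).map (algebraMap R R')) ∧
      ∃ g : R' →ₐ[R] S, Function.Surjective g := by
  classical
  have := isAdicComplete_of_isArtinian R
  have := isAdicComplete_of_isArtinian S
  obtain ⟨Wk, _, _, hWk, w, hw, hws⟩ := Cohen12.exists_cohen_hom R
  obtain ⟨Wl, _, _, hWl, v, hv, hvs⟩ := Cohen12.exists_cohen_hom S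
  obtain ⟨hNk, -, hDk, -, p, hp, hmk⟩ := Cohen12.cohen_struct hWk
  obtain ⟨hNl, -, hDl, hZl, q, hq, hml⟩ := Cohen12.cohen_struct hWl
  -- the residue characteristics agree
  have hpR : CharP (ResidueField R) p := charP_of_injective_ringHom (ResidueField.map w).injective p
  have hqS : CharP (ResidueField S) q := charP_of_injective_ringHom (ResidueField.map v).injective q
  have hpS : CharP (ResidueField S) p :=
    charP_of_injective_ringHom (ResidueField.map (algebraMap R S)).injective p
  obtain rfl : p = q := CharP.eq (ResidueField S) hpS hqS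
  have hpmR : (p : R) ∈ maximalIdeal R := by
    rw [← residue_eq_zero_iff, map_natCast, CharP.cast_eq_zero]
  have hpmS : (p : S) ∈ maximalIdeal S := by
    rw [← residue_eq_zero_iff, map_natCast, CharP.cast_eq_zero]
  obtain ⟨a, ha0, haR⟩ := nilp R
  obtain ⟨b, hb0, hbS⟩ := nilp S
  obtain ⟨n, hn0, hn1, hpnR, hpnS⟩ : ∃ n, 0 < n ∧ (p = 0 → n = 1) ∧ (p : R) ^ n = 0 ∧ (p : S) ^ n = 0 := by
    rcases eq_or_ne p 0 with rfl | hp0
    · exact ⟨1, one_pos, fun _ => rfl, by simp, by simp⟩
    · refine ⟨a + b, by omega, fun h => absurd h hp0, ?_, ?_⟩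
      · have : (p : R) ^ a = 0 := by simpa [haR] using Ideal.pow_mem_pow hpmR a
        rw [pow_add, this, zero_mul]
      · have : (p : S) ^ b = 0 := by simpa [hbS] using Ideal.pow_mem_pow hpmS b
        rw [pow_add, this, mul_zero]
  -- the truncated Cohen rings
  let Ik : Ideal Wk := Ideal.span {(p : Wk) ^ n}
  let Il : Ideal Wl := Ideal.span {(p : Wl) ^ n}
  let A0 := Wk ⧸ Ik
  let Wa := Wl ⧸ Il
  have hIl : Il ≤ maximalIdeal Wl := by
    rw [Ideal.span_singleton_le_iff_mem, hml]
    exact Ideal.pow_mem_of_mem _ (Ideal.mem_span_singleton_self _) n hn0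
  have : Nontrivial Wa := Ideal.Quotient.nontrivial_iff.2 fun h =>
    (maximalIdeal.isMaximal Wl).ne_top (top_le_iff.1 (h ▸ hIl))
  have hlocA : IsLocalRing Wa := IsLocalRing.of_surjective' _ Ideal.Quotient.mk_surjective
  have hmaxA : maximalIdeal Wa = Ideal.span {(p : Wa)} := by
    rw [← IsLocalRing.map_maximalIdeal_of_surjective (Ideal.Quotient.mk Il) Ideal.Quotient.mk_surjective,
      hml, Ideal.map_span, Set.image_singleton, map_natCast]
  have hpWa : (p : Wa) ^ n = 0 := by
    rw [← map_natCast (Ideal.Quotient.mk Il), ← map_pow, Ideal.Quotient.eq_zero_iff_mem]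
    exact Ideal.mem_span_singleton_self _
  have hnilA : IsNilpotent (maximalIdeal Wa) :=
    ⟨n, by rw [hmaxA, Ideal.span_singleton_pow, hpWa]; simp⟩
  have : IsNoetherianRing Wa := inferInstance
  have : IsArtinianRing Wa := (isArtinianRing_iff_isNilpotent_maximalIdeal Wa).2 hnilA
  obtain ⟨e, y, hy⟩ := Submodule.fg_iff_exists_fin_generating_family.1
    (IsNoetherian.noetherian (maximalIdeal S))
  let va : Wa →+* S := Ideal.Quotient.lift Il v (by
    intro z hz
    obtain ⟨c, rfl⟩ := Ideal.mem_span_singleton'.1 hz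
    rw [map_mul, map_pow, map_natCast, hpnS, mul_zero])
  have hyp : ∀ i, y i ^ b = 0 := fun i => by
    have : y i ^ b ∈ maximalIdeal S ^ b := Ideal.pow_mem_pow (hy ▸ Submodule.subset_span ⟨i, rfl⟩) b
    rwa [hbS, Ideal.mem_bot] at this
  let E := Trunc Wa e b
  have hlocE : IsLocalRing E := isLocalRing_trunc hnilA hb0
  have := isAdicComplete_of_isArtinian E
  let Ψ : E →+* S := truncLift va y hyp
  have hΨ : Function.Surjective Ψ := truncLift_surjective va y hyp hy.symm
    (fun z => by
      obtain ⟨c, hc⟩ := hvs z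
      exact ⟨Ideal.Quotient.mk Il c, hc⟩) ⟨b, hbS⟩
  -- lift the coefficient map
  let J := RingHom.ker Ψ
  let eJ : E ⧸ J ≃+* S := RingHom.quotientKerEquivOfSurjective hΨ
  have : IsLocalRing (E ⧸ J) := eJ.symm.isLocalRing
  have hlocS : IsLocalHom ((algebraMap R S).comp w) := RingHom.isLocalHom_comp _ _
  let u : Wk →+* E ⧸ J := eJ.symm.toRingHom.comp ((algebraMap R S).comp w)
  have hu : IsLocalHom u := ⟨fun x hx => by
    refine hlocS.map_nonunit x ?_
    have := hx.map eJ
    simpa [u] using this⟩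
  obtain ⟨g0, hg0, hgu⟩ := Cohen12.exists_lift_cohen hWk J u
  have hg0Ψ : ∀ x, Ψ (g0 x) = algebraMap R S (w x) := fun x => by
    have h1 := congrArg eJ (RingHom.congr_fun hgu x)
    simp only [u, RingHom.comp_apply, RingEquiv.toRingHom_eq_coe, RingEquiv.coe_toRingHom,
      RingEquiv.apply_symm_apply] at h1
    exact h1
  have hpE : (p : E) ^ n = 0 := by
    rw [← map_natCast (algebraMap Wa E), ← map_pow, hpWa, map_zero]
  let gA : A0 →+* E := Ideal.Quotient.lift Ik g0 (by
    intro z hz
    obtain ⟨c, rfl⟩ := Ideal.mem_span_singleton'.1 hz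
    rw [map_mul, map_pow, map_natCast, hpE, mul_zero])
  let wA : A0 →+* R := Ideal.Quotient.lift Ik w (by
    intro z hz
    obtain ⟨c, rfl⟩ := Ideal.mem_span_singleton'.1 hz
    rw [map_mul, map_pow, map_natCast, hpnR, mul_zero])
  letI : Algebra A0 E := gA.toAlgebra
  letI : Algebra A0 R := wA.toAlgebra
  -- flatness of `E`
  have hpA : (p : A0) ^ n = 0 := by
    rw [← map_natCast (Ideal.Quotient.mk Ik), ← map_pow, Ideal.Quotient.eq_zero_iff_mem]
    exact Ideal.mem_span_singleton_self _
  have hmax0 : (Ideal.span {(p : A0)}).IsMaximal := by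
    have hle : Ik ≤ maximalIdeal Wk := by
      rw [Ideal.span_singleton_le_iff_mem, hmk]
      exact Ideal.pow_mem_of_mem _ (Ideal.mem_span_singleton_self _) n hn0
    have : Ideal.span {(p : A0)} = (maximalIdeal Wk).map (Ideal.Quotient.mk Ik) := by
      rw [hmk, Ideal.map_span, Set.image_singleton, map_natCast]
    rw [this]
    exact Ideal.IsMaximal.map_of_surjective_of_ker_le Ideal.Quotient.mk_surjective
      (by rw [Ideal.mk_ker]; exact hle)
  have hgp : algebraMap A0 E (p : A0) = (p : E) := map_natCast _ _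
  have hann : ∀ z : E, algebraMap A0 E (p : A0) * z = 0 →
      ∃ z', z = algebraMap A0 E (p : A0) ^ (n - 1) * z' := by
    intro z hz
    have hz' : (p : Wa) • z = 0 := by
      refine (Algebra.smul_def (p : Wa) z).trans ?_
      rw [map_natCast, ← hgp]; exact hz
    obtain ⟨w', hw'⟩ := trunc_annihilator (c := (p : Wa)) (d := (p : Wa) ^ (n - 1)) (fun x hx => by
      obtain ⟨x, rfl⟩ := Ideal.Quotient.mk_surjective x
      rw [← map_natCast (Ideal.Quotient.mk Il), ← map_mul, Ideal.Quotient.eq_zero_iff_mem,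
        Ideal.mem_span_singleton] at hx
      rw [← map_natCast (Ideal.Quotient.mk Il), ← map_pow]
      refine map_dvd (Ideal.Quotient.mk Il) ?_
      rcases eq_or_ne p 0 with hp0 | hp0
      · rw [hn1 hp0, Nat.sub_self, pow_zero]; exact one_dvd _
      · rw [show n = n - 1 + 1 from by omega, pow_succ'] at hx
        exact (mul_dvd_mul_iff_left (Nat.cast_ne_zero.2 hp0)).1 hx) z hz'
    refine ⟨w', ?_⟩
    refine hw'.trans ((Algebra.smul_def ((p : Wa) ^ (n - 1)) w').trans ?_)
    rw [map_pow, map_natCast, hgp]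
  have hflatE : Module.Flat A0 E := flat_of_annihilator (p : A0) hn0 hpA hmax0 hann
  have hres : Function.Surjective ((residue R).comp (algebraMap A0 R)) := fun z => by
    obtain ⟨c, hc⟩ := hws z
    exact ⟨Ideal.Quotient.mk Ik c, hc⟩
  have hΨA : ∀ c, Ψ (gA c) = algebraMap R S (wA c) := fun c => by
    obtain ⟨c, rfl⟩ := Ideal.Quotient.mk_surjective c
    exact hg0Ψ c
  -- the fibre
  let l := ResidueField Wa
  let F := Trunc l e b
  have hgorF : LocCoh.IsGorensteinLocalRing F := trunc_gorenstein hb0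
  let π : E →+* F := truncMap (residue Wa) e b
  have hπC : ∀ c, π (algebraMap Wa E c) = algebraMap l F (residue Wa c) := truncMap_C _
  have hπ : Function.Surjective π := truncMap_surjective _ residue_surjective
  have hker : ∀ z : E, π z = 0 → ∃ z', z = (p : E) * z' := fun z hz => by
    obtain ⟨z', h'⟩ := exists_of_truncMap_eq_zero (residue Wa) (c := (p : Wa)) (fun x hx => by
      rwa [residue_eq_zero_iff, hmaxA, Ideal.mem_span_singleton] at hx) z hz
    exact ⟨z', by rw [h', map_natCast]⟩
  have hπp : π (algebraMap A0 E (p : A0)) = 0 := by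
    rw [hgp, ← map_natCast (algebraMap Wa E), hπC,
      (residue_eq_zero_iff _).2 (hmaxA ▸ Ideal.mem_span_singleton_self _), map_zero]
  have hpR' : algebraMap A0 R (p : A0) ∈ maximalIdeal R := by rw [map_natCast]; exact hpmR
  exact assemble (p : A0) hmax0 hres hpR' π hπ hπp (fun z hz => by rw [hgp]; exact hker z hz)
    hgorF Ψ hΨ hΨA

end Groth.Agent.CAlg6.GorFactor
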