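import Mathlib

/-!
A finite type algebra as the degree zero part of a localization of a standard graded algebra.
-/

set_option autoImplicit false

universe u

namespace Groth.Agent.CAlg6.GradedCone

open Polynomial

variable (R R' : Type u) [CommRing R] [CommRing R'] [Algebra R R']

/-- The ambient algebra. -/
abbrev Amb : Type u := R × Polynomial R'

/-- Degree `n` part of the ambient algebra. -/
noncomputable def piece : ℕ → Submodule R (Amb R R')
  | 0 => 1
  | n + 1 => LinearMap.range ((LinearMap.inr R R (Polynomial R')).comp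
      ((Polynomial.monomial (n + 1)).restrictScalars R))

theorem mem_piece_succ {n : ℕ} {z : Amb R R'} :
    z ∈ piece R R' (n + 1) ↔ ∃ y : R', z = ((0 : R), monomial (n + 1) y) := by
  simp [piece, eq_comm]

theorem piece_mul {i j : ℕ} {a b : Amb R R'} (ha : a ∈ piece R R' i) (hb : b ∈ piece R R' j) :
    a * b ∈ piece R R' (i + j) := by
  cases i with
  | zero =>
    obtain ⟨r, rfl⟩ := Submodule.mem_one.1 ha
    rw [← Algebra.smul_def, Nat.zero_add]
    exact Submodule.smul_mem _ r hb
  | succ i =>
    cases j with
    | zero =>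
      obtain ⟨r, rfl⟩ := Submodule.mem_one.1 hb
      rw [mul_comm, ← Algebra.smul_def]
      exact Submodule.smul_mem _ r ha
    | succ j =>
      obtain ⟨x, rfl⟩ := (mem_piece_succ R R').1 ha
      obtain ⟨y, rfl⟩ := (mem_piece_succ R R').1 hb
      rw [show i + 1 + (j + 1) = i + j + 1 + 1 from by omega]
      refine (mem_piece_succ R R').2 ⟨x * y, ?_⟩
      rw [Prod.mk_mul_mk, mul_zero, monomial_mul_monomial, show i + 1 + (j + 1) = i + j + 1 + 1 from by omega]

theorem eq_zero_of_sum_piece (d : ℕ →₀ Amb R R') (hd : ∀ i, d i ∈ piece R R' i)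
    (h : d.sum (fun _ z => z) = 0) : d = 0 := by
  classical
  have h0 : ∀ i, i ≠ 0 → (d i).1 = 0 := fun i hi => by
    obtain ⟨n, rfl⟩ := Nat.exists_eq_succ_of_ne_zero hi
    obtain ⟨y, hy⟩ := (mem_piece_succ R R').1 (hd (n + 1))
    rw [hy]
  have hcoeff : ∀ i j, i ≠ j → ((d i).2).coeff j = 0 := fun i j hij => by
    cases i with
    | zero =>
      obtain ⟨r, hr⟩ := Submodule.mem_one.1 (hd 0)
      rw [← hr]
      show (algebraMap R (Polynomial R') r).coeff j = 0
      rw [Polynomial.algebraMap_apply, Polynomial.coeff_C, if_neg (Ne.symm hij)]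
    | succ n =>
      obtain ⟨y, hy⟩ := (mem_piece_succ R R').1 (hd (n + 1))
      rw [hy]
      exact Polynomial.coeff_monomial_of_ne _ hij.symm
  have hfst : (d 0).1 = 0 := by
    have := congrArg Prod.fst h
    rw [Finsupp.sum, Prod.fst_sum, Finset.sum_eq_single 0] at this
    · exact this
    · exact fun i _ hi => h0 i hi
    · intro hi
      simp [Finsupp.notMem_support_iff.1 hi]
  ext i : 1
  cases i with
  | zero =>
    obtain ⟨r, hr⟩ := Submodule.mem_one.1 (hd 0)
    rw [← hr] at hfst
    have : r = 0 := hfst
    rw [← hr, this, map_zero, Finsupp.zero_apply]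
  | succ n =>
    obtain ⟨y, hy⟩ := (mem_piece_succ R R').1 (hd (n + 1))
    have := congrArg (fun z : Amb R R' => z.2.coeff (n + 1)) h
    simp only [Finsupp.sum, Prod.snd_sum, Polynomial.finsetSum_coeff, Prod.snd_zero,
      Polynomial.coeff_zero] at this
    rw [Finset.sum_eq_single (n + 1)] at this
    · rw [hy] at this ⊢
      rw [Polynomial.coeff_monomial_same] at this
      rw [this, map_zero, Finsupp.zero_apply]
      rfl
    · exact fun i _ hi => hcoeff i (n + 1) hi
    · intro hi
      simp [Finsupp.notMem_support_iff.1 hi]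

variable {m : ℕ} (x : Fin m → R')

/-- The generators. -/
noncomputable def gen : Option (Fin m) → Amb R R' :=
  fun o => ((0 : R), monomial 1 (o.elim 1 x))

/-- The graded algebra. -/
noncomputable abbrev Sub : Subalgebra R (Amb R R') := Algebra.adjoin R (Set.range (gen R R' x))

/-- The graded pieces. -/
noncomputable abbrev grade (n : ℕ) : Submodule R (Sub R R' x) :=
  (piece R R' n).comap (Sub R R' x).val.toLinearMap

noncomputable def genS (o : Option (Fin m)) : Sub R R' x :=
  ⟨gen R R' x o, Algebra.subset_adjoin ⟨o, rfl⟩⟩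

theorem genS_mem (o : Option (Fin m)) : genS R R' x o ∈ grade R R' x 1 :=
  (mem_piece_succ R R' (n := 0)).2 ⟨_, rfl⟩

instance : SetLike.GradedMonoid (grade R R' x) where
  one_mem := by
    show (1 : Amb R R') ∈ piece R R' 0
    exact Submodule.mem_one.2 ⟨1, map_one _⟩
  mul_mem _ _ _ _ ha hb := piece_mul R R' ha hb

theorem adjoin_genS : Algebra.adjoin R (Set.range (genS R R' x)) = ⊤ := by
  have hset : Set.range (genS R R' x) = (Subtype.val : Sub R R' x → Amb R R') ⁻¹' Set.range (gen R R' x) := by
    ext z
    constructor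
    · rintro ⟨o, rfl⟩; exact ⟨o, rfl⟩
    · rintro ⟨o, ho⟩; exact ⟨o, Subtype.ext ho⟩
  rw [hset]
  exact Algebra.adjoin_adjoin_coe_preimage

theorem isInternal : DirectSum.IsInternal (grade R R' x) := by
  classical
  refine DirectSum.isInternal_submodule_of_iSupIndep_of_iSup_eq_top ?_ ?_
  · rw [iSupIndep_iff_finsetSum_eq_zero_imp_eq_zero]
    intro s v hv hsum i hi
    let d : ℕ →₀ Amb R R' := Finsupp.onFinset s (fun j => if j ∈ s then (v j : Amb R R') else 0)
      (fun j hj => by by_contra h; simp [h] at hj)
    have hd : ∀ j, d j ∈ piece R R' j := fun j => by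
      show (if j ∈ s then (v j : Amb R R') else 0) ∈ _
      split_ifs with h
      · exact hv j h
      · exact zero_mem _
    have h0 := eq_zero_of_sum_piece R R' d hd (by
      rw [Finsupp.onFinset_sum (hf := fun j hj => by by_contra h; simp [h] at hj) (hg := fun _ => rfl)]
      have := congrArg (Sub R R' x).val hsum
      rw [map_sum, map_zero] at this
      rw [← this]
      exact Finset.sum_congr rfl fun j hj => by simp [hj])
    have := DFunLike.congr_fun h0 i
    simpa [d, hi] using this
  · rw [eq_top_iff]
    rintro z -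
    have hz : z ∈ Algebra.adjoin R (Set.range (genS R R' x)) := adjoin_genS R R' x ▸ trivial
    rw [← Subalgebra.mem_toSubmodule, Algebra.adjoin_eq_span] at hz
    refine (Submodule.span_le.2 ?_) hz
    intro w hw
    suffices ∃ n, w ∈ grade R R' x n by
      obtain ⟨n, hn⟩ := this
      exact Submodule.mem_iSup_of_mem n hn
    induction hw using Submonoid.closure_induction with
    | mem y hy => obtain ⟨o, rfl⟩ := hy; exact ⟨1, genS_mem R R' x o⟩
    | one => exact ⟨0, SetLike.GradedOne.one_mem⟩
    | mul y y' _ _ h1 h2 =>
      obtain ⟨n, hn⟩ := h1; obtain ⟨n', hn'⟩ := h2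
      exact ⟨n + n', SetLike.mul_mem_graded hn hn'⟩

noncomputable instance : GradedAlgebra (grade R R' x) :=
  DirectSum.IsInternal.gradedAlgebra (isInternal R R' x)

theorem grade_zero_le {z : Sub R R' x} (hz : z ∈ grade R R' x 0) :
    z ∈ Set.range (algebraMap R (Sub R R' x)) := by
  obtain ⟨r, hr⟩ := Submodule.mem_one.1 hz
  exact ⟨r, Subtype.ext hr⟩

theorem algebraMap_injective : Function.Injective (algebraMap R (Sub R R' x)) := fun a b h => by
  have := congrArg (fun z : Sub R R' x => (z : Amb R R').1) h
  exact this

/-- Evaluation at `T = 1`. -/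
noncomputable def ev : Sub R R' x →ₐ[R] R' :=
  (((Polynomial.aeval (1 : R')).restrictScalars R).comp (AlgHom.snd R R (Polynomial R'))).comp
    (Sub R R' x).val

theorem ev_genS (o : Option (Fin m)) : ev R R' x (genS R R' x o) = o.elim 1 x := by
  simp [ev, genS, gen]

/-- The map to `R'`. -/
noncomputable def toR' : Localization.Away (genS R R' x none) →+* R' :=
  IsLocalization.Away.lift (genS R R' x none) (g := (ev R R' x).toRingHom)
    (by
      show IsUnit (ev R R' x (genS R R' x none))
      rw [ev_genS]
      exact isUnit_one)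

theorem toR'_algebraMap (z : Sub R R' x) : toR' R R' x (algebraMap _ _ z) = ev R R' x z :=
  IsLocalization.Away.lift_eq _ _ _

theorem toR'_mk (z : Sub R R' x) (k : ℕ) :
    toR' R R' x (Localization.mk z ⟨genS R R' x none ^ k, k, rfl⟩) = ev R R' x z := by
  have h : toR' R R' x (Localization.mk z ⟨genS R R' x none ^ k, k, rfl⟩) *
      toR' R R' x (algebraMap _ _ (genS R R' x none ^ k)) = ev R R' x z := by
    rw [← map_mul, Localization.mk_eq_mk', IsLocalization.mk'_spec, toR'_algebraMap]
  simpa [toR'_algebraMap, ev_genS] using h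

/-- The degree zero part maps to `R'`. -/
noncomputable def toR'0 : HomogeneousLocalization.Away (grade R R' x) (genS R R' x none) →+* R' :=
  RingHom.comp (toR' R R' x)
    (algebraMap (HomogeneousLocalization (grade R R' x) (Submonoid.powers (genS R R' x none)))
      (Localization (Submonoid.powers (genS R R' x none))))

theorem bijective :
    Function.Bijective (toR'0 R R' x) ↔ Algebra.adjoin R (Set.range x) = ⊤ := by
  constructor
  · intro h
    rw [eq_top_iff]
    rintro y -
    obtain ⟨z, rfl⟩ := h.2 y
    obtain ⟨k, a, ha, rfl⟩ := HomogeneousLocalization.Away.mk_surjective (grade R R' x) (genS_mem R R' x none) z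
    rw [toR'0, RingHom.comp_apply, HomogeneousLocalization.algebraMap_apply, HomogeneousLocalization.Away.val_mk, toR'_mk]
    have hmem : ev R R' x a ∈ (Algebra.adjoin R (Set.range (genS R R' x))).map (ev R R' x) :=
      ⟨a, adjoin_genS R R' x ▸ trivial, rfl⟩
    rw [AlgHom.map_adjoin] at hmem
    refine Algebra.adjoin_le ?_ hmem
    rintro _ ⟨_, ⟨o, rfl⟩, rfl⟩
    rw [ev_genS]
    cases o with
    | none => exact one_mem _
    | some i => exact Algebra.subset_adjoin ⟨i, rfl⟩
  · intro htop
    constructor
    · rw [injective_iff_map_eq_zero]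
      intro z hz
      obtain ⟨k, a, ha, rfl⟩ := HomogeneousLocalization.Away.mk_surjective (grade R R' x) (genS_mem R R' x none) z
      simp only [toR'0, RingHom.comp_apply, HomogeneousLocalization.algebraMap_apply, HomogeneousLocalization.Away.val_mk,
        toR'_mk] at hz
      apply HomogeneousLocalization.val_injective
      rw [HomogeneousLocalization.Away.val_mk, HomogeneousLocalization.val_zero, Localization.mk_eq_mk',
        IsLocalization.mk'_eq_zero_iff]
      refine ⟨⟨genS R R' x none, 1, pow_one _⟩, ?_⟩
      rw [smul_eq_mul, mul_one] at ha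
      cases k with
      | zero =>
        obtain ⟨r, rfl⟩ := grade_zero_le R R' x ha
        rw [AlgHom.commutes] at hz
        apply Subtype.ext
        show gen R R' x none * algebraMap R (Amb R R') r = 0
        simp [gen, hz]
      | succ k =>
        obtain ⟨y, hy⟩ := (mem_piece_succ R R').1 ha
        have hy0 : y = 0 := by
          have hy' : (a : Amb R R') = ((0 : R), monomial (k + 1) y) := hy
          simpa [ev, hy'] using hz
        have : a = 0 := Subtype.ext (by
          show (a : Amb R R') = 0
          rw [show (a : Amb R R') = _ from hy, hy0, map_zero]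
          rfl)
        rw [this, mul_zero]
    · intro y
      have hy : y ∈ Algebra.adjoin R (Set.range x) := htop ▸ trivial
      induction hy using Algebra.adjoin_induction with
      | mem y hy =>
        obtain ⟨i, rfl⟩ := hy
        refine ⟨HomogeneousLocalization.Away.mk (grade R R' x) (genS_mem R R' x none) 1 (genS R R' x (some i))
          (by simpa using genS_mem R R' x (some i)), ?_⟩
        simp only [toR'0, RingHom.comp_apply, HomogeneousLocalization.algebraMap_apply, HomogeneousLocalization.Away.val_mk, toR'_mk,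
          ev_genS, Option.elim_some]
      | algebraMap r =>
        refine ⟨HomogeneousLocalization.Away.mk (grade R R' x) (genS_mem R R' x none) 0 (algebraMap R _ r)
          (by
            rw [zero_smul]
            exact Submodule.mem_one.2 ⟨r, rfl⟩), ?_⟩
        simp only [toR'0, RingHom.comp_apply, HomogeneousLocalization.algebraMap_apply, HomogeneousLocalization.Away.val_mk, toR'_mk,
          AlgHom.commutes]
      | add a b _ _ h1 h2 =>
        obtain ⟨z, rfl⟩ := h1; obtain ⟨w, rfl⟩ := h2; exact ⟨z + w, map_add _ _ _⟩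
      | mul a b _ _ h1 h2 =>
        obtain ⟨z, rfl⟩ := h1; obtain ⟨w, rfl⟩ := h2; exact ⟨z * w, map_mul _ _ _⟩

end Groth.Agent.CAlg6.GradedCone
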