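import Groth.Agent.CAlg6.GrpStage
set_option autoImplicit false
universe u
open CategoryTheory CategoryTheory.Limits MonoidalCategory CartesianMonoidalCategory AlgebraicGeometry ActBC
open Groth.Agent.Tors37

noncomputable section

namespace Groth.Agent.CAlg6.GrpHomStage

theorem pc_hom {X Y Z : Scheme.{u}} (f : X ⟶ Y) (g : Y ⟶ Z) (A : Over Z) :
    ((Over.pullbackComp f g).hom.app A).left ≫ pullback.fst _ f ≫ pullback.fst A.hom g = pullback.fst A.hom (f ≫ g) := by
  have h := congrArg (fun k => k.left) (conjugateEquiv_counit (Over.mapPullbackAdj (f ≫ g))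
    ((Over.mapPullbackAdj f).comp (Over.mapPullbackAdj g)) (Over.mapComp f g).symm.hom A)
  simp [Over.mapComp] at h
  exact h
theorem pc_iso {X Y Z : Scheme.{u}} (f : X ⟶ Y) (g : Y ⟶ Z) {d : X ⟶ Z} (h : f ≫ g = d) (A : Over Z) :
    ((Over.pullbackComp f g).app A).symm ≪≫ eqToIso (congrArg (fun g => Red.bc g A) h) = bcCompIso f g A h := by
  subst h
  rw [eqToIso_refl, Iso.trans_refl]
  ext1
  rw [Iso.symm_hom]
  have e : ((Over.pullbackComp f g).app A).hom ≫ (bcCompIso f g A rfl).hom = 𝟙 _ := by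
    ext1
    apply pullback.hom_ext
    · rw [Over.comp_left, Category.assoc, bcCompIso_hom_left_fst, Over.id_left, Category.id_comp]
      exact pc_hom f g A
    · exact (Over.w _).trans (Over.w _).symm
  exact ((Iso.inv_comp_eq _).2 e.symm).trans (by simp) |>.symm |> fun h => h.symm

variable {S S' : Scheme.{u}} (m : S' ⟶ S) {A B : Over S} [GrpObj A] [GrpObj B] (g : A ⟶ B)

theorem map_one_law [IsMonHom ((Over.pullback m).map g)] :
    (Over.pullback m).map (MonObj.one (X := A) ≫ g) = (Over.pullback m).map (MonObj.one (X := B)) := by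
  rw [Functor.map_comp, ← cancel_epi (Functor.LaxMonoidal.ε (Over.pullback m))]
  have h := IsMonHom.one_hom ((Over.pullback m).map g)
  simpa [Functor.obj.η_def] using h

theorem map_mul_law [IsMonHom ((Over.pullback m).map g)] :
    (Over.pullback m).map (MonObj.mul (X := A) ≫ g) = (Over.pullback m).map ((g ⊗ₘ g) ≫ MonObj.mul (X := B)) := by
  rw [Functor.map_comp, Functor.map_comp, ← cancel_epi (Functor.LaxMonoidal.μ (Over.pullback m) A A),
    ← Functor.LaxMonoidal.μ_natural_assoc]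
  have h := IsMonHom.mul_hom ((Over.pullback m).map g)
  simpa [Functor.obj.μ_def] using h

theorem isMonHom_of_laws
    (h1 : (Over.pullback m).map (MonObj.one (X := A) ≫ g) = (Over.pullback m).map (MonObj.one (X := B)))
    (h2 : (Over.pullback m).map (MonObj.mul (X := A) ≫ g) = (Over.pullback m).map ((g ⊗ₘ g) ≫ MonObj.mul (X := B))) :
    IsMonHom ((Over.pullback m).map g) := by
  constructor
  · rw [Functor.obj.η_def, Functor.obj.η_def, Category.assoc, ← Functor.map_comp, h1]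
  · rw [Functor.obj.μ_def, Functor.obj.μ_def, Category.assoc, ← Functor.map_comp, h2, Functor.map_comp,
      Functor.LaxMonoidal.μ_natural_assoc]

theorem stable_eq {I : Type u} [SmallCategory I] (D : I ⥤ Scheme.{u}) {j k l : I} (ψ : k ⟶ j) (θ : l ⟶ j)
    (w : l ⟶ k) (hw : w ≫ ψ = θ) {A B : Over (D.obj j)} (x y : A ⟶ B)
    (h : (Over.pullback (D.map ψ)).map x = (Over.pullback (D.map ψ)).map y) :
    (Over.pullback (D.map θ)).map x = (Over.pullback (D.map θ)).map y := by
  have he : D.map w ≫ D.map ψ = D.map θ := by rw [← D.map_comp, hw]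
  rw [← cancel_epi (bcCompIso (D.map w) (D.map ψ) A he).hom, ← bcCompIso_hom_naturality,
    ← bcCompIso_hom_naturality, h]

theorem surj {I : Type u} [SmallCategory I] [IsCofiltered I]
    (D : I ⥤ Scheme.{u}) (c : Limits.Cone D) (hc : Limits.IsLimit c)
    [∀ (i i' : I) (f : i ⟶ i'), IsAffineHom (D.map f)] [∀ i, CompactSpace (D.obj i)] [∀ i, QuasiSeparatedSpace (D.obj i)]
    (j : I) (Gj Hj : Over (D.obj j)) [GrpObj Gj] [GrpObj Hj]
    [QuasiCompact Gj.hom] [QuasiSeparated Gj.hom] [LocallyOfFinitePresentation Hj.hom]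
    (u : Red.bc (c.π.app j) Gj ⟶ Red.bc (c.π.app j) Hj) [IsMonHom u] :
    ∃ (i : I) (f : i ⟶ j) (ui : Red.bc (D.map f) Gj ⟶ Red.bc (D.map f) Hj), IsMonHom ui ∧
      (Over.pullback (c.π.app i)).map ui =
        (bcCompIso (c.π.app i) (D.map f) Gj (c.w f)).hom ≫ u ≫ (bcCompIso (c.π.app i) (D.map f) Hj (c.w f)).inv := by
  haveI : CompactSpace Gj.left := QuasiCompact.compactSpace_of_compactSpace Gj.hom
  haveI : QuasiSeparatedSpace Gj.left := quasiSeparatedSpace_of_quasiSeparated Gj.hom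
  obtain ⟨i, φ, g, hg⟩ := exists_descend_hom D c hc u
  let G₁ := Red.bc (D.map φ) Gj
  let H₁ := Red.bc (D.map φ) Hj
  haveI : QuasiCompact G₁.hom := MorphismProperty.pullback_snd (P := @QuasiCompact) _ _ ‹_›
  haveI : QuasiSeparated G₁.hom := MorphismProperty.pullback_snd (P := @QuasiSeparated) _ _ ‹_›
  haveI : LocallyOfFinitePresentation H₁.hom :=
    MorphismProperty.pullback_snd (P := @LocallyOfFinitePresentation) _ _ ‹_›
  haveI : LocallyOfFiniteType H₁.hom := inferInstance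
  haveI : CompactSpace (𝟙_ (Over (D.obj i))).left := inferInstanceAs (CompactSpace (D.obj i))
  obtain ⟨_, _, _, _⟩ := GrpStage.compact_tensor G₁ G₁
  haveI : IsMonHom ((Over.pullback (c.π.app i)).map g) := by
    rw [show (Over.pullback (c.π.app i)).map g =
      (bcCompIso (c.π.app i) (D.map φ) Gj (c.w φ)).hom ≫ u ≫ (bcCompIso (c.π.app i) (D.map φ) Hj (c.w φ)).inv from by
        rw [← Category.assoc, Iso.eq_comp_inv]; exact hg]
    infer_instance
  obtain ⟨k₁, ψ₁, e1⟩ := exists_map_eq D c hc _ _ (map_one_law (c.π.app i) g)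
  obtain ⟨k₂, ψ₂, e2⟩ := exists_map_eq D c hc _ _ (map_mul_law (c.π.app i) g)
  obtain ⟨k, u₁, u₂, hu⟩ := IsCofiltered.cospan ψ₁ ψ₂
  let ψ := u₁ ≫ ψ₁
  haveI := isMonHom_of_laws (D.map ψ) g (stable_eq D ψ₁ ψ u₁ rfl _ _ e1) (stable_eq D ψ₂ ψ u₂ hu.symm _ _ e2)
  have he : D.map ψ ≫ D.map φ = D.map (ψ ≫ φ) := (D.map_comp _ _).symm
  refine ⟨k, ψ ≫ φ, (bcCompIso (D.map ψ) (D.map φ) Gj he).inv ≫ (Over.pullback (D.map ψ)).map g ≫
    (bcCompIso (D.map ψ) (D.map φ) Hj he).hom, inferInstance, ?_⟩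
  simp only [Functor.map_comp, Category.assoc]
  rw [← Category.assoc _ u, Iso.eq_comp_inv]
  simp only [Category.assoc]
  rw [bcComp_assoc (c.π.app k) (D.map ψ) (D.map φ) Hj he (c.w ψ) (c.w (ψ ≫ φ)) (c.w φ),
    bcCompIso_hom_naturality_assoc, hg,
    ← reassoc_of% bcComp_assoc (c.π.app k) (D.map ψ) (D.map φ) Gj he (c.w ψ) (c.w (ψ ≫ φ)) (c.w φ),
    ← Functor.map_comp_assoc, Iso.inv_hom_id, CategoryTheory.Functor.map_id, Category.id_comp]

end Groth.Agent.CAlg6.GrpHomStage
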