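import Groth.Agent.Tors37.ActStage
import Groth.Agent.Approx60.ImmStage
import Groth.Prelude.Def_Red

/-! Group schemes of finite presentation over a limit descend to a stage. -/

set_option autoImplicit false
universe u
open CategoryTheory CategoryTheory.Limits MonoidalCategory CartesianMonoidalCategory MonObj AlgebraicGeometry
open ActBC Groth.Agent.Tors37

noncomputable section

namespace Groth.Agent.CAlg6.GrpStage

section Map

variable {S S' : Scheme.{u}} (f : S' ⟶ S) {W : Over S} (e : 𝟙_ (Over S) ⟶ W) (m : W ⊗ W ⟶ W) (n : W ⟶ W)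

local notation "F" => Over.pullback f

/-- group laws read after base change -/
structure Laws : Prop where
  one_mul : (F).map ((e ▷ W) ≫ m) = (F).map (λ_ W).hom
  mul_one : (F).map ((W ◁ e) ≫ m) = (F).map (ρ_ W).hom
  assoc : (F).map ((m ▷ W) ≫ m) = (F).map ((α_ W W W).hom ≫ (W ◁ m) ≫ m)
  left_inv : (F).map (lift n (𝟙 W) ≫ m) = (F).map (toUnit W ≫ e)
  right_inv : (F).map (lift (𝟙 W) n ≫ m) = (F).map (toUnit W ≫ e)

theorem map_toUnit (X : Over S) :
    (F).map (toUnit X) = toUnit ((F).obj X) ≫ Functor.LaxMonoidal.ε (F) := by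
  rw [← cancel_mono (inv (Functor.LaxMonoidal.ε (F)))]
  exact toUnit_unique _ _

theorem map_lift {T X Y : Over S} (x : T ⟶ X) (y : T ⟶ Y) :
    lift ((F).map x) ((F).map y) ≫ Functor.LaxMonoidal.μ (F) X Y = (F).map (lift x y) := by
  rw [← cancel_mono (inv (Functor.LaxMonoidal.μ (F) X Y)), Category.assoc, IsIso.hom_inv_id, Category.comp_id]
  apply hom_ext
  · rw [lift_fst, Category.assoc, IsIso.inv_comp_eq _ |>.2 (Functor.Monoidal.μ_fst (F) X Y).symm,
      ← Functor.map_comp, lift_fst]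
  · rw [lift_snd, Category.assoc, IsIso.inv_comp_eq _ |>.2 (Functor.Monoidal.μ_snd (F) X Y).symm,
      ← Functor.map_comp, lift_snd]

/-- the group object after base change -/
@[reducible] def grp (h : Laws f e m n) : GrpObj (Red.bc f W) where
  one := Functor.LaxMonoidal.ε (F) ≫ (F).map e
  mul := Functor.LaxMonoidal.μ (F) W W ≫ (F).map m
  inv := (F).map n
  one_mul := by
    rw [comp_whiskerRight, Category.assoc, Functor.LaxMonoidal.μ_natural_left_assoc, ← Functor.map_comp, h.one_mul]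
    exact (Functor.LaxMonoidal.left_unitality (F) W).symm
  mul_one := by
    rw [MonoidalCategory.whiskerLeft_comp, Category.assoc, Functor.LaxMonoidal.μ_natural_right_assoc,
      ← Functor.map_comp, h.mul_one]
    exact (Functor.LaxMonoidal.right_unitality (F) W).symm
  mul_assoc := by
    rw [comp_whiskerRight, Category.assoc, Functor.LaxMonoidal.μ_natural_left_assoc, ← Functor.map_comp, h.assoc,
      Functor.map_comp, Functor.map_comp, Functor.LaxMonoidal.associativity_assoc,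
      ← Functor.LaxMonoidal.μ_natural_right_assoc, MonoidalCategory.whiskerLeft_comp, Category.assoc]
  left_inv := by
    rw [← CategoryTheory.Functor.map_id, ← Category.assoc, map_lift, ← Functor.map_comp, h.left_inv,
      Functor.map_comp, map_toUnit, Category.assoc]
  right_inv := by
    rw [← CategoryTheory.Functor.map_id, ← Category.assoc, map_lift, ← Functor.map_comp, h.right_inv,
      Functor.map_comp, map_toUnit, Category.assoc]

/-- the maps model a group through an isomorphism -/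
structure Models {G : Over S'} [GrpObj G] (c : Red.bc f W ≅ G) : Prop where
  one : Functor.LaxMonoidal.ε (F) ≫ (F).map e ≫ c.hom = η[G]
  mul : Functor.LaxMonoidal.μ (F) W W ≫ (F).map m ≫ c.hom = (c.hom ⊗ₘ c.hom) ≫ μ[G]
  inv : (F).map n ≫ c.hom = c.hom ≫ GrpObj.inv (X := G)

variable {f e m n}

theorem Models.map_mul_pts {G : Over S'} [GrpObj G] {c : Red.bc f W ≅ G} (h : Models f e m n c)
    {T : Over S} (x y : T ⟶ W) :
    (F).map (lift x y ≫ m) ≫ c.hom = ((F).map x ≫ c.hom) * ((F).map y ≫ c.hom) := by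
  rw [Functor.map_comp, ← map_lift, Category.assoc, Category.assoc, h.mul, Hom.mul_def, ← Category.assoc,
    lift_map]

theorem Models.map_one_pts {G : Over S'} [GrpObj G] {c : Red.bc f W ≅ G} (h : Models f e m n c) (T : Over S) :
    (F).map (toUnit T ≫ e) ≫ c.hom = 1 := by
  rw [Functor.map_comp, map_toUnit, Category.assoc, Category.assoc, h.one, Hom.one_def]

theorem Models.laws {G : Over S'} [GrpObj G] {c : Red.bc f W ≅ G} (h : Models f e m n c) : Laws f e m n where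
  one_mul := by
    have e1 : (e ▷ W) = lift (toUnit _ ≫ e) (snd _ _) := by
      apply hom_ext <;> simp [toUnit_unique (fst (𝟙_ (Over S)) W) (toUnit _)]
    rw [← cancel_mono c.hom, e1, h.map_mul_pts, h.map_one_pts, _root_.one_mul, leftUnitor_hom]
  mul_one := by
    have e1 : (W ◁ e) = lift (fst _ _) (toUnit _ ≫ e) := by
      apply hom_ext <;> simp [toUnit_unique (snd W (𝟙_ (Over S))) (toUnit _)]
    rw [← cancel_mono c.hom, e1, h.map_mul_pts, h.map_one_pts, _root_.mul_one, rightUnitor_hom]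
  assoc := by
    have e1 : (m ▷ W) = lift (lift (fst (W ⊗ W) W ≫ fst W W) (fst (W ⊗ W) W ≫ snd W W) ≫ m) (snd _ _) := by
      apply hom_ext
      · rw [whiskerRight_fst, lift_fst]
        congr 1
        apply hom_ext <;> simp
      · rw [whiskerRight_snd, lift_snd]
    have e2 : (α_ W W W).hom ≫ (W ◁ m) = lift (fst (W ⊗ W) W ≫ fst W W)
        (lift (fst (W ⊗ W) W ≫ snd W W) (snd _ _) ≫ m) := by
      apply hom_ext
      · simp
      · rw [Category.assoc, whiskerLeft_snd, lift_snd, ← Category.assoc]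
        congr 1
        apply hom_ext <;> simp
    rw [← cancel_mono c.hom, ← Category.assoc (α_ W W W).hom, e1, e2, h.map_mul_pts, h.map_mul_pts,
      h.map_mul_pts, h.map_mul_pts, _root_.mul_assoc]
  left_inv := by
    rw [← cancel_mono c.hom, h.map_mul_pts, h.map_one_pts, h.inv, CategoryTheory.Functor.map_id, Category.id_comp,
      show c.hom ≫ GrpObj.inv (X := G) = c.hom⁻¹ from rfl, inv_mul_cancel]
  right_inv := by
    rw [← cancel_mono c.hom, h.map_mul_pts, h.map_one_pts, h.inv, CategoryTheory.Functor.map_id, Category.id_comp,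
      show c.hom ≫ GrpObj.inv (X := G) = c.hom⁻¹ from rfl, mul_inv_cancel]

end Map

section Rebase

variable {S S₁ S' : Scheme.{u}} (g : S' ⟶ S₁) (φ : S₁ ⟶ S) {d : S' ⟶ S} (hd : g ≫ φ = d) {W : Over S}
  {G : Over S'} [GrpObj G] (c : Red.bc d W ≅ G)

theorem rebase_mul (a : (Over.pullback d).obj (W ⊗ W) ⟶ (Over.pullback d).obj W)
    (h : Functor.LaxMonoidal.μ (Over.pullback d) W W ≫ a ≫ c.hom = (c.hom ⊗ₘ c.hom) ≫ μ[G])
    (b : (Over.pullback φ).obj (W ⊗ W) ⟶ (Over.pullback φ).obj W)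
    (hb : (Over.pullback g).map b ≫ (bcCompIso g φ W hd).hom = (bcCompIso g φ (W ⊗ W) hd).hom ≫ a) :
    Functor.LaxMonoidal.μ (Over.pullback g) (Red.bc φ W) (Red.bc φ W) ≫
        (Over.pullback g).map (Functor.LaxMonoidal.μ (Over.pullback φ) W W ≫ b) ≫
        (bcCompIso g φ W hd ≪≫ c).hom =
      ((bcCompIso g φ W hd ≪≫ c).hom ⊗ₘ (bcCompIso g φ W hd ≪≫ c).hom) ≫ μ[G] := by
  rw [Functor.map_comp, Iso.trans_hom, Category.assoc, reassoc_of% hb, reassoc_of% bcComp_μ g φ hd W W, h,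
    tensorHom_comp_tensorHom_assoc]

theorem rebase_one (a : (Over.pullback d).obj (𝟙_ (Over S)) ⟶ (Over.pullback d).obj W)
    (h : Functor.LaxMonoidal.ε (Over.pullback d) ≫ a ≫ c.hom = η[G])
    (b : (Over.pullback φ).obj (𝟙_ (Over S)) ⟶ (Over.pullback φ).obj W)
    (hb : (Over.pullback g).map b ≫ (bcCompIso g φ W hd).hom = (bcCompIso g φ (𝟙_ (Over S)) hd).hom ≫ a) :
    Functor.LaxMonoidal.ε (Over.pullback g) ≫
        (Over.pullback g).map (Functor.LaxMonoidal.ε (Over.pullback φ) ≫ b) ≫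
        (bcCompIso g φ W hd ≪≫ c).hom = η[G] := by
  have e : Functor.LaxMonoidal.ε (Over.pullback g) ≫ (Over.pullback g).map (Functor.LaxMonoidal.ε (Over.pullback φ)) ≫
      (bcCompIso g φ (𝟙_ (Over S)) hd).hom = Functor.LaxMonoidal.ε (Over.pullback d) := by
    rw [← cancel_mono (inv (Functor.LaxMonoidal.ε (Over.pullback d)))]
    exact toUnit_unique _ _
  rw [Functor.map_comp, Iso.trans_hom, Category.assoc, reassoc_of% hb, reassoc_of% e, h]

theorem rebase_inv (a : (Over.pullback d).obj W ⟶ (Over.pullback d).obj W)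
    (h : a ≫ c.hom = c.hom ≫ GrpObj.inv (X := G))
    (b : (Over.pullback φ).obj W ⟶ (Over.pullback φ).obj W)
    (hb : (Over.pullback g).map b ≫ (bcCompIso g φ W hd).hom = (bcCompIso g φ W hd).hom ≫ a) :
    (Over.pullback g).map b ≫ (bcCompIso g φ W hd ≪≫ c).hom =
      (bcCompIso g φ W hd ≪≫ c).hom ≫ GrpObj.inv (X := G) := by
  rw [Iso.trans_hom, reassoc_of% hb, h, Category.assoc]

end Rebase

theorem compact_tensor {S : Scheme.{u}} [CompactSpace S] [QuasiSeparatedSpace S] (A B : Over S)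
    [QuasiCompact A.hom] [QuasiSeparated A.hom] [QuasiCompact B.hom] [QuasiSeparated B.hom] :
    CompactSpace (A ⊗ B).left ∧ QuasiSeparatedSpace (A ⊗ B).left ∧ CompactSpace A.left ∧
      QuasiSeparatedSpace A.left := by
  haveI : CompactSpace A.left := QuasiCompact.compactSpace_of_compactSpace A.hom
  haveI : QuasiSeparatedSpace A.left := quasiSeparatedSpace_of_quasiSeparated A.hom
  exact ⟨QuasiCompact.compactSpace_of_compactSpace (pullback.fst A.hom B.hom),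
    quasiSeparatedSpace_of_quasiSeparated (pullback.fst A.hom B.hom), inferInstance, inferInstance⟩

theorem main {I : Type u} [SmallCategory I] [IsCofiltered I]
    (D : I ⥤ Scheme.{u}) (c : Limits.Cone D) (hc : Limits.IsLimit c)
    [∀ (i i' : I) (f : i ⟶ i'), IsAffineHom (D.map f)] [∀ i, CompactSpace (D.obj i)] [∀ i, QuasiSeparatedSpace (D.obj i)]
    (G : Over c.pt) [GrpObj G] [LocallyOfFinitePresentation G.hom] [QuasiCompact G.hom] [QuasiSeparated G.hom] :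
    ∃ (j : I) (Gj : Over (D.obj j)) (_ : GrpObj Gj) (e : G ≅ Red.bc (c.π.app j) Gj),
      IsMonHom e.hom ∧ LocallyOfFinitePresentation Gj.hom ∧ QuasiCompact Gj.hom ∧ QuasiSeparated Gj.hom := by
  obtain ⟨i, Xi, fi, q, hlfp, hqc, hqs, hq⟩ := Approx60.S0591 D c hc G.left G.hom
  let W := Over.mk fi
  let cW : Red.bc (c.π.app i) W ≅ G := Over.isoMk hq.isoPullback.symm hq.isoPullback_inv_snd
  have hbc : ∀ {j : I} (φ : j ⟶ i), LocallyOfFinitePresentation (Red.bc (D.map φ) W).hom ∧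
      QuasiCompact (Red.bc (D.map φ) W).hom ∧ QuasiSeparated (Red.bc (D.map φ) W).hom := fun φ =>
    ⟨MorphismProperty.pullback_snd (P := @LocallyOfFinitePresentation) _ _ hlfp,
      MorphismProperty.pullback_snd (P := @QuasiCompact) _ _ hqc,
      MorphismProperty.pullback_snd (P := @QuasiSeparated) _ _ hqs⟩
  -- multiplication
  haveI : LocallyOfFinitePresentation W.hom := hlfp
  haveI : QuasiCompact W.hom := hqc
  haveI : QuasiSeparated W.hom := hqs
  obtain ⟨_, _, _, _⟩ := compact_tensor W W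
  let a0 : Red.bc (c.π.app i) (W ⊗ W) ⟶ Red.bc (c.π.app i) W :=
    inv (Functor.LaxMonoidal.μ (Over.pullback (c.π.app i)) W W) ≫ (cW.hom ⊗ₘ cW.hom) ≫ μ[G] ≫ cW.inv
  obtain ⟨j₁, φ₁, b0, hb0⟩ := exists_descend_hom D c hc a0
  let W₁ := Red.bc (D.map φ₁) W
  let c₁ : Red.bc (c.π.app j₁) W₁ ≅ G := bcCompIso (c.π.app j₁) (D.map φ₁) W (c.w φ₁) ≪≫ cW
  let m₁ : W₁ ⊗ W₁ ⟶ W₁ := Functor.LaxMonoidal.μ (Over.pullback (D.map φ₁)) W W ≫ b0
  have hm₁ := rebase_mul (c.π.app j₁) (D.map φ₁) (c.w φ₁) cW a0 (by simp [a0]) b0 hb0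
  obtain ⟨_, _, _⟩ := hbc φ₁
  haveI : CompactSpace (D.obj j₁) := inferInstance
  -- inverse
  obtain ⟨_, _, _, _⟩ := compact_tensor W₁ W₁
  let n0 : Red.bc (c.π.app j₁) W₁ ⟶ Red.bc (c.π.app j₁) W₁ := c₁.hom ≫ GrpObj.inv (X := G) ≫ c₁.inv
  obtain ⟨j₂, φ₂, n1, hn1⟩ := exists_descend_hom D c hc n0
  let W₂ := Red.bc (D.map φ₂) W₁
  let c₂ : Red.bc (c.π.app j₂) W₂ ≅ G := bcCompIso (c.π.app j₂) (D.map φ₂) W₁ (c.w φ₂) ≪≫ c₁
  let m₂ : W₂ ⊗ W₂ ⟶ W₂ :=
    Functor.LaxMonoidal.μ (Over.pullback (D.map φ₂)) W₁ W₁ ≫ (Over.pullback (D.map φ₂)).map m₁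
  have hm₂ := rebase_mul (c.π.app j₂) (D.map φ₂) (c.w φ₂) c₁ _ hm₁ _ (bcCompIso_hom_naturality _ _ (c.w φ₂) m₁)
  have hn₂ := rebase_inv (c.π.app j₂) (D.map φ₂) (c.w φ₂) c₁ n0 (by simp [n0]) n1 hn1
  -- unit
  haveI : LocallyOfFinitePresentation W₂.hom :=
    MorphismProperty.pullback_snd (P := @LocallyOfFinitePresentation) _ _ ‹LocallyOfFinitePresentation W₁.hom›
  haveI : QuasiCompact W₂.hom := MorphismProperty.pullback_snd (P := @QuasiCompact) _ _ ‹QuasiCompact W₁.hom›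
  haveI : QuasiSeparated W₂.hom := MorphismProperty.pullback_snd (P := @QuasiSeparated) _ _ ‹QuasiSeparated W₁.hom›
  haveI : CompactSpace (𝟙_ (Over (D.obj j₂))).left := inferInstanceAs (CompactSpace (D.obj j₂))
  haveI : QuasiSeparatedSpace (𝟙_ (Over (D.obj j₂))).left := inferInstanceAs (QuasiSeparatedSpace (D.obj j₂))
  let e0 : Red.bc (c.π.app j₂) (𝟙_ (Over (D.obj j₂))) ⟶ Red.bc (c.π.app j₂) W₂ :=
    inv (Functor.LaxMonoidal.ε (Over.pullback (c.π.app j₂))) ≫ η[G] ≫ c₂.inv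
  obtain ⟨j₃, φ₃, e1, he1⟩ := exists_descend_hom D c hc e0
  let W₃ := Red.bc (D.map φ₃) W₂
  let c₃ : Red.bc (c.π.app j₃) W₃ ≅ G := bcCompIso (c.π.app j₃) (D.map φ₃) W₂ (c.w φ₃) ≪≫ c₂
  let m₃ : W₃ ⊗ W₃ ⟶ W₃ :=
    Functor.LaxMonoidal.μ (Over.pullback (D.map φ₃)) W₂ W₂ ≫ (Over.pullback (D.map φ₃)).map m₂
  let n₃ : W₃ ⟶ W₃ := (Over.pullback (D.map φ₃)).map n1
  let e₃ : 𝟙_ _ ⟶ W₃ := Functor.LaxMonoidal.ε (Over.pullback (D.map φ₃)) ≫ e1
  have hmod : Models (c.π.app j₃) e₃ m₃ n₃ c₃ :=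
    ⟨rebase_one (c.π.app j₃) (D.map φ₃) (c.w φ₃) c₂ e0 (by simp [e0]) e1 he1,
      rebase_mul (c.π.app j₃) (D.map φ₃) (c.w φ₃) c₂ _ hm₂ _ (bcCompIso_hom_naturality _ _ (c.w φ₃) m₂),
      rebase_inv (c.π.app j₃) (D.map φ₃) (c.w φ₃) c₂ _ hn₂ _ (bcCompIso_hom_naturality _ _ (c.w φ₃) n1)⟩
  haveI : LocallyOfFinitePresentation W₃.hom :=
    MorphismProperty.pullback_snd (P := @LocallyOfFinitePresentation) _ _ ‹LocallyOfFinitePresentation W₂.hom›
  haveI : QuasiCompact W₃.hom := MorphismProperty.pullback_snd (P := @QuasiCompact) _ _ ‹QuasiCompact W₂.hom›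
  haveI : QuasiSeparated W₃.hom := MorphismProperty.pullback_snd (P := @QuasiSeparated) _ _ ‹QuasiSeparated W₂.hom›
  obtain ⟨_, _, _, _⟩ := compact_tensor W₃ W₃
  haveI : QuasiCompact (W₃ ⊗ W₃).hom := quasiCompact_of_compactSpace _
  haveI : QuasiSeparated (W₃ ⊗ W₃).hom := QuasiSeparated.of_quasiSeparatedSpace _
  haveI : QuasiCompact (𝟙_ (Over (D.obj j₃))).hom := inferInstanceAs (QuasiCompact (𝟙 (D.obj j₃)))
  haveI : QuasiSeparated (𝟙_ (Over (D.obj j₃))).hom := inferInstanceAs (QuasiSeparated (𝟙 (D.obj j₃)))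
  haveI : CompactSpace ((W₃ ⊗ W₃) ⊗ W₃).left := (compact_tensor (W₃ ⊗ W₃) W₃).1
  haveI : CompactSpace (𝟙_ (Over (D.obj j₃)) ⊗ W₃).left := (compact_tensor (𝟙_ (Over (D.obj j₃))) W₃).1
  haveI : CompactSpace (W₃ ⊗ 𝟙_ (Over (D.obj j₃))).left := (compact_tensor W₃ (𝟙_ (Over (D.obj j₃)))).1
  have hlaw := hmod.laws
  obtain ⟨k₁, ψ₁, l1⟩ := exists_map_eq D c hc _ _ hlaw.one_mul
  obtain ⟨k₂, ψ₂, l2⟩ := exists_map_eq D c hc _ _ hlaw.mul_one
  obtain ⟨k₃, ψ₃, l3⟩ := exists_map_eq D c hc _ _ hlaw.assoc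
  obtain ⟨k₄, ψ₄, l4⟩ := exists_map_eq D c hc _ _ hlaw.left_inv
  obtain ⟨k₅, ψ₅, l5⟩ := exists_map_eq D c hc _ _ hlaw.right_inv
  obtain ⟨p, u₁, u₂, h12⟩ := IsCofiltered.cospan ψ₁ ψ₂
  obtain ⟨p', v₁, u₃, h3⟩ := IsCofiltered.cospan (u₁ ≫ ψ₁) ψ₃
  obtain ⟨p'', w₁, u₄, h4⟩ := IsCofiltered.cospan (v₁ ≫ u₁ ≫ ψ₁) ψ₄
  obtain ⟨j, x₁, u₅, h5⟩ := IsCofiltered.cospan (w₁ ≫ v₁ ≫ u₁ ≫ ψ₁) ψ₅
  let θ := x₁ ≫ w₁ ≫ v₁ ≫ u₁ ≫ ψ₁
  have stable : ∀ {k : I} (ψ : k ⟶ j₃) (w : j ⟶ k) (hw : w ≫ ψ = θ) {A : Over (D.obj j₃)} (x y : A ⟶ W₃),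
      (Over.pullback (D.map ψ)).map x = (Over.pullback (D.map ψ)).map y →
        (Over.pullback (D.map θ)).map x = (Over.pullback (D.map θ)).map y := by
    intro k ψ w hw A x y hxy
    have he : D.map w ≫ D.map ψ = D.map θ := by rw [← D.map_comp, hw]
    rw [← cancel_epi (bcCompIso (D.map w) (D.map ψ) A he).hom, ← bcCompIso_hom_naturality,
      ← bcCompIso_hom_naturality, hxy]
  have L : Laws (D.map θ) e₃ m₃ n₃ :=
    ⟨stable ψ₁ (x₁ ≫ w₁ ≫ v₁ ≫ u₁) (by simp [θ]) _ _ l1,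
      stable ψ₂ (x₁ ≫ w₁ ≫ v₁ ≫ u₂) (by simp [θ, h12]) _ _ l2,
      stable ψ₃ (x₁ ≫ w₁ ≫ u₃) (by simp [θ, h3]) _ _ l3,
      stable ψ₄ (x₁ ≫ u₄) (by simp [θ, h4]) _ _ l4,
      stable ψ₅ u₅ (by simp [θ, h5]) _ _ l5⟩
  let Gj := Red.bc (D.map θ) W₃
  letI gi : GrpObj Gj := grp (D.map θ) e₃ m₃ n₃ L
  let cj : Red.bc (c.π.app j) Gj ≅ G := bcCompIso (c.π.app j) (D.map θ) W₃ (c.w θ) ≪≫ c₃
  have h1 := rebase_one (c.π.app j) (D.map θ) (c.w θ) c₃ _ hmod.one _ (bcCompIso_hom_naturality _ _ (c.w θ) e₃)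
  have h2 := rebase_mul (c.π.app j) (D.map θ) (c.w θ) c₃ _ hmod.mul _ (bcCompIso_hom_naturality _ _ (c.w θ) m₃)
  haveI : IsMonHom cj.hom := by
    constructor
    · rw [Functor.obj.η_def, Category.assoc]; exact h1
    · rw [Functor.obj.μ_def, Category.assoc]; exact h2
  refine ⟨j, Gj, gi, cj.symm, ?_, ?_, ?_, ?_⟩
  · exact inferInstanceAs (IsMonHom cj.inv)
  · exact MorphismProperty.pullback_snd (P := @LocallyOfFinitePresentation) _ _ ‹LocallyOfFinitePresentation W₃.hom›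
  · exact MorphismProperty.pullback_snd (P := @QuasiCompact) _ _ ‹QuasiCompact W₃.hom›
  · exact MorphismProperty.pullback_snd (P := @QuasiSeparated) _ _ ‹QuasiSeparated W₃.hom›

end Groth.Agent.CAlg6.GrpStage
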