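import Groth.Prelude.Def_KZero
import Mathlib

/-!
Hilbert functions with values in the Grothendieck group of finite modules.
-/

set_option autoImplicit false
set_option linter.unusedSectionVars false

universe u

namespace Groth.Agent.CAlg6.K0Hilbert

open CategoryTheory

section Num

variable {G : Type*} [AddCommGroup G]

/-- Eventually a combination of binomial coefficients. -/
def NP (h : ℕ → G) : Prop :=
  ∃ (r : ℕ) (a : ℕ → G) (N : ℕ), (∀ i, r ≤ i → a i = 0) ∧
    ∀ n, N ≤ n → h n = ∑ i ∈ Finset.range r, ((n.choose i : ℕ) : ℤ) • a i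

theorem NP.of_eventually_zero {h : ℕ → G} (N : ℕ) (hN : ∀ n, N ≤ n → h n = 0) : NP h :=
  ⟨0, fun _ => 0, N, fun _ _ => rfl, fun n hn => by simp [hN n hn]⟩

theorem NP.sub {h g : ℕ → G} (hh : NP h) (hg : NP g) : NP (fun n => h n - g n) := by
  obtain ⟨r, a, N, ha, hN⟩ := hh
  obtain ⟨s, b, M, hb, hM⟩ := hg
  refine ⟨max r s, fun i => a i - b i, max N M, fun i hi => ?_, fun n hn => ?_⟩
  · show a i - b i = 0
    rw [ha i ((le_max_left _ _).trans hi), hb i ((le_max_right _ _).trans hi), sub_self]
  · dsimp only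
    rw [hN n ((le_max_left _ _).trans hn), hM n ((le_max_right _ _).trans hn)]
    simp only [smul_sub, Finset.sum_sub_distrib]
    congr 1
    · refine Finset.sum_subset (Finset.range_subset_range.2 (le_max_left _ _)) fun i _ hi => ?_
      rw [ha i (by simpa using hi), smul_zero]
    · refine Finset.sum_subset (Finset.range_subset_range.2 (le_max_right _ _)) fun i _ hi => ?_
      rw [hb i (by simpa using hi), smul_zero]

theorem NP.add {h g : ℕ → G} (hh : NP h) (hg : NP g) : NP (fun n => h n + g n) := by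
  have := hh.sub ((NP.of_eventually_zero 0 (fun _ _ => rfl) : NP (fun _ => (0 : G))).sub hg)
  simpa [sub_sub, sub_neg_eq_add] using this

theorem NP.congr {h g : ℕ → G} (hh : NP h) (N : ℕ) (e : ∀ n, N ≤ n → g n = h n) : NP g := by
  obtain ⟨r, a, M, ha, hM⟩ := hh
  exact ⟨r, a, max N M, ha, fun n hn => by
    rw [e n ((le_max_left _ _).trans hn), hM n ((le_max_right _ _).trans hn)]⟩

theorem NP.succ {h : ℕ → G} (hh : NP h) : NP (fun n => h (n + 1)) := by
  obtain ⟨r, a, N, ha, hN⟩ := hh
  refine ⟨r, fun i => a i + a (i + 1), N, fun i hi => ?_, fun n hn => ?_⟩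
  · show a i + a (i + 1) = 0
    rw [ha i hi, ha (i + 1) (by omega), add_zero]
  · dsimp only
    rw [hN (n + 1) (by omega)]
    cases r with
    | zero => simp
    | succ r =>
      simp only [smul_add, Finset.sum_add_distrib]
      rw [Finset.sum_range_succ' (fun i => (((n + 1).choose i : ℕ) : ℤ) • a i),
        Finset.sum_range_succ (fun i => ((n.choose i : ℕ) : ℤ) • a (i + 1)), ha (r + 1) le_rfl,
        smul_zero, add_zero, Finset.sum_range_succ' (fun i => ((n.choose i : ℕ) : ℤ) • a i)]
      simp only [Nat.choose_succ_succ', Nat.cast_add, add_smul, Finset.sum_add_distrib,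
        Nat.choose_zero_right]
      abel

theorem NP.of_diff {h : ℕ → G} (hd : NP (fun n => h (n + 1) - h n)) : NP h := by
  obtain ⟨r, a, N, ha, hN⟩ := hd
  let g : ℕ → G := fun n => ∑ i ∈ Finset.range r, ((n.choose (i + 1) : ℕ) : ℤ) • a i
  have hconst : ∀ n, N ≤ n → h n - g n = h N - g N := by
    intro n hn
    induction n, hn using Nat.le_induction with
    | base => rfl
    | succ n hn ih =>
      rw [← ih]
      have h1 : g (n + 1) - g n = h (n + 1) - h n := by
        rw [show h (n + 1) - h n = _ from hN n hn]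
        simp only [g, Nat.choose_succ_succ', Nat.cast_add, add_smul, Finset.sum_add_distrib]
        abel
      rw [sub_eq_sub_iff_sub_eq_sub, h1]
  refine ⟨r + 1, fun i => if i = 0 then h N - g N else a (i - 1), N, fun i hi => ?_, fun n hn => ?_⟩
  · show (if i = 0 then _ else a (i - 1)) = 0
    rw [if_neg (by omega), ha (i - 1) (by omega)]
  · rw [Finset.sum_range_succ', ← sub_add_cancel (h n) (g n), hconst n hn]
    simp only [Nat.choose_zero_right, if_true, Nat.cast_one, one_smul, Nat.succ_ne_zero, if_false,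
      Nat.add_sub_cancel]
    rw [add_comm]

end Num

section Cl

variable {A : Type u} [CommRing A]

/-- The finiteness property. -/
abbrev Fin' : ObjectProperty (ModuleCat.{u} A) := fun X : ModuleCat.{u} A => Module.Finite A X

theorem cl_eq_mk (X : Type u) [AddCommGroup X] [Module A X] (h : Module.Finite A X) :
    KZero.clSub (fun X : ModuleCat.{u} A => Module.Finite A X) (ModuleCat.of A X) =
      QuotientAddGroup.mk (FreeAbelianGroup.of ⟨ModuleCat.of A X, h⟩) := dif_pos h

theorem cl_add {X Y Z : Type u} [AddCommGroup X] [Module A X] [AddCommGroup Y] [Module A Y]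
    [AddCommGroup Z] [Module A Z] [Module.Finite A X] [Module.Finite A Y] [Module.Finite A Z]
    (f : X →ₗ[A] Y) (g : Y →ₗ[A] Z)
    (hf : Function.Injective f) (hg : Function.Surjective g) (hfg : Function.Exact f g) :
    KZero.clSub (fun X : ModuleCat.{u} A => Module.Finite A X) (ModuleCat.of A Y) =
      KZero.clSub (fun X : ModuleCat.{u} A => Module.Finite A X) (ModuleCat.of A X) +
        KZero.clSub (fun X : ModuleCat.{u} A => Module.Finite A X) (ModuleCat.of A Z) := by
  rw [cl_eq_mk X ‹_›, cl_eq_mk Y ‹_›, cl_eq_mk Z ‹_›, ← sub_eq_zero, ← sub_sub,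
    ← QuotientAddGroup.mk_sub, ← QuotientAddGroup.mk_sub, QuotientAddGroup.eq_zero_iff]
  refine AddSubgroup.subset_closure
    ⟨ShortComplex.mk (ModuleCat.ofHom f) (ModuleCat.ofHom g)
      (ModuleCat.hom_ext (LinearMap.ext fun x => hfg.apply_apply_eq_zero x)),
      ‹Module.Finite A X›, ‹Module.Finite A Y›, ‹Module.Finite A Z›, ?_, rfl⟩
  exact ModuleCat.shortComplex_shortExact _ hfg hf hg

theorem cl_zero (X : Type u) [AddCommGroup X] [Module A X] [Subsingleton X] :
    KZero.clSub (fun X : ModuleCat.{u} A => Module.Finite A X) (ModuleCat.of A X) = 0 := by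
  have := cl_add (0 : X →ₗ[A] X) (0 : X →ₗ[A] X) (Function.injective_of_subsingleton _)
    (fun x => ⟨x, Subsingleton.elim _ _⟩)
    (fun x => ⟨fun _ => ⟨x, Subsingleton.elim _ _⟩, fun _ => Subsingleton.elim _ _⟩)
  exact left_eq_add.mp this

theorem cl_ker_add_range {X Y : Type u} [AddCommGroup X] [Module A X] [AddCommGroup Y] [Module A Y]
    [Module.Finite A X] (f : X →ₗ[A] Y) [Module.Finite A (LinearMap.ker f)] :
    KZero.clSub (fun X : ModuleCat.{u} A => Module.Finite A X) (ModuleCat.of A X) =
      KZero.clSub (fun X : ModuleCat.{u} A => Module.Finite A X) (ModuleCat.of A (LinearMap.ker f)) +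
        KZero.clSub (fun X : ModuleCat.{u} A => Module.Finite A X) (ModuleCat.of A (LinearMap.range f)) := by
  refine cl_add (LinearMap.ker f).subtype f.rangeRestrict Subtype.val_injective
    f.surjective_rangeRestrict fun x => ?_
  simp only [← LinearMap.mem_ker, LinearMap.ker_rangeRestrict]
  exact ⟨fun h => ⟨⟨x, h⟩, rfl⟩, fun ⟨y, hy⟩ => hy ▸ y.2⟩

theorem cl_congr {X Y : Type u} [AddCommGroup X] [Module A X] [AddCommGroup Y] [Module A Y]
    [Module.Finite A X] (e : X ≃ₗ[A] Y) :
    KZero.clSub (fun X : ModuleCat.{u} A => Module.Finite A X) (ModuleCat.of A X) =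
      KZero.clSub (fun X : ModuleCat.{u} A => Module.Finite A X) (ModuleCat.of A Y) := by
  have : Module.Finite A Y := Module.Finite.equiv e
  have h := cl_add e.toLinearMap (0 : Y →ₗ[A] PUnit.{u + 1}) e.injective
    (fun x => ⟨0, Subsingleton.elim _ _⟩)
    (fun x => ⟨fun _ => e.surjective x, fun _ => Subsingleton.elim _ _⟩)
  rw [h, cl_zero PUnit.{u + 1}, add_zero]

end Cl

section Graded

variable {A S : Type u} [CommRing A] [CommRing S] [Algebra A S]
variable (𝒜 : ℕ → Submodule A S) [GradedAlgebra 𝒜]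
variable {M : Type u} [AddCommGroup M] [Module A M] [Module S M] [IsScalarTower A S M]
variable (ℳ : ℕ → Submodule A M) [DirectSum.Decomposition ℳ] [SetLike.GradedSMul 𝒜 ℳ]

open DirectSum

theorem decompose_smul_of_mem {s : S} {k : ℕ} (hs : s ∈ 𝒜 k) (z : M) (i : ℕ) :
    (decompose ℳ (s • z) (k + i) : M) = s • (decompose ℳ z i : M) := by
  classical
  conv_lhs => rw [← sum_support_decompose ℳ z, Finset.smul_sum]
  rw [decompose_sum, DFinsupp.finsetSum_apply, Submodule.coe_sum, Finset.sum_eq_single i]
  · exact decompose_of_mem_same ℳ (SetLike.GradedSMul.smul_mem hs (decompose ℳ z i).2)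
  · intro j _ hji
    exact decompose_of_mem_ne ℳ (SetLike.GradedSMul.smul_mem hs (decompose ℳ z j).2)
      (by simpa using hji)
  · intro hi
    rw [DFinsupp.notMem_support_iff.1 hi]
    simp

theorem decompose_smul_of_mem_of_lt {s : S} {k : ℕ} (hs : s ∈ 𝒜 k) (z : M) (n : ℕ) (h : n < k) :
    (decompose ℳ (s • z) n : M) = 0 := by
  classical
  conv_lhs => rw [← sum_support_decompose ℳ z, Finset.smul_sum]
  rw [decompose_sum, DFinsupp.finsetSum_apply, Submodule.coe_sum]
  refine Finset.sum_eq_zero fun j _ => ?_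
  exact decompose_of_mem_ne ℳ (SetLike.GradedSMul.smul_mem hs (decompose ℳ z j).2)
    (by simp; omega)

/-- Homogeneous submodule. -/
def IsHom (N : Submodule S M) : Prop := ∀ z ∈ N, ∀ i, (decompose ℳ z i : M) ∈ N

/-- The degree `n` piece of a submodule. -/
abbrev pc (N : Submodule S M) (n : ℕ) : Submodule A M := N.restrictScalars A ⊓ ℳ n

variable (h0 : ∀ s ∈ 𝒜 0, s ∈ Set.range (algebraMap A S)) [IsNoetherian S M]

include h0 in
theorem finite_pc (N : Submodule S M) (n : ℕ) : Module.Finite A (pc ℳ N n) := by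
  classical
  suffices IsNoetherian A (ℳ n) by
    exact Module.Finite.of_injective (Submodule.inclusion (inf_le_right : pc ℳ N n ≤ ℳ n))
      (Submodule.inclusion_injective _)
  let Φ : Submodule A (ℳ n) → Submodule S M := fun U => Submodule.span S (Subtype.val '' (U : Set (ℳ n)))
  have hΦ : ∀ U, ∀ z : ℳ n, (z : M) ∈ Φ U → z ∈ U := by
    intro U z hz
    have key : ∀ w ∈ Φ U, decompose ℳ w n ∈ U := by
      intro w hw
      induction hw using Submodule.span_induction with
      | mem w hw =>
        obtain ⟨v, hv, rfl⟩ := hw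
        rwa [decompose_coe, DirectSum.of_eq_same]
      | zero => rw [decompose_zero]; exact zero_mem _
      | add a b _ _ h1 h2 => rw [decompose_add]; exact add_mem h1 h2
      | smul s w _ h1 =>
        rw [← sum_support_decompose 𝒜 s, Finset.sum_smul, decompose_sum, DFinsupp.finsetSum_apply]
        refine Submodule.sum_mem _ fun j _ => ?_
        cases j with
        | zero =>
          obtain ⟨a, ha⟩ := h0 _ (decompose 𝒜 s 0).2
          rw [← ha, algebraMap_smul, decompose_smul]
          exact Submodule.smul_mem _ a h1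
        | succ j =>
          rcases lt_or_ge n (j + 1) with h | h
          · rw [show decompose ℳ ((decompose 𝒜 s (j + 1) : S) • w) n = 0 from
              Subtype.ext (decompose_smul_of_mem_of_lt 𝒜 ℳ (decompose 𝒜 s (j + 1)).2 w n h)]
            exact zero_mem _
          · obtain ⟨i, hi⟩ := Nat.exists_eq_add_of_le h
            have hw0 : (decompose ℳ w i : M) = 0 := by
              have key2 : ∀ v ∈ Φ U, ∀ l, l < n → (decompose ℳ v l : M) = 0 := by
                intro v hv
                induction hv using Submodule.span_induction with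
                | mem v hv =>
                  obtain ⟨u, -, rfl⟩ := hv
                  exact fun l hl => decompose_of_mem_ne ℳ u.2 (by omega)
                | zero => intro l _; simp
                | add a b _ _ h1 h2 => intro l hl; simp [decompose_add, h1 l hl, h2 l hl]
                | smul t v _ h1 =>
                  intro l hl
                  rw [← sum_support_decompose 𝒜 t, Finset.sum_smul, decompose_sum,
                    DFinsupp.finsetSum_apply, Submodule.coe_sum]
                  refine Finset.sum_eq_zero fun m _ => ?_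
                  rcases lt_or_ge l m with hlm | hlm
                  · exact decompose_smul_of_mem_of_lt 𝒜 ℳ (decompose 𝒜 t m).2 v l hlm
                  · obtain ⟨q, rfl⟩ := Nat.exists_eq_add_of_le hlm
                    rw [decompose_smul_of_mem 𝒜 ℳ (decompose 𝒜 t m).2 v q, h1 q (by omega), smul_zero]
              exact key2 w ‹_› i (by omega)
            rw [show decompose ℳ ((decompose 𝒜 s (j + 1) : S) • w) n = 0 from Subtype.ext (by
              subst hi
              rw [decompose_smul_of_mem 𝒜 ℳ (decompose 𝒜 s (j + 1)).2 w i, hw0, smul_zero]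
              rfl)]
            exact zero_mem _
    simpa [decompose_coe] using key _ hz
  have hmono : Monotone Φ := fun U V h => Submodule.span_mono (Set.image_mono h)
  have hinj : Function.Injective Φ := fun U V h => le_antisymm
    (fun z hz => hΦ V z (h ▸ Submodule.subset_span ⟨z, hz, rfl⟩))
    (fun z hz => hΦ U z (h.symm ▸ Submodule.subset_span ⟨z, hz, rfl⟩))
  rw [isNoetherian_iff']
  exact StrictMono.wellFoundedGT (hmono.strictMono_of_injective hinj)

/-- The class of the degree `n` piece. -/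
noncomputable def c (N : Submodule S M) (n : ℕ) : KZero.K0sub (fun X : ModuleCat.{u} A => Module.Finite A X) :=
  KZero.clSub (fun X : ModuleCat.{u} A => Module.Finite A X) (ModuleCat.of A (pc ℳ N n))

theorem isHom_top : IsHom ℳ (⊤ : Submodule S M) := fun _ _ _ => trivial

theorem isHom_bot : IsHom ℳ (⊥ : Submodule S M) := fun z hz i => by
  rw [(Submodule.mem_bot S).1 hz]
  simp

/-- Multiplication by `x`. -/
noncomputable abbrev mulL (x : S) : M →ₗ[S] M := LinearMap.lsmul S M x

theorem isHom_comap {x : S} (hx : x ∈ 𝒜 1) {L N : Submodule S M} (hL : IsHom ℳ L) (hN : IsHom ℳ N) :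
    IsHom ℳ (N ⊓ L.comap (mulL x)) := by
  rintro z ⟨hz, hz'⟩ i
  refine ⟨hN z hz i, ?_⟩
  show x • (decompose ℳ z i : M) ∈ L
  rw [← decompose_smul_of_mem 𝒜 ℳ hx]
  exact hL _ hz' _

theorem isHom_sup_map {x : S} (hx : x ∈ 𝒜 1) {L N : Submodule S M} (hL : IsHom ℳ L) (hN : IsHom ℳ N) :
    IsHom ℳ (L ⊔ N.map (mulL x)) := by
  intro z hz i
  obtain ⟨l, hl, _, ⟨w, hw, rfl⟩, rfl⟩ := Submodule.mem_sup.1 hz
  rw [decompose_add, DirectSum.add_apply, Submodule.coe_add]
  refine add_mem (Submodule.mem_sup_left (hL l hl i)) (Submodule.mem_sup_right ?_)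
  show (decompose ℳ (x • w) i : M) ∈ _
  cases i with
  | zero => rw [decompose_smul_of_mem_of_lt 𝒜 ℳ hx w 0 (by omega)]; exact zero_mem _
  | succ i =>
    rw [Nat.add_comm i 1, decompose_smul_of_mem 𝒜 ℳ hx]
    exact ⟨_, hN w hw i, rfl⟩

include h0 in
/-- The four term exact sequence. -/
theorem c_step {x : S} (hx : x ∈ 𝒜 1) {L N : Submodule S M} (hL : IsHom ℳ L) (hN : IsHom ℳ N) (n : ℕ) :
    c ℳ (L ⊔ N.map (mulL x)) (n + 1) + c ℳ (N ⊓ L.comap (mulL x)) n = c ℳ N n + c ℳ L (n + 1) := by
  have hfin := fun N n => finite_pc 𝒜 ℳ h0 (N := N) n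
  let q : M →ₗ[A] M ⧸ pc ℳ L (n + 1) := (pc ℳ L (n + 1)).mkQ
  let f₁ : pc ℳ (L ⊔ N.map (mulL x)) (n + 1) →ₗ[A] M ⧸ pc ℳ L (n + 1) := q.comp (Submodule.subtype _)
  let f₂ : pc ℳ N n →ₗ[A] M ⧸ pc ℳ L (n + 1) :=
    q.comp (((mulL x).restrictScalars A).comp (Submodule.subtype _))
  have hmul : ∀ z : M, z ∈ ℳ n → x • z ∈ ℳ (n + 1) := fun z hz => by
    have := SetLike.GradedSMul.smul_mem (B := ℳ) hx hz
    rwa [show (1 : ℕ) +ᵥ n = n + 1 from Nat.add_comm 1 n] at this
  have hrange : LinearMap.range f₁ = LinearMap.range f₂ := by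
    refine le_antisymm ?_ ?_
    · rintro _ ⟨⟨z, hz, hzn⟩, rfl⟩
      obtain ⟨l, hl, _, ⟨w, hw, rfl⟩, hlw⟩ := Submodule.mem_sup.1 hz
      refine ⟨⟨decompose ℳ w n, hN w hw n, (decompose ℳ w n).2⟩, ?_⟩
      show q (x • (decompose ℳ w n : M)) = q z
      rw [Submodule.mkQ_apply, Submodule.mkQ_apply, Submodule.Quotient.eq]
      have h1 : z = (decompose ℳ l (n + 1) : M) + x • (decompose ℳ w n : M) := by
        rw [← decompose_smul_of_mem 𝒜 ℳ hx w n, Nat.add_comm 1 n, ← Submodule.coe_add, ← DirectSum.add_apply,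
          ← decompose_add]
        conv_lhs => rw [← decompose_of_mem_same ℳ hzn, ← hlw]
        rfl
      rw [h1, sub_add_cancel_right]
      exact neg_mem ⟨hL l hl _, (decompose ℳ l (n + 1)).2⟩
    · rintro _ ⟨⟨z, hz, hzn⟩, rfl⟩
      exact ⟨⟨x • z, Submodule.mem_sup_right ⟨z, hz, rfl⟩, hmul z hzn⟩, rfl⟩
  let e₁ : pc ℳ L (n + 1) ≃ₗ[A] LinearMap.ker f₁ :=
    { toFun := fun z => ⟨⟨z.1, Submodule.mem_sup_left z.2.1, z.2.2⟩, by
        show q z.1 = 0
        exact (Submodule.Quotient.mk_eq_zero _).2 z.2⟩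
      invFun := fun z => ⟨z.1.1, (Submodule.Quotient.mk_eq_zero _).1 z.2⟩
      map_add' := fun _ _ => rfl
      map_smul' := fun _ _ => rfl }
  let e₂ : pc ℳ (N ⊓ L.comap (mulL x)) n ≃ₗ[A] LinearMap.ker f₂ :=
    { toFun := fun z => ⟨⟨z.1, z.2.1.1, z.2.2⟩, by
        show q (x • z.1) = 0
        exact (Submodule.Quotient.mk_eq_zero _).2 ⟨z.2.1.2, hmul _ z.2.2⟩⟩
      invFun := fun z => ⟨z.1.1, ⟨z.1.2.1, ((Submodule.Quotient.mk_eq_zero _).1 z.2).1⟩, z.1.2.2⟩
      map_add' := fun _ _ => rfl
      map_smul' := fun _ _ => rfl }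
  have : Module.Finite A (LinearMap.ker f₁) := Module.Finite.equiv e₁
  have : Module.Finite A (LinearMap.ker f₂) := Module.Finite.equiv e₂
  have h1 := cl_ker_add_range f₁
  have h2 := cl_ker_add_range f₂
  rw [← cl_congr e₁] at h1
  rw [← cl_congr e₂] at h2
  rw [← cl_congr (LinearEquiv.ofEq _ _ hrange)] at h2
  simp only [c]
  rw [h1, h2]
  abel

include h0 in
/-- Polynomiality, by induction on the generators acting nontrivially. -/
theorem np_sub (T : Set S) (hT : (HomogeneousIdeal.irrelevant 𝒜).toIdeal = Ideal.span T) :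
    ∀ (l : List S), (∀ x ∈ l, x ∈ 𝒜 1) → ∀ (L N : Submodule S M), IsHom ℳ L → IsHom ℳ N →
      (∀ x ∈ T, x ∉ l → ∀ z ∈ N, x • z ∈ L) → L ≤ N → NP (fun n => c ℳ N n - c ℳ L n) := by
  classical
  intro l
  induction l with
  | nil =>
    intro _ L N hL hN hkill hle
    obtain ⟨G, hG⟩ := (IsNoetherian.noetherian N)
    let D : ℕ := G.sup fun g => (decompose ℳ g).support.sup id
    refine NP.of_eventually_zero (D + 1) fun n hn => ?_
    have heq : pc ℳ N n = pc ℳ L n := by
      refine le_antisymm (fun z hz => ⟨?_, hz.2⟩) (inf_le_inf_right _ fun z hz => hle hz)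
      have key : ∀ w ∈ N, (decompose ℳ w n : M) ∈ L := by
        intro w hw
        rw [← hG] at hw
        induction hw using Submodule.span_induction with
        | mem g hg =>
          have : n ∉ (decompose ℳ g).support := fun h => by
            have h1 := (Finset.le_sup (f := id) h).trans (Finset.le_sup (f := fun g => (decompose ℳ g).support.sup id) hg)
            simp only [id, D] at h1 hn
            omega
          rw [DFinsupp.notMem_support_iff.1 this]
          simp
        | zero => simp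
        | add a b _ _ h1 h2 => rw [decompose_add, DirectSum.add_apply, Submodule.coe_add]; exact add_mem h1 h2
        | smul s w hw h1 =>
          rw [← sum_support_decompose 𝒜 s, Finset.sum_smul, decompose_sum, DFinsupp.finsetSum_apply,
            Submodule.coe_sum]
          refine Submodule.sum_mem _ fun j _ => ?_
          cases j with
          | zero =>
            obtain ⟨a, ha⟩ := h0 _ (decompose 𝒜 s 0).2
            rw [← ha, algebraMap_smul, decompose_smul, DirectSum.smul_apply, Submodule.coe_smul,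
              ← algebraMap_smul S a]
            exact Submodule.smul_mem _ _ h1
          | succ j =>
            refine hL _ ?_ n
            have hmem : (decompose 𝒜 s (j + 1) : S) ∈ (HomogeneousIdeal.irrelevant 𝒜).toIdeal := by
              rw [HomogeneousIdeal.toIdeal_irrelevant, RingHom.mem_ker]
              exact decompose_of_mem_ne 𝒜 (decompose 𝒜 s (j + 1)).2 (by omega)
            rw [hT] at hmem
            have hle2 : Ideal.span T ≤ L.colon (N : Set M) := Ideal.span_le.2 fun x hx =>
              Submodule.mem_colon.2 fun z hz => hkill x hx (List.not_mem_nil) z hz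
            exact Submodule.mem_colon.1 (hle2 hmem) w (hG ▸ hw)
      have := key z hz.1
      rwa [decompose_of_mem_same ℳ hz.2] at this
    simp only [c]
    have := finite_pc 𝒜 ℳ h0 N n
    rw [cl_congr (LinearEquiv.ofEq _ _ heq), sub_self]
  | cons x l ih =>
    intro hl L N hL hN hkill hle
    have hx : x ∈ 𝒜 1 := hl x List.mem_cons_self
    have hl' : ∀ y ∈ l, y ∈ 𝒜 1 := fun y hy => hl y (List.mem_cons_of_mem _ hy)
    have hxN : N.map (mulL x) ≤ N := by
      rintro _ ⟨w, hw, rfl⟩; exact N.smul_mem x hw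
    have hK := ih hl' L (N ⊓ L.comap (mulL x)) hL (isHom_comap 𝒜 ℳ hx hL hN) (fun y hy hyl z hz => by
      by_cases hyx : y = x
      · subst hyx; exact hz.2
      · exact hkill y hy (by simp [hyx, hyl]) z hz.1) (le_inf hle (fun z hz => L.smul_mem x hz))
    have hC := ih hl' (L ⊔ N.map (mulL x)) N (isHom_sup_map 𝒜 ℳ hx hL hN) hN (fun y hy hyl z hz => by
      by_cases hyx : y = x
      · subst hyx; exact Submodule.mem_sup_right ⟨z, hz, rfl⟩
      · exact Submodule.mem_sup_left (hkill y hy (by simp [hyx, hyl]) z hz)) (sup_le hle hxN)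
    refine NP.of_diff ((hC.succ.sub hK).congr 0 fun n _ => ?_)
    have := c_step 𝒜 ℳ h0 hx hL hN n
    rw [show c ℳ (N ⊓ L.comap (mulL x)) n = c ℳ N n + c ℳ L (n + 1) - c ℳ (L ⊔ N.map (mulL x)) (n + 1) from
      eq_sub_of_add_eq' this]
    abel

include h0 in
theorem np_top [IsNoetherianRing S]
    (h1 : (HomogeneousIdeal.irrelevant 𝒜).toIdeal = Ideal.span (𝒜 1 : Set S)) :
    NP (fun n => KZero.clSub (fun X : ModuleCat.{u} A => Module.Finite A X) (ModuleCat.of A (ℳ n))) := by
  classical
  obtain ⟨T, hT1, hT⟩ := Submodule.fg_span_iff_fg_span_finset_subset _ |>.1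
    (IsNoetherian.noetherian (Submodule.span S (𝒜 1 : Set S)))
  have h := np_sub 𝒜 ℳ h0 (T : Set S) (h1.trans hT) T.toList (fun x hx => hT1 (by simpa using hx))
    ⊥ ⊤ (isHom_bot ℳ) (isHom_top ℳ) (fun x hx hxl => absurd (by simpa using hx) hxl) bot_le
  refine h.congr 0 fun n _ => ?_
  have e1 : c ℳ (⊥ : Submodule S M) n = 0 := by
    have : Subsingleton (pc ℳ (⊥ : Submodule S M) n) :=
      ⟨fun a b => Subtype.ext (((Submodule.mem_bot S).1 a.2.1).trans ((Submodule.mem_bot S).1 b.2.1).symm)⟩
    exact cl_zero _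
  rw [e1, sub_zero]
  have := finite_pc 𝒜 ℳ h0 (⊤ : Submodule S M) n
  exact (cl_congr (LinearEquiv.ofEq _ _ (by simp [pc]))).symm

end Graded

end Groth.Agent.CAlg6.K0Hilbert
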