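import Mathlib
import Groth.Agent.CAlg6.K0Hilbert
import Groth.Agent.GrSyz54.Poly

/-!
Hilbert functions over a field: rank of classes, dimensions of polynomial pieces, degree bounds.
-/

set_option autoImplicit false

universe u

open CategoryTheory MvPolynomial
attribute [local instance] MvPolynomial.gradedAlgebra

namespace Groth.Agent.CAlg6

theorem exists_rank_hom (k : Type u) [Field k] :
    ∃ φ : KZero.K0sub (fun X : ModuleCat.{u} k => Module.Finite k X) →+ ℤ,
      ∀ (X : Type u) [AddCommGroup X] [Module k X], Module.Finite k X →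
        φ (KZero.clSub (fun X : ModuleCat.{u} k => Module.Finite k X) (ModuleCat.of k X)) =
          Module.finrank k X := by
  let P : ObjectProperty (ModuleCat.{u} k) := fun X => Module.Finite k X
  let φ0 : FreeAbelianGroup (Subtype P) →+ ℤ :=
    FreeAbelianGroup.lift fun X => (Module.finrank k X.1 : ℤ)
  have hle : KZero.relSub P ≤ φ0.ker := by
    refine (AddSubgroup.closure_le _).2 ?_
    rintro _ ⟨S, h1, h2, h3, hS, rfl⟩
    have : Module.Finite k S.X₂ := h2
    have hf : Function.Injective S.f.hom := (ModuleCat.mono_iff_injective _).1 hS.mono_f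
    have hg : Function.Surjective S.g.hom := (ModuleCat.epi_iff_surjective _).1 hS.epi_g
    have hex : LinearMap.range S.f.hom = LinearMap.ker S.g.hom := hS.exact.moduleCat_range_eq_ker
    have h := S.g.hom.finrank_range_add_finrank_ker
    rw [LinearMap.range_eq_top.2 hg, finrank_top, ← hex, LinearMap.finrank_range_of_inj hf] at h
    show φ0 _ = 0
    simp only [φ0, map_sub, FreeAbelianGroup.lift_apply_of]
    omega
  refine ⟨QuotientAddGroup.lift _ φ0 hle, fun X _ _ hX => ?_⟩
  rw [KZero.clSub, dif_pos hX, QuotientAddGroup.lift_mk]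
  simp [φ0]

theorem finrank_homog (k : Type u) [Field k] (d n : ℕ) :
    Module.finrank k ↥(homogeneousSubmodule (Fin (d + 1)) k n) = (n + d).choose d := by
  have : homogeneousSubmodule (Fin (d + 1)) k n = GrSyz.stdGr k (Fin (d + 1)) (n : ℤ) := by
    ext p
    rw [GrSyz54.mem_stdGr, mem_homogeneousSubmodule]
    simp only [Nat.cast_inj]
    constructor
    · intro h m hm
      rw [Finsupp.degree_eq_weight_one]
      exact h hm
    · intro h m hm
      have := h m hm
      rw [Finsupp.degree_eq_weight_one] at this
      exact this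
  rw [(LinearEquiv.ofEq _ _ this).finrank_eq, GrSyz54.finrank_stdGr_fin, if_pos (by positivity),
    Int.toNat_natCast, Nat.add_comm]

theorem degree_lt_of_bounded {P Q : Polynomial ℚ} {D : WithBot ℕ} (hQ : Q.degree < D) (N : ℕ)
    (h0 : ∀ n : ℕ, N ≤ n → 0 ≤ P.eval (n : ℚ)) (h1 : ∀ n : ℕ, N ≤ n → P.eval (n : ℚ) ≤ Q.eval (n : ℚ)) :
    P.degree < D := by
  refine lt_of_le_of_lt ?_ hQ
  by_contra hc
  push Not at hc
  have hP0 : P ≠ 0 := fun h => by simp [h] at hc
  by_cases hpos : 0 ≤ P.leadingCoeff
  · have hlead : (P - Q).leadingCoeff = P.leadingCoeff := Polynomial.leadingCoeff_sub_of_degree_lt hc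
    have hne : P.leadingCoeff ≠ 0 := Polynomial.leadingCoeff_ne_zero.2 hP0
    by_cases hd : 0 < P.degree
    · have hdeg : 0 < (P - Q).degree := by rw [Polynomial.degree_sub_eq_left_of_degree_lt hc]; exact hd
      have := (P - Q).tendsto_atTop_of_leadingCoeff_nonneg hdeg (hlead ▸ hpos)
      have := (this.comp tendsto_natCast_atTop_atTop).eventually (Filter.eventually_gt_atTop 0)
      obtain ⟨n, hn, hn'⟩ := (this.and (Filter.eventually_ge_atTop N)).exists
      simp only [Function.comp_apply, Polynomial.eval_sub, sub_pos] at hn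
      exact absurd (h1 n hn') (not_le.2 hn)
    · have hP : P.degree = 0 := le_antisymm (not_lt.1 hd) (Polynomial.zero_le_degree_iff.2 hP0)
      rw [hP] at hc
      have hQ0 : Q = 0 := by
        by_contra hQ0
        exact absurd (Polynomial.zero_le_degree_iff.2 hQ0) (not_le.2 hc)
      have hC := Polynomial.eq_C_of_degree_eq_zero hP
      have e1 := h1 N le_rfl
      rw [hQ0, hC, Polynomial.eval_C, Polynomial.eval_zero] at e1
      simp only [not_lt] at *
      have : P.leadingCoeff = P.coeff 0 := by
        rw [Polynomial.leadingCoeff, Polynomial.natDegree_eq_of_degree_eq_some hP]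
        rfl
      exact hne (le_antisymm (this ▸ e1) hpos)
  · push Not at hpos
    by_cases hd : 0 < P.degree
    · have := P.tendsto_atBot_of_leadingCoeff_nonpos hd hpos.le
      have := (this.comp tendsto_natCast_atTop_atTop).eventually (Filter.eventually_lt_atBot 0)
      obtain ⟨n, hn, hn'⟩ := (this.and (Filter.eventually_ge_atTop N)).exists
      exact absurd (h0 n hn') (not_le.2 hn)
    · have hP : P.degree = 0 := le_antisymm (not_lt.1 hd) (Polynomial.zero_le_degree_iff.2 hP0)
      have hC := Polynomial.eq_C_of_degree_eq_zero hP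
      have e0 := h0 N le_rfl
      rw [hC, Polynomial.eval_C] at e0
      rw [Polynomial.leadingCoeff, Polynomial.natDegree_eq_of_degree_eq_some hP] at hpos
      exact absurd e0 (not_le.2 hpos)

theorem irrelevant_eq_span_X (k : Type u) [Field k] (d : ℕ) :
    (HomogeneousIdeal.irrelevant (homogeneousSubmodule (Fin d) k)).toIdeal =
      Ideal.span (Set.range (X : Fin d → MvPolynomial (Fin d) k)) := by
  rw [HomogeneousIdeal.toIdeal_irrelevant]
  refine le_antisymm (fun f hf => ?_) (Ideal.span_le.2 ?_)
  · have key : ∀ g : MvPolynomial (Fin d) k, g - C (constantCoeff g) ∈ Ideal.span (Set.range (X : Fin d → _)) := by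
      intro g
      induction g using MvPolynomial.induction_on with
      | C a => simp
      | add p q hp hq => rw [map_add, map_add, add_sub_add_comm]; exact add_mem hp hq
      | mul_X p i _ =>
        rw [map_mul, constantCoeff_X, mul_zero, map_zero, sub_zero]
        exact Ideal.mul_mem_left _ _ (Ideal.subset_span ⟨i, rfl⟩)
    have h0 : constantCoeff f = 0 := by
      have h1 : GradedRing.projZeroRingHom (homogeneousSubmodule (Fin d) k) (f - C (constantCoeff f)) = 0 := by
        refine RingHom.mem_ker.1 ((Ideal.span_le.2 ?_) (key f))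
        rintro _ ⟨i, rfl⟩
        rw [SetLike.mem_coe, RingHom.mem_ker, GradedRing.projZeroRingHom_apply]
        exact DirectSum.decompose_of_mem_ne _ (isHomogeneous_X k i) (by decide)
      rw [map_sub, RingHom.mem_ker.1 hf, zero_sub, neg_eq_zero, GradedRing.projZeroRingHom_apply,
        DirectSum.decompose_of_mem_same _ (isHomogeneous_C _ _)] at h1
      exact (map_eq_zero_iff C (C_injective _ _)).1 h1
    simpa [h0] using key f
  · rintro _ ⟨i, rfl⟩
    rw [SetLike.mem_coe, RingHom.mem_ker, GradedRing.projZeroRingHom_apply]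
    exact DirectSum.decompose_of_mem_ne _ (isHomogeneous_X k i) (by decide)

end Groth.Agent.CAlg6
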