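import Groth.Agent.CAlg6.TransOpen
import Groth.Agent.SGA3a.NeutralSet
import Groth.Agent.SGA3a.GrpNeutral
import Groth.Agent.Sga84.Top

/-!
Homogeneous spaces with quasi-separated connected fibres: every fibre is irreducible, with generic point
a translate of any of its points by the generic point of the neutral component.
-/

set_option autoImplicit false
universe u
open CategoryTheory CategoryTheory.Limits MonoidalCategory CartesianMonoidalCategory MonObj GrpObj AlgebraicGeometry
open Groth.Agent.SGA3a Groth.Agent.CAlg6.TransOpen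

noncomputable section

namespace Groth.Agent.CAlg6.HomogConn

section Field

variable {k : Type u} [Field k] {G X : Over (Spec (CommRingCat.of k))} [GrpObj G] [LocallyOfFiniteType G.hom]
  (a : AlgGrp.Action G X) (hΦ : Surjective (lift a.act (snd G X)).left)

omit [LocallyOfFiniteType G.hom] in
theorem neutralSet_eq : SGA3x.neutralSet G = connectedComponent (Grp57.unitPt G) := by
  have h : ∀ p : Spec (CommRingCat.of k), G.hom ⁻¹' {p} = Set.univ := fun p =>
    Set.eq_univ_of_forall fun g => Subsingleton.elim (α := PrimeSpectrum k) _ _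
  have h2 : ∀ p : ↥(𝟙_ (Over (Spec (CommRingCat.of k)))).left, η[G].left p = Grp57.unitPt G := fun p =>
    congrArg η[G].left (Subsingleton.elim (α := PrimeSpectrum k) _ _)
  ext g
  simp only [SGA3x.neutralSet, Set.mem_iUnion]
  constructor
  · rintro ⟨p, hp⟩
    rw [h, connectedComponentIn_univ] at hp
    exact (h2 p) ▸ hp
  · intro hg
    refine ⟨(IsLocalRing.closedPoint k : Spec (CommRingCat.of k)), ?_⟩
    rw [h, connectedComponentIn_univ]
    exact hg

include hΦ in
/-- the generic translate of `x` -/
theorem exists_gen (x : X.left) :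
    ∃ w : (G ⊗ X).left, (snd G X).left w = x ∧ (fst G X).left w ∈ connectedComponent (Grp57.unitPt G) ∧
      (fst G X).left w ⤳ Grp57.unitPt G ∧ (∀ z, z ⤳ a.act.left w → z = a.act.left w) ∧
      (∀ y : (G ⊗ X).left, (snd G X).left y = x → (fst G X).left y ∈ connectedComponent (Grp57.unitPt G) →
        a.act.left w ⤳ a.act.left y) ∧
      a.act.left w ⤳ x := by
  let σ := X.hom.residueFieldMap x
  let φ : Spec (CommRingCat.of (X.left.residueField x)) ⟶ Spec (CommRingCat.of k) := ptMap σ
  let xm : Spec (CommRingCat.of (X.left.residueField x)) ⟶ X.left := X.left.fromSpecResidueField x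
  have hx : xm ≫ X.hom = φ := (Scheme.Hom.SpecMap_residueFieldMap_fromSpecResidueField X.hom x).symm
  have hxa : ∀ t, xm t = x := fun t => X.left.fromSpecResidueField_apply x t
  let GK := bcO φ G
  let hG : GrpObj GK := bcOGrp G φ
  have hlft : LocallyOfFiniteType GK.hom := MorphismProperty.pullback_snd (P := @LocallyOfFiniteType) _ _ ‹_›
  have hirr : IsIrreducible (connectedComponent (Grp57.unitPt GK)) := (Grp57.connectedComponent_unit GK).1
  obtain ⟨g0, hg0⟩ := QuasiSober.sober hirr isClosed_connectedComponent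
  have hg0C : g0 ∈ connectedComponent (Grp57.unitPt GK) := hg0.mem
  have hgmax : ∀ z, z ⤳ g0 → z = g0 := fun z hz =>
    ((hg0.specializes (hz.mem_open (isOpen_connectedComponent_unit GK) hg0C)).antisymm hz).eq.symm
  have hC : ∀ g, g ∈ connectedComponent (Grp57.unitPt GK) ↔
      prO φ G g ∈ connectedComponent (Grp57.unitPt G) := fun g => by
    rw [← neutralSet_eq (G := G), prO_mem_neutralSet_iff]
    rfl
  let w : (G ⊗ X).left := inclX xm hx g0
  have hw1 : ∀ g, (fst G X).left (inclX xm hx g) = prO φ G g := fun g => by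
    rw [← Scheme.Hom.comp_apply]
    exact congrArg (fun m : pullback G.hom φ ⟶ G.left => m g) (pullback.lift_fst _ _ _)
  have hw2 : ∀ g, (snd G X).left (inclX (G := G) xm hx g) = x := fun g => by
    rw [← Scheme.Hom.comp_apply, show inclX (G := G) xm hx ≫ (snd G X).left = _ from pullback.lift_snd _ _ _,
      Scheme.Hom.comp_apply]
    exact hxa _
  have hgen : ∀ y : (G ⊗ X).left, (snd G X).left y = x → (fst G X).left y ∈ connectedComponent (Grp57.unitPt G) →
      a.act.left w ⤳ a.act.left y := by
    intro y hy2 hy1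
    obtain ⟨g, hg, hg'⟩ := mem_range_inclX xm hx hxa hy2
    have : g ∈ connectedComponent (Grp57.unitPt GK) := (hC g).2 (by rw [← hg'] at hy1; exact hy1)
    rw [← hg]
    exact ((hg0.specializes this).map (inclX (G := G) xm hx).continuous).map a.act.left.continuous
  refine ⟨w, hw2 g0, by rw [hw1]; exact (hC g0).1 hg0C, ?_, ?_, hgen, ?_⟩
  · rw [hw1]
    have h := (hg0.specializes (mem_connectedComponent (x := Grp57.unitPt GK))).map (prO φ G).continuous
    rw [prO_unitPt G φ] at h
    refine h.trans (specializes_of_eq ?_)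
    exact congrArg η[G].left (Subsingleton.elim (α := PrimeSpectrum k) _ _)
  · let q : 𝟙_ (Over (Spec (CommRingCat.of (X.left.residueField x)))) ⟶ Red.bc φ X :=
      Over.homMk (pullback.lift xm (𝟙 _) (by simp [hx])) (pullback.lift_snd _ _ _)
    have hmax := orbit_maximal (a.bc φ) (surjective_bc_shear a φ hΦ) q hgmax
    have hkey : ((a.bc φ).orbitMap q).left ≫ prO φ X = inclX xm hx ≫ a.act.left := orbit_bc_proj a φ xm hx
    have h1 := maximal_fst X.hom σ hmax
    intro z hz
    have e : a.act.left w = prO φ X (((a.bc φ).orbitMap q).left g0) := by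
      show a.act.left (inclX xm hx g0) = _
      rw [← Scheme.Hom.comp_apply, ← hkey, Scheme.Hom.comp_apply]
    rw [e] at hz ⊢
    exact h1 z hz (Subsingleton.elim (α := PrimeSpectrum k) _ _)
  · let w0 := (lift (1 : X ⟶ G) (𝟙 X)).left x
    have h0 : (snd G X).left w0 = x := by
      rw [← Scheme.Hom.comp_apply, ← Over.comp_left, lift_snd]; rfl
    have h1 : (fst G X).left w0 = Grp57.unitPt G := by
      rw [← Scheme.Hom.comp_apply, ← Over.comp_left, lift_fst, Hom.one_def, Over.comp_left, Scheme.Hom.comp_apply]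
      exact congrArg η[G].left (Subsingleton.elim (α := PrimeSpectrum k) _ _)
    have h2 : a.act.left w0 = x := by
      rw [← Scheme.Hom.comp_apply, ← Over.comp_left, AlgGrp79.one_act']; rfl
    exact (hgen w0 h0 (by rw [h1]; exact mem_connectedComponent)).trans (specializes_of_eq h2)

include a hΦ in
theorem unique_maximal {M M' x : X.left} (hM : ∀ z, z ⤳ M → z = M) (hM' : ∀ z, z ⤳ M' → z = M')
    (h : M ⤳ x) (h' : M' ⤳ x) : M = M' := by
  obtain ⟨w, hw2, hw1, -, hmax, -, -⟩ := exists_gen a hΦ x
  have key : ∀ N : X.left, (∀ z, z ⤳ N → z = N) → N ⤳ x → N = a.act.left w := by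
    intro N hN hNx
    obtain ⟨v, -, -, -, -, hvgen, hvN⟩ := exists_gen a hΦ N
    have hvN' : a.act.left v = N := hN _ hvN
    have : UniversallyOpen G.hom := inferInstance
    have : UniversallyOpen (snd G X).left :=
      MorphismProperty.pullback_snd (P := @UniversallyOpen) _ _ ‹_›
    have h1 : w ∈ closure ((snd G X).left ⁻¹' {N}) :=
      (snd G X).left.isOpenMap.preimage_closure_subset_closure_preimage
        (show (snd G X).left w ∈ closure {N} by rw [hw2]; exact hNx.mem_closure)
    have hO : IsOpen ((fst G X).left ⁻¹' connectedComponent (Grp57.unitPt G)) :=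
      (isOpen_connectedComponent_unit G).preimage (fst G X).left.continuous
    have h2 := hO.inter_closure ⟨hw1, h1⟩
    have h3 : a.act.left w ∈ closure {N} :=
      closure_minimal (fun y hy => show a.act.left y ∈ closure {N} by
        exact (hvN' ▸ hvgen y hy.2 hy.1).mem_closure) (isClosed_closure.preimage a.act.left.continuous) h2
    exact hmax N (specializes_iff_mem_closure.2 h3)
  exact (key M hM h).trans (key M' hM' h').symm

include a hΦ in
/-- quasi-separated and connected: irreducible -/
theorem maximal_mem [QuasiSeparatedSpace X.left] [PreconnectedSpace X.left] {M : X.left}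
    (hM : ∀ z, z ⤳ M → z = M) (x : X.left) : M ⤳ x := by
  have : UniversallyOpen G.hom := inferInstance
  have hsnd : UniversallyOpen (snd G X).left :=
    MorphismProperty.pullback_snd (P := @UniversallyOpen) _ _ ‹_›
  let Sat : Set X.left → Set X.left := fun V =>
    (snd G X).left '' ((fst G X).left ⁻¹' connectedComponent (Grp57.unitPt G) ∩ a.act.left ⁻¹' V)
  have hSo : ∀ V, IsOpen V → IsOpen (Sat V) := fun V hV =>
    (snd G X).left.isOpenMap _ (((isOpen_connectedComponent_unit G).preimage (fst G X).left.continuous).inter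
      (hV.preimage a.act.left.continuous))
  have hSmem : ∀ V, IsOpen V → ∀ y N, (∀ z, z ⤳ N → z = N) → N ⤳ y → (y ∈ Sat V ↔ N ∈ V) := by
    intro V hV y N hN hNy
    obtain ⟨w, hw2, hw1, -, hmax, hgen, hwy⟩ := exists_gen a hΦ y
    have hwN : a.act.left w = N := unique_maximal a hΦ hmax hN hwy hNy
    refine ⟨?_, fun h => ⟨w, ⟨hw1, show a.act.left w ∈ V by rw [hwN]; exact h⟩, hw2⟩⟩
    rintro ⟨v, ⟨hv1, hv2⟩, hv3⟩
    exact hwN ▸ (hgen v hv3 hv1).mem_open hV hv2
  have hclopen : ∀ V : X.left.Opens, IsCompact (V : Set X.left) → IsClopen (Sat V) := by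
    intro V hV
    refine ⟨⟨isOpen_iff_forall_mem_open.2 fun y hy => ?_⟩, hSo _ V.2⟩
    obtain ⟨N, hNy, hN⟩ := exists_maximal_generalization (α := X.left) y
    have hNV : N ∉ closure (V : Set X.left) := by
      intro hmem
      have : CompactSpace (↑V : Scheme.{u}) := isCompact_iff_compactSpace.1 hV
      have : QuasiCompact V.ι := quasiCompact_of_compactSpace V.ι
      obtain ⟨v, -, hv⟩ := Sga84.exists_specializes_of_mem_closure V.ι isClosed_univ
        (y := N) (by rwa [Set.image_univ, Scheme.Opens.range_ι])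
      exact hy ((hSmem _ V.2 y N hN hNy).2 (hN _ hv ▸ v.2))
    refine ⟨Sat (closure (V : Set X.left))ᶜ, fun z hz hzV => ?_, hSo _ isClosed_closure.isOpen_compl,
      (hSmem _ isClosed_closure.isOpen_compl y N hN hNy).2 hNV⟩
    obtain ⟨P, hPz, hP⟩ := exists_maximal_generalization (α := X.left) z
    exact (hSmem _ isClosed_closure.isOpen_compl z P hP hPz).1 hz
      (subset_closure ((hSmem _ V.2 z P hP hPz).1 hzV))
  obtain ⟨N, hNx, hN⟩ := exists_maximal_generalization (α := X.left) x
  suffices M = N from this ▸ hNx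
  refine (Specializes.antisymm ?_ ?_).eq
  all_goals refine specializes_iff_forall_open.2 fun O hO hmem => ?_
  · obtain ⟨_, ⟨V, hV, rfl⟩, hmV, hVO⟩ := X.left.isBasis_affineOpens.exists_subset_of_mem_open hmem hO
    replace hV : IsAffineOpen V := hV
    have h := (hclopen V hV.isCompact).eq_univ ⟨N, (hSmem _ V.2 N N hN specializes_rfl).2 hmV⟩
    exact hVO ((hSmem _ V.2 M M hM specializes_rfl).1 (h ▸ Set.mem_univ M))
  · obtain ⟨_, ⟨V, hV, rfl⟩, hmV, hVO⟩ := X.left.isBasis_affineOpens.exists_subset_of_mem_open hmem hO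
    replace hV : IsAffineOpen V := hV
    have h := (hclopen V hV.isCompact).eq_univ ⟨M, (hSmem _ V.2 M M hM specializes_rfl).2 hmV⟩
    exact hVO ((hSmem _ V.2 N N hN specializes_rfl).1 (h ▸ Set.mem_univ N))

end Field

/-- Over any base: every point `x` has a translate by a generization of the unit lying in every open
subset meeting its fibre. -/
theorem exists_translate {S : Scheme.{u}} {G X : Over S} [GrpObj G] [LocallyOfFiniteType G.hom]
    (a : AlgGrp.Action G X) (hΦ : Surjective (lift a.act (snd G X)).left)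
    {s : S} (hqs : QuasiSeparatedSpace ↥(X.hom ⁻¹' {s})) (hconn : _root_.IsPreconnected (X.hom ⁻¹' {s}))
    (x : X.left) (hx : X.hom x = s) :
    ∃ w : (G ⊗ X).left, (snd G X).left w = x ∧ (fst G X).left w ⤳ η[G].left s ∧ X.hom (a.act.left w) = s ∧
      ∀ y, X.hom y = s → a.act.left w ⤳ y := by
  let f : Spec (CommRingCat.of (S.residueField s)) ⟶ S := S.fromSpecResidueField s
  let GK := Red.bc f G
  let XK := Red.bc f X
  have : LocallyOfFiniteType GK.hom := MorphismProperty.pullback_snd (P := @LocallyOfFiniteType) _ _ ‹_›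
  have hΦK := surjective_bc_shear a f hΦ
  let e : ↥XK.left ≃ₜ ↥(X.hom ⁻¹' {s}) := X.hom.fiberHomeo s
  have : QuasiSeparatedSpace ↥XK.left := (quasiSeparatedSpace_congr e).2 hqs
  have : PreconnectedSpace ↥XK.left := by
    have := isPreconnected_iff_preconnectedSpace.1 hconn
    exact isPreconnected_iff_preconnectedSpace.1 hconn |> fun h => ⟨by simpa using isPreconnected_univ.image e.symm e.symm.continuous.continuousOn⟩
  obtain ⟨x', hx'⟩ : x ∈ Set.range (prO f X) := by
    rw [Scheme.Pullback.range_fst, Scheme.range_fromSpecResidueField]; exact hx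
  obtain ⟨w, hw2, -, hw1, hmax, -, -⟩ := exists_gen (a.bc f) hΦK x'
  let m : (GK ⊗ XK).left ⟶ (G ⊗ X).left :=
    (Functor.LaxMonoidal.μ (Over.pullback f) G X).left ≫ prO f (G ⊗ X)
  have hm1 : m ≫ (fst G X).left = (fst GK XK).left ≫ prO f G := by
    rw [Category.assoc, ← prO_naturality f (fst G X), ← Category.assoc, ← Over.comp_left, Functor.Monoidal.μ_fst]
  have hm2 : m ≫ (snd G X).left = (snd GK XK).left ≫ prO f X := by
    rw [Category.assoc, ← prO_naturality f (snd G X), ← Category.assoc, ← Over.comp_left, Functor.Monoidal.μ_snd]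
  have hma : m ≫ a.act.left = (a.bc f).act.left ≫ prO f X := by
    rw [AlgGrp.Action.bc_act, Over.comp_left, Category.assoc, Category.assoc,
      show ((Over.pullback f).map a.act).left ≫ prO f X = prO f (G ⊗ X) ≫ a.act.left from prO_naturality f a.act]
  have hfib : ∀ z : XK.left, X.hom (prO f X z) = s := fun z => by
    have : prO f X z ∈ Set.range (prO f X) := ⟨z, rfl⟩
    rwa [Scheme.Pullback.range_fst, Scheme.range_fromSpecResidueField] at this
  refine ⟨m w, ?_, ?_, ?_, fun y hy => ?_⟩
  · rw [← Scheme.Hom.comp_apply, hm2, Scheme.Hom.comp_apply, hw2, hx']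
  · rw [← Scheme.Hom.comp_apply, hm1, Scheme.Hom.comp_apply]
    refine (hw1.map (prO f G).continuous).trans (specializes_of_eq ?_)
    rw [show prO f G (Grp57.unitPt GK) = _ from prO_unitPt G f]
    exact congrArg η[G].left (S.fromSpecResidueField_apply s _)
  · have h : a.act.left (m w) = prO f X ((a.bc f).act.left w) :=
      congrArg (fun p : (GK ⊗ XK).left ⟶ X.left => p w) hma
    exact (congrArg X.hom h).trans (hfib _)
  · obtain ⟨y', rfl⟩ : y ∈ Set.range (prO f X) := by
      rw [Scheme.Pullback.range_fst, Scheme.range_fromSpecResidueField]; exact hy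
    rw [← Scheme.Hom.comp_apply, hma, Scheme.Hom.comp_apply]
    exact (maximal_mem (a.bc f) hΦK hmax y').map (prO f X).continuous

end Groth.Agent.CAlg6.HomogConn
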