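import Groth.Agent.SGA3a.HomogSep
import Groth.Agent.CAlg6.HomogConn

/-!
Separatedness and quasi-compactness of homogeneous spaces with irreducible fibres (no finiteness on the fibres).
-/

set_option autoImplicit false
universe u
open CategoryTheory CategoryTheory.Limits MonoidalCategory CartesianMonoidalCategory MonObj GrpObj AlgebraicGeometry
open Groth.Agent.SGA3a Groth.Agent.CAlg6.TransOpen

noncomputable section

namespace Groth.Agent.CAlg6.HomogGlobal

variable {S : Scheme.{u}} {G X : Over S} [GrpObj G] (a : AlgGrp.Action G X)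

include a in
theorem isSeparated_of_maximal_mem (hΦ : Surjective (lift a.act (snd G X)).left)
    (W : G.left.Opens) (hW : ∀ p : ↥(𝟙_ (Over S)).left, η[G].left p ∈ W) [UniversallyOpen (W.ι ≫ G.hom)]
    (hU : ∀ s : S, ∃ U : X.left.Opens, IsSeparated (U.ι ≫ X.hom) ∧
      ∀ z : X.left, X.hom z = s → (∀ z', z' ⤳ z → X.hom z' = s → z' = z) → z ∈ U) :
    IsSeparated X.hom := by
  let D := Set.range (diagO X).left
  suffices hcl : closure D ⊆ D by
    have hd : (diagO X).left = pullback.diagonal X.hom := by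
      apply pullback.hom_ext
      · rw [pullback.diagonal_fst]; exact congrArg Over.Hom.left (lift_fst (𝟙 X) (𝟙 X))
      · rw [pullback.diagonal_snd]; exact congrArg Over.Hom.left (lift_snd (𝟙 X) (𝟙 X))
    have hr : IsClosed (Set.range (pullback.diagonal X.hom)) := by
      rw [← hd]
      exact isClosed_of_closure_subset hcl
    exact ⟨IsClosedImmersion.of_isPreimmersion _ hr⟩
  intro w hw
  set s := (X ⊗ X).hom w
  obtain ⟨U, hUsep, hUd⟩ := hU s
  -- a field valued point through w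
  let σ := (X ⊗ X).hom.residueFieldMap w
  let f : Spec (CommRingCat.of ((X ⊗ X).left.residueField w)) ⟶ S := ptMap σ
  have hff : f = (X ⊗ X).left.fromSpecResidueField w ≫ (X ⊗ X).hom :=
    Scheme.Hom.SpecMap_residueFieldMap_fromSpecResidueField (X ⊗ X).hom w
  let fw : Spec (CommRingCat.of ((X ⊗ X).left.residueField w)) ⟶ (X ⊗ X).left :=
    (X ⊗ X).left.fromSpecResidueField w
  have hfs : ∀ t, f t = s := fun t => by
    rw [hff, Scheme.Hom.comp_apply, Scheme.fromSpecResidueField_apply]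
  let x1 := fw ≫ (fst X X).left
  let x2 := fw ≫ (snd X X).left
  have hx1 : x1 ≫ X.hom = f := by rw [hff, Category.assoc, Over.w (fst X X)]
  have hx2 : x2 ≫ X.hom = f := by rw [hff, Category.assoc, Over.w (snd X X)]
  let GK := Red.bc f G
  let XK := Red.bc f X
  have hΦK := surjective_bc_shear a f hΦ
  let UK : XK.left.Opens := prO f X ⁻¹ᵁ U
  -- a group point which moves both entries into U
  let WK : GK.left.Opens := prO f G ⁻¹ᵁ W
  obtain ⟨γ₀, hγ1, hγ⟩ := exists_maximal_generalization (α := GK.left) (Grp57.unitPt GK)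
  have hγW : γ₀ ∈ WK := hγ1.mem_open WK.isOpen (show prO f G (Grp57.unitPt GK) ∈ W by
    rw [show prO f G (Grp57.unitPt GK) = _ from prO_unitPt G f]; exact hW _)
  -- the global point
  let Wo : Over S := Over.mk (W.ι ≫ G.hom)
  let iW : Wo ⟶ G := Over.homMk W.ι rfl
  let TW : Over S := Over.mk (WK.ι ≫ pullback.snd G.hom f ≫ f)
  let wl : (↑WK : Scheme.{u}) ⟶ (↑W : Scheme.{u}) := IsOpenImmersion.lift W.ι (WK.ι ≫ prO f G)
    (by rintro _ ⟨t, rfl⟩; rw [Scheme.Opens.range_ι]; exact t.2)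
  have hwl : wl ≫ W.ι = WK.ι ≫ prO f G := IsOpenImmersion.lift_fac _ _ _
  let tW : TW ⟶ Wo := Over.homMk wl (by
    show wl ≫ W.ι ≫ G.hom = WK.ι ≫ pullback.snd G.hom f ≫ f
    rw [← Category.assoc, hwl, Category.assoc]
    exact congrArg (WK.ι ≫ ·) pullback.condition)
  let tX : TW ⟶ X ⊗ X := Over.homMk (WK.ι ≫ pullback.snd G.hom f ≫ fw) (by
    simp only [Category.assoc]
    exact congrArg (fun r => WK.ι ≫ pullback.snd G.hom f ≫ r) hff.symm)
  let m0 : TW ⟶ Wo ⊗ (X ⊗ X) := lift tW tX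
  obtain ⟨t0, ht0⟩ : γ₀ ∈ Set.range WK.ι := by rw [Scheme.Opens.range_ι]; exact hγW
  let z := m0.left t0
  have hzw : (snd Wo (X ⊗ X)).left z = w := by
    rw [← Scheme.Hom.comp_apply, ← Over.comp_left, lift_snd]
    exact (X ⊗ X).left.fromSpecResidueField_apply w _
  let θ := pairAct a (fst Wo (X ⊗ X) ≫ iW)
  have hA : ∀ (π : X ⊗ X ⟶ X) (x : Spec (CommRingCat.of ((X ⊗ X).left.residueField w)) ⟶ X.left)
      (hx : x ≫ X.hom = f), fw ≫ π.left = x →
      (lift (fst Wo (X ⊗ X) ≫ iW) (snd Wo (X ⊗ X) ≫ π) ≫ a.act).left z ∈ U := by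
    intro π x hx hπ
    let q : 𝟙_ (Over (Spec (CommRingCat.of ((X ⊗ X).left.residueField w)))) ⟶ XK :=
      Over.homMk (pullback.lift x (𝟙 _) (by simp [hx])) (pullback.lift_snd _ _ _)
    have hmem : ((a.bc f).orbitMap q).left γ₀ ∈ (UK : Set XK.left) :=
      hUd _ (apply_fst X.hom σ _) (maximal_fst X.hom σ (orbit_maximal (a.bc f) hΦK q hγ))
    have hkey : (m0 ≫ lift (fst Wo (X ⊗ X) ≫ iW) (snd Wo (X ⊗ X) ≫ π) ≫ a.act).left =
        WK.ι ≫ ((a.bc f).orbitMap q).left ≫ prO f X := by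
      rw [show ((a.bc f).orbitMap q).left ≫ prO f X = _ from orbit_bc_proj a f x hx, ← Category.assoc,
        ← Category.assoc, Over.comp_left, comp_lift, ← Category.assoc, lift_fst, ← Category.assoc, lift_snd]
      congr 1
      apply pullback.hom_ext
      · rw [Category.assoc, pullback.lift_fst]
        show (lift (tW ≫ iW) (tX ≫ π) ≫ fst G X).left = _
        rw [lift_fst, Over.comp_left]
        exact hwl
      · rw [Category.assoc, pullback.lift_snd]
        show (lift (tW ≫ iW) (tX ≫ π) ≫ snd G X).left = _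
        rw [lift_snd, Over.comp_left]
        show (WK.ι ≫ pullback.snd G.hom f ≫ fw) ≫ π.left = _
        rw [Category.assoc, Category.assoc, hπ]
    rw [← Scheme.Hom.comp_apply, ← Over.comp_left, hkey, Scheme.Hom.comp_apply, ht0, Scheme.Hom.comp_apply]
    exact hmem
  have hz1 := hA (fst X X) x1 hx1 rfl
  have hz2 := hA (snd X X) x2 hx2 rfl
  have hθ1 : θ ≫ fst X X = lift (fst Wo (X ⊗ X) ≫ iW) (snd Wo (X ⊗ X) ≫ fst X X) ≫ a.act := lift_fst _ _
  have hθ2 : θ ≫ snd X X = lift (fst Wo (X ⊗ X) ≫ iW) (snd Wo (X ⊗ X) ≫ snd X X) ≫ a.act := lift_snd _ _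
  -- the moved pair is in the closure of the diagonal
  have hclθ : θ.left z ∈ closure D := by
    refine mem_closure_iff.2 fun O hO hzO => ?_
    have : UniversallyOpen (snd Wo (X ⊗ X)).left :=
      MorphismProperty.pullback_snd (P := @UniversallyOpen) _ _ ‹_›
    obtain ⟨_, ⟨z1, hz1O, rfl⟩, hz1D⟩ := mem_closure_iff.1 hw _
      ((snd Wo (X ⊗ X)).left.isOpenMap _ (hO.preimage θ.left.continuous)) ⟨z, hzO, hzw⟩
    exact ⟨θ.left z1, hz1O, pairAct_mem_range a _ z1 hz1D⟩
  -- it lies in U ×_S U, whose diagonal is closed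
  let m : pullback (U.ι ≫ X.hom) (U.ι ≫ X.hom) ⟶ (X ⊗ X).left :=
    pullback.map _ _ _ _ U.ι U.ι (𝟙 _) (by simp) (by simp)
  have hr : Set.range m = (fst X X).left ⁻¹' (U : Set X.left) ∩ (snd X X).left ⁻¹' (U : Set X.left) := by
    rw [Scheme.Pullback.range_map, Scheme.Opens.range_ι]; rfl
  have : IsOpenImmersion m := inferInstanceAs (IsOpenImmersion (pullback.map _ _ _ _ _ _ _ _ _))
  obtain ⟨y, hy⟩ : θ.left z ∈ Set.range m := by
    rw [hr]
    exact ⟨by rw [Set.mem_preimage, ← Scheme.Hom.comp_apply, ← Over.comp_left, hθ1]; exact hz1,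
      by rw [Set.mem_preimage, ← Scheme.Hom.comp_apply, ← Over.comp_left, hθ2]; exact hz2⟩
  have hmΔ : m ⁻¹' D = Set.range (pullback.diagonal (U.ι ≫ X.hom)) := by
    have hcomm : pullback.diagonal (U.ι ≫ X.hom) ≫ m = U.ι ≫ (diagO X).left := by
      apply pullback.hom_ext
      · rw [Category.assoc, Category.assoc, pullback.lift_fst, pullback.diagonal_fst_assoc]
        show U.ι = U.ι ≫ (diagO X ≫ fst X X).left
        rw [lift_fst]; exact (Category.comp_id _).symm
      · rw [Category.assoc, Category.assoc, pullback.lift_snd, pullback.diagonal_snd_assoc]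
        show U.ι = U.ι ≫ (diagO X ≫ snd X X).left
        rw [lift_snd]; exact (Category.comp_id _).symm
    ext y'
    constructor
    · rintro ⟨x0, hx0⟩
      have hx0U : x0 ∈ (U : Set X.left) := by
        have h : (fst X X).left ((diagO X).left x0) ∈ (U : Set X.left) := hx0 ▸ (hr.le ⟨y', rfl⟩).1
        rw [← Scheme.Hom.comp_apply, ← Over.comp_left, lift_fst] at h
        exact h
      obtain ⟨x1', rfl⟩ : x0 ∈ Set.range U.ι := by rw [Scheme.Opens.range_ι]; exact hx0U
      exact ⟨x1', m.isOpenEmbedding.injective (by rw [← Scheme.Hom.comp_apply, hcomm, Scheme.Hom.comp_apply, hx0])⟩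
    · rintro ⟨x1', rfl⟩
      exact ⟨U.ι x1', by rw [← Scheme.Hom.comp_apply, ← hcomm]; rfl⟩
  have hyD : y ∈ m ⁻¹' D := by
    have hcl : IsClosed (m ⁻¹' D) := by
      rw [hmΔ]; exact (pullback.diagonal (U.ι ≫ X.hom)).isClosedEmbedding.isClosed_range
    rw [← hcl.closure_eq]
    exact m.isOpenMap.preimage_closure_subset_closure_preimage (show m y ∈ closure D from hy ▸ hclθ)
  rw [← hzw]
  exact mem_range_of_pairAct a iW z (hy ▸ hyD)

include a in
theorem quasiCompact_of_meets [LocallyOfFiniteType G.hom] (hΦ : Surjective (lift a.act (snd G X)).left)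
    (hqs : ∀ s : S, QuasiSeparatedSpace ↥(X.hom ⁻¹' {s})) (hconn : ∀ s : S, _root_.IsPreconnected (X.hom ⁻¹' {s}))
    (V : X.left.Opens) [QuasiCompact (V.ι ≫ X.hom)]
    (hV : ∀ s : S, (X.hom ⁻¹' {s}).Nonempty → ((V : Set X.left) ∩ X.hom ⁻¹' {s}).Nonempty) :
    QuasiCompact X.hom := by
  rw [quasiCompact_iff_forall_isAffineOpen]
  intro T hT
  have : IsAffine (↑T : Scheme.{u}) := hT
  let GT : G.left.Opens := G.hom ⁻¹ᵁ T
  let V' : X.left.Opens := V ⊓ X.hom ⁻¹ᵁ T
  -- a quasi-compact neighbourhood of the unit section over T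
  have hηT : ∀ t : S, t ∈ T → η[G].left t ∈ GT := fun t ht => by
    show G.hom (η[G].left t) ∈ T
    rw [← Scheme.Hom.comp_apply, Over.w η[G]]; exact ht
  have hc : IsCompact (GT.ι ⁻¹' (η[G].left '' (T : Set S))) := by
    rw [GT.ι.isOpenEmbedding.isInducing.isCompact_iff, Set.image_preimage_eq_inter_range, Scheme.Opens.range_ι,
      Set.inter_eq_left.2 (by rintro _ ⟨t, ht, rfl⟩; exact hηT t ht)]
    exact hT.isCompact.image η[G].left.continuous
  obtain ⟨W, hW, hWsub⟩ := exists_qc_open_supset hc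
  have : CompactSpace (↑W : Scheme.{u}) := isCompact_iff_compactSpace.1 hW
  -- V over T is quasi-compact
  have hV'c : IsCompact (V' : Set X.left) := by
    have h1 := ((V.ι ≫ X.hom).isCompact_preimage (U := T) hT.isCompact).image V.ι.continuous
    convert h1 using 1
    ext z
    constructor
    · rintro ⟨hzV, hzT⟩; exact ⟨⟨z, hzV⟩, hzT, rfl⟩
    · rintro ⟨z', hz', rfl⟩; exact ⟨z'.2, hz'⟩
  have : CompactSpace (↑V' : Scheme.{u}) := isCompact_iff_compactSpace.1 hV'c
  let iW : (↑W : Scheme.{u}) ⟶ G.left := W.ι ≫ GT.ι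
  let pW : (↑W : Scheme.{u}) ⟶ (↑T : Scheme.{u}) := IsOpenImmersion.lift T.ι (iW ≫ G.hom) (by
    rintro _ ⟨t, rfl⟩; rw [Scheme.Opens.range_ι]; exact (W.ι t).2)
  let pV : (↑V' : Scheme.{u}) ⟶ (↑T : Scheme.{u}) := IsOpenImmersion.lift T.ι (V'.ι ≫ X.hom) (by
    rintro _ ⟨t, rfl⟩; rw [Scheme.Opens.range_ι]; exact t.2.2)
  let m : pullback pW pV ⟶ (G ⊗ X).left :=
    pullback.map pW pV G.hom X.hom iW V'.ι T.ι (IsOpenImmersion.lift_fac _ _ _) (IsOpenImmersion.lift_fac _ _ _)
  have hm : Set.range m = (fst G X).left ⁻¹' Set.range iW ∩ (snd G X).left ⁻¹' (V' : Set X.left) := by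
    rw [Scheme.Pullback.range_map, Scheme.Opens.range_ι]; rfl
  have hqcW : QuasiCompact pW := quasiCompact_of_compactSpace pW
  have : CompactSpace ↥(pullback pW pV) := QuasiCompact.compactSpace_of_compactSpace (pullback.snd pW pV)
  suffices heq : ((X.hom ⁻¹ᵁ T : X.left.Opens) : Set X.left) = Set.range (m ≫ a.act.left) by
    rw [heq]; exact isCompact_range (m ≫ a.act.left).continuous
  ext x
  constructor
  · intro hx
    obtain ⟨w, hw2, hw1, hws, hgen⟩ := HomogConn.exists_translate a hΦ (hqs (X.hom x)) (hconn (X.hom x)) x rfl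
    obtain ⟨v, hvV, hvs⟩ := hV (X.hom x) ⟨x, rfl⟩
    have hM : a.act.left w ∈ V' := ⟨(hgen v hvs).mem_open V.2 hvV, show X.hom (a.act.left w) ∈ T by rw [hws]; exact hx⟩
    let τ : G ⊗ X ⟶ G ⊗ X := lift (fst G X)⁻¹ a.act
    have hτ : τ ≫ a.act = snd G X := by
      have h := AlgGrp79.inv_act_act a (fst G X) (snd G X)
      rwa [lift_fst_snd, Category.id_comp] at h
    let z := τ.left w
    obtain ⟨p, hp⟩ : z ∈ Set.range m := by
      rw [hm]
      refine ⟨?_, ?_⟩
      · show (fst G X).left z ∈ Set.range iW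
        have h1 : (fst G X).left z ⤳ η[G].left (X.hom x) := by
          have h2 : (fst G X).left z = (GrpObj.inv : G ⟶ G).left ((fst G X).left w) := by
            rw [← Scheme.Hom.comp_apply, ← Over.comp_left, lift_fst, Hom.inv_def, Over.comp_left, Scheme.Hom.comp_apply]
          have h3 : (GrpObj.inv : G ⟶ G).left (η[G].left (X.hom x)) = η[G].left (X.hom x) := by
            have : η[G] ≫ GrpObj.inv = η[G] := by
              rw [← Hom.inv_def]
              simp [← Hom.one_def, show (η[G] : 𝟙_ (Over S) ⟶ G) = (1 : 𝟙_ (Over S) ⟶ G) by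
                rw [Hom.one_def, toUnit_unique (toUnit (𝟙_ (Over S))) (𝟙 _), Category.id_comp]]
            rw [← Scheme.Hom.comp_apply, ← Over.comp_left, this]
          rw [h2, ← h3]
          exact hw1.map (GrpObj.inv : G ⟶ G).left.continuous
        have : Set.range iW = GT.ι '' (W : Set (↑GT : Scheme.{u})) := by
          rw [show ⇑iW = GT.ι ∘ W.ι from funext fun t => Scheme.Hom.comp_apply _ _ _, Set.range_comp,
            Scheme.Opens.range_ι]
        rw [this]
        exact h1.mem_open (GT.ι.isOpenEmbedding.isOpenMap _ W.2)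
          ⟨⟨_, hηT _ hx⟩, hWsub ⟨_, hx, rfl⟩, rfl⟩
      · show (snd G X).left z ∈ V'
        rw [← Scheme.Hom.comp_apply, ← Over.comp_left, lift_snd]
        exact hM
    refine ⟨p, ?_⟩
    rw [Scheme.Hom.comp_apply, hp, ← Scheme.Hom.comp_apply, ← Over.comp_left, hτ, hw2]
  · rintro ⟨p, rfl⟩
    show X.hom ((m ≫ a.act.left) p) ∈ T
    have h : m ≫ a.act.left ≫ X.hom = pullback.snd pW pV ≫ pV ≫ T.ι := by
      rw [Over.w a.act, ← Over.w (snd G X), ← Category.assoc,
        show m ≫ (snd G X).left = pullback.snd pW pV ≫ V'.ι from pullback.lift_snd _ _ _, Category.assoc,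
        IsOpenImmersion.lift_fac]
    rw [← Scheme.Hom.comp_apply, Category.assoc, h, ← Category.assoc, Scheme.Hom.comp_apply]
    exact ((pullback.snd pW pV ≫ pV) p).2

end Groth.Agent.CAlg6.HomogGlobal
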