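import Mathlib
import Groth.Agent.InjHull18.Indec

/-!
Injective modules over Noetherian rings are directed unions of modules finite over Artinian algebras.
-/

set_option autoImplicit false

universe u

namespace Groth.Agent.CAlg6.InjColim

variable {A : Type u} [CommRing A]

section Sat

variable {E : Type u} [AddCommGroup E] [Module A E] (p : Ideal A) [p.IsPrime]

/-- Saturation of the span of a set with respect to the complement of a prime. -/
def sat (G : Set E) : Submodule A E where
  carrier := {y | ∃ s ∈ p.primeCompl, s • y ∈ Submodule.span A G}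
  zero_mem' := ⟨1, one_mem _, by simp⟩
  add_mem' := by
    rintro a b ⟨s, hs, ha⟩ ⟨t, ht, hb⟩
    refine ⟨s * t, mul_mem hs ht, ?_⟩
    rw [smul_add, mul_smul, mul_smul]
    refine add_mem ?_ (Submodule.smul_mem _ s hb)
    rw [smul_comm]
    exact Submodule.smul_mem _ t ha
  smul_mem' := by
    rintro c a ⟨s, hs, ha⟩
    exact ⟨s, hs, by rw [smul_comm]; exact Submodule.smul_mem _ c ha⟩

theorem subset_sat (G : Set E) : G ⊆ sat p G := fun y hy =>
  ⟨1, one_mem _, by rw [one_smul]; exact Submodule.subset_span hy⟩

theorem sat_mono {G H : Set E} (h : G ⊆ H) : sat p G ≤ sat p H :=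
  fun _ ⟨s, hs, hy⟩ => ⟨s, hs, Submodule.span_mono h hy⟩

theorem sat_empty (hinj : ∀ s ∉ p, Function.Injective (LinearMap.lsmul A E s)) :
    sat p (∅ : Set E) = ⊥ := by
  refine (Submodule.eq_bot_iff _).2 fun y ⟨s, hs, hy⟩ => ?_
  rw [Submodule.span_empty, Submodule.mem_bot] at hy
  exact hinj s hs (by simpa using hy)

theorem exists_artinian [IsNoetherianRing A]
    (hbij : ∀ s ∉ p, Function.Bijective (LinearMap.lsmul A E s))
    (htor : ∀ x : E, ∃ n : ℕ, ∀ a ∈ p ^ n, a • x = 0) (G : Finset E) :
    ∃ (B : Type u) (_ : CommRing B) (_ : Algebra A B) (_ : IsArtinianRing B)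
      (_ : Module B (sat p (G : Set E))) (_ : IsScalarTower A B (sat p (G : Set E))),
      Module.Finite B (sat p (G : Set E)) := by
  classical
  choose n hn using htor
  let N : ℕ := G.sup n
  have hkill : ∀ y ∈ sat p (G : Set E), ∀ a ∈ p ^ N, a • y = 0 := by
    rintro y ⟨s, hs, hy⟩ a ha
    refine (hbij s hs).1 ?_
    rw [LinearMap.lsmul_apply, LinearMap.lsmul_apply, smul_zero, smul_comm]
    have hle : Submodule.span A (G : Set E) ≤ LinearMap.ker (LinearMap.lsmul A E a) :=
      Submodule.span_le.2 fun g hg => hn g a (Ideal.pow_le_pow_right (Finset.le_sup hg) ha)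
    exact hle hy
  let S := p.primeCompl
  let M := sat p (G : Set E)
  have hM : ∀ s : S, IsUnit (algebraMap A (Module.End A M) s) := by
    intro s
    rw [Module.End.isUnit_iff]
    constructor
    · intro a b h
      exact Subtype.ext ((hbij s s.2).1 (congrArg Subtype.val h))
    · rintro ⟨y, t, ht, hy⟩
      obtain ⟨z, hz⟩ := (hbij s s.2).2 y
      rw [LinearMap.lsmul_apply] at hz
      refine ⟨⟨z, t * s, mul_mem ht s.2, by rwa [mul_smul, hz]⟩, Subtype.ext hz⟩
  have hid : IsLocalizedModule S (LinearMap.id : M →ₗ[A] M) :=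
    { map_units := hM
      surj := fun y => ⟨⟨y, 1⟩, one_smul _ y⟩
      exists_of_eq := fun h => ⟨1, congrArg _ h⟩ }
  let R := Localization.AtPrime p
  letI : Module R M := IsLocalizedModule.module S (LinearMap.id : M →ₗ[A] M)
  have htow : IsScalarTower A R M := IsLocalizedModule.isScalarTower_module S (LinearMap.id : M →ₗ[A] M)
  let I : Ideal R := (p ^ N).map (algebraMap A R)
  have htorI : Module.IsTorsionBySet R M I := by
    rw [Module.isTorsionBySet_iff_subset_annihilator]
    show I ≤ Module.annihilator R M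
    rw [Ideal.map_le_iff_le_comap]
    intro a ha
    rw [Ideal.mem_comap, Module.mem_annihilator]
    intro y
    rw [algebraMap_smul]
    exact Subtype.ext (hkill y y.2 a ha)
  letI : Module (R ⧸ I) M := htorI.module
  have htow2 : IsScalarTower R (R ⧸ I) M := htorI.isScalarTower
  have hnoe : IsNoetherianRing R := IsLocalization.isNoetherianRing S R inferInstance
  have hart : IsArtinianRing (R ⧸ I) := by
    rw [isArtinianRing_iff_isNoetherianRing_krullDimLE_zero]
    refine ⟨inferInstance, Ring.krullDimLE_zero_iff.2 fun P hP => ?_⟩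
    let Q := P.comap (Ideal.Quotient.mk I)
    have : Q.IsPrime := Ideal.IsPrime.comap _
    have h1 : I ≤ Q := fun x hx => by
      rw [Ideal.mem_comap, Ideal.Quotient.eq_zero_iff_mem.2 hx]; exact zero_mem _
    have h2 : IsLocalRing.maximalIdeal R ≤ Q := by
      rw [← Localization.AtPrime.map_eq_maximalIdeal]
      rcases Nat.eq_zero_or_pos N with h0 | h0
      · exfalso
        apply ‹Q.IsPrime›.ne_top
        rw [eq_top_iff]
        refine le_trans ?_ h1
        show ⊤ ≤ (p ^ N).map (algebraMap A R)
        rw [h0, pow_zero, Ideal.one_eq_top, Ideal.map_top]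
      · refine Ideal.IsPrime.le_of_pow_le (n := N) ?_
        rw [← Ideal.map_pow]
        exact h1
    have h3 : Q = IsLocalRing.maximalIdeal R :=
      ((IsLocalRing.maximalIdeal.isMaximal R).eq_of_le ‹Q.IsPrime›.ne_top h2).symm
    refine (Ideal.map_comap_of_surjective _ Ideal.Quotient.mk_surjective P) ▸ ?_
    have hQ : Q.IsMaximal := h3 ▸ IsLocalRing.maximalIdeal.isMaximal R
    exact Ideal.IsMaximal.map_of_surjective_of_ker_le Ideal.Quotient.mk_surjective
      (by rw [Ideal.mk_ker]; exact h1)
  have htow3 : IsScalarTower A (R ⧸ I) M := by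
    refine IsScalarTower.of_algebraMap_smul (R := A) (A := R ⧸ I) (M := M) fun a y => ?_
    show Ideal.Quotient.mk I (algebraMap A R a) • y = a • y
    exact algebraMap_smul R a y
  refine ⟨R ⧸ I, inferInstance, inferInstance, hart, inferInstance, htow3, ?_⟩
  have hfin : Module.Finite R M := by
    let G' : Finset M := G.attach.image fun g => ⟨g.1, subset_sat p _ g.2⟩
    refine ⟨⟨G', eq_top_iff.2 ?_⟩⟩
    rintro ⟨y, s, hs, hy⟩ -
    have h1 : ∀ z, (hz : z ∈ Submodule.span A (G : Set E)) →
        (⟨z, Submodule.span_le.2 (subset_sat p _) hz⟩ : M) ∈ Submodule.span R (G' : Set M) := by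
      intro z hz
      induction hz using Submodule.span_induction with
      | mem z hz => exact Submodule.subset_span (Finset.mem_image.2 ⟨⟨z, hz⟩, Finset.mem_attach _ _, rfl⟩)
      | zero => exact zero_mem _
      | add a b _ _ ha hb => exact add_mem ha hb
      | smul c a _ ha =>
        have h := Submodule.smul_mem (Submodule.span R (G' : Set M)) (algebraMap A R c) ha
        rw [algebraMap_smul] at h
        exact h
    have h2 := Submodule.smul_mem (Submodule.span R (G' : Set M))
      (IsLocalization.mk' R (1 : A) (⟨s, hs⟩ : S)) (h1 _ hy)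
    have h3 : (⟨s • y, Submodule.span_le.2 (subset_sat p _) hy⟩ : M) =
        algebraMap A R s • (⟨y, s, hs, ‹_›⟩ : M) := by rw [algebraMap_smul]; rfl
    rw [h3, smul_smul, IsLocalization.mk'_spec, map_one, one_smul] at h2
    exact h2
  exact Module.Finite.of_restrictScalars_finite R (R ⧸ I) M

end Sat

section Union

open CategoryTheory CategoryTheory.Limits

variable (J : Type u) [AddCommGroup J] [Module A J] {ι : Type u} [Preorder ι]

/-- The diagram of a monotone family of submodules. -/
def diagram (N : ι → Submodule A J) (hN : Monotone N) : ι ⥤ ModuleCat.{u} A where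
  obj i := ModuleCat.of A (N i)
  map h := ModuleCat.ofHom (Submodule.inclusion (hN (leOfHom h)))
  map_id _ := rfl
  map_comp _ _ := rfl

/-- The cocone of a monotone family of submodules. -/
def cocone (N : ι → Submodule A J) (hN : Monotone N) : Cocone (diagram J N hN) where
  pt := ModuleCat.of A J
  ι := { app := fun i => ModuleCat.ofHom (N i).subtype }

/-- A directed union is a colimit. -/
noncomputable def isColimit [IsDirectedOrder ι] [Nonempty ι] (N : ι → Submodule A J)
    (hN : Monotone N) (hcov : ∀ z : J, ∃ i, z ∈ N i) : IsColimit (cocone J N hN) := by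
  choose k hk using hcov
  refine
    { desc := fun s => ModuleCat.ofHom
        { toFun := fun z => s.ι.app (k z) (⟨z, hk z⟩ : N (k z))
          map_add' := fun a b => ?_
          map_smul' := fun c a => ?_ }
      fac := fun s i => ?_
      uniq := fun s g hg => ?_ }
  all_goals
    have compat : ∀ {i j : ι} (h : i ≤ j) (z : N i),
        s.ι.app j (⟨(z : J), hN h z.2⟩ : N j) = s.ι.app i z := fun h z => by
      have := ConcreteCategory.congr_hom (s.w (homOfLE h)) z
      exact this
    have key : ∀ (i : ι) (z : J) (hz : z ∈ N i),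
        s.ι.app (k z) (⟨z, hk z⟩ : N (k z)) = s.ι.app i (⟨z, hz⟩ : N i) := fun i z hz => by
      obtain ⟨l, h1, h2⟩ := exists_ge_ge (k z) i
      rw [← compat h1 ⟨z, hk z⟩, ← compat h2 ⟨z, hz⟩]
  · obtain ⟨l, h1, h2⟩ := exists_ge_ge (k a) (k b)
    rw [key l a (hN h1 (hk a)), key l b (hN h2 (hk b)),
      key l (a + b) (add_mem (hN h1 (hk a)) (hN h2 (hk b)))]
    exact map_add (s.ι.app l).hom (⟨a, hN h1 (hk a)⟩ : N l) (⟨b, hN h2 (hk b)⟩ : N l)
  · rw [key (k a) (c • a) (Submodule.smul_mem _ c (hk a)), RingHom.id_apply]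
    exact map_smul (s.ι.app (k a)).hom c (⟨a, hk a⟩ : N (k a))
  · ext z
    exact key i z.1 z.2
  · ext z
    exact ConcreteCategory.congr_hom (hg (k z)) ⟨z, hk z⟩

end Union

end Groth.Agent.CAlg6.InjColim
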