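import Mathlib

/-!
`R[a] ∩ R[b]` and `R[a] + R[b]` for `a = x/y`, `b = y/x`.
-/

set_option autoImplicit false

universe u

namespace Groth.Agent.CAlg6

variable {R T : Type u} [CommRing R] [CommRing T] [Algebra R T] {a b : T}

/-- An element of `R[a] ∩ R[b]`, with `ab = 1`, is integral. -/
theorem isIntegral_of_mem_adjoin_inter (hab : a * b = 1) {z : T} (ha : z ∈ Algebra.adjoin R {a})
    (hb : z ∈ Algebra.adjoin R {b}) : IsIntegral R z := by
  obtain ⟨p, hp⟩ := Algebra.adjoin_singleton_eq_range_aeval R a ▸ ha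
  obtain ⟨q, hq⟩ := Algebra.adjoin_singleton_eq_range_aeval R b ▸ hb
  let m := q.natDegree
  let n := p.natDegree
  let M : Submodule R T := Submodule.span R ((fun i => a ^ i) '' {i | i ≤ n} ∪ (fun i => b ^ i) '' {i | i ≤ m})
  have hmemA : ∀ i, i ≤ n → a ^ i ∈ M := fun i hi => Submodule.subset_span (Or.inl ⟨i, hi, rfl⟩)
  have hmemB : ∀ i, i ≤ m → b ^ i ∈ M := fun i hi => Submodule.subset_span (Or.inr ⟨i, hi, rfl⟩)
  have hmix : ∀ i j, i ≤ n → j ≤ m → a ^ i * b ^ j ∈ M := fun i j hi hj => by
    rcases le_total i j with h | h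
    · obtain ⟨c, rfl⟩ := Nat.exists_eq_add_of_le h
      rw [pow_add, ← mul_assoc, ← mul_pow, hab, one_pow, one_mul]
      exact hmemB c (by omega)
    · obtain ⟨c, rfl⟩ := Nat.exists_eq_add_of_le h
      rw [pow_add, mul_assoc, mul_comm (a ^ c), ← mul_assoc, ← mul_pow, hab, one_pow, one_mul]
      exact hmemA c (by omega)
  have hsmul : ∀ w ∈ M, z * w ∈ M := by
    intro w hw
    induction hw using Submodule.span_induction with
    | mem w hw =>
      rcases hw with hw | hw
      · simp only [Set.mem_image, Set.mem_ofPred_eq] at hw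
        obtain ⟨i, hi, rfl⟩ := hw
        rw [← hq, AlgHom.toRingHom_eq_coe, RingHom.coe_coe, Polynomial.aeval_eq_sum_range, Finset.sum_mul]
        refine Submodule.sum_mem _ fun j hj => ?_
        rw [smul_mul_assoc, mul_comm]
        exact M.smul_mem _ (hmix i j (by omega) (Nat.le_of_lt_succ (Finset.mem_range.1 hj)))
      · simp only [Set.mem_image, Set.mem_ofPred_eq] at hw
        obtain ⟨i, hi, rfl⟩ := hw
        rw [← hp, AlgHom.toRingHom_eq_coe, RingHom.coe_coe, Polynomial.aeval_eq_sum_range, Finset.sum_mul]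
        refine Submodule.sum_mem _ fun j hj => ?_
        rw [smul_mul_assoc]
        exact M.smul_mem _ (hmix j i (Nat.le_of_lt_succ (Finset.mem_range.1 hj)) (by omega))
    | zero => simp
    | add u v _ _ hu hv => rw [mul_add]; exact add_mem hu hv
    | smul r v _ hv => rw [mul_smul_comm]; exact M.smul_mem r hv
  have hMfg : M.FG := Submodule.fg_span (((Set.finite_le_nat n).image _).union ((Set.finite_le_nat m).image _))
  have : Module.Finite R M := Module.Finite.iff_fg.2 hMfg
  have h1 : (1 : T) ∈ M := by simpa using hmemA 0 (Nat.zero_le _)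
  let f : Module.End R M := ((LinearMap.mulLeft R z).comp M.subtype).codRestrict M fun w => hsmul w w.2
  obtain ⟨P, hP, hPf⟩ := LinearMap.exists_monic_and_aeval_eq_zero R f
  refine ⟨P, hP, ?_⟩
  have hpow : ∀ k, ((f ^ k) ⟨1, h1⟩ : T) = z ^ k := fun k => by
    induction k with
    | zero => simp
    | succ k ih =>
      rw [pow_succ', Module.End.mul_apply]
      show z * ((f ^ k) ⟨1, h1⟩ : T) = _
      rw [ih, pow_succ']
  have h := congrArg (fun g : Module.End R M => ((g ⟨1, h1⟩ : M) : T)) hPf
  rw [← Polynomial.aeval_def, Polynomial.aeval_eq_sum_range]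
  rw [Polynomial.aeval_eq_sum_range] at h
  simpa [LinearMap.sum_apply, Submodule.coe_sum, hpow] using h

/-- `R[a] + R[b] = R[a, b]` when `ab = 1`. -/
theorem adjoin_sup_adjoin_eq (hab : a * b = 1) :
    (Algebra.adjoin R {a}).toSubmodule ⊔ (Algebra.adjoin R {b}).toSubmodule =
      (Algebra.adjoin R {a, b}).toSubmodule := by
  refine le_antisymm (sup_le ?_ ?_) ?_
  · exact Subalgebra.toSubmodule.monotone (Algebra.adjoin_mono (by simp))
  · exact Subalgebra.toSubmodule.monotone (Algebra.adjoin_mono (by simp))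
  · rw [Algebra.adjoin_eq_span, Submodule.span_le]
    intro w hw
    have key : ∃ i j : ℕ, w = a ^ i * b ^ j := by
      induction hw using Submonoid.closure_induction with
      | mem w hw =>
        rcases hw with rfl | rfl
        · exact ⟨1, 0, by simp⟩
        · exact ⟨0, 1, by simp⟩
      | one => exact ⟨0, 0, by simp⟩
      | mul u v _ _ hu hv =>
        obtain ⟨i, j, rfl⟩ := hu
        obtain ⟨k, l, rfl⟩ := hv
        exact ⟨i + k, j + l, by rw [pow_add, pow_add, mul_mul_mul_comm]⟩
    obtain ⟨i, j, rfl⟩ := key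
    rcases le_total i j with h | h
    · obtain ⟨c, rfl⟩ := Nat.exists_eq_add_of_le h
      rw [pow_add, ← mul_assoc, ← mul_pow, hab, one_pow, one_mul]
      exact Submodule.mem_sup_right (pow_mem (Algebra.self_mem_adjoin_singleton R b) c)
    · obtain ⟨c, rfl⟩ := Nat.exists_eq_add_of_le h
      rw [pow_add, mul_assoc, mul_comm (a ^ c), ← mul_assoc, ← mul_pow, hab, one_pow, one_mul]
      exact Submodule.mem_sup_left (pow_mem (Algebra.self_mem_adjoin_singleton R a) c)

/-- An integral element of `R[x/y]` lies in `R` if `R` is integrally closed in `R_y`. -/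
theorem mem_bot_of_isIntegral {y : R} [IsIntegrallyClosedIn R (Localization.Away y)]
    (f : Localization.Away y →ₐ[R] T) (hf : Function.Injective f) {z : T} (hz : z ∈ f.range)
    (hint : IsIntegral R z) : z ∈ (⊥ : Subalgebra R T) := by
  obtain ⟨w, rfl⟩ := hz
  obtain ⟨r, rfl⟩ := IsIntegrallyClosedIn.algebraMap_eq_of_integral ((isIntegral_algHom_iff f hf).1 hint)
  exact ⟨r, (f.commutes r).symm⟩

/-- The map `R_y → R_{xy}`. -/
theorem exists_away_hom (x y : R) (hy : y ∈ nonZeroDivisors R) [IsLocalization.Away (x * y) T]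
    (hxy : x * y ∈ nonZeroDivisors R) :
    ∃ f : Localization.Away y →ₐ[R] T, Function.Injective f ∧
      algebraMap R T (x * x) * IsLocalization.Away.invSelf (x * y) ∈ f.range := by
  have hu : IsUnit (algebraMap R T y) :=
    isUnit_of_mul_isUnit_right (x := algebraMap R T x) (by
      rw [← map_mul]; exact IsLocalization.Away.algebraMap_isUnit (x * y))
  let f : Localization.Away y →ₐ[R] T := IsLocalization.Away.liftAlgHom y (f := Algebra.ofId R T) hu
  have hfac : ∀ r, f (algebraMap R _ r) = algebraMap R T r := fun r => f.commutes r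
  refine ⟨f, ?_, algebraMap R _ x * IsLocalization.Away.invSelf y, ?_⟩
  · rw [injective_iff_map_eq_zero]
    intro w hw
    obtain ⟨r, ⟨_, k, rfl⟩, rfl⟩ := IsLocalization.exists_mk'_eq (Submonoid.powers y) w
    have h1 : algebraMap R T r = 0 := by
      rw [← hfac, ← IsLocalization.mk'_spec (Localization.Away y) r (⟨y ^ k, ⟨k, rfl⟩⟩ : Submonoid.powers y), map_mul, hw, zero_mul]
    have hinj : Function.Injective (algebraMap R T) :=
      IsLocalization.injective T (Submonoid.powers_le.2 hxy)
    rw [(map_eq_zero_iff _ hinj).1 h1, IsLocalization.mk'_zero]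
  · have hxyu : IsUnit (algebraMap R T (x * y)) := IsLocalization.Away.algebraMap_isUnit (x * y)
    refine hxyu.mul_right_cancel ?_
    rw [mul_assoc, mul_comm (IsLocalization.Away.invSelf (x * y)), IsLocalization.Away.mul_invSelf, mul_one,
      ← hfac, ← hfac]
    refine (map_mul f _ _).symm.trans ?_
    congr 1
    calc algebraMap R (Localization.Away y) x * IsLocalization.Away.invSelf y * algebraMap R _ (x * y)
        = algebraMap R _ x * algebraMap R _ x * (algebraMap R _ y * IsLocalization.Away.invSelf y) := by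
          rw [map_mul]; ring
      _ = algebraMap R _ (x * x) := by rw [IsLocalization.Away.mul_invSelf, mul_one, map_mul]

end Groth.Agent.CAlg6
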