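import Mathlib

/-!
Height-one primes of rings of invariants in a factorial ring are principal when the residue field
extension is trivial.
-/

set_option autoImplicit false

universe u v w

namespace Groth.Agent.CAlg6.InvPrincipal

variable {A : Type u} {B : Type v} {G : Type w} [CommRing A] [IsDomain A] [CommRing B] [Algebra B A]
  [Group G] [MulSemiringAction G A] [SMulCommClass G B A]

theorem smul_dvd_smul {g : G} {a b : A} (h : a ∣ b) : g • a ∣ g • b := by
  obtain ⟨c, rfl⟩ := h
  exact ⟨g • c, by rw [smul_mul']⟩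

theorem smul_dvd_iff {g : G} {a b : A} : g • a ∣ b ↔ a ∣ g⁻¹ • b :=
  ⟨fun h => by simpa using smul_dvd_smul (g := g⁻¹) h, fun h => by simpa using smul_dvd_smul (g := g) h⟩

theorem prime_smul {π : A} (h : Prime π) (g : G) : Prime (g • π) :=
  (MulEquiv.prime_iff (MulSemiringAction.toRingEquiv G A g).toMulEquiv).2 h

/-- Dedekind's independence bounds the group by the number of generators up to torsion. -/
theorem card_le_of_span [FaithfulSMul G A] [Finite G] {m : ℕ} (v : Fin m → A) (C : B)
    (hC : algebraMap B A C ≠ 0)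
    (hv : ∀ a : A, algebraMap B A C * a ∈ Submodule.span B (Set.range v)) : Nat.card G ≤ m := by
  have := Fintype.ofFinite G
  have hli : LinearIndependent A fun g : G => (fun a : A => g • a) := by
    have h1 := linearIndependent_monoidHom A A
    refine h1.comp (fun g : G => (MulSemiringAction.toRingHom G A g).toMonoidHom) fun g h hgh => ?_
    exact FaithfulSMul.eq_of_smul_eq_smul fun a => DFunLike.congr_fun hgh a
  have key : LinearIndependent A fun g : G => (fun j : Fin m => g • v j) := by
    rw [Fintype.linearIndependent_iff] at hli ⊢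
    intro c hc
    refine hli c (funext fun a => ?_)
    simp only [Finset.sum_apply, Pi.smul_apply, Pi.zero_apply, smul_eq_mul]
    have hker : ∀ x ∈ Submodule.span B (Set.range v), ∑ g, c g * g • x = 0 := by
      intro x hx
      induction hx using Submodule.span_induction with
      | mem x hx =>
        obtain ⟨j, rfl⟩ := hx
        simpa [Finset.sum_apply] using congrFun hc j
      | zero => simp
      | add x y _ _ hx hy => simp only [smul_add, mul_add, Finset.sum_add_distrib, hx, hy, add_zero]
      | smul b x _ hx =>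
        simp only [smul_comm _ b, mul_smul_comm, ← Finset.smul_sum, hx, smul_zero]
    have h2 := hker _ (hv a)
    simp only [smul_mul', smul_algebraMap, mul_left_comm _ (algebraMap B A C)] at h2
    rw [← Finset.mul_sum] at h2
    exact (mul_eq_zero.1 h2).resolve_left hC
  have := key.fintype_card_le_finrank
  rwa [Module.finrank_fin_fun, ← Nat.card_eq_fintype_card] at this

theorem exists_prime_generator [UniqueFactorizationMonoid A] [Algebra.IsIntegral B A]
    (hinj : Function.Injective (algebraMap B A)) {q : Ideal B} [q.IsPrime] (hq : q.height = 1)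
    (p : Ideal A) [p.IsPrime] [p.LiesOver q] : ∃ π : A, Prime π ∧ p = Ideal.span {π} := by
  haveI : IsDomain B := hinj.isDomain (algebraMap B A)
  have hq0 : q ≠ ⊥ := by rintro rfl; simp at hq
  have hp0 : p ≠ ⊥ := by
    rintro rfl
    apply hq0
    rw [(Ideal.over_def (⊥ : Ideal A) q), Ideal.under_def, ← RingHom.ker_eq_comap_bot]
    exact (RingHom.injective_iff_ker_eq_bot _).1 hinj
  obtain ⟨π, hπp, hπ⟩ := Ideal.IsPrime.exists_mem_prime_of_ne_bot inferInstance hp0
  refine ⟨π, hπ, ?_⟩
  haveI hP : (Ideal.span {π}).IsPrime := (Ideal.span_singleton_prime hπ.ne_zero).2 hπ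
  by_contra hne
  have hlt : Ideal.span {π} < p :=
    lt_of_le_of_ne ((Ideal.span_singleton_le_iff_mem _).2 hπp) (Ne.symm hne)
  have h1 : (Ideal.span {π}).comap (algebraMap B A) < q := by
    rw [Ideal.over_def p q]
    obtain ⟨x, hx, hx'⟩ := SetLike.exists_of_lt hlt
    exact Ideal.comap_lt_comap_of_integral_mem_sdiff hlt.le ⟨hx, hx'⟩ (Algebra.IsIntegral.isIntegral x)
  have h2 : (Ideal.span {π}).comap (algebraMap B A) ≠ ⊥ := fun h =>
    hπ.ne_zero (Ideal.span_singleton_eq_bot.1 (Ideal.eq_bot_of_comap_eq_bot h))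
  haveI := Ideal.comap_isPrime (algebraMap B A) (Ideal.span {π})
  haveI : q.FiniteHeight := ⟨Or.inr (by rw [hq]; exact ENat.coe_ne_top 1)⟩
  have h3 := Ideal.height_strict_mono_of_isPrime_of_isPrime h1
  have h4 : (⊥ : Ideal B).height < ((Ideal.span {π}).comap (algebraMap B A)).height := by
    haveI : ((Ideal.span {π}).comap (algebraMap B A)).FiniteHeight :=
      Ideal.finiteHeight_of_le h1.le (Ideal.IsPrime.ne_top inferInstance)
    exact (Ideal.height_strict_mono_of_isPrime_of_isPrime (bot_lt_iff_ne_bot.2 h2) : _)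
  rw [Ideal.height_bot] at h4
  rw [hq] at h3
  exact absurd h3 (not_lt.2 (Order.one_le_iff_pos.2 h4))

theorem isPrincipal_of_residue [UniqueFactorizationMonoid A] [Algebra.IsInvariant B A G] [Finite G]
    [FaithfulSMul G A] [Module.Finite B A] (hinj : Function.Injective (algebraMap B A))
    (q : Ideal B) [q.IsPrime] (hq : q.height = 1) (p : Ideal A) [p.IsPrime] [p.LiesOver q]
    (hres : ∀ a : A, ∃ b c : B, c ∉ q ∧ algebraMap B A c * a - algebraMap B A b ∈ p) :
    ∃ N : B, N ≠ 0 ∧ N ∈ q ∧ q = Ideal.span {N} := by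
  classical
  have := Fintype.ofFinite G
  obtain ⟨π, hπ, hp⟩ := exists_prime_generator hinj hq p
  let ι := algebraMap B A
  have hqmem : ∀ b : B, b ∈ q ↔ π ∣ ι b := fun b => by
    rw [Ideal.over_def p q, Ideal.under_def, Ideal.mem_comap, hp, Ideal.mem_span_singleton]
  have hinv : ∀ a : A, (∀ g : G, g • a = a) → ∃ b : B, ι b = a := fun a ha =>
    Algebra.IsInvariant.isInvariant (G := G) a ha
  have hfix : ∀ (g : G) (b : B), g • ι b = ι b := fun g b => smul_algebraMap g b
  -- the classes of the conjugates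
  let cl : G → Associates A := fun g => Associates.mk (g • π)
  let I : Finset (Associates A) := Finset.univ.image cl
  have hrep : ∀ i : I, ∃ g : G, cl g = i.1 := fun i => by
    obtain ⟨g, -, hg⟩ := Finset.mem_image.1 i.2
    exact ⟨g, hg⟩
  choose σ hσ using hrep
  let P : I → A := fun i => σ i • π
  have hP : ∀ i, Prime (P i) := fun i => prime_smul hπ _
  have hPne : ∀ i j, i ≠ j → ¬ P i ∣ P j := fun i j hij h => hij (by
    apply Subtype.ext
    rw [← hσ i, ← hσ j]
    exact Associates.mk_eq_mk_iff_associated.2 ((hP i).associated_of_dvd (hP j) h))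
  have hclass : ∀ g : G, ∃ i : I, Associated (P i) (g • π) := fun g =>
    ⟨⟨cl g, Finset.mem_image_of_mem _ (Finset.mem_univ g)⟩,
      Associates.mk_eq_mk_iff_associated.1 (hσ _)⟩
  let f : ℕ := (Finset.univ.filter fun h : G => Associated (h • π) π).card
  have hfib : ∀ i : I, (Finset.univ.filter fun g : G => Associated (g • π) (P i)).card = f := by
    intro i
    refine Finset.card_equiv (Equiv.mulLeft (σ i)⁻¹) fun g => ?_
    simp only [Finset.mem_filter, Finset.mem_univ, true_and, Equiv.coe_mulLeft, mul_smul, P]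
    constructor
    · intro h
      simpa using h.map (MulSemiringAction.toRingHom G A (σ i)⁻¹)
    · intro h
      simpa using h.map (MulSemiringAction.toRingHom G A (σ i))
  have hcardG : Fintype.card G = Fintype.card I * f := by
    have hmaps : ∀ g ∈ (Finset.univ : Finset G), (hclass g).choose ∈ (Finset.univ : Finset I) :=
      fun g _ => Finset.mem_univ _
    rw [← Finset.card_univ, Finset.card_eq_sum_card_fiberwise hmaps, Finset.sum_congr rfl
      (fun i _ => ?_), Finset.sum_const, smul_eq_mul, Finset.card_univ]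
    rw [← hfib i]
    congr 1
    ext g
    simp only [Finset.mem_filter, Finset.mem_univ, true_and]
    constructor
    · rintro rfl
      exact (hclass g).choose_spec.symm
    · intro h
      by_contra hne
      exact hPne _ _ hne ((hclass g).choose_spec.trans h).dvd
  -- the norm
  let N₀ : A := ∏ g : G, g • π
  have hN₀ : Associated N₀ (∏ i : I, P i ^ f) := by
    have h1 : N₀ = ∏ i : I, ∏ g ∈ Finset.univ.filter (fun g : G => (hclass g).choose = i), g • π :=
      (Finset.prod_fiberwise _ _ _).symm
    rw [h1]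
    refine Associated.prod _ _ _ fun i _ => ?_
    have h2 : Finset.univ.filter (fun g : G => (hclass g).choose = i) =
        Finset.univ.filter (fun g : G => Associated (g • π) (P i)) := by
      ext g
      simp only [Finset.mem_filter, Finset.mem_univ, true_and]
      refine ⟨fun h => h ▸ (hclass g).choose_spec.symm, fun h => ?_⟩
      by_contra hne
      exact hPne _ _ hne ((hclass g).choose_spec.trans h).dvd
    rw [h2]
    refine (Associated.prod _ _ _ fun g hg => (Finset.mem_filter.1 hg).2).trans ?_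
    rw [Finset.prod_const, hfib]
    exact Associated.refl _
  have hnorminv : ∀ a : A, ∃ b : B, ι b = ∏ g : G, g • a := fun a => hinv _ fun h => by
    rw [Finset.smul_prod']
    exact Fintype.prod_equiv (Equiv.mulLeft h) _ _ fun g => (mul_smul h g a).symm
  obtain ⟨N, hN⟩ := hnorminv π
  have hNA : ι N ≠ 0 := by
    rw [hN]
    exact Finset.prod_ne_zero_iff.2 fun g _ => (prime_smul hπ g).ne_zero
  have hN0 : N ≠ 0 := fun h => hNA (by rw [h, map_zero])
  have hNq : N ∈ q := by
    rw [hqmem, hN]
    exact dvd_trans (by rw [one_smul]) (Finset.dvd_prod_of_mem _ (Finset.mem_univ (1 : G)))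
  -- the ramification index
  have hex : ∃ n, ∃ b ∈ q, ¬ π ^ (n + 1) ∣ ι b := by
    obtain ⟨n, hn⟩ := FiniteMultiplicity.of_prime_left hπ hNA
    exact ⟨n, N, hNq, hn⟩
  let e := Nat.find hex
  obtain ⟨b₀, hb₀q, hb₀⟩ := Nat.find_spec hex
  have hle : ∀ b ∈ q, π ^ e ∣ ι b := by
    intro b hb
    rcases Nat.eq_zero_or_pos e with h0 | h0
    · rw [h0, pow_zero]; exact one_dvd _
    · have := Nat.find_min hex (show e - 1 < e by omega)
      push Not at this
      simpa [show e - 1 + 1 = e by omega] using this b hb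
  have hleP : ∀ b : B, ∀ n, π ^ n ∣ ι b ↔ ∀ i, P i ^ n ∣ ι b := by
    intro b n
    constructor
    · intro h i
      rw [show P i ^ n = σ i • π ^ n from (smul_pow' _ _ _).symm, smul_dvd_iff, hfix]
      exact h
    · intro h
      obtain ⟨i, hi⟩ := hclass 1
      rw [one_smul] at hi
      exact (hi.pow_pow (n := n)).symm.dvd.trans (h i)
  have hprod : ∀ (a : A) (n : ℕ), (∀ i, P i ^ n ∣ a) → (∏ i, P i ^ n) ∣ a := fun a n h =>
    Finset.prod_dvd_of_isRelPrime (fun i _ j _ hij =>
      ((hP i).irreducible.isRelPrime_iff_not_dvd.2 (hPne i j hij)).pow_left.pow_right) fun i _ => h i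
  let PP : A := ∏ i, P i
  have hPi : PP ≠ 0 := Finset.prod_ne_zero_iff.2 fun i _ => (hP i).ne_zero
  obtain ⟨u, hu⟩ : PP ^ e ∣ ι b₀ := by
    rw [← Finset.prod_pow]
    exact hprod _ _ ((hleP b₀ e).1 (hle b₀ hb₀q))
  have huP : ∀ i, ¬ P i ∣ u := by
    intro i hi
    have h1 : P i ^ (e + 1) ∣ ι b₀ := by
      rw [hu, pow_succ]
      exact mul_dvd_mul (pow_dvd_pow_of_dvd (Finset.dvd_prod_of_mem _ (Finset.mem_univ i)) _) hi
    rw [show P i ^ (e + 1) = σ i • π ^ (e + 1) from (smul_pow' _ _ _).symm, smul_dvd_iff, hfix] at h1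
    exact hb₀ h1
  obtain ⟨U, hU⟩ := hnorminv u
  have hUq : U ∉ q := by
    rw [hqmem, hU]
    intro h
    obtain ⟨g, -, hg⟩ := hπ.exists_mem_finset_dvd h
    obtain ⟨i, hi⟩ := hclass g⁻¹
    have h2 : g⁻¹ • π ∣ u := by rwa [smul_dvd_iff, inv_inv]
    exact huP i (hi.dvd.trans h2)
  have huU : u ∣ ι U := by
    rw [hU]
    exact dvd_trans (by rw [one_smul]) (Finset.dvd_prod_of_mem _ (Finset.mem_univ (1 : G)))
  -- residues at the conjugates
  have hresP : ∀ (i : I) (a : A), ∃ b c : B, c ∉ q ∧ P i ∣ ι c * a - ι b := by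
    intro i a
    obtain ⟨b, c, hc, h⟩ := hres ((σ i)⁻¹ • a)
    refine ⟨b, c, hc, ?_⟩
    rw [hp, Ideal.mem_span_singleton] at h
    have := smul_dvd_smul (g := σ i) h
    rwa [smul_sub, smul_mul', hfix, hfix, smul_inv_smul] at this
  let w : I → A := fun i => ∏ j ∈ Finset.univ.erase i, P j
  have hw : ∀ i, ¬ P i ∣ w i := fun i h => by
    obtain ⟨j, hj, hij⟩ := (hP i).exists_mem_finset_dvd h
    exact hPne i j (Finset.ne_of_mem_erase hj).symm hij
  have hstep : ∀ a : A, ∃ (c : B) (β : I → B), c ∉ q ∧ PP ∣ ι c * a - ∑ i, ι (β i) * w i := by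
    intro a
    have h1 : ∀ i, ∃ (c β : B), c ∉ q ∧ P i ∣ ι c * a - ι β * w i := by
      intro i
      obtain ⟨b, c, hc, hbc⟩ := hresP i a
      obtain ⟨b', c', hc', hbc'⟩ := hresP i (w i)
      have hb' : b' ∉ q := by
        intro hb'
        have h2 : P i ∣ ι b' := by simpa using ((hleP b' 1).1 (by simpa using (hqmem b').1 hb')) i
        have h3 : P i ∣ ι c' * w i := by simpa using dvd_add hbc' h2
        rcases (hP i).dvd_or_dvd h3 with h4 | h4
        · exact hc' ((hqmem c').2 (by
            rwa [show P i = σ i • π from rfl, smul_dvd_iff, hfix] at h4))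
        · exact hw i h4
      refine ⟨b' * c, b * c', fun h => ?_, ?_⟩
      · exact (Ideal.IsPrime.mem_or_mem inferInstance h).elim hb' hc
      · have h2 : ι (b' * c) * a - ι (b * c') * w i =
            ι b' * (ι c * a - ι b) - ι b * (ι c' * w i - ι b') := by
          simp only [map_mul]; ring
        rw [h2]
        exact dvd_sub (hbc.mul_left _) (hbc'.mul_left _)
    choose c β hc hcβ using h1
    refine ⟨∏ i, c i, fun i => (∏ j ∈ Finset.univ.erase i, c j) * β i, ?_, ?_⟩
    · intro h
      obtain ⟨i, -, hi⟩ := (Ideal.IsPrime.prod_mem_iff).1 h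
      exact hc i hi
    · have h2 : ∀ i, P i ^ 1 ∣
          ι (∏ i, c i) * a - ∑ l, ι ((∏ j ∈ Finset.univ.erase l, c j) * β l) * w l := by
        intro i
        rw [pow_one, ← Finset.add_sum_erase _ _ (Finset.mem_univ i), ← sub_sub]
        refine dvd_sub ?_ (Finset.dvd_sum fun l hl => Dvd.dvd.mul_left ?_ _)
        · rw [← Finset.mul_prod_erase _ _ (Finset.mem_univ i), mul_comm (c i), map_mul, map_mul,
            mul_assoc, mul_assoc, ← mul_sub]
          exact (hcβ i).mul_left _
        · exact Finset.dvd_prod_of_mem _ (Finset.mem_erase.2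
            ⟨(Finset.ne_of_mem_erase hl).symm, Finset.mem_univ i⟩)
      simpa [PP] using hprod _ 1 h2
  let vec : Fin e × I → A := fun x => PP ^ (x.1 : ℕ) * w x.2
  have hspan : ∀ n ≤ e, ∀ a : A, ∃ c : B, c ∉ q ∧ ∃ x ∈ Submodule.span B (Set.range vec),
      PP ^ n ∣ ι c * a - x := by
    intro n
    induction n with
    | zero => exact fun _ a => ⟨1, fun h => (Ideal.IsPrime.ne_top inferInstance)
        (q.eq_top_iff_one.2 h), 0, zero_mem _, by simp⟩
    | succ n ih =>
      intro hn a
      obtain ⟨c, hc, x, hx, t, ht⟩ := ih (by omega) a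
      obtain ⟨c', β, hc', s, hs⟩ := hstep t
      refine ⟨c' * c, fun h => (Ideal.IsPrime.mem_or_mem inferInstance h).elim hc' hc,
        c' • x + ∑ i, β i • vec (⟨n, by omega⟩, i),
        add_mem (Submodule.smul_mem _ _ hx) (Submodule.sum_mem _ fun i _ =>
          Submodule.smul_mem _ _ (Submodule.subset_span ⟨_, rfl⟩)), s, ?_⟩
      have h3 : ∑ i, β i • vec (⟨n, by omega⟩, i) = PP ^ n * ∑ i, ι (β i) * w i := by
        rw [Finset.mul_sum]
        refine Finset.sum_congr rfl fun i _ => ?_
        rw [Algebra.smul_def]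
        ring
      rw [h3, Algebra.smul_def]
      simp only [map_mul]
      linear_combination (ι c') * ht + (PP ^ n) * hs
  have hgen : ∃ C : B, C ∉ q ∧ ∀ a : A, ι C * a ∈ Submodule.span B (Set.range vec) := by
    let S := Submodule.span B (Set.range vec)
    have h1 : ∀ a : A, ∃ c : B, c ∉ q ∧ c • Submodule.Quotient.mk (p := S) a ∈
        q • (⊤ : Submodule B (A ⧸ S)) := by
      intro a
      obtain ⟨c, hc, x, hx, t, ht⟩ := hspan e le_rfl a
      obtain ⟨z, hz⟩ := huU
      refine ⟨U * c, fun h => (Ideal.IsPrime.mem_or_mem inferInstance h).elim hUq hc, ?_⟩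
      have h2 : (U * c) • a = U • x + b₀ • (z * t) := by
        simp only [Algebra.smul_def, map_mul]
        change ι U * ι c * a = ι U * x + ι b₀ * (z * t)
        linear_combination (ι U) * ht + (PP ^ e * t) * hz - (z * t) * hu
      rw [← Submodule.Quotient.mk_smul, h2, Submodule.Quotient.mk_add, Submodule.Quotient.mk_smul,
        Submodule.Quotient.mk_smul, (Submodule.Quotient.mk_eq_zero S).2 hx, smul_zero, zero_add]
      exact Submodule.smul_mem_smul hb₀q Submodule.mem_top
    obtain ⟨k, s, hs⟩ := Module.Finite.exists_fin (R := B) (M := A)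
    choose c hc hcs using fun j => h1 (s j)
    let C₀ := ∏ j, c j
    have hC₀ : C₀ ∉ q := fun h => by
      obtain ⟨j, -, hj⟩ := (Ideal.IsPrime.prod_mem_iff).1 h
      exact hc j hj
    let φ : Module.End B (A ⧸ S) := algebraMap B _ C₀
    have hφ : LinearMap.range φ ≤ q • ⊤ := by
      rintro _ ⟨y, rfl⟩
      obtain ⟨a, rfl⟩ := Submodule.mkQ_surjective S y
      have ha : a ∈ Submodule.span B (Set.range s) := hs ▸ Submodule.mem_top
      change C₀ • Submodule.Quotient.mk a ∈ _
      induction ha using Submodule.span_induction with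
      | mem x hx =>
        obtain ⟨j, rfl⟩ := hx
        rw [show C₀ = (∏ l ∈ Finset.univ.erase j, c l) * c j from
          (Finset.prod_erase_mul _ _ (Finset.mem_univ j)).symm, mul_smul]
        exact Submodule.smul_mem _ _ (hcs j)
      | zero => simp
      | add x y _ _ hx hy => rw [Submodule.Quotient.mk_add, smul_add]; exact add_mem hx hy
      | smul b x _ hx =>
        rw [Submodule.Quotient.mk_smul, smul_comm]
        exact Submodule.smul_mem _ _ hx
    obtain ⟨P', hmonic, -, hcoeff, hP'⟩ :=
      LinearMap.exists_monic_and_natDegree_eq_and_coeff_mem_pow_and_aeval_eq_zero B φ q hφ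
    refine ⟨P'.eval C₀, fun h => hC₀ ?_, fun a => ?_⟩
    · have h5 : P'.eval C₀ - C₀ ^ P'.natDegree ∈ q := by
        rw [Polynomial.eval_eq_sum_range, Finset.sum_range_succ, hmonic.coeff_natDegree, one_mul,
          add_sub_cancel_right]
        refine Submodule.sum_mem _ fun k hk => Ideal.mul_mem_right _ _ ?_
        exact Ideal.pow_le_self (by simp at hk; omega) (hcoeff k)
      have := sub_mem h h5
      rw [sub_sub_cancel] at this
      exact Ideal.IsPrime.mem_of_pow_mem inferInstance _ this
    · rw [← Algebra.smul_def, ← Submodule.Quotient.mk_eq_zero S, Submodule.Quotient.mk_smul]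
      rw [Polynomial.aeval_algebraMap_apply] at hP'
      simpa [Polynomial.aeval_def, Algebra.algebraMap_self] using
        LinearMap.congr_fun hP' (Submodule.Quotient.mk (p := S) a)
  obtain ⟨C, hC, hCA⟩ := hgen
  have hfe : f ≤ e := by
    have hC0 : ι C ≠ 0 := fun h => hC ((hqmem C).2 (h ▸ dvd_zero π))
    let E := Fintype.equivFin (Fin e × I)
    have hr : Set.range (vec ∘ E.symm) = Set.range vec := E.symm.surjective.range_comp vec
    have h1 := card_le_of_span (G := G) (vec ∘ E.symm) C hC0 (fun a => hr ▸ hCA a)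
    rw [Fintype.card_prod, Fintype.card_fin, Nat.card_eq_fintype_card, hcardG,
      mul_comm e] at h1
    have : 0 < Fintype.card I := Fintype.card_pos_iff.2 ⟨(hclass 1).choose⟩
    exact Nat.le_of_mul_le_mul_left h1 this
  refine ⟨N, hN0, hNq, le_antisymm (fun b hb => ?_) ((Ideal.span_singleton_le_iff_mem _).2 hNq)⟩
  obtain ⟨c, hc⟩ : ι N ∣ ι b := by
    rw [hN]
    exact hN₀.dvd.trans (hprod _ _ ((hleP b f).1 ((pow_dvd_pow π hfe).trans (hle b hb))))
  obtain ⟨c', rfl⟩ := hinv c fun g => by
    have := congrArg (g • ·) hc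
    simp only [smul_mul', hfix] at this
    exact mul_left_cancel₀ hNA (this.symm.trans hc)
  rw [← map_mul] at hc
  exact Ideal.mem_span_singleton.2 ⟨c', hinj hc⟩

end Groth.Agent.CAlg6.InvPrincipal
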