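import Mathlib

/-!
Zariski cotangent space of an affine scheme at a rational point through the Jacobian matrix.
-/

set_option autoImplicit false

universe u

open MvPolynomial

namespace Groth.Agent.CAlg6

variable {k : Type u} [Field k]

theorem finrank_cotangentSpace_atPrime_eq {A : Type u} [CommRing A] [Algebra k A] (m : Ideal A)
    [m.IsMaximal] (hk : ∀ x : A, ∃ c : k, x - algebraMap k A c ∈ m) :
    Module.finrank (IsLocalRing.ResidueField (Localization.AtPrime m))
        (IsLocalRing.CotangentSpace (Localization.AtPrime m)) =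
      Module.finrank k m.Cotangent := by
  let O := Localization.AtPrime m
  let M := IsLocalRing.maximalIdeal O
  have hM : m.map (algebraMap A O) = M := Localization.AtPrime.map_eq_maximalIdeal
  have hle : m ≤ M.comap (IsScalarTower.toAlgHom k A O) := fun x hx => by
    show algebraMap A O x ∈ M
    rw [← hM]; exact Ideal.mem_map_of_mem _ hx
  let f := Ideal.mapCotangent (R := k) m M (IsScalarTower.toAlgHom k A O) hle
  have hinv : ∀ s ∈ m.primeCompl, ∃ t, 1 - t * s ∈ m := fun s hs => by
    obtain ⟨t, z, hz, h⟩ := (inferInstance : m.IsMaximal).exists_inv hs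
    exact ⟨t, by rw [← h]; simpa using hz⟩
  have hinj : Function.Injective f := by
    rw [injective_iff_map_eq_zero]
    intro x hx
    obtain ⟨⟨x, hxm⟩, rfl⟩ := Ideal.toCotangent_surjective m x
    rw [Ideal.mapCotangent_toCotangent, Ideal.toCotangent_eq_zero] at hx
    rw [Ideal.toCotangent_eq_zero]
    change algebraMap A O x ∈ M ^ 2 at hx
    rw [← hM, ← Ideal.map_pow, IsLocalization.algebraMap_mem_map_algebraMap_iff m.primeCompl] at hx
    obtain ⟨u, hu, hux⟩ := hx
    obtain ⟨t, ht⟩ := hinv u hu
    have : x = (1 - t * u) * x + t * (u * x) := by ring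
    show x ∈ m ^ 2
    rw [this]
    exact add_mem (by rw [pow_two]; exact Ideal.mul_mem_mul ht hxm) (Ideal.mul_mem_left _ _ hux)
  have hsurj : Function.Surjective f := by
    intro y
    obtain ⟨⟨y, hy⟩, rfl⟩ := Ideal.toCotangent_surjective M y
    obtain ⟨⟨a, s⟩, rfl⟩ := IsLocalization.mk'_surjective m.primeCompl y
    have ha : a ∈ m := (IsLocalization.AtPrime.mk'_mem_maximal_iff O m a s).1 hy
    obtain ⟨t, ht⟩ := hinv s s.2
    refine ⟨m.toCotangent ⟨t * a, Ideal.mul_mem_left _ _ ha⟩, ?_⟩
    rw [Ideal.mapCotangent_toCotangent, Ideal.toCotangent_eq]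
    show algebraMap A O (t * a) - IsLocalization.mk' O a s ∈ M ^ 2
    have : algebraMap A O (t * a) - IsLocalization.mk' O a s =
        - (algebraMap A O (1 - t * s) * IsLocalization.mk' O a s) := by
      rw [map_sub, map_one, map_mul, map_mul, sub_mul, one_mul, mul_assoc,
        mul_comm (algebraMap A O (s : A)), IsLocalization.mk'_spec, neg_sub]
    rw [this, pow_two]
    refine neg_mem (Ideal.mul_mem_mul ?_ hy)
    rw [← hM]; exact Ideal.mem_map_of_mem _ ht
  have hres : Function.Surjective ((IsLocalRing.residue O).comp (algebraMap k O)) := by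
    intro y
    obtain ⟨y, rfl⟩ := IsLocalRing.residue_surjective y
    obtain ⟨⟨a, s⟩, rfl⟩ := IsLocalization.mk'_surjective m.primeCompl y
    obtain ⟨c, hc⟩ := hk a
    obtain ⟨e, he⟩ := hk (s : A)
    have he0 : e ≠ 0 := fun h => s.2 (by simpa [h] using he)
    refine ⟨c * e⁻¹, ?_⟩
    have h1 : ∀ z : A, z ∈ m → IsLocalRing.residue O (algebraMap A O z) = 0 := fun z hz =>
      (IsLocalRing.residue_eq_zero_iff _).2 (by show _ ∈ M; rw [← hM]; exact Ideal.mem_map_of_mem _ hz)
    have ha : IsLocalRing.residue O (algebraMap A O a) = IsLocalRing.residue O (algebraMap k O c) := by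
      rw [IsScalarTower.algebraMap_apply k A O, ← sub_eq_zero, ← map_sub, ← map_sub]
      exact h1 _ hc
    have hs : IsLocalRing.residue O (algebraMap A O s) = IsLocalRing.residue O (algebraMap k O e) := by
      rw [IsScalarTower.algebraMap_apply k A O, ← sub_eq_zero, ← map_sub, ← map_sub]
      exact h1 _ he
    rw [← IsLocalization.mk'_spec O a s, map_mul, hs] at ha
    simp only [RingHom.comp_apply, map_mul, ← ha]
    have hee : IsLocalRing.residue O (algebraMap k O e) * IsLocalRing.residue O (algebraMap k O e⁻¹) = 1 := by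
      rw [← map_mul, ← map_mul, mul_inv_cancel₀ he0, map_one, map_one]
    rw [mul_assoc, hee, mul_one]
  let e : k ≃ₗ[k] IsLocalRing.ResidueField O :=
    LinearEquiv.ofBijective (Algebra.linearMap k _) ⟨(algebraMap k _).injective, hres⟩
  have : IsScalarTower k (IsLocalRing.ResidueField O) (IsLocalRing.CotangentSpace O) := by
    refine IsScalarTower.of_algebraMap_smul fun c x => ?_
    obtain ⟨x, rfl⟩ := Ideal.toCotangent_surjective _ x
    rw [IsScalarTower.algebraMap_apply k O (IsLocalRing.ResidueField O), algebraMap_smul, ← map_smul]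
    show _ = (IsLocalRing.maximalIdeal O).toCotangent (c • x)
    congr 1
    ext
    simp [Algebra.smul_def]
  have h2 := Module.finrank_mul_finrank k (IsLocalRing.ResidueField O) (IsLocalRing.CotangentSpace O)
  rw [← e.finrank_eq, Module.finrank_self, one_mul] at h2
  rw [h2]
  exact ((LinearEquiv.ofBijective f ⟨hinj, hsurj⟩).finrank_eq).symm

variable {n : ℕ} (a : Fin n → k)

theorem ker_eval_eq_span :
    RingHom.ker (eval a) = Ideal.span (Set.range fun j => X j - C (a j)) := by
  refine le_antisymm (fun f hf => ?_) (Ideal.span_le.2 ?_)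
  · suffices ∀ f : MvPolynomial (Fin n) k,
        f - C (eval a f) ∈ Ideal.span (Set.range fun j => X j - C (a j)) by
      simpa [RingHom.mem_ker.1 hf] using this f
    intro f
    induction f using MvPolynomial.induction_on with
    | C c => simp
    | add p q hp hq =>
      have : p + q - C (eval a (p + q)) = (p - C (eval a p)) + (q - C (eval a q)) := by
        simp only [map_add]; ring
      rw [this]; exact add_mem hp hq
    | mul_X p j hp =>
      have : p * X j - C (eval a (p * X j)) = (p - C (eval a p)) * X j + C (eval a p) * (X j - C (a j)) := by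
        simp only [map_mul, eval_X]; ring
      rw [this]
      exact add_mem (Ideal.mul_mem_right _ _ hp) (Ideal.mul_mem_left _ _ (Ideal.subset_span ⟨j, rfl⟩))
  · rintro _ ⟨j, rfl⟩
    simp

/-- The differential at the point `a`. -/
noncomputable def grad : MvPolynomial (Fin n) k →ₗ[k] (Fin n → k) :=
  LinearMap.pi fun j => (aeval a).toLinearMap.comp (pderiv j).toLinearMap

theorem grad_apply (f : MvPolynomial (Fin n) k) (j : Fin n) :
    grad a f j = eval a (pderiv j f) := by
  simp [grad, aeval_eq_eval]

theorem grad_mul (f g : MvPolynomial (Fin n) k) :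
    grad a (f * g) = eval a f • grad a g + eval a g • grad a f := by
  funext j
  simp only [grad_apply, Pi.add_apply, Pi.smul_apply, pderiv_mul, map_add, map_mul, smul_eq_mul]
  ring

theorem grad_X_sub_C (j : Fin n) : grad a (X j - C (a j)) = Pi.single j 1 := by
  classical
  funext i
  rw [grad_apply, map_sub, pderiv_C, sub_zero, pderiv_X]
  rcases eq_or_ne i j with rfl | h
  · simp
  · simp [h, Ne.symm h]

theorem grad_sq {f : MvPolynomial (Fin n) k} (hf : f ∈ RingHom.ker (eval a) ^ 2) : grad a f = 0 := by
  rw [pow_two] at hf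
  induction hf using Submodule.mul_induction_on' with
  | mem_mul_mem p hp q hq =>
    rw [grad_mul, RingHom.mem_ker.1 hp, RingHom.mem_ker.1 hq, zero_smul, zero_smul, add_zero]
  | add p _ q _ hp hq => rw [map_add, hp, hq, add_zero]

theorem mem_sq_of_grad_eq_zero {f : MvPolynomial (Fin n) k} (hf : f ∈ RingHom.ker (eval a))
    (hg : grad a f = 0) : f ∈ RingHom.ker (eval a) ^ 2 := by
  have hmem : f ∈ Ideal.span (Set.range fun j => X j - C (a j)) := ker_eval_eq_span a ▸ hf
  obtain ⟨c, rfl⟩ := (Submodule.mem_span_range_iff_exists_fun _).1 hmem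
  have h1 : ∀ j, eval a (c j) = 0 := by
    intro j
    have := congrFun hg j
    rw [map_sum, Finset.sum_apply] at this
    simp only [smul_eq_mul, grad_mul, grad_X_sub_C] at this
    simpa [Pi.single_apply] using this
  rw [pow_two]
  exact Submodule.sum_mem _ fun j _ => Ideal.mul_mem_mul (RingHom.mem_ker.2 (h1 j)) (by simp)

theorem finrank_cotangent_add_rank (r : ℕ) (F : Fin r → MvPolynomial (Fin n) k)
    (m : Ideal (MvPolynomial (Fin n) k ⧸ Ideal.span (Set.range F))) [m.IsMaximal]
    (hm : m.comap (Ideal.Quotient.mk (Ideal.span (Set.range F))) = RingHom.ker (eval a)) :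
    Module.finrank k m.Cotangent +
      (Matrix.of fun i j => eval a (pderiv j (F i))).rank = n := by
  classical
  set J : Matrix (Fin r) (Fin n) k := Matrix.of fun i j => eval a (pderiv j (F i))
  let rows : Submodule k (Fin n → k) := Submodule.span k (Set.range fun i => grad a (F i))
  have hrows : J.rank = Module.finrank k rows := by
    rw [Matrix.rank_eq_finrank_span_row]
    congr 2
  let mk := Ideal.Quotient.mkₐ k (Ideal.span (Set.range F))
  let P := RingHom.ker (eval a)
  have hIP : Ideal.span (Set.range F) ≤ P := by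
    intro x hx
    rw [show P = m.comap (Ideal.Quotient.mk _) from hm.symm, Ideal.mem_comap,
      Ideal.Quotient.eq_zero_iff_mem.2 hx]
    exact zero_mem m
  have hmem : ∀ f : P, mk f ∈ m := fun f => by
    have : (f : MvPolynomial (Fin n) k) ∈ m.comap (Ideal.Quotient.mk (Ideal.span (Set.range F))) :=
      hm.ge f.2
    exact this
  let Φ : P.restrictScalars k →ₗ[k] (Fin n → k) ⧸ rows :=
    rows.mkQ.comp ((grad a).comp (P.restrictScalars k).subtype)
  let Ψ : P.restrictScalars k →ₗ[k] m.Cotangent :=
    { toFun := fun f => m.toCotangent ⟨mk f, hmem ⟨f, f.2⟩⟩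
      map_add' := fun f g => by
        rw [← map_add]
        congr 1
      map_smul' := fun c f => by
        have : (⟨mk ↑(c • f), hmem ⟨_, (c • f).2⟩⟩ : m) = c • ⟨mk f, hmem ⟨f, f.2⟩⟩ := by
          ext
          simp
        rw [this]
        rfl }
  have hΦ : Function.Surjective Φ := by
    intro y
    obtain ⟨v, rfl⟩ := rows.mkQ_surjective y
    refine ⟨⟨∑ j, C (v j) * (X j - C (a j)), by simp [P]⟩, ?_⟩
    simp only [Φ, LinearMap.comp_apply, Submodule.subtype_apply]
    congr 1
    rw [map_sum]
    funext i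
    simp only [grad_mul, grad_X_sub_C]
    simp [Pi.single_apply]
  have hΨ : Function.Surjective Ψ := by
    intro y
    obtain ⟨⟨y, hy⟩, rfl⟩ := Ideal.toCotangent_surjective m y
    obtain ⟨f, rfl⟩ := Ideal.Quotient.mk_surjective y
    exact ⟨⟨f, hm.le hy⟩, rfl⟩
  have hmap : m ^ 2 = (P ^ 2).map (Ideal.Quotient.mk (Ideal.span (Set.range F))) := by
    rw [Ideal.map_pow, show P = m.comap (Ideal.Quotient.mk _) from hm.symm,
      Ideal.map_comap_of_surjective _ Ideal.Quotient.mk_surjective]
  have hker : LinearMap.ker Φ = LinearMap.ker Ψ := by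
    ext ⟨f, hf⟩
    rw [LinearMap.mem_ker, LinearMap.mem_ker]
    show rows.mkQ (grad a f) = 0 ↔ m.toCotangent ⟨mk f, hmem ⟨f, hf⟩⟩ = 0
    rw [Ideal.toCotangent_eq_zero, Submodule.mkQ_apply, Submodule.Quotient.mk_eq_zero]
    constructor
    · intro h
      obtain ⟨c, hc⟩ := (Submodule.mem_span_range_iff_exists_fun _).1 h
      have h2 : f - ∑ i, c i • F i ∈ P ^ 2 := by
        refine mem_sq_of_grad_eq_zero a (sub_mem hf (Submodule.sum_mem _ fun i _ => ?_)) ?_
        · rw [MvPolynomial.smul_eq_C_mul]
          exact Ideal.mul_mem_left _ _ (hIP (Ideal.subset_span ⟨i, rfl⟩))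
        · rw [map_sub, map_sum, sub_eq_zero, ← hc]
          simp
      show mk f ∈ m ^ 2
      rw [hmap]
      have h3 : mk f = mk (f - ∑ i, c i • F i) := by
        rw [map_sub, map_sum]
        refine (sub_eq_self.2 (Finset.sum_eq_zero fun i _ => ?_)).symm
        rw [map_smul, show mk (F i) = 0 from
          Ideal.Quotient.eq_zero_iff_mem.2 (Ideal.subset_span ⟨i, rfl⟩), smul_zero]
      rw [h3]
      exact Ideal.mem_map_of_mem _ h2
    · intro h
      change mk f ∈ m ^ 2 at h
      rw [hmap] at h
      obtain ⟨g, hg, hgf⟩ := (Ideal.mem_map_iff_of_surjective _ Ideal.Quotient.mk_surjective).1 h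
      have : g - f ∈ Ideal.span (Set.range F) := Ideal.Quotient.eq.1 hgf
      obtain ⟨c, hc⟩ := (Submodule.mem_span_range_iff_exists_fun _).1 this
      have hval : grad a f = -∑ i, eval a (c i) • grad a (F i) := by
        rw [show f = g - ∑ i, c i • F i by rw [hc]; ring, map_sub, grad_sq a hg, map_sum, zero_sub]
        congr 1
        refine Finset.sum_congr rfl fun i _ => ?_
        rw [smul_eq_mul, grad_mul, show eval a (F i) = 0 from hIP (Ideal.subset_span ⟨i, rfl⟩),
          zero_smul, add_zero]
      rw [hval]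
      exact neg_mem (Submodule.sum_mem _ fun i _ => Submodule.smul_mem _ _ (Submodule.subset_span ⟨i, rfl⟩))
  have e := (LinearMap.quotKerEquivOfSurjective Φ hΦ).symm.trans
    ((Submodule.quotEquivOfEq _ _ hker).trans (LinearMap.quotKerEquivOfSurjective Ψ hΨ))
  rw [← e.finrank_eq, hrows, rows.finrank_quotient_add_finrank, Module.finrank_pi, Fintype.card_fin]

end Groth.Agent.CAlg6
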