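import Mathlib
import Groth.Agent.Var76.RegSmooth

/-!
Kähler differentials of essentially finite type local algebras with rational residue field, and regularity.
-/

set_option autoImplicit false
set_option linter.unusedSectionVars false
set_option linter.overlappingInstances false

universe u

namespace Groth.Agent.CAlg6.KaehlerReg

open IsLocalRing

variable (k B : Type u) [Field k] [CommRing B] [Algebra k B] [IsLocalRing B]
  [Algebra.EssFiniteType k B]

include k in
theorem isNoetherianRing_of_essFiniteType : IsNoetherianRing B := Algebra.EssFiniteType.isNoetherianRing k B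

/-- A regular essentially finite type local algebra with rational residue field is formally smooth. -/
theorem formallySmooth_of_regular
    (hres : Function.Surjective (algebraMap k (ResidueField B))) [IsRegularLocalRing B] :
    Algebra.FormallySmooth k B := by
  classical
  let s := Algebra.EssFiniteType.finset k B
  let R := MvPolynomial s k
  let φ : R →ₐ[k] B := MvPolynomial.aeval Subtype.val
  have hrange : φ.range = Algebra.adjoin k (s : Set B) := by
    rw [← Algebra.adjoin_range_eq_range_aeval]
    congr 1
    ext x
    simp
  let Q : Ideal R := (maximalIdeal B).comap φ.toRingHom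
  have : Q.IsPrime := Ideal.IsPrime.comap _
  let P := Localization.AtPrime Q
  have hunit : ∀ q : Q.primeCompl, IsUnit (φ q.1) := fun q => by
    by_contra h
    exact q.2 ((mem_maximalIdeal _).2 h)
  let g : P →+* B := IsLocalization.lift (M := Q.primeCompl) (g := φ.toRingHom) hunit
  let : Algebra P B := g.toAlgebra
  have hg : ∀ r : R, g (algebraMap R P r) = φ r := fun r => IsLocalization.lift_eq _ r
  have : IsScalarTower k P B := IsScalarTower.of_algebraMap_eq fun r => by
    show _ = g (algebraMap k P r)
    rw [IsScalarTower.algebraMap_apply k R P, hg, AlgHom.commutes]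
  have : Algebra.FormallySmooth R P := Algebra.FormallySmooth.of_isLocalization Q.primeCompl
  have : Algebra.FormallySmooth k P := Algebra.FormallySmooth.comp k R P
  have : Algebra.EssFiniteType R P := Algebra.EssFiniteType.of_isLocalization P Q.primeCompl
  have : Algebra.EssFiniteType k P := Algebra.EssFiniteType.comp k R P
  have : IsNoetherianRing P := IsLocalization.isNoetherianRing Q.primeCompl P inferInstance
  have hsurj : Function.Surjective (algebraMap P B) := by
    intro z
    obtain ⟨t, ht, htu, hzt⟩ := (Algebra.essFiniteType_cond_iff k B s).1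
      (Algebra.EssFiniteType.isLocalization (R := k) (S := B)) z
    rw [← hrange] at ht hzt
    obtain ⟨q, hq⟩ := (AlgHom.mem_range _).1 ht
    obtain ⟨a, ha⟩ := (AlgHom.mem_range _).1 hzt
    have hqQ : q ∈ Q.primeCompl := fun hc => (mem_maximalIdeal (φ q)).1 hc (hq ▸ htu)
    refine ⟨IsLocalization.mk' P a ⟨q, hqQ⟩, ?_⟩
    show g _ = z
    rw [IsLocalization.lift_mk'_spec]
    show φ a = φ q * z
    rw [ha, hq, mul_comm]
  have hloc : IsLocalHom (algebraMap P B) := Function.Surjective.isLocalHom _ hsurj
  refine Var76.RegSmooth.formallySmooth_of_surjective (P := P) hsurj fun y => ?_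
  obtain ⟨p, rfl⟩ := residue_surjective y
  obtain ⟨c, hc⟩ := hres (residue B (algebraMap P B p))
  refine ⟨c, ?_⟩
  have h1 : residue B (algebraMap k B c - algebraMap P B p) = 0 := by
    rw [map_sub, sub_eq_zero, ← hc]
    rfl
  rw [residue_eq_zero_iff] at h1
  rw [RingHom.comp_apply, ← sub_eq_zero, ← map_sub, residue_eq_zero_iff, mem_maximalIdeal, mem_nonunits_iff]
  intro hu
  apply (mem_maximalIdeal _).1 h1
  rw [IsScalarTower.algebraMap_apply k P B, ← map_sub]
  exact hu.map _

variable {k B}

/-- A chosen scalar congruent to a ring element modulo the maximal ideal. -/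
theorem exists_sub_mem (hres : Function.Surjective (algebraMap k (ResidueField B))) (b : B) :
    ∃ c : k, b - algebraMap k B c ∈ maximalIdeal B := by
  obtain ⟨c, hc⟩ := hres (residue B b)
  exact ⟨c, by rw [← residue_eq_zero_iff, map_sub, ← hc]; exact sub_self _⟩

variable (k B) in
/-- The differentials surject onto the cotangent space. -/
theorem exists_surjective (hres : Function.Bijective (algebraMap k (ResidueField B))) :
    ∃ f : KaehlerDifferential k B →ₗ[B] CotangentSpace B, Function.Surjective f := by
  choose σ hσ using exists_sub_mem hres.2 (B := B)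
  have huniq : ∀ (b : B) (c : k), b - algebraMap k B c ∈ maximalIdeal B → σ b = c := fun b c hc => by
    apply hres.1
    rw [IsScalarTower.algebraMap_apply k B (ResidueField B), IsScalarTower.algebraMap_apply k B (ResidueField B),
      ← sub_eq_zero, ← map_sub]
    refine (residue_eq_zero_iff _).2 ?_
    have := sub_mem hc (hσ b)
    rwa [sub_sub_sub_cancel_left] at this
  let δ : B → CotangentSpace B := fun b => (maximalIdeal B).toCotangent ⟨b - algebraMap k B (σ b), hσ b⟩
  have hadd : ∀ a b, σ (a + b) = σ a + σ b := fun a b => huniq _ _ (by
    rw [map_add, add_sub_add_comm]; exact add_mem (hσ a) (hσ b))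
  have hsmul : ∀ (c : k) b, σ (c • b) = c * σ b := fun c b => huniq _ _ (by
    rw [map_mul, Algebra.smul_def, ← mul_sub]; exact Ideal.mul_mem_left _ _ (hσ b))
  have hmul : ∀ a b, σ (a * b) = σ a * σ b := fun a b => huniq _ _ (by
    have : a * b - algebraMap k B (σ a * σ b) =
        a * (b - algebraMap k B (σ b)) + algebraMap k B (σ b) * (a - algebraMap k B (σ a)) := by
      rw [map_mul]; ring
    rw [this]; exact add_mem (Ideal.mul_mem_left _ _ (hσ b)) (Ideal.mul_mem_left _ _ (hσ a)))
  let d : B →ₗ[k] CotangentSpace B :=
    { toFun := δ
      map_add' := fun a b => by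
        show δ (a + b) = δ a + δ b
        simp only [δ]
        rw [← map_add]
        congr 1
        ext
        simp [hadd]
        ring
      map_smul' := fun c b => by
        show δ (c • b) = c • δ b
        simp only [δ]
        rw [← algebraMap_smul B c ((maximalIdeal B).toCotangent _), ← map_smul]
        congr 1
        ext
        simp [hsmul]
        simp [Algebra.smul_def, mul_sub] }
  let D : Derivation k B (CotangentSpace B) := Derivation.mk' d fun a b => by
    show δ (a * b) = a • δ b + b • δ a
    simp only [δ]
    rw [← map_smul, ← map_smul, ← map_add, Ideal.toCotangent_eq, pow_two]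
    have : (a * b - algebraMap k B (σ (a * b))) -
        (a * (b - algebraMap k B (σ b)) + b * (a - algebraMap k B (σ a))) =
        - ((a - algebraMap k B (σ a)) * (b - algebraMap k B (σ b))) := by
      rw [hmul, map_mul]; ring
    simp only [Submodule.coe_add, Submodule.coe_smul, smul_eq_mul]
    rw [this]
    exact neg_mem (Ideal.mul_mem_mul (hσ a) (hσ b))
  refine ⟨D.liftKaehlerDifferential, fun y => ?_⟩
  obtain ⟨⟨x, hx⟩, rfl⟩ := (maximalIdeal B).toCotangent_surjective y
  refine ⟨KaehlerDifferential.D k B x, ?_⟩
  rw [Derivation.liftKaehlerDifferential_comp_D]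
  show δ x = _
  simp only [δ]
  congr 1
  ext
  simp [huniq x 0 (by simpa using hx)]

variable (k B) in
/-- The differentials are generated by those of generators of the maximal ideal. -/
theorem span_D_eq_top (hres : Function.Surjective (algebraMap k (ResidueField B)))
    (s : Set B) (hs : Ideal.span s = maximalIdeal B) :
    Submodule.span B (KaehlerDifferential.D k B '' s) = ⊤ := by
  have : Module.Finite B (KaehlerDifferential k B) := inferInstance
  refine eq_top_iff.2 (Submodule.le_of_le_smul_of_le_jacobson_bot (I := maximalIdeal B)
    Module.Finite.fg_top (maximalIdeal_le_jacobson _) ?_)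
  rw [← KaehlerDifferential.span_range_derivation, Submodule.span_le]
  rintro _ ⟨b, rfl⟩
  obtain ⟨c, hc⟩ := exists_sub_mem hres b
  have hD : KaehlerDifferential.D k B b = KaehlerDifferential.D k B (b - algebraMap k B c) := by simp
  rw [SetLike.mem_coe, hD]
  have key : ∀ x ∈ Ideal.span s, KaehlerDifferential.D k B x ∈
      Submodule.span B (KaehlerDifferential.D k B '' s) ⊔
        maximalIdeal B • Submodule.span B (Set.range (KaehlerDifferential.D k B)) := by
    intro x hx
    induction hx using Submodule.span_induction with
    | mem x hx => exact Submodule.mem_sup_left (Submodule.subset_span ⟨x, hx, rfl⟩)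
    | zero => rw [map_zero]; exact zero_mem _
    | add x y _ _ h1 h2 => rw [map_add]; exact add_mem h1 h2
    | smul a x hx h1 =>
      rw [smul_eq_mul, Derivation.leibniz]
      refine add_mem (Submodule.smul_mem _ a h1) (Submodule.mem_sup_right ?_)
      exact Submodule.smul_mem_smul (hs ▸ hx) (Submodule.subset_span ⟨a, rfl⟩)
  rw [KaehlerDifferential.span_range_derivation] at key ⊢
  exact key _ (hs ▸ hc)

variable (k B) in
theorem regular_of_free (hres : Function.Bijective (algebraMap k (ResidueField B))) (d : ℕ)
    (hd : ringKrullDim B = d) [Module.Free B (KaehlerDifferential k B)]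
    (hrk : Module.finrank B (KaehlerDifferential k B) = d) : IsRegularLocalRing B := by
  have := isNoetherianRing_of_essFiniteType k B
  obtain ⟨f, hf⟩ := exists_surjective k B hres
  let b := Module.finBasisOfFinrankEq B (KaehlerDifferential k B) hrk
  rw [IsRegularLocalRing.iff_finrank_cotangentSpace]
  have h1 : Module.finrank (ResidueField B) (CotangentSpace B) ≤ d := by
    have htop : Submodule.span (ResidueField B) (Set.range fun i => f (b i)) = ⊤ := by
      rw [eq_top_iff]
      intro y _
      obtain ⟨w, rfl⟩ := hf y
      rw [← b.sum_repr w, map_sum]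
      refine Submodule.sum_mem _ fun i _ => ?_
      rw [map_smul, ← algebraMap_smul (ResidueField B) (b.repr w i) (f (b i))]
      exact Submodule.smul_mem _ _ (Submodule.subset_span ⟨i, rfl⟩)
    rw [← finrank_top (ResidueField B) (CotangentSpace B), ← htop]
    exact (finrank_range_le_card _).trans (by simp)
  have h2 := ringKrullDim_le_spanFinrank_maximalIdeal (R := B)
  rw [hd, spanFinrank_maximalIdeal_eq_finrank_cotangentSpace] at h2
  rw [hd]
  exact le_antisymm (by exact_mod_cast h1) h2

variable (k B) in
theorem free_of_regular (hres : Function.Bijective (algebraMap k (ResidueField B))) (d : ℕ)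
    (hd : ringKrullDim B = d) [IsRegularLocalRing B] :
    Module.Free B (KaehlerDifferential k B) ∧ Module.finrank B (KaehlerDifferential k B) = d := by
  have := isNoetherianRing_of_essFiniteType k B
  have := formallySmooth_of_regular k B hres.2
  have : Module.FinitePresentation B (KaehlerDifferential k B) := Module.finitePresentation_of_finite B _
  have hfree : Module.Free B (KaehlerDifferential k B) := Module.free_of_flat_of_isLocalRing
  refine ⟨hfree, ?_⟩
  obtain ⟨f, hf⟩ := exists_surjective k B hres
  have h0 := IsRegularLocalRing.spanFinrank_maximalIdeal (R := B)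
  rw [hd] at h0
  have h0' : (maximalIdeal B).spanFinrank = d := by exact_mod_cast h0
  refine le_antisymm ?_ ?_
  · obtain ⟨s, hcard, hspan⟩ := Submodule.FG.exists_span_finset_card_eq_spanFinrank
      (maximalIdeal B).fg_of_isNoetherianRing
    have h := span_D_eq_top k B hres.2 (s : Set B) hspan
    classical
    rw [← finrank_top B (KaehlerDifferential k B), ← h, ← Finset.coe_image, ← h0', ← hcard]
    exact (finrank_span_finset_le_card _).trans Finset.card_image_le
  · have b := Module.Free.chooseBasis B (KaehlerDifferential k B)
    rw [← h0', spanFinrank_maximalIdeal_eq_finrank_cotangentSpace, Module.finrank_eq_card_basis b]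
    have htop : Submodule.span (ResidueField B) (Set.range fun i => f (b i)) = ⊤ := by
      rw [eq_top_iff]
      intro y _
      obtain ⟨w, rfl⟩ := hf y
      rw [← b.sum_repr w, map_sum]
      refine Submodule.sum_mem _ fun i _ => ?_
      rw [map_smul, ← algebraMap_smul (ResidueField B) (b.repr w i) (f (b i))]
      exact Submodule.smul_mem _ _ (Submodule.subset_span ⟨i, rfl⟩)
    rw [← finrank_top (ResidueField B) (CotangentSpace B), ← htop]
    exact finrank_range_le_card _

end Groth.Agent.CAlg6.KaehlerReg
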