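import Mathlib
import Groth.Prelude.Def_LCI2
import Groth.Agent.Koszul19.BaseChange
import Groth.Agent.LC17.KCx

set_option autoImplicit false
universe u
open CategoryTheory TensorProduct
open Groth.Agent.Koszul19
open scoped Pointwise

namespace Groth.Agent.CAlg6.KoszulSqZero

section Cx
variable {B : Type u} [CommRing B] (l : List B)

noncomputable abbrev D (N : Type u) [AddCommGroup N] [Module B N] (i j : ℤ) :
    N ⊗[B] ((Koszul.koszul B l).X i : Type u) →ₗ[B] N ⊗[B] ((Koszul.koszul B l).X j : Type u) :=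
  (dd (Koszul.koszul B l) i j).lTensor N

/-- exactness at `q` with coefficients in `N` -/
def ExN (N : Type u) [AddCommGroup N] [Module B N] (q : ℤ) : Prop :=
  Function.Exact (D l N (q - 1) q) (D l N q (q + 1))

variable {N₁ N₂ N₃ : Type u} [AddCommGroup N₁] [Module B N₁] [AddCommGroup N₂] [Module B N₂]
  [AddCommGroup N₃] [Module B N₃]

lemma D_comm (f : N₁ →ₗ[B] N₂) (i j : ℤ) (x : N₁ ⊗[B] ((Koszul.koszul B l).X i : Type u)) :
    D l N₂ i j (f.rTensor _ x) = f.rTensor _ (D l N₁ i j x) := by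
  rw [D, D, ← LinearMap.comp_apply, ← LinearMap.comp_apply, LinearMap.lTensor_comp_rTensor, LinearMap.rTensor_comp_lTensor]

lemma D_D (N : Type u) [AddCommGroup N] [Module B N] (i j k : ℤ) (x : N ⊗[B] ((Koszul.koszul B l).X i : Type u)) :
    D l N j k (D l N i j x) = 0 := by
  induction x using TensorProduct.induction_on with
  | zero => simp
  | tmul n a => simp [dd_dd]
  | add u v hu hv => rw [map_add, map_add, hu, hv, add_zero]

lemma exN_of_equiv (e : N₁ ≃ₗ[B] N₂) {q : ℤ} (h : ExN l N₁ q) : ExN l N₂ q := by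
  refine (Function.Exact.iff_of_ladder_linearEquiv (e₁ := e.rTensor _) (e₂ := e.rTensor _) (e₃ := e.rTensor _) ?_ ?_).2 h <;>
    exact LinearMap.ext fun z => by simpa using D_comm l e.toLinearMap _ _ z

lemma inj_rTensor (f : N₁ →ₗ[B] N₂) (hf : Function.Injective f) (q : ℤ) :
    Function.Injective (f.rTensor ((Koszul.koszul B l).X q : Type u)) := by
  haveI := (LC17.finite_free_X l q).2
  exact Module.Flat.rTensor_preserves_injective_linearMap f hf

variable (f : N₁ →ₗ[B] N₂) (g : N₂ →ₗ[B] N₃) (hf : Function.Injective f) (hg : Function.Surjective g)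
  (hfg : Function.Exact f g)

include hf hg hfg in
/-- middle term -/
lemma exN_mid {q : ℤ} (h₁ : ExN l N₁ q) (h₃ : ExN l N₃ q) : ExN l N₂ q := by
  intro z
  refine ⟨fun hz => ?_, by rintro ⟨w, rfl⟩; exact D_D l _ _ _ _ w⟩
  obtain ⟨v, hv⟩ := (h₃ (g.rTensor _ z)).1 (by rw [D_comm, hz, map_zero])
  obtain ⟨v', rfl⟩ := LinearMap.rTensor_surjective _ hg v
  obtain ⟨x, hx⟩ := ((rTensor_exact _ hfg hg) (z - D l N₂ _ _ v')).1 (by rw [map_sub, ← hv, D_comm, sub_self])
  have hxc : D l N₁ q (q + 1) x = 0 := inj_rTensor l f hf _ (by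
    rw [← D_comm, hx, map_sub, hz, D_D, sub_zero, map_zero])
  obtain ⟨w, rfl⟩ := (h₁ x).1 hxc
  exact ⟨f.rTensor _ w + v', by rw [map_add, D_comm, hx, sub_add_cancel]⟩

include hf hg hfg in
/-- right term -/
lemma exN_right {q r : ℤ} (hr : q + 1 = r) (h₂ : ExN l N₂ q)
    (h₁ : ∀ x : N₁ ⊗[B] ((Koszul.koszul B l).X r : Type u), D l N₁ r (r + 1) x = 0 →
      f.rTensor _ x ∈ LinearMap.range (D l N₂ q r) → x ∈ LinearMap.range (D l N₁ q r)) :
    ExN l N₃ q := by
  subst hr
  intro z
  refine ⟨fun hz => ?_, by rintro ⟨w, rfl⟩; exact D_D l _ _ _ _ w⟩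
  obtain ⟨y, rfl⟩ := LinearMap.rTensor_surjective _ hg z
  obtain ⟨x, hx⟩ := ((rTensor_exact _ hfg hg) (D l N₂ q (q + 1) y)).1 (by rw [← D_comm, hz])
  obtain ⟨w, rfl⟩ := h₁ x (inj_rTensor l f hf _ (by rw [← D_comm, hx, D_D, map_zero])) ⟨y, hx.symm⟩
  obtain ⟨v, hv⟩ := (h₂ (y - f.rTensor _ w)).1 (by rw [map_sub, D_comm, hx, sub_self])
  refine ⟨g.rTensor _ v, ?_⟩
  rw [D_comm, hv, map_sub, ← LinearMap.rTensor_comp_apply, hfg.linearMap_comp_eq_zero]
  simp

include hf hg hfg in
/-- boundaries are reflected -/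
lemma mem_range_of_map (q : ℤ) (h₃ : ExN l N₃ q) (x : N₁ ⊗[B] ((Koszul.koszul B l).X (q + 1) : Type u))
    (hx : f.rTensor _ x ∈ LinearMap.range (D l N₂ q (q + 1))) : x ∈ LinearMap.range (D l N₁ q (q + 1)) := by
  obtain ⟨y, hy⟩ := hx
  obtain ⟨v, hv⟩ := (h₃ (g.rTensor _ y)).1 (by
    rw [D_comm, hy, ← LinearMap.rTensor_comp_apply, hfg.linearMap_comp_eq_zero]; simp)
  obtain ⟨v', rfl⟩ := LinearMap.rTensor_surjective _ hg v
  obtain ⟨w, hw⟩ := ((rTensor_exact _ hfg hg) (y - D l N₂ _ _ v')).1 (by rw [map_sub, ← hv, D_comm, sub_self])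
  exact ⟨w, inj_rTensor l f hf _ (by rw [← D_comm, hw, map_sub, D_D, sub_zero, hy])⟩

variable (N : Type u) [AddCommGroup N] [Module B N]

noncomputable def zeroEquiv : N ⊗[B] ((Koszul.koszul B l).X 0 : Type u) ≃ₗ[B] N :=
  (LinearEquiv.lTensor N (eps l)).trans (TensorProduct.rid B N)

lemma range_zero : (LinearMap.range (D l N (-1) 0)).map (zeroEquiv l N).toLinearMap = Ideal.ofList l • ⊤ := by
  apply le_antisymm
  · rintro _ ⟨_, ⟨w, rfl⟩, rfl⟩
    induction w using TensorProduct.induction_on with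
    | zero => simp
    | tmul n a =>
      simp only [zeroEquiv, D, LinearMap.lTensor_tmul, LinearEquiv.coe_coe, LinearEquiv.trans_apply,
        LinearEquiv.lTensor_tmul, TensorProduct.rid_tmul]
      exact Submodule.smul_mem_smul ((eps_mem_iff l _).2 ⟨a, rfl⟩) trivial
    | add u v hu hv => simp only [map_add]; exact Submodule.add_mem _ hu hv
  · rw [Submodule.smul_le]
    intro i hi n _
    obtain ⟨w, hw⟩ := (eps_mem_iff l ((eps l).symm i)).1 (by rwa [LinearEquiv.apply_symm_apply])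
    exact ⟨_, ⟨n ⊗ₜ w, rfl⟩, by simp [zeroEquiv, hw]⟩

lemma mem_range_zero (x : N ⊗[B] ((Koszul.koszul B l).X 0 : Type u)) :
    x ∈ LinearMap.range (D l N (-1) 0) ↔ zeroEquiv l N x ∈ Ideal.ofList l • (⊤ : Submodule B N) := by
  rw [← range_zero, Submodule.mem_map_equiv, LinearEquiv.symm_apply_apply]

lemma zeroEquiv_comm (φ : N₁ →ₗ[B] N₂) (x : N₁ ⊗[B] ((Koszul.koszul B l).X 0 : Type u)) :
    zeroEquiv l N₂ (φ.rTensor _ x) = φ (zeroEquiv l N₁ x) := by
  induction x using TensorProduct.induction_on with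
  | zero => simp
  | tmul n a => simp [zeroEquiv]
  | add u v hu hv => simp only [map_add, hu, hv]

lemma exN_flat_tensor (F : Type u) [AddCommGroup F] [Module B F] [Module.Flat B F] {q : ℤ} (h : ExN l N q) :
    ExN l (F ⊗[B] N) q := by
  refine (Function.Exact.iff_of_ladder_linearEquiv (e₁ := (TensorProduct.assoc B F N _).symm) (e₂ := (TensorProduct.assoc B F N _).symm)
    (e₃ := (TensorProduct.assoc B F N _).symm) (f₁₂ := (D l N (q - 1) q).lTensor F) (f₂₃ := (D l N q (q + 1)).lTensor F) ?_ ?_).2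
    (Module.Flat.lTensor_exact F h) <;>
  · refine LinearMap.ext fun z => ?_
    induction z using TensorProduct.induction_on with
    | zero => simp
    | add u v hu hv => simp only [map_add, hu, hv]
    | tmul a b =>
      induction b using TensorProduct.induction_on with
      | zero => simp
      | tmul c d => simp [D]
      | add u v hu hv => simp only [TensorProduct.tmul_add, map_add, hu, hv]

end Cx

section Coef
variable {A B : Type u} [CommRing A] [CommRing B] [Algebra A B] (J : Ideal A)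

/-- `B ⊗ f`, linear over `B` -/
noncomputable abbrev bmap {M M' : Type u} [AddCommMonoid M] [Module A M] [AddCommMonoid M'] [Module A M']
    (f : M →ₗ[A] M') : B ⊗[A] M →ₗ[B] B ⊗[A] M' := f.baseChange B

lemma range_rTensor_ideal (M : Type u) [AddCommGroup M] [Module A M] (I : Ideal B) :
    LinearMap.range ((I.subtype.restrictScalars A).rTensor M) =
      (I • (⊤ : Submodule B (B ⊗[A] M))).restrictScalars A := by
  apply le_antisymm
  · rintro _ ⟨z, rfl⟩
    induction z using TensorProduct.induction_on with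
    | zero => simp
    | tmul i m =>
      rw [LinearMap.rTensor_tmul]
      have : (i : B) ⊗ₜ[A] m = (i : B) • ((1 : B) ⊗ₜ[A] m) := by rw [TensorProduct.smul_tmul', smul_eq_mul, mul_one]
      show (i : B) ⊗ₜ[A] m ∈ I • (⊤ : Submodule B (B ⊗[A] M))
      rw [this]
      exact Submodule.smul_mem_smul i.2 trivial
    | add u v hu hv => rw [map_add]; exact Submodule.add_mem _ hu hv
  · intro z hz
    rw [Submodule.restrictScalars_mem] at hz
    refine Submodule.smul_induction_on hz (fun i hi n hn => ?_) fun u v hu hv => Submodule.add_mem _ hu hv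
    clear hn
    induction n using TensorProduct.induction_on with
    | zero => simp
    | tmul b m => exact ⟨(⟨i * b, I.mul_mem_right b hi⟩ : I) ⊗ₜ m, by simp [TensorProduct.smul_tmul']⟩
    | add u v hu hv => rw [smul_add]; exact Submodule.add_mem _ hu hv

lemma ker_rTensor (M : Type u) [AddCommGroup M] [Module A M] (I : Ideal B) {C : Type u} [AddCommGroup C] [Module A C]
    (q : B →ₗ[A] C) (hq : Function.Surjective q) (hker : LinearMap.ker q = I.restrictScalars A) (z : B ⊗[A] M) :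
    q.rTensor M z = 0 ↔ z ∈ I • (⊤ : Submodule B (B ⊗[A] M)) := by
  have hex : Function.Exact (I.subtype.restrictScalars A) q := by
    intro b
    rw [← LinearMap.mem_ker, hker, Submodule.restrictScalars_mem]
    exact ⟨fun h => ⟨⟨b, h⟩, rfl⟩, by rintro ⟨i, rfl⟩; exact i.2⟩
  rw [rTensor_exact M hex hq z]
  exact (SetLike.ext_iff.1 (range_rTensor_ideal M I) z)

variable (rs : List B)

lemma reflect_of_flat
    (hflat : Module.Flat (A ⧸ J) ((B ⧸ Ideal.map (algebraMap A B) J) ⧸
      Ideal.ofList (rs.map (Ideal.Quotient.mk (Ideal.map (algebraMap A B) J)))))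
    (M M' : Type u) [AddCommGroup M] [Module A M] [Module (A ⧸ J) M] [IsScalarTower A (A ⧸ J) M]
    [AddCommGroup M'] [Module A M'] [Module (A ⧸ J) M'] [IsScalarTower A (A ⧸ J) M']
    (f : M →ₗ[A] M') (hf : Function.Injective f) (x : B ⊗[A] M)
    (hx : bmap f x ∈ Ideal.ofList rs • (⊤ : Submodule B (B ⊗[A] M'))) :
    x ∈ Ideal.ofList rs • (⊤ : Submodule B (B ⊗[A] M)) := by
  let mk := Ideal.Quotient.mk (Ideal.map (algebraMap A B) J)
  let mk₂ := Ideal.Quotient.mk (Ideal.ofList (rs.map mk))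
  let q : B →ₗ[A] (B ⧸ Ideal.map (algebraMap A B) J) ⧸ Ideal.ofList (rs.map mk) :=
    { toFun := fun b => mk₂ (mk b)
      map_add' := fun a b => by rw [map_add, map_add]
      map_smul' := fun a b => by
        rw [Algebra.smul_def a b, map_mul, map_mul, RingHom.id_apply]; exact (Algebra.smul_def a (mk₂ (mk b))).symm }
  have hq : Function.Surjective q := Ideal.Quotient.mk_surjective.comp Ideal.Quotient.mk_surjective
  have hker : LinearMap.ker q = (Ideal.ofList rs ⊔ Ideal.map (algebraMap A B) J).restrictScalars A := by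
    ext b
    rw [LinearMap.mem_ker, Submodule.restrictScalars_mem]
    show mk₂ (mk b) = 0 ↔ _
    rw [Ideal.Quotient.eq_zero_iff_mem, ← Ideal.map_ofList, ← Ideal.mem_comap,
      Ideal.comap_map_of_surjective' _ Ideal.Quotient.mk_surjective, Ideal.mk_ker]
  have hJ : ∀ (N : Type u) [AddCommGroup N] [Module A N] [Module (A ⧸ J) N] [IsScalarTower A (A ⧸ J) N],
      (Ideal.map (algebraMap A B) J) • (⊤ : Submodule B (B ⊗[A] N)) = ⊥ := by
    intro N _ _ _ _
    rw [eq_bot_iff, Submodule.smul_le]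
    intro b hb n hn
    clear hn
    rw [Submodule.mem_bot]
    induction hb using Submodule.span_induction generalizing n with
    | mem b hb =>
      obtain ⟨j, hj, rfl⟩ := hb
      rw [algebraMap_smul]
      induction n using TensorProduct.induction_on with
      | zero => simp
      | tmul c m =>
        rw [← TensorProduct.tmul_smul, ← algebraMap_smul (A ⧸ J) j m, Ideal.Quotient.algebraMap_eq,
          Ideal.Quotient.eq_zero_iff_mem.2 hj, zero_smul, TensorProduct.tmul_zero]
      | add u v hu hv => rw [smul_add, hu, hv, add_zero]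
    | zero => exact zero_smul _ _
    | add u v _ _ hu hv => rw [add_smul, hu, hv, add_zero]
    | smul c u _ hu => rw [smul_eq_mul, mul_comm, mul_smul, hu]
  have hI : ∀ (N : Type u) [AddCommGroup N] [Module A N] [Module (A ⧸ J) N] [IsScalarTower A (A ⧸ J) N]
      (z : B ⊗[A] N), q.rTensor N z = 0 ↔ z ∈ Ideal.ofList rs • (⊤ : Submodule B (B ⊗[A] N)) := by
    intro N _ _ _ _ z
    rw [ker_rTensor N _ q hq hker, Submodule.sup_smul, hJ N, sup_bot_eq]
  rw [← hI M']at hx
  rw [← hI M]
  haveI hcs : ∀ (N : Type u) [AddCommGroup N] [Module A N] [Module (A ⧸ J) N] [IsScalarTower A (A ⧸ J) N],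
      TensorProduct.CompatibleSMul A (A ⧸ J) ((B ⧸ Ideal.map (algebraMap A B) J) ⧸ Ideal.ofList (rs.map mk)) N := by
    intro N _ _ _ _
    refine ⟨fun r m n => ?_⟩
    obtain ⟨a, rfl⟩ := Ideal.Quotient.mk_surjective r
    rw [← Ideal.Quotient.algebraMap_eq, algebraMap_smul, algebraMap_smul, TensorProduct.smul_tmul]
  let eN (N : Type u) [AddCommGroup N] [Module A N] [Module (A ⧸ J) N] [IsScalarTower A (A ⧸ J) N] :
      ((B ⧸ Ideal.map (algebraMap A B) J) ⧸ Ideal.ofList (rs.map mk)) ⊗[A ⧸ J] N ≃ₗ[A]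
        ((B ⧸ Ideal.map (algebraMap A B) J) ⧸ Ideal.ofList (rs.map mk)) ⊗[A] N :=
    (TensorProduct.equivOfCompatibleSMul (A ⧸ J) A A ((B ⧸ Ideal.map (algebraMap A B) J) ⧸ Ideal.ofList (rs.map mk)) N).symm
  let fJ : M →ₗ[A ⧸ J] M' := f.extendScalarsOfSurjective Ideal.Quotient.mk_surjective
  have hcomm : ∀ z, f.lTensor _ (q.rTensor M z) = q.rTensor M' (bmap f z) := by
    intro z
    induction z using TensorProduct.induction_on with
    | zero => simp
    | tmul b m => simp
    | add u v hu hv => simp only [map_add, hu, hv]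
  have h2 : f.lTensor _ (q.rTensor M x) = 0 := by rw [hcomm, hx]
  have hnat : ∀ z, (eN M').symm (f.lTensor _ z) = fJ.lTensor _ ((eN M).symm z) := by
    intro z
    induction z using TensorProduct.induction_on with
    | zero => simp
    | tmul b m => simp [eN, fJ, TensorProduct.equivOfCompatibleSMul]
    | add u v hu hv => simp only [map_add, hu, hv]
  apply (eN M).symm.injective
  apply Module.Flat.lTensor_preserves_injective_linearMap fJ hf
  rw [← hnat, h2, map_zero, map_zero, map_zero]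

variable [Module.Flat A B]

omit [Module.Flat A B] in
lemma exN_quot (hreg : LCI.IsKoszulRegularSeq (B ⧸ Ideal.map (algebraMap A B) J)
      (rs.map (Ideal.Quotient.mk (Ideal.map (algebraMap A B) J)))) {q : ℤ} (hq : q ≠ 0) :
    ExN rs (B ⧸ Ideal.map (algebraMap A B) J) q := by
  have h : Ex (Koszul.koszul (B ⧸ Ideal.map (algebraMap A B) J)
      (rs.map (algebraMap B (B ⧸ Ideal.map (algebraMap A B) J)))) q :=
    (isZero_homology_iff_ex _ q).1 (hreg q hq)
  exact ((bcKoszul rs).exact_iff (q - 1) q (q + 1) (by omega) rfl).1 h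

/-- `B ⊗ (free A/J-module)` is a free `B`-module tensor `B/JB` -/
lemma exN_free (ι : Type u) {q : ℤ} (h : ExN rs (B ⧸ Ideal.map (algebraMap A B) J) q) :
    ExN rs (B ⊗[A] (ι →₀ A ⧸ J)) q := by
  classical
  have e2 : Nonempty (B ⊗[A] (A ⧸ J) ≃ₗ[B] B ⧸ Ideal.map (algebraMap A B) J) := by
    exact ⟨(Algebra.TensorProduct.quotIdealMapEquivTensorQuot B J).toLinearEquiv.symm⟩
  obtain ⟨e2⟩ := e2
  refine exN_of_equiv rs ?_ (exN_flat_tensor rs _ (ι →₀ B) h)
  exact ((TensorProduct.finsuppRight A B B (A ⧸ J) ι).trans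
    ((Finsupp.mapRange.linearEquiv e2).trans
      (TensorProduct.finsuppScalarLeft B (B ⧸ Ideal.map (algebraMap A B) J) ι).symm)).symm

variable (hreg : LCI.IsKoszulRegularSeq (B ⧸ Ideal.map (algebraMap A B) J)
      (rs.map (Ideal.Quotient.mk (Ideal.map (algebraMap A B) J))))
    (hflat : Module.Flat (A ⧸ J) ((B ⧸ Ideal.map (algebraMap A B) J) ⧸
      Ideal.ofList (rs.map (Ideal.Quotient.mk (Ideal.map (algebraMap A B) J)))))

omit hreg hflat in
lemma exN_pres {M₁ F M : Type u} [AddCommGroup M₁] [Module A M₁] [AddCommGroup F] [Module A F] [AddCommGroup M] [Module A M]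
    (f : M₁ →ₗ[A] F) (g : F →ₗ[A] M) (hf : Function.Injective f) (hg : Function.Surjective g) (hfg : Function.Exact f g)
    {q r : ℤ} (hr : q + 1 = r) (hF : ExN rs (B ⊗[A] F) q)
    (h : ∀ x : (B ⊗[A] M₁) ⊗[B] ((Koszul.koszul B rs).X r : Type u), D rs _ r (r + 1) x = 0 →
      (bmap f).rTensor _ x ∈ LinearMap.range (D rs _ q r) → x ∈ LinearMap.range (D rs _ q r)) :
    ExN rs (B ⊗[A] M) q :=
  exN_right rs (bmap f) (bmap g) (Module.Flat.lTensor_preserves_injective_linearMap f hf)
    (LinearMap.lTensor_surjective B hg) (lTensor_exact B hfg hg) hr hF h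

omit hreg in
include hflat in
lemma exN_zero_step (M₁ F M : Type u) [AddCommGroup M₁] [Module A M₁] [Module (A ⧸ J) M₁] [IsScalarTower A (A ⧸ J) M₁]
    [AddCommGroup F] [Module A F] [Module (A ⧸ J) F] [IsScalarTower A (A ⧸ J) F] [AddCommGroup M] [Module A M]
    (f : M₁ →ₗ[A] F) (g : F →ₗ[A] M) (hf : Function.Injective f) (hg : Function.Surjective g) (hfg : Function.Exact f g)
    (hF : ExN rs (B ⊗[A] F) (-1)) : ExN rs (B ⊗[A] M) (-1) := by
  refine exN_pres rs f g hf hg hfg (neg_add_cancel 1) hF fun x _ hx => ?_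
  rw [mem_range_zero, zeroEquiv_comm] at hx
  rw [mem_range_zero]
  exact reflect_of_flat J rs hflat M₁ F f hf _ hx

include hreg hflat in
lemma exN_killed : ∀ (n : ℕ) (M : Type u) [AddCommGroup M] [Module A M] [Module (A ⧸ J) M] [IsScalarTower A (A ⧸ J) M],
    ExN rs (B ⊗[A] M) (-(n + 1 : ℕ) : ℤ) := by
  intro n
  induction n with
  | zero =>
    intro M _ _ _ _
    rw [show (-((0 + 1 : ℕ) : ℤ)) = (-1 : ℤ) by simp]
    let g₀ : (M →₀ A ⧸ J) →ₗ[A ⧸ J] M := Finsupp.linearCombination (A ⧸ J) id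
    exact exN_zero_step J rs hflat (LinearMap.ker g₀) _ M ((LinearMap.ker g₀).subtype.restrictScalars A) (g₀.restrictScalars A)
      Subtype.val_injective (fun m => ⟨Finsupp.single m 1, by simp [g₀]⟩) (LinearMap.exact_subtype_ker_map g₀)
      (exN_free J rs M (exN_quot J rs hreg (by omega)))
  | succ n ih =>
    intro M _ _ _ _
    rw [show (-((n + 1 + 1 : ℕ) : ℤ)) = -((n + 1 : ℕ) : ℤ) - 1 by omega]
    let g₀ : (M →₀ A ⧸ J) →ₗ[A ⧸ J] M := Finsupp.linearCombination (A ⧸ J) id
    refine exN_pres rs (M₁ := LinearMap.ker g₀) ((LinearMap.ker g₀).subtype.restrictScalars A) (g₀.restrictScalars A)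
      Subtype.val_injective (fun m => ⟨Finsupp.single m 1, by simp [g₀]⟩) (LinearMap.exact_subtype_ker_map g₀)
      (sub_add_cancel _ _) (exN_free J rs M (exN_quot J rs hreg (by omega))) fun x hxc _ => ?_
    exact (ih (LinearMap.ker g₀) x).1 hxc

include hreg hflat in
lemma exN_all (hJ : J * J = ⊥) (n : ℕ) (M : Type u) [AddCommGroup M] [Module A M] :
    ExN rs (B ⊗[A] M) (-(n + 1 : ℕ) : ℤ) := by
  let M₁ : Submodule A M := J • ⊤
  have t1 : Module.IsTorsionBySet A M₁ (J : Set A) := by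
    rintro ⟨m, hm⟩ ⟨j, hj⟩
    apply Subtype.ext
    show j • m = 0
    refine Submodule.smul_induction_on hm (fun i hi x _ => ?_) fun u v hu hv => by rw [smul_add, hu, hv, add_zero]
    rw [smul_smul, show j * i = 0 by simpa [hJ] using Ideal.mul_mem_mul hj hi, zero_smul]
  have t2 : Module.IsTorsionBySet A (M ⧸ M₁) (J : Set A) := by
    rintro z ⟨j, hj⟩
    obtain ⟨m, rfl⟩ := Submodule.Quotient.mk_surjective _ z
    show j • _ = 0
    rw [← Submodule.Quotient.mk_smul, Submodule.Quotient.mk_eq_zero]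
    exact Submodule.smul_mem_smul hj trivial
  letI := t1.module
  letI := t2.module
  haveI : IsScalarTower A (A ⧸ J) M₁ := t1.isScalarTower
  haveI : IsScalarTower A (A ⧸ J) (M ⧸ M₁) := t2.isScalarTower
  exact exN_mid rs (bmap M₁.subtype) (bmap M₁.mkQ)
    (Module.Flat.lTensor_preserves_injective_linearMap _ M₁.subtype_injective)
    (LinearMap.lTensor_surjective B M₁.mkQ_surjective)
    (lTensor_exact B (LinearMap.exact_subtype_mkQ M₁) M₁.mkQ_surjective)
    (exN_killed J rs hreg hflat n M₁) (exN_killed J rs hreg hflat n (M ⧸ M₁))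

include hreg hflat in
lemma koszulRegular (hJ : J * J = ⊥) : LCI.IsKoszulRegularSeq B rs := by
  intro q hq
  rw [isZero_homology_iff_ex]
  rcases lt_or_gt_of_ne hq with h | h
  · obtain ⟨n, rfl⟩ : ∃ n : ℕ, q = -((n + 1 : ℕ) : ℤ) := ⟨(-q - 1).toNat, by omega⟩
    have h1 := exN_of_equiv rs (TensorProduct.AlgebraTensorModule.rid A B B) (exN_all J rs hreg hflat hJ n A)
    refine (ex_iff_exact _ _ _ _ (sub_add_cancel _ _) rfl).2 ?_
    exact Module.FaithfullyFlat.lTensor_reflects_exact B B _ _ h1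
  · exact ex_of_bound rs q (Or.inl h)

include hreg hflat in
lemma flat_quotient (hJ : J * J = ⊥) : Module.Flat A (B ⧸ Ideal.ofList rs) := by
  rw [Module.Flat.iff_lTensor_preserves_injective_linearMap]
  intro M M' _ _ _ _ f hf
  let q : B →ₗ[A] B ⧸ Ideal.ofList rs := (Ideal.Quotient.mkₐ A (Ideal.ofList rs)).toLinearMap
  have hq : Function.Surjective q := Ideal.Quotient.mk_surjective
  have hker : LinearMap.ker q = (Ideal.ofList rs).restrictScalars A := by
    ext b; exact Ideal.Quotient.eq_zero_iff_mem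
  rw [← LinearMap.ker_eq_bot, eq_bot_iff]
  intro y hy
  obtain ⟨x, rfl⟩ := LinearMap.rTensor_surjective M hq y
  rw [LinearMap.mem_ker, ← LinearMap.comp_apply, LinearMap.lTensor_comp_rTensor, ← LinearMap.rTensor_comp_lTensor,
    LinearMap.comp_apply, ker_rTensor M' _ q hq hker] at hy
  rw [Submodule.mem_bot, ker_rTensor M _ q hq hker]
  have hx : (bmap f).rTensor _ ((zeroEquiv rs (B ⊗[A] M)).symm x) ∈ LinearMap.range (D rs (B ⊗[A] M') (-1) 0) := by
    rw [mem_range_zero, zeroEquiv_comm, LinearEquiv.apply_symm_apply]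
    exact hy
  rw [← (zeroEquiv rs (B ⊗[A] M)).apply_symm_apply x, ← mem_range_zero]
  have h3 : ExN rs (B ⊗[A] (M' ⧸ LinearMap.range f)) (-1) := by
    simpa using exN_all J rs hreg hflat hJ 0 (M' ⧸ LinearMap.range f)
  exact mem_range_of_map rs (bmap f) (bmap (LinearMap.range f).mkQ)
    (Module.Flat.lTensor_preserves_injective_linearMap f hf)
    (LinearMap.lTensor_surjective B (Submodule.mkQ_surjective _))
    (lTensor_exact B (LinearMap.exact_map_mkQ_range f) (Submodule.mkQ_surjective _)) (-1) h3 _ hx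

end Coef
end Groth.Agent.CAlg6.KoszulSqZero
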