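import Mathlib

/-!
Binomial divisibilities and the expansion of `(1 + π ^ k * x) ^ (p ^ n)`.
-/

set_option autoImplicit false

universe u

namespace Groth.Agent.CAlg6.KummerLevel

open Polynomial

theorem pow_le_mul_add {p n : ℕ} (hp : 1 ≤ p) :
    ∀ d ≤ n, p ^ n ≤ d * (p ^ (n - 1) * (p - 1)) + p ^ (n - d) := by
  intro d
  induction d with
  | zero => simp
  | succ d ih =>
    intro hd
    have h1 := ih (by omega)
    have h2 : p ^ (n - d) = p ^ (n - (d + 1)) + p ^ (n - (d + 1)) * (p - 1) := by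
      rw [show n - d = n - (d + 1) + 1 by omega, pow_succ]
      obtain ⟨t, rfl⟩ := Nat.exists_eq_add_of_le hp
      simp only [Nat.add_sub_cancel_left]
      ring
    have h3 : p ^ (n - (d + 1)) * (p - 1) ≤ p ^ (n - 1) * (p - 1) :=
      Nat.mul_le_mul_right _ (Nat.pow_le_pow_right hp (by omega))
    rw [add_mul, one_mul]
    omega

theorem exists_vp {p n i : ℕ} (hp : p.Prime) (hi : 0 < i) (hin : i < p ^ n) :
    ∃ d, 0 < d ∧ d ≤ n ∧ p ^ (n - d) ≤ i ∧ p ^ d ∣ (p ^ n).choose i := by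
  obtain ⟨s, m, hm, rfl⟩ := Nat.exists_eq_pow_mul_and_not_dvd hi.ne' p hp.ne_one
  have hm0 : 0 < m := Nat.pos_of_ne_zero fun h => hm (h ▸ dvd_zero p)
  have hs : s < n := by
    by_contra hc
    push Not at hc
    exact absurd hin (not_lt.2 ((Nat.pow_le_pow_right hp.pos hc).trans (Nat.le_mul_of_pos_right _ hm0)))
  refine ⟨n - s, by omega, by omega, ?_, ?_⟩
  · rw [show n - (n - s) = s by omega]
    exact Nat.le_mul_of_pos_right _ hm0
  · have h1 : p ^ n ∣ (p ^ n).choose (p ^ s * m) * (p ^ s * m) := by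
      obtain ⟨a, ha⟩ : ∃ a, p ^ n = a + 1 := ⟨p ^ n - 1, by have := Nat.one_le_pow n p hp.pos; omega⟩
      obtain ⟨b, hb⟩ : ∃ b, p ^ s * m = b + 1 := ⟨p ^ s * m - 1, by omega⟩
      rw [ha, hb, ← Nat.add_one_mul_choose_eq]
      exact dvd_mul_right _ _
    rw [show p ^ n = p ^ s * p ^ (n - s) by rw [← pow_add]; congr 1; omega] at h1
    have h2 : p ^ s * p ^ (n - s) ∣ p ^ s * ((p ^ s * p ^ (n - s)).choose (p ^ s * m) * m) := by
      rw [show p ^ s * ((p ^ s * p ^ (n - s)).choose (p ^ s * m) * m) =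
        (p ^ s * p ^ (n - s)).choose (p ^ s * m) * (p ^ s * m) by ring]
      exact h1
    have h3 := (Nat.mul_dvd_mul_iff_left (pow_pos hp.pos s)).1 h2
    rw [show p ^ n = p ^ s * p ^ (n - s) by rw [← pow_add]; congr 1; omega]
    exact (Nat.Coprime.pow_left _ ((hp.coprime_iff_not_dvd).2 hm)).dvd_of_dvd_mul_right h3

variable {R : Type u} [CommRing R] {ϖ : R} {p n j : ℕ}

theorem dvd_choose_mul (hp : p.Prime) (hj : ϖ ^ (p ^ (n - 1) * (p - 1) * (j + 1)) ∣ (p : R))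
    {i : ℕ} (hi : 0 < i) (hin : i < p ^ n) :
    ϖ ^ ((j + 1) * p ^ n) ∣ ((p ^ n).choose i : R) * ϖ ^ ((j + 1) * i) ∧
      ϖ ^ (j * p ^ n + 1) ∣ ((p ^ n).choose i : R) * ϖ ^ (j * i) := by
  obtain ⟨d, hd0, hdn, hdi, hdvd⟩ := exists_vp hp hi hin
  set c := p ^ (n - 1) * (p - 1)
  have hc : 0 < c := Nat.mul_pos (pow_pos hp.pos _) (by have := hp.two_le; omega)
  have hle : p ^ n ≤ d * c + i := by
    have h0 : p ^ n ≤ d * c + p ^ (n - d) := pow_le_mul_add hp.pos d hdn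
    omega
  have h1 : ϖ ^ (c * (j + 1) * d) ∣ ((p ^ n).choose i : R) := by
    obtain ⟨e, he⟩ := hdvd
    rw [he, Nat.cast_mul, Nat.cast_pow, pow_mul]
    exact (pow_dvd_pow_of_dvd hj d).trans (dvd_mul_right _ _)
  constructor
  · refine (pow_dvd_pow ϖ ?_).trans (pow_add ϖ (c * (j + 1) * d) ((j + 1) * i) ▸ mul_dvd_mul_right h1 _)
    calc (j + 1) * p ^ n ≤ (j + 1) * (d * c + i) := Nat.mul_le_mul_left _ hle
      _ = _ := by ring
  · refine (pow_dvd_pow ϖ ?_).trans (pow_add ϖ (c * (j + 1) * d) (j * i) ▸ mul_dvd_mul_right h1 _)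
    have h2 : j * p ^ n ≤ j * (d * c + i) := Nat.mul_le_mul_left _ hle
    have h3 : 0 < d * c := Nat.mul_pos hd0 hc
    nlinarith

/-- Both expansions. -/
theorem exists_expansion (hp : p.Prime) (hn : 0 < n)
    (hj : ϖ ^ (p ^ (n - 1) * (p - 1) * (j + 1)) ∣ (p : R)) :
    (∃ P : R[X], P.degree < ((p ^ n : ℕ) : WithBot ℕ) ∧ ∀ (B : Type u) [CommRing B] [Algebra R B] (x : B),
      (1 + algebraMap R B ϖ ^ (j + 1) * x) ^ p ^ n =
        1 + algebraMap R B ϖ ^ ((j + 1) * p ^ n) * (x ^ p ^ n + aeval x P)) ∧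
    ∃ P : R[X], P.degree < ((p ^ n : ℕ) : WithBot ℕ) ∧ ∀ (B : Type u) [CommRing B] [Algebra R B] (x : B),
      (1 + algebraMap R B ϖ ^ j * x) ^ p ^ n =
        1 + algebraMap R B ϖ ^ (j * p ^ n) * (x ^ p ^ n + algebraMap R B ϖ * aeval x P) := by
  classical
  have hq : 0 < p ^ n := pow_pos hp.pos _
  have hmem : ∀ i ∈ Finset.Ico 1 (p ^ n), 0 < i ∧ i < p ^ n := fun i hi => by
    rw [Finset.mem_Ico] at hi; omega
  choose a ha using fun i (hi : i ∈ Finset.Ico 1 (p ^ n)) =>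
    (dvd_choose_mul hp hj (hmem i hi).1 (hmem i hi).2).1
  choose b hb using fun i (hi : i ∈ Finset.Ico 1 (p ^ n)) =>
    (dvd_choose_mul hp hj (hmem i hi).1 (hmem i hi).2).2
  have hdeg : ∀ c : ∀ i ∈ Finset.Ico 1 (p ^ n), R,
      (∑ i ∈ (Finset.Ico 1 (p ^ n)).attach, C (c i.1 i.2) * X ^ i.1).degree < ((p ^ n : ℕ) : WithBot ℕ) :=
    fun c => (degree_sum_le _ _).trans_lt ((Finset.sup_lt_iff (WithBot.bot_lt_coe _)).2 fun i _ =>
      (degree_C_mul_X_pow_le _ _).trans_lt (WithBot.coe_lt_coe.2 (hmem i.1 i.2).2))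
  have hsum : ∀ (B : Type u) [CommRing B] (t : B), (1 + t) ^ p ^ n =
      1 + t ^ p ^ n + ∑ i ∈ (Finset.Ico 1 (p ^ n)).attach, t ^ i.1 * ((p ^ n).choose i.1 : B) := by
    intro B _ t
    rw [add_comm (1 : B) t, add_pow, Finset.sum_range_succ, Finset.range_eq_Ico,
      Finset.sum_eq_sum_Ico_succ_bot hq, Finset.sum_attach _ fun i => t ^ i * ((p ^ n).choose i : B)]
    simp only [one_pow, mul_one, pow_zero, Nat.choose_zero_right, Nat.cast_one, Nat.choose_self, zero_add]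
    ring
  refine ⟨⟨_, hdeg a, fun B _ _ x => ?_⟩, ⟨_, hdeg b, fun B _ _ x => ?_⟩⟩
  · rw [hsum B, mul_pow, ← pow_mul, mul_add, map_sum, Finset.mul_sum, add_assoc]
    congr 2
    refine Finset.sum_congr rfl fun i _ => ?_
    have h := congrArg (algebraMap R B) (ha i.1 i.2)
    simp only [map_mul, map_pow, map_natCast] at h
    rw [aeval_mul, aeval_C, map_pow, aeval_X, mul_pow, ← pow_mul]
    linear_combination (x ^ (i : ℕ)) * h
  · rw [hsum B, mul_pow, ← pow_mul, mul_add, map_sum, Finset.mul_sum, Finset.mul_sum, add_assoc]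
    congr 2
    refine Finset.sum_congr rfl fun i _ => ?_
    have h := congrArg (algebraMap R B) (hb i.1 i.2)
    simp only [map_mul, map_pow, map_natCast] at h
    rw [aeval_mul, aeval_C, map_pow, aeval_X, mul_pow, ← pow_mul]
    linear_combination (x ^ (i : ℕ)) * h

end Groth.Agent.CAlg6.KummerLevel
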