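import Mathlib

/-!
Lengths of quotients by two relatively prime elements: additivity, and the length of the cokernel of
`A ⧸ (∏ fᵢ) → ∏ A ⧸ (fᵢ)`.
-/

set_option autoImplicit false

universe u

namespace Groth.Agent.CAlg6.LengthPairs

variable {A : Type u} [CommRing A] [IsDomain A] [DecompositionMonoid A]

theorem length_mul {f g h : A} (hg : IsRelPrime h g) :
    Module.length A (A ⧸ Ideal.span ({f * h, g} : Set A)) =
      Module.length A (A ⧸ Ideal.span ({f, g} : Set A)) +
        Module.length A (A ⧸ Ideal.span ({h, g} : Set A)) := by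
  have hle : Ideal.span ({f, g} : Set A) ≤
      Submodule.comap (LinearMap.mulLeft A h) (Ideal.span ({f * h, g} : Set A)) := by
    intro x hx
    obtain ⟨a, b, rfl⟩ := Ideal.mem_span_pair.1 hx
    exact Ideal.mem_span_pair.2 ⟨a, h * b, by simp only [LinearMap.mulLeft_apply]; ring⟩
  have hle2 : Ideal.span ({f * h, g} : Set A) ≤ Ideal.span ({h, g} : Set A) := by
    intro x hx
    obtain ⟨a, b, rfl⟩ := Ideal.mem_span_pair.1 hx
    exact Ideal.mem_span_pair.2 ⟨a * f, b, by ring⟩
  refine Module.length_eq_add_of_exact (Submodule.mapQ _ _ (LinearMap.mulLeft A h) hle)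
    (Submodule.factor hle2) ?_ ?_ ?_
  · rw [← LinearMap.ker_eq_bot, LinearMap.ker_eq_bot']
    intro y hy
    induction y using Submodule.Quotient.induction_on with
    | H a =>
      rw [Submodule.mapQ_apply, Submodule.Quotient.mk_eq_zero, Ideal.mem_span_pair] at hy
      obtain ⟨c, d, hcd⟩ := hy
      rw [LinearMap.mulLeft_apply] at hcd
      have : g ∣ h * (a - c * f) := ⟨d, by linear_combination -hcd⟩
      obtain ⟨t, ht⟩ := (hg.symm).dvd_of_dvd_mul_left this
      rw [Submodule.Quotient.mk_eq_zero, Ideal.mem_span_pair]
      exact ⟨c, t, by linear_combination -ht⟩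
  · exact Submodule.factor_surjective hle2
  · intro y
    induction y using Submodule.Quotient.induction_on with
    | H a =>
      constructor
      · intro hy
        rw [Submodule.factor, Submodule.mapQ_apply, LinearMap.id_apply, Submodule.Quotient.mk_eq_zero,
          Ideal.mem_span_pair] at hy
        obtain ⟨c, d, hcd⟩ := hy
        refine ⟨Submodule.Quotient.mk c, ?_⟩
        rw [Submodule.mapQ_apply, LinearMap.mulLeft_apply, Submodule.Quotient.eq, Ideal.mem_span_pair]
        exact ⟨0, -d, by linear_combination -hcd⟩
      · rintro ⟨x, hx⟩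
        induction x using Submodule.Quotient.induction_on with
        | H c =>
          rw [Submodule.mapQ_apply] at hx
          rw [← hx, Submodule.factor, Submodule.mapQ_apply, LinearMap.id_apply,
            Submodule.Quotient.mk_eq_zero, LinearMap.mulLeft_apply]
          exact Ideal.mul_mem_right _ _ (Ideal.subset_span (by simp))

theorem length_prod {ι : Type*} (s : Finset ι) (f : ι → A) {g : A}
    (hg : ∀ i ∈ s, IsRelPrime (f i) g) :
    Module.length A (A ⧸ Ideal.span ({∏ i ∈ s, f i, g} : Set A)) =
      ∑ i ∈ s, Module.length A (A ⧸ Ideal.span ({f i, g} : Set A)) := by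
  classical
  induction s using Finset.induction_on with
  | empty =>
    rw [Finset.prod_empty, Finset.sum_empty]
    have h1 : Ideal.span ({1, g} : Set A) = ⊤ :=
      Ideal.eq_top_of_isUnit_mem _ (Ideal.subset_span (by simp)) isUnit_one
    have : Subsingleton (A ⧸ Ideal.span ({1, g} : Set A)) := Ideal.Quotient.subsingleton_iff.2 h1
    exact Module.length_eq_zero
  | insert a t ha ih =>
    rw [Finset.prod_insert ha, Finset.sum_insert ha,
      length_mul (IsRelPrime.prod_left fun i hi => hg i (Finset.mem_insert_of_mem hi)),
      ih fun i hi => hg i (Finset.mem_insert_of_mem hi)]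

/-- The diagonal map to the product of the quotients. -/
def diag {n : ℕ} (f : Fin n → A) : A →ₗ[A] (i : Fin n) → A ⧸ Ideal.span {f i} :=
  LinearMap.pi fun i => Submodule.mkQ (Ideal.span {f i})

omit [IsDomain A] [DecompositionMonoid A] in
theorem diag_eq_zero_iff {n : ℕ} (f : Fin n → A) (x : A) :
    diag f x = 0 ↔ ∀ i, f i ∣ x := by
  simp [diag, funext_iff, Ideal.Quotient.eq_zero_iff_dvd, Ideal.mem_span_singleton]

omit [IsDomain A] in
theorem prod_dvd_iff {n : ℕ} (f : Fin n → A) (hf : ∀ i j, i ≠ j → IsRelPrime (f i) (f j)) (x : A) :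
    (∏ i, f i) ∣ x ↔ ∀ i, f i ∣ x :=
  ⟨fun h i => (Finset.dvd_prod_of_mem f (Finset.mem_univ i)).trans h,
    fun h => Finset.prod_dvd_of_isRelPrime (fun i _ j _ hij => hf i j hij) fun i _ => h i⟩

theorem length_coker {n : ℕ} (f : Fin n → A) (hf : ∀ i j, i ≠ j → IsRelPrime (f i) (f j)) :
    Module.length A (((i : Fin n) → A ⧸ Ideal.span {f i}) ⧸ LinearMap.range (diag f)) =
      ∑ p ∈ (Finset.univ : Finset (Fin n × Fin n)) with p.1 < p.2,
        Module.length A (A ⧸ Ideal.span ({f p.1, f p.2} : Set A)) := by
  induction n with
  | zero => simp [Module.length_eq_zero]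
  | succ n ih =>
    let f' : Fin n → A := fun i => f i.succ
    have hf' : ∀ i j, i ≠ j → IsRelPrime (f' i) (f' j) :=
      fun i j hij => hf _ _ fun h => hij (Fin.succ_inj.1 h)
    let tail : ((i : Fin (n + 1)) → A ⧸ Ideal.span {f i}) →ₗ[A]
        ((i : Fin n) → A ⧸ Ideal.span {f' i}) :=
      LinearMap.pi fun i => LinearMap.proj i.succ
    have htail : ∀ x, tail (diag f x) = diag f' x := fun x => rfl
    let head : A →ₗ[A] (i : Fin (n + 1)) → A ⧸ Ideal.span {f i} :=
      LinearMap.single A (fun i => A ⧸ Ideal.span {f i}) 0 ∘ₗ Submodule.mkQ _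
    have hle1 : Ideal.span ({∏ i, f' i, f 0} : Set A) ≤ (LinearMap.range (diag f)).comap head := by
      rw [Ideal.span_le, Set.insert_subset_iff, Set.singleton_subset_iff]
      refine ⟨⟨∏ i, f' i, ?_⟩, ⟨0, ?_⟩⟩
      · funext i
        cases i using Fin.cases with
        | zero => simp [diag, head]
        | succ i =>
          have : (f i.succ) ∣ ∏ i, f' i := Finset.dvd_prod_of_mem f' (Finset.mem_univ i)
          simpa [diag, head, Fin.succ_ne_zero, ← map_prod, Ideal.Quotient.eq_zero_iff_dvd] using this
      · rw [map_zero]
        symm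
        simp [head, Ideal.Quotient.eq_zero_iff_dvd, Ideal.mem_span_singleton]
    have hle2 : LinearMap.range (diag f) ≤ (LinearMap.range (diag f')).comap tail := by
      rintro _ ⟨x, rfl⟩
      exact ⟨x, (htail x).symm⟩
    have hexact := Module.length_eq_add_of_exact (R := A)
      (Submodule.mapQ _ _ head hle1) (Submodule.mapQ _ _ tail hle2) ?_ ?_ ?_
    rotate_left
    · rw [← LinearMap.ker_eq_bot, LinearMap.ker_eq_bot']
      intro y hy
      induction y using Submodule.Quotient.induction_on with
      | H a =>
        rw [Submodule.mapQ_apply, Submodule.Quotient.mk_eq_zero] at hy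
        obtain ⟨x, hx⟩ := hy
        have h1 : ∀ i, f' i ∣ x := by
          intro i
          have := congrFun hx i.succ
          refine (Ideal.Quotient.eq_zero_iff_dvd _ _).1 ?_
          simpa [diag, head, Fin.succ_ne_zero, f'] using this
        obtain ⟨t, ht⟩ := (prod_dvd_iff f' hf' x).2 h1
        have h2 : a - x ∈ Ideal.span {f 0} := by
          rw [← Submodule.Quotient.eq]
          simpa [diag, head] using (congrFun hx 0).symm
        obtain ⟨s, hs⟩ := Ideal.mem_span_singleton.1 h2
        rw [Submodule.Quotient.mk_eq_zero, Ideal.mem_span_pair]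
        exact ⟨t, s, by linear_combination -ht - hs⟩
    · intro y
      induction y using Submodule.Quotient.induction_on with
      | H z =>
        choose w hw using fun i => Submodule.Quotient.mk_surjective _ (z i)
        refine ⟨Submodule.Quotient.mk (Fin.cons (α := fun i => A ⧸ Ideal.span {f i}) 0 z), ?_⟩
        rw [Submodule.mapQ_apply]
        congr 1
    · intro y
      induction y using Submodule.Quotient.induction_on with
      | H z =>
        constructor
        · intro hy
          rw [Submodule.mapQ_apply, Submodule.Quotient.mk_eq_zero] at hy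
          obtain ⟨x, hx⟩ := hy
          obtain ⟨a, ha⟩ := Submodule.Quotient.mk_surjective _ (z 0)
          refine ⟨Submodule.Quotient.mk (a - x), ?_⟩
          rw [Submodule.mapQ_apply, Submodule.Quotient.eq]
          refine ⟨-x, ?_⟩
          funext i
          cases i using Fin.cases with
          | zero =>
            simp [diag, head, ← ha]
          | succ i =>
            have := congrFun hx i
            change Submodule.Quotient.mk x = z i.succ at this
            simp [diag, head, Fin.succ_ne_zero, ← this]
        · rintro ⟨x, hx⟩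
          induction x using Submodule.Quotient.induction_on with
          | H a =>
            rw [Submodule.mapQ_apply] at hx
            rw [← hx, Submodule.mapQ_apply]
            have : tail (head a) = 0 := by
              funext i
              simp [tail, head, Fin.succ_ne_zero]
            rw [this, Submodule.Quotient.mk_zero]
    rw [hexact, ih f' hf', Finset.sum_filter, Finset.sum_filter, Fintype.sum_prod_type,
      Fintype.sum_prod_type, Fin.sum_univ_succ]
    simp only [Fin.sum_univ_succ, lt_self_iff_false, if_false, zero_add, Fin.succ_lt_succ_iff,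
      Fin.succ_pos, if_true, Fin.not_lt_zero]
    congr 1
    rw [length_prod _ _ fun i _ => hf _ _ (Fin.succ_ne_zero i)]
    refine Finset.sum_congr rfl fun i _ => ?_
    rw [Set.pair_comm]

end Groth.Agent.CAlg6.LengthPairs
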