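import Mathlib
import Groth.Agent.S11091
import Groth.Agent.SGA3a.FiniteComplete

/-!
Finite Dedekind extensions of complete discrete valuation rings.
-/

set_option autoImplicit false
set_option linter.unusedSectionVars false

universe u

attribute [local instance] FractionRing.liftAlgebra

open UniqueFactorizationMonoid

namespace Groth.Agent.CAlg6.LocalExt

variable (A B : Type u) [CommRing A] [IsDomain A] [IsDiscreteValuationRing A]
    [IsAdicComplete (IsLocalRing.maximalIdeal A) A]
    [CommRing B] [IsDedekindDomain B] [Algebra A B] [Module.Finite A B] [Module.IsTorsionFree A B]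
    [Algebra.IsSeparable (FractionRing A) (FractionRing B)]

include A in
theorem isLocalRing : IsLocalRing B :=
  IsLocalRing.of_unique_max_ideal (Groth.Agent.S11091.result A B)

variable {A B} (M : Ideal B) [hM : M.IsMaximal]

include A in
theorem eq_of_isMaximal {Q : Ideal B} (hQ : Q.IsMaximal) : Q = M :=
  (Groth.Agent.S11091.result A B).unique hQ hM

omit hM in
theorem injective_algebraMap : Function.Injective (algebraMap A B) :=
  Module.isTorsionFree_iff_algebraMap_injective.1 inferInstance

omit hM in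
include A in
theorem not_isField : ¬ IsField B := fun h => by
  have := isField_of_isIntegral_of_isField (injective_algebraMap (A := A) (B := B)) h
  exact IsDiscreteValuationRing.not_isField A this

include A in
theorem ne_bot : M ≠ ⊥ := Ring.ne_bot_of_isMaximal_of_not_isField hM (not_isField (A := A))

include A in
theorem normalizedFactors_eq {J : Ideal B} (hJ : J ≠ ⊥) :
    normalizedFactors J = Multiset.replicate ((normalizedFactors J).count M) M := by
  classical
  rw [Multiset.eq_replicate]
  have hall : ∀ Q ∈ normalizedFactors J, Q = M := fun Q hQ =>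
    eq_of_isMaximal (A := A) M
      ((Ideal.isPrime_of_prime (prime_of_normalized_factor Q hQ)).isMaximal (prime_of_normalized_factor Q hQ).ne_zero)
  exact ⟨(Multiset.count_eq_card.2 fun x hx => (hall x hx).symm).symm, hall⟩

include A in
theorem eq_pow {J : Ideal B} (hJ : J ≠ ⊥) :
    J = M ^ (normalizedFactors J).count M := by
  classical
  conv_lhs => rw [← associated_iff_eq.1 (prod_normalizedFactors hJ), normalizedFactors_eq (A := A) M hJ]
  rw [Multiset.prod_replicate]

include A in
theorem exists_uniformizer : ∃ π : B, M = Ideal.span {π} := by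
  obtain ⟨π, hπ, hπ2⟩ := SetLike.exists_of_lt (Ideal.pow_right_strictAnti M (ne_bot (A := A) M) hM.ne_top
    (show 1 < 2 by norm_num))
  replace hπ : π ∈ M := by simpa using hπ
  replace hπ2 : π ∉ M ^ 2 := hπ2
  refine ⟨π, le_antisymm ?_ ((Ideal.span_singleton_le_iff_mem _).2 hπ)⟩
  have h0 : Ideal.span {π} ≠ ⊥ := by
    rw [Ne, Ideal.span_singleton_eq_bot]
    rintro rfl
    exact hπ2 (zero_mem _)
  have h1 := eq_pow (A := A) M h0
  rw [h1]
  generalize (normalizedFactors (Ideal.span {π})).count M = k at h1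
  rcases k with _ | _ | k
  · rw [pow_zero, Ideal.one_eq_top]; exact le_top
  · rw [pow_one]
  · exact absurd ((Ideal.pow_le_pow_right (by omega : 2 ≤ k + 1 + 1)) (h1 ▸ Ideal.mem_span_singleton_self π)) hπ2

/-- The ramification index times the inertia degree is the rank. -/
theorem ramification_mul_inertia :
    M.ramificationIdx A * M.inertiaDeg A = Module.finrank A B := by
  classical
  set m := IsLocalRing.maximalIdeal A
  have hone : ∀ Q : m.primesOver B, Q.1 = M := fun Q => by
    obtain ⟨Q, hQ, hQm⟩ := Q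
    exact eq_of_isMaximal (A := A) M (Ideal.IsMaximal.of_liesOver_isMaximal Q m)
  have hMm : M ∈ m.primesOver B :=
    ⟨hM.isPrime, ⟨(IsLocalRing.eq_maximalIdeal (Ideal.isMaximal_comap_of_isIntegral_of_isMaximal (R := A) M)).symm⟩⟩
  have : Unique (m.primesOver B) := ⟨⟨⟨M, hMm⟩⟩, fun Q => Subtype.ext (hone Q)⟩
  have h := Ideal.sum_ramification_inertia_eq_finrank (R := A) m B
  rw [Fintype.sum_unique] at h
  rwa [hone default] at h

theorem ramificationIdx_pos : 0 < M.ramificationIdx A := by
  have h := ramification_mul_inertia (A := A) M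
  have : 0 < Module.finrank A B := Module.finrank_pos
  rcases Nat.eq_zero_or_pos (M.ramificationIdx A) with h0 | h0
  · rw [h0, zero_mul] at h; omega
  · exact h0

theorem map_maximalIdeal_eq :
    (IsLocalRing.maximalIdeal A).map (algebraMap A B) = M ^ M.ramificationIdx A := by
  classical
  set m := IsLocalRing.maximalIdeal A
  have hne : m.map (algebraMap A B) ≠ ⊥ :=
    (Ideal.map_eq_bot_iff_of_injective injective_algebraMap).not.2 (IsDiscreteValuationRing.not_a_field A)
  have : M.LiesOver m :=
    ⟨(IsLocalRing.eq_maximalIdeal (Ideal.isMaximal_comap_of_isIntegral_of_isMaximal (R := A) M)).symm⟩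
  rw [Ideal.IsDedekindDomain.ramificationIdx_eq_normalizedFactors_count m M hne]
  exact eq_pow (A := A) M hne

/-- `v(N x) = f · w(x)`. -/
theorem emultiplicity_intNorm (x : B) (hx : x ≠ 0) :
    emultiplicity (IsLocalRing.maximalIdeal A) (Ideal.span {Algebra.intNorm A B x}) =
      (M.inertiaDeg A : ℕ∞) * emultiplicity M (Ideal.span {x}) := by
  classical
  obtain ⟨t, ht⟩ := IsDiscreteValuationRing.exists_irreducible A
  have hm : IsLocalRing.maximalIdeal A = Ideal.span {t} := ht.maximalIdeal_eq
  obtain ⟨π, hπ⟩ := exists_uniformizer (A := A) M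
  let N := Algebra.intNorm A B
  have hN0 : ∀ z : B, z ≠ 0 → N z ≠ 0 := fun z hz => Algebra.intNorm_ne_zero.2 hz
  have hπ0 : π ≠ 0 := by
    rintro rfl
    exact ne_bot (A := A) M (by rw [hπ, Ideal.span_singleton_eq_bot])
  set f := M.inertiaDeg A
  obtain ⟨a, ua, hua⟩ := IsDiscreteValuationRing.eq_unit_mul_pow_irreducible (hN0 π hπ0) ht
  have hassoc : ∀ (z : B) (k : ℕ), Ideal.span {z} = M ^ k → Ideal.span {N z} = IsLocalRing.maximalIdeal A ^ (k * a) := by
    intro z k hz
    rw [hπ, Ideal.span_singleton_pow, Ideal.span_singleton_eq_span_singleton] at hz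
    have h1 : Associated (N z) (t ^ (k * a)) := by
      refine (hz.map N).trans ?_
      rw [map_pow, mul_comm k a, pow_mul, hua, mul_pow]
      exact associated_unit_mul_left _ _ (ua.isUnit.pow k)
    rw [hm, Ideal.span_singleton_pow, Ideal.span_singleton_eq_span_singleton]
    exact h1
  have hmprime : Prime (IsLocalRing.maximalIdeal A) :=
    Ideal.prime_of_isPrime (IsDiscreteValuationRing.not_a_field A) inferInstance
  have hMprime : Prime M := Ideal.prime_of_isPrime (ne_bot (A := A) M) hM.isPrime
  have ha : a = f := by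
    have h1 : Ideal.span {algebraMap A B t} = M ^ M.ramificationIdx A := by
      rw [← map_maximalIdeal_eq (A := A) M, hm, Ideal.map_span, Set.image_singleton]
    have h2 := hassoc _ _ h1
    have h3 : N (algebraMap A B t) = t ^ Module.finrank A B := by
      show Algebra.intNorm A B _ = _
      rw [Algebra.intNorm_eq_norm, Algebra.norm_algebraMap_of_basis (Module.Free.chooseBasis A B),
        Module.finrank_eq_card_chooseBasisIndex]
    rw [h3, ← Ideal.span_singleton_pow, ← hm] at h2
    have h4 := (Ideal.pow_right_strictAnti _ (IsDiscreteValuationRing.not_a_field A)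
      (IsLocalRing.maximalIdeal.isMaximal A).ne_top).injective h2
    rw [← ramification_mul_inertia (A := A) M] at h4
    exact (Nat.eq_of_mul_eq_mul_left (ramificationIdx_pos (A := A) M) h4).symm
  have hx0 : Ideal.span {x} ≠ ⊥ := by rwa [Ne, Ideal.span_singleton_eq_bot]
  obtain ⟨n, hn⟩ : ∃ n, Ideal.span {x} = M ^ n := ⟨_, eq_pow (A := A) M hx0⟩
  rw [hassoc x n hn, hn, emultiplicity_pow_self hmprime.ne_zero hmprime.not_unit,
    emultiplicity_pow_self hMprime.ne_zero hMprime.not_unit, ha, mul_comm n f, Nat.cast_mul]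

/-- Coefficient elements: the algebraic closure of a perfect ground field surjects onto the residue field. -/
theorem existsUnique_algebraic_lift (K : Type u) [Field K] [PerfectField K] [Algebra K A] [Algebra K B]
    [IsScalarTower K A B] (hK : Function.Bijective ((IsLocalRing.residue A).comp (algebraMap K A))) (b : B) :
    ∃! c : B, IsAlgebraic K c ∧ b - c ∈ M := by
  set m := IsLocalRing.maximalIdeal A
  have : M.LiesOver m :=
    ⟨(IsLocalRing.eq_maximalIdeal (Ideal.isMaximal_comap_of_isIntegral_of_isMaximal (R := A) M)).symm⟩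
  have : Module.Finite K (A ⧸ m) :=
    Module.Finite.of_surjective (Algebra.linearMap K (A ⧸ m)) fun z => hK.2 z
  have : Module.Finite (A ⧸ m) (B ⧸ M) := Module.Finite.of_restrictScalars_finite A _ _
  have : IsScalarTower K (A ⧸ m) (B ⧸ M) := IsScalarTower.of_algebraMap_eq fun k => by
    show Ideal.Quotient.mk M (algebraMap K B k) = Ideal.Quotient.mk M (algebraMap A B (algebraMap K A k))
    rw [← IsScalarTower.algebraMap_apply]
  have : Module.Finite K (B ⧸ M) := Module.Finite.trans (A ⧸ m) (B ⧸ M)
  letI : Field (B ⧸ M) := Ideal.Quotient.field M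
  set g := minpoly K (Ideal.Quotient.mk M b)
  have hint : IsIntegral K (Ideal.Quotient.mk M b) := IsIntegral.of_finite K _
  set J := m.map (algebraMap A B)
  have hJM : J = M ^ M.ramificationIdx A := map_maximalIdeal_eq (A := A) M
  have hJle : J ≤ M := hJM ▸ Ideal.pow_le_self (ramificationIdx_pos (A := A) M).ne'
  have := Groth.Agent.SGA3a.isAdicComplete_map_of_finite (A := A) B
  have hcomp : IsAdicComplete J B := this
  have hnil : ∀ z : B, z ∈ M → IsNilpotent (Ideal.Quotient.mk J z) := fun z hz =>
    ⟨M.ramificationIdx A, by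
      rw [← map_pow, Ideal.Quotient.eq_zero_iff_mem, hJM]; exact Ideal.pow_mem_pow hz _⟩
  let τ : (B ⧸ J) →ₐ[K] B ⧸ M := Ideal.Quotient.factorₐ K hJle
  have hg0 : IsNilpotent (Polynomial.aeval (Ideal.Quotient.mk J b) g) := by
    obtain ⟨z, hz⟩ := Ideal.Quotient.mk_surjective (Polynomial.aeval (Ideal.Quotient.mk J b) g)
    rw [← hz]
    refine hnil z (Ideal.Quotient.eq_zero_iff_mem.1 ?_)
    calc Ideal.Quotient.mk M z = τ (Ideal.Quotient.mk J z) := rfl
      _ = τ (Polynomial.aeval (Ideal.Quotient.mk J b) g) := by rw [hz]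
      _ = Polynomial.aeval (Ideal.Quotient.mk M b) g := (Polynomial.aeval_algHom_apply τ _ g).symm
      _ = 0 := minpoly.aeval _ _
  have hgu : ∀ c : B ⧸ J, τ c = Ideal.Quotient.mk M b → IsUnit (Polynomial.aeval c g.derivative) := by
    intro c hc
    obtain ⟨z, hz⟩ := Ideal.Quotient.mk_surjective (Polynomial.aeval c g.derivative)
    rw [← hz]
    have hzM : z ∉ M := fun hzM => by
      have h0 : Polynomial.aeval (Ideal.Quotient.mk M b) g.derivative = 0 := by
        rw [← hc, Polynomial.aeval_algHom_apply, ← hz]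
        exact Ideal.Quotient.eq_zero_iff_mem.2 hzM
      exact (PerfectField.separable_of_irreducible (minpoly.irreducible hint)).aeval_derivative_ne_zero
        (minpoly.aeval _ _) h0
    have : IsLocalRing B := isLocalRing A B
    refine IsUnit.map _ ?_
    by_contra hu
    exact hzM ((IsLocalRing.eq_maximalIdeal hM).symm ▸ (IsLocalRing.mem_maximalIdeal z).2 hu)
  obtain ⟨r, ⟨hrn, hr⟩, -⟩ := Polynomial.existsUnique_nilpotent_sub_and_aeval_eq_zero hg0 (hgu _ rfl)
  obtain ⟨r0, rfl⟩ := Ideal.Quotient.mk_surjective r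
  have hτr : τ (Ideal.Quotient.mk J r0) = Ideal.Quotient.mk M b := by
    have h := hrn.map τ
    rw [map_sub] at h
    exact (sub_eq_zero.1 h.eq_zero).symm
  have hev : (g.map (algebraMap K B)).eval r0 ∈ J := by
    rw [Polynomial.eval_map, ← Polynomial.aeval_def, ← Ideal.Quotient.eq_zero_iff_mem,
      ← Ideal.Quotient.mkₐ_eq_mk K, ← Polynomial.aeval_algHom_apply]
    exact hr
  have hder : IsUnit (Ideal.Quotient.mk J ((g.map (algebraMap K B)).derivative.eval r0)) := by
    rw [Polynomial.derivative_map, Polynomial.eval_map, ← Polynomial.aeval_def,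
      ← Ideal.Quotient.mkₐ_eq_mk K, ← Polynomial.aeval_algHom_apply]
    exact hgu _ hτr
  obtain ⟨c, hc, hcr⟩ := HenselianRing.is_henselian (I := J) (g.map (algebraMap K B))
    ((minpoly.monic hint).map _) r0 hev hder
  refine ⟨c, ⟨⟨g, minpoly.ne_zero hint, ?_⟩, ?_⟩, ?_⟩
  · rw [Polynomial.IsRoot, Polynomial.eval_map, ← Polynomial.aeval_def] at hc
    exact hc
  · rw [← Ideal.Quotient.eq]
    rw [← hτr, ← Ideal.Quotient.eq.2 hcr]
    rfl
  · rintro c' ⟨hc', hbc'⟩
    have hz : c' - c ∈ M := by
      have h2 : b - c ∈ M := by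
        rw [← Ideal.Quotient.eq, ← hτr, ← Ideal.Quotient.eq.2 hcr]; rfl
      have := sub_mem h2 hbc'
      simpa using this
    have halg : IsIntegral K (c' - c) := by
      refine (isAlgebraic_iff_isIntegral.1 hc').sub (isAlgebraic_iff_isIntegral.1 ⟨g, minpoly.ne_zero hint, ?_⟩)
      rw [Polynomial.IsRoot, Polynomial.eval_map, ← Polynomial.aeval_def] at hc
      exact hc
    by_contra hne
    have h0 : c' - c ≠ 0 := sub_ne_zero.2 hne
    let U := Algebra.adjoin K ({c' - c} : Set B)
    have : Algebra.IsIntegral K U := Algebra.IsIntegral.adjoin fun x hx => hx ▸ halg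
    have hU : IsField U := isField_of_isIntegral_of_isField' (Field.toIsField K)
    obtain ⟨w, hw⟩ := hU.mul_inv_cancel (a := ⟨_, Algebra.self_mem_adjoin_singleton K _⟩)
      fun e => h0 (congrArg Subtype.val e)
    exact hM.ne_top (M.eq_top_of_isUnit_mem hz (IsUnit.of_mul_eq_one (w : B) (congrArg Subtype.val hw)))

include A in
/-- Hensel: a simple root modulo `M` lifts. -/
theorem exists_root (g : Polynomial B) (hg : g.Monic) (r0 : B) (h0 : g.eval r0 ∈ M)
    (h1 : g.derivative.eval r0 ∉ M) : ∃ c : B, g.IsRoot c ∧ c - r0 ∈ M := by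
  have : IsLocalRing B := isLocalRing A B
  set m := IsLocalRing.maximalIdeal A
  set J := m.map (algebraMap A B)
  have hJM : J = M ^ M.ramificationIdx A := map_maximalIdeal_eq (A := A) M
  have hJle : J ≤ M := hJM ▸ Ideal.pow_le_self (ramificationIdx_pos (A := A) M).ne'
  have hcomp : IsAdicComplete J B := Groth.Agent.SGA3a.isAdicComplete_map_of_finite (A := A) B
  have hunit : ∀ z : B, z ∉ M → IsUnit (Ideal.Quotient.mk J z) := fun z hz => IsUnit.map _ (by
    by_contra hu
    exact hz ((IsLocalRing.eq_maximalIdeal hM).symm ▸ (IsLocalRing.mem_maximalIdeal z).2 hu))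
  have hev : ∀ (q : Polynomial B) (x : B),
      Polynomial.aeval (Ideal.Quotient.mk J x) q = Ideal.Quotient.mk J (q.eval x) :=
    fun q x => Polynomial.aeval_algebraMap_apply_eq_algebraMap_eval x q
  obtain ⟨r, ⟨hrn, hr⟩, -⟩ := Polynomial.existsUnique_nilpotent_sub_and_aeval_eq_zero (P := g)
    (x := Ideal.Quotient.mk J r0)
    (by rw [hev]; exact ⟨M.ramificationIdx A, by
          rw [← map_pow, Ideal.Quotient.eq_zero_iff_mem, hJM]; exact Ideal.pow_mem_pow h0 _⟩)
    (by rw [hev]; exact hunit _ h1)
  obtain ⟨r1, rfl⟩ := Ideal.Quotient.mk_surjective r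
  have hr1 : r1 - r0 ∈ M := by
    obtain ⟨k, hk⟩ := hrn
    rw [← map_sub, ← map_pow, Ideal.Quotient.eq_zero_iff_mem] at hk
    have h := neg_mem (hM.isPrime.mem_of_pow_mem k (hJle hk))
    simpa using h
  have hd : g.derivative.eval r1 ∉ M := fun hd => h1 (by
    have h := sub_mem hd ((Ideal.span_singleton_le_iff_mem _).2 hr1
      (Ideal.mem_span_singleton.2 (Polynomial.sub_dvd_eval_sub r1 r0 g.derivative)))
    simpa using h)
  rw [hev, Ideal.Quotient.eq_zero_iff_mem] at hr
  obtain ⟨c, hc, hcr⟩ := HenselianRing.is_henselian (I := J) g hg r1 hr (hunit _ hd)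
  refine ⟨c, hc, ?_⟩
  simpa using add_mem (hJle hcr) hr1

include A in
theorem notMem_sq {u : B} (hu : M = Ideal.span {u}) : u ∉ M ^ 2 := fun h =>
  (Ideal.pow_right_strictAnti M (ne_bot (A := A) M) hM.ne_top (show 1 < 2 by norm_num)).not_ge
    (by simp only [pow_one]; exact hu.le.trans ((Ideal.span_singleton_le_iff_mem _).2 h))

/-- A totally tamely ramified extension is generated by a root of a uniformizer. -/
theorem exists_root_uniformizer (hram : M.ramificationIdx A = Module.finrank A B)
    (hn : IsUnit ((Module.finrank A B : ℕ) : A)) :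
    ∃ u : B, u ∈ M ∧ u ∉ M ^ 2 ∧ u ^ Module.finrank A B ∈ (algebraMap A B).range ∧
      (minpoly A u).natDegree = Module.finrank A B := by
  have : IsLocalRing B := isLocalRing A B
  set m := IsLocalRing.maximalIdeal A
  set n := Module.finrank A B
  have hn0 : 0 < n := Module.finrank_pos
  have hL : M.LiesOver m :=
    ⟨(IsLocalRing.eq_maximalIdeal (Ideal.isMaximal_comap_of_isIntegral_of_isMaximal (R := A) M)).symm⟩
  have hres : ∀ z : B, ∃ a : A, z - algebraMap A B a ∈ M := by
    have hf : M.inertiaDeg A = 1 := by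
      have h := ramification_mul_inertia (A := A) M
      rw [hram] at h
      exact Nat.eq_of_mul_eq_mul_left hn0 (h.trans (Nat.mul_one n).symm)
    rw [Ideal.inertiaDeg_eq_of_isMaximal m M] at hf
    let _ : Field (A ⧸ m) := Ideal.Quotient.field m
    have htop := Subalgebra.bot_eq_top_of_finrank_eq_one hf
    intro z
    have hz : Ideal.Quotient.mk M z ∈ (⊥ : Subalgebra (A ⧸ m) (B ⧸ M)) := htop ▸ Algebra.mem_top
    obtain ⟨c, hc⟩ := hz
    obtain ⟨a, rfl⟩ := Ideal.Quotient.mk_surjective c
    exact ⟨a, Ideal.Quotient.eq.1 hc.symm⟩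
  obtain ⟨π, hπ⟩ := exists_uniformizer (A := A) M
  obtain ⟨t, ht⟩ := IsDiscreteValuationRing.exists_irreducible A
  have hm : m = Ideal.span {t} := ht.maximalIdeal_eq
  have hspan : Ideal.span {algebraMap A B t} = Ideal.span {π ^ n} := by
    rw [← Ideal.span_singleton_pow, ← hπ, ← hram, ← map_maximalIdeal_eq (A := A) M]
    show _ = m.map _
    rw [hm, Ideal.map_span, Set.image_singleton]
  obtain ⟨v, hv⟩ := Ideal.span_singleton_eq_span_singleton.1 hspan
  obtain ⟨k, hk⟩ := hres v
  have hkM : algebraMap A B k ∉ M := fun h => hM.ne_top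
    (M.eq_top_of_isUnit_mem (by simpa using add_mem hk h) v.isUnit)
  have hku : IsUnit k := by
    by_contra hku
    exact hkM (Ideal.mem_comap.1 ((M.over_def m).le ((IsLocalRing.mem_maximalIdeal k).2 hku)))
  obtain ⟨k', hk'⟩ := hku.exists_left_inv
  set w : B := v * algebraMap A B k'
  have hw : w - 1 ∈ M := by
    have h1 : algebraMap A B k * algebraMap A B k' = 1 := by rw [← map_mul, mul_comm, hk', map_one]
    have h2 := M.mul_mem_right (algebraMap A B k') hk
    rwa [sub_mul, h1] at h2
  have hnM : ((n : ℕ) : B) ∉ M := fun h => hM.ne_top (M.eq_top_of_isUnit_mem h (by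
    have h2 := hn.map (algebraMap A B)
    rwa [map_natCast] at h2))
  obtain ⟨z, hz, hz1⟩ := exists_root (A := A) M (Polynomial.X ^ n - Polynomial.C w)
    (Polynomial.monic_X_pow_sub_C w hn0.ne') 1
    (by simpa using (neg_mem hw : -(w - 1) ∈ M)) (by simpa [Polynomial.derivative_X_pow] using hnM)
  have hzw : z ^ n = w := by
    simpa [Polynomial.IsRoot, sub_eq_zero] using hz
  have hzu : IsUnit z := by
    by_contra hzu
    have h := sub_mem ((IsLocalRing.eq_maximalIdeal hM).symm ▸ (IsLocalRing.mem_maximalIdeal z).2 hzu) hz1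
    exact hM.ne_top ((Ideal.eq_top_iff_one _).2 (by simpa using h))
  obtain ⟨z', hz'⟩ := hzu.exists_left_inv
  set u := π * z'
  have hassoc : M = Ideal.span {u} := by
    rw [hπ, Ideal.span_singleton_eq_span_singleton]
    exact ⟨(IsUnit.of_mul_eq_one z hz').unit, rfl⟩
  have hu : u ^ n = algebraMap A B (k * t) := by
    have h1 : π ^ n = algebraMap A B t * v := hv.symm
    have h2 : (v : B) = w * algebraMap A B k := by
      show (v : B) = v * algebraMap A B k' * algebraMap A B k
      rw [mul_assoc, ← map_mul, hk', map_one, mul_one]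
    calc u ^ n = π ^ n * z' ^ n := mul_pow _ _ _
      _ = algebraMap A B t * algebraMap A B k * (z ^ n * z' ^ n) := by rw [h1, h2, hzw]; ring
      _ = algebraMap A B (k * t) := by
        rw [← mul_pow, mul_comm z z', hz', one_pow, mul_one, map_mul, mul_comm]
  have huM : u ∈ M := hassoc.ge (Ideal.mem_span_singleton_self u)
  refine ⟨u, huM, notMem_sq (A := A) M hassoc, ⟨k * t, hu.symm⟩, ?_⟩
  have hkt : Irreducible (k * t) := (irreducible_isUnit_mul hku).2 ht
  have hmkt : m = Ideal.span {k * t} := hkt.maximalIdeal_eq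
  have heis : (Polynomial.X ^ n - Polynomial.C (k * t)).IsEisensteinAt m := by
    refine ⟨?_, fun {i} hi => ?_, ?_⟩
    · rw [(Polynomial.monic_X_pow_sub_C _ hn0.ne').leadingCoeff]
      exact fun h => (IsLocalRing.maximalIdeal.isMaximal A).ne_top ((Ideal.eq_top_iff_one _).2 h)
    · rw [Polynomial.natDegree_X_pow_sub_C] at hi
      rw [Polynomial.coeff_sub, Polynomial.coeff_X_pow, if_neg hi.ne, zero_sub, Polynomial.coeff_C, hmkt]
      split_ifs
      · exact neg_mem (Ideal.mem_span_singleton_self _)
      · simp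
    · rw [Polynomial.coeff_sub, Polynomial.coeff_X_pow, if_neg hn0.ne, zero_sub, Polynomial.coeff_C, if_pos rfl,
        hmkt, Ideal.span_singleton_pow, neg_mem_iff, Ideal.mem_span_singleton]
      intro h
      rw [pow_two] at h
      exact hkt.not_isUnit (isUnit_of_dvd_one ((mul_dvd_mul_iff_left hkt.ne_zero).1 (by simpa using h)))
  have hmon := Polynomial.monic_X_pow_sub_C (k * t) hn0.ne'
  have hirr : Irreducible (Polynomial.X ^ n - Polynomial.C (k * t)) :=
    heis.irreducible (IsLocalRing.maximalIdeal.isMaximal A).isPrime hmon.isPrimitive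
      (by rw [Polynomial.natDegree_X_pow_sub_C]; exact hn0)
  have hroot : Polynomial.aeval u (Polynomial.X ^ n - Polynomial.C (k * t)) = 0 := by
    rw [map_sub, map_pow, Polynomial.aeval_X, Polynomial.aeval_C, hu, sub_self]
  have hint : IsIntegral A u := Algebra.IsIntegral.isIntegral u
  have hdvd := minpoly.isIntegrallyClosed_dvd hint hroot
  have hass : Associated (minpoly A u) (Polynomial.X ^ n - Polynomial.C (k * t)) :=
    (minpoly.irreducible hint).associated_of_dvd hirr hdvd
  rw [Polynomial.eq_of_monic_of_associated (minpoly.monic hint) hmon hass, Polynomial.natDegree_X_pow_sub_C]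

end Groth.Agent.CAlg6.LocalExt
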