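import Mathlib

/-!
Logarithmic connections on trivial bundles on the affine line: pole order reduction.
-/

set_option autoImplicit false
set_option linter.unusedSectionVars false

universe u

open Polynomial

namespace Groth.Agent.CAlg6.LogConn

variable {R : Type u} [CommRing R] {d r : ℕ} (θ : Fin r → R)

/-- `∏_{k ≠ i} (θ i - θ k)`. -/
def coefAt (i : Fin r) : R := ∏ k ∈ Finset.univ.erase i, (θ i - θ k)

theorem isUnit_coefAt (hθ : ∀ i k, i ≠ k → IsUnit (θ i - θ k)) (i : Fin r) : IsUnit (coefAt θ i) :=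
  IsUnit.prod_iff.2 fun k hk => hθ i k (Finset.ne_of_mem_erase hk).symm

theorem eval_theta (i : Fin r) : (∏ k, (X - C (θ k))).eval (θ i) = 0 := by
  rw [Polynomial.eval_prod]
  exact Finset.prod_eq_zero (Finset.mem_univ i) (by simp)

theorem eval_derivative_prod (i : Fin r) :
    (derivative (∏ k, (X - C (θ k)))).eval (θ i) = coefAt θ i := by
  classical
  rw [← Finset.mul_prod_erase _ _ (Finset.mem_univ i), derivative_mul, eval_add, eval_mul, eval_mul]
  simp [coefAt, Polynomial.eval_prod]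

/-- A tuple of polynomials vanishing at all `θ i` is a multiple of `∏ (X - θ i)`. -/
theorem dvd_of_eval_eq_zero (hθ : ∀ i k, i ≠ k → IsUnit (θ i - θ k)) (q : R[X]) (hq : ∀ i, q.eval (θ i) = 0) :
    (∏ k, (X - C (θ k))) ∣ q := by
  refine Fintype.prod_dvd_of_coprime (fun i k hik => ?_) fun i => dvd_iff_isRoot.2 (hq i)
  exact isCoprime_X_sub_C_of_isUnit_sub (hθ i k hik)

/-- Interpolation. -/
theorem exists_eval_eq (hθ : ∀ i k, i ≠ k → IsUnit (θ i - θ k)) (c : Fin r → R) :
    ∃ q : R[X], ∀ i, q.eval (θ i) = c i := by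
  classical
  refine ⟨∑ k, C (c k * ↑((isUnit_coefAt θ hθ k).unit⁻¹)) * ∏ j ∈ Finset.univ.erase k, (X - C (θ j)), fun i => ?_⟩
  rw [eval_finsetSum, Finset.sum_eq_single i]
  · rw [eval_mul, eval_C, Polynomial.eval_prod]
    simp only [eval_sub, eval_X, eval_C]
    rw [mul_assoc]
    show c i * (↑((isUnit_coefAt θ hθ i).unit⁻¹) * coefAt θ i) = c i
    rw [IsUnit.val_inv_mul, mul_one]
  · intro k _ hki
    rw [eval_mul, Polynomial.eval_prod,
      Finset.prod_eq_zero (Finset.mem_erase.2 ⟨hki.symm, Finset.mem_univ i⟩) (by simp), mul_zero]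
  · exact fun h => absurd (Finset.mem_univ i) h

/-- Evaluation of a tuple. -/
def evalAt (i : Fin r) (v : Fin d → R[X]) : Fin d → R := fun j => (v j).eval (θ i)

variable (D₀ : (Fin d → R[X]) →+ (Fin d → R[X]))
  (hD₀ : ∀ (p : R[X]) (v : Fin d → R[X]),
      D₀ (p • v) = ((∏ i, (X - C (θ i))) * derivative p) • v + p • D₀ v)
  (Res : Fin r → ((Fin d → R) →ₗ[R] (Fin d → R)))
  (hRes : ∀ (i : Fin r) (m : Fin d → R) (j : Fin d),
      (D₀ (fun j => C (m j)) j).eval (θ i) = coefAt θ i * Res i m j)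

include hD₀ hRes in
/-- The value of `D₀ v` at `θ i`. -/
theorem eval_D₀ (i : Fin r) (v : Fin d → R[X]) :
    evalAt θ i (D₀ v) = coefAt θ i • Res i (evalAt θ i v) := by
  classical
  have key : ∀ (p : R[X]) (m : Fin d → R), evalAt θ i (D₀ (p • fun j => C (m j))) =
      coefAt θ i • Res i (p.eval (θ i) • m) := fun p m => by
    funext j
    simp only [evalAt, hD₀, Pi.add_apply, Pi.smul_apply, smul_eq_mul, eval_add, eval_mul, eval_theta θ i, hRes,
      map_smul]
    ring
  have hv : v = ∑ k, v k • fun j => C ((Pi.single k (1 : R) : Fin d → R) j) := by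
    funext j
    simp only [Finset.sum_apply, Pi.smul_apply, smul_eq_mul]
    rw [Finset.sum_eq_single j]
    · simp
    · intro k _ hk
      rw [Pi.single_eq_of_ne' hk, map_zero, mul_zero]
    · exact fun h => absurd (Finset.mem_univ j) h
  have hv' : evalAt θ i v = ∑ k, (v k).eval (θ i) • (Pi.single k (1 : R) : Fin d → R) :=
    pi_eq_sum_univ' (evalAt θ i v)
  rw [hv', map_sum, Finset.smul_sum]
  conv_lhs => rw [hv, map_sum]
  funext j
  simp only [evalAt, Finset.sum_apply, eval_finsetSum]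
  exact Finset.sum_congr rfl fun k _ => congrFun (key (v k) _) j

/-- `D₀ - n Θ'`, the numerator of the action on `v / Θ ^ n`. -/
noncomputable def pole (n : ℕ) (v : Fin d → R[X]) : Fin d → R[X] :=
  D₀ v - ((n : R[X]) * derivative (∏ i, (X - C (θ i)))) • v

include hD₀ hRes in
theorem eval_pole (n : ℕ) (i : Fin r) (v : Fin d → R[X]) :
    evalAt θ i (pole θ D₀ n v) =
      coefAt θ i • (Res i - algebraMap R _ (n : R)) (evalAt θ i v) := by
  funext j
  have h := congrFun (eval_D₀ θ D₀ hD₀ Res hRes i v) j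
  simp only [evalAt, pole, Pi.sub_apply, Pi.smul_apply, smul_eq_mul, eval_sub, eval_mul, eval_natCast,
    eval_derivative_prod, LinearMap.sub_apply, Module.algebraMap_end_apply] at h ⊢
  rw [h]; ring

variable [Algebra ℂ R]

/-- If the characteristic polynomial is constant and `n` is not a root, `Res - n` is bijective. -/
theorem isUnit_sub (f : (Fin d → R) →ₗ[R] (Fin d → R)) (χ : ℂ[X]) (hf : f.charpoly = χ.map (algebraMap ℂ R))
    (n : ℕ) (hn : χ.eval (n : ℂ) ≠ 0) : IsUnit (f - algebraMap R _ (n : R)) := by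
  have hA : IsUnit (LinearMap.toMatrix' (f - algebraMap R _ (n : R))) := by
    rw [Matrix.isUnit_iff_isUnit_det, ← Matrix.isUnit_iff_isUnit_det, ← IsUnit.neg_iff, Matrix.isUnit_iff_isUnit_det]
    have h : (f.charpoly).eval (n : R) = (-LinearMap.toMatrix' (f - algebraMap R _ (n : R))).det := by
      rw [← LinearMap.charpoly_toMatrix f (Pi.basisFun R (Fin d)), LinearMap.toMatrix_eq_toMatrix',
        Matrix.eval_charpoly, map_sub, neg_sub]
      congr 2
      exact (AlgEquiv.commutes LinearMap.toMatrixAlgEquiv' (n : R)).symm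
    rw [← h, hf, eval_map, ← map_natCast (algebraMap ℂ R), eval₂_at_apply]
    exact (Ne.isUnit hn).map _
  exact (isUnit_map_iff (LinearMap.toMatrixAlgEquiv' (R := R) (n := Fin d)) _).1 hA

end Groth.Agent.CAlg6.LogConn
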