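import Mathlib
import Groth.Agent.FBase64.Geometric
import Groth.Agent.SpFP87.IntegralDim

/-! An open set containing the maximal points of the fibres of a field extension of a scheme. -/

set_option autoImplicit false
universe u
open CategoryTheory CategoryTheory.Limits AlgebraicGeometry Topology

noncomputable section

namespace Groth.Agent.CAlg6.MaxPts

theorem isOpen_dense {X Y G : Scheme.{u}} (π : X ⟶ G) (r : X ⟶ Y) (q : Y ⟶ G) (hπ : r ≫ q = π)
    [GeometricallyIrreducible r] [UniversallyOpen r] [IsIntegralHom q]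
    [TopologicalSpace.NoetherianSpace Y] (W : X.Opens) (hW : Dense (W : Set X)) :
    IsOpen {g : G | ∀ z : ↥(π.base ⁻¹' {g}), closure {z} ∈ irreducibleComponents ↥(π.base ⁻¹' {g}) → z.1 ∈ W} ∧
      Dense {g : G | ∀ z : ↥(π.base ⁻¹' {g}), closure {z} ∈ irreducibleComponents ↥(π.base ⁻¹' {g}) → z.1 ∈ W} := by
  subst hπ
  have hq : ∀ {a b : Y}, a ⤳ b → q a = q b → a = b := fun h e => SpFP87.eq_of_specializes_of_integral q h e
  let O : Y.Opens := ⟨r '' W, r.isOpenMap _ W.isOpen⟩
  have hU : {g : G | ∀ z : ↥((r ≫ q).base ⁻¹' {g}),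
      closure {z} ∈ irreducibleComponents ↥((r ≫ q).base ⁻¹' {g}) → z.1 ∈ W} = (q '' (O : Set Y)ᶜ)ᶜ := by
    ext g
    constructor
    · rintro hg ⟨h, hh, rfl⟩
      obtain ⟨x, rfl⟩ := r.surjective h
      let x' : ↥((r ≫ q).base ⁻¹' {q (r x)}) := ⟨x, rfl⟩
      let e := (r ≫ q).fiberHomeo (q (r x))
      let C := irreducibleComponent x'
      haveI : QuasiSober ↥((r ≫ q).base ⁻¹' {q (r x)}) := e.symm.isClosedEmbedding.quasiSober
      obtain ⟨z, hz⟩ := QuasiSober.sober (isIrreducible_irreducibleComponent (x := x')) isClosed_irreducibleComponent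
      have hzW : z.1 ∈ W := hg z (by
        rw [hz.def]; exact irreducibleComponent_mem_irreducibleComponents x')
      have hsp : z ⤳ x' := hz.specializes mem_irreducibleComponent
      have hsp' : r z.1 ⤳ r x := (hsp.map continuous_subtype_val).map r.continuous
      exact hh ⟨z.1, hzW, hq hsp' z.2⟩
    · intro hg z hz
      by_contra hzW
      have hzO : r z.1 ∈ O := by
        by_contra hzO
        exact hg ⟨r z.1, hzO, z.2⟩
      obtain ⟨w, hwW, hw⟩ := hzO
      let T : Set ↥((r ≫ q).base ⁻¹' {g}) := Subtype.val ⁻¹' (r ⁻¹' {r z.1})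
      have hsub : (r ⁻¹' {r z.1} : Set X) ⊆ (r ≫ q).base ⁻¹' {g} := fun y hy => by
        show q (r y) = g
        rw [show r y = r z.1 from hy]; exact z.2
      have hT : IsPreirreducible T := by
        have hirr := (r.isIrreducible_preimage r.isOpenMap (isIrreducible_singleton (x := r z.1))).isPreirreducible
        rintro u v hu hv ⟨a, haT, hau⟩ ⟨b, hbT, hbv⟩
        obtain ⟨u', hu', rfl⟩ := isOpen_induced_iff.1 hu
        obtain ⟨v', hv', rfl⟩ := isOpen_induced_iff.1 hv
        obtain ⟨y, hy, hyu, hyv⟩ := hirr u' v' hu' hv' ⟨a.1, haT, hau⟩ ⟨b.1, hbT, hbv⟩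
        exact ⟨⟨y, hsub hy⟩, hy, hyu, hyv⟩
      have hcl : closure {z} ⊆ T := by
        intro y hy
        have hsp : z ⤳ y := specializes_iff_mem_closure.2 hy
        have hsp' : r z.1 ⤳ r y.1 := (hsp.map continuous_subtype_val).map r.continuous
        exact (hq hsp' (z.2.trans y.2.symm)).symm
      have heq : T ⊆ closure {z} := hz.2 ⟨⟨z, rfl⟩, hT⟩ hcl
      have hwT : (⟨w, hsub hw⟩ : ↥((r ≫ q).base ⁻¹' {g})) ∈ closure {z} := heq hw
      exact hzW (((specializes_iff_mem_closure.2 hwT).map continuous_subtype_val).mem_open W.isOpen hwW)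
  rw [hU]
  refine ⟨(q.isClosedMap _ O.isOpen.isClosed_compl).isOpen_compl, ?_⟩
  have hO : Dense (O : Set Y) := r.surjective.denseRange.dense_image r.continuous hW
  rw [dense_iff_inter_open]
  intro V hV hVne
  obtain ⟨v, hv⟩ := hVne
  obtain ⟨g, hg⟩ := QuasiSober.sober (isIrreducible_irreducibleComponent (x := v)) isClosed_irreducibleComponent
  refine ⟨g, (hg.specializes mem_irreducibleComponent).mem_open hV hv, ?_⟩
  rintro ⟨h, hhO, rfl⟩
  obtain ⟨c, hc⟩ := QuasiSober.sober (isIrreducible_irreducibleComponent (x := h)) isClosed_irreducibleComponent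
  have hch : c ⤳ h := hc.specializes mem_irreducibleComponent
  have hqc : q c = q h := by
    have h1 : closure {q h} ⊆ closure {q c} :=
      closure_minimal (Set.singleton_subset_iff.2 (specializes_iff_mem_closure.1 (hch.map q.continuous))) isClosed_closure
    rw [hg.def] at h1
    have h2 : closure {q c} ⊆ irreducibleComponent v :=
      (irreducibleComponent_mem_irreducibleComponents v).2 isIrreducible_singleton.closure h1
    have h3 : q h ⤳ q c := hg.specializes (h2 (subset_closure rfl))
    exact (hch.map q.continuous).antisymm h3 |>.eq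
  obtain rfl := hq hch hqc
  obtain ⟨o, ho, hone, hole⟩ := TopologicalSpace.NoetherianSpace.exists_isOpen_nonempty_subset_irreducibleComponent
    (irreducibleComponent c) (irreducibleComponent_mem_irreducibleComponents c)
  obtain ⟨y, hyo, hyO⟩ := hO.inter_open_nonempty o ho hone
  exact hhO ((hc.specializes (hole hyo)).mem_open O.isOpen hyO)

theorem main (k : Type u) [Field k] (K : Type u) [Field K] [Algebra k K]
    (G : Scheme.{u}) (f : G ⟶ Spec (CommRingCat.of k)) [LocallyOfFiniteType f] [QuasiCompact f]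
    (W : (pullback f (Spec.map (CommRingCat.ofHom (algebraMap k K)))).Opens)
    (hW : Dense (W : Set ↥(pullback f (Spec.map (CommRingCat.ofHom (algebraMap k K)))))) :
    let π := (pullback.fst f (Spec.map (CommRingCat.ofHom (algebraMap k K)))).base
    IsOpen {g : G | ∀ z : ↥(π ⁻¹' {g}), closure {z} ∈ irreducibleComponents ↥(π ⁻¹' {g}) → z.1 ∈ W} ∧
      Dense {g : G | ∀ z : ↥(π ⁻¹' {g}), closure {z} ∈ irreducibleComponents ↥(π ⁻¹' {g}) → z.1 ∈ W} := by
  let L := separableClosure k K
  let σ₁ := Spec.map (CommRingCat.ofHom (algebraMap k L))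
  let σ₂ := Spec.map (CommRingCat.ofHom (algebraMap L K))
  let σ := Spec.map (CommRingCat.ofHom (algebraMap k K))
  have hσ : σ₂ ≫ σ₁ = σ := by
    rw [← Spec.map_comp, ← CommRingCat.ofHom_comp, ← IsScalarTower.algebraMap_eq]
  haveI : GeometricallyIrreducible σ₂ :=
    FBase64.geometricallyIrreducible_specMap (separableClosure.separableClosure_eq_bot k K)
  haveI : IsIntegralHom σ₁ := by
    rw [IsIntegralHom.SpecMap_iff]
    exact algebraMap_isIntegral_iff.2 inferInstance
  let Y := pullback f σ₁
  let q : Y ⟶ G := pullback.fst f σ₁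
  let r : pullback f σ ⟶ Y := pullback.lift (pullback.fst f σ) (pullback.snd f σ ≫ σ₂)
    (by rw [Category.assoc, hσ]; exact pullback.condition)
  have hsq : IsPullback r (pullback.snd f σ) (pullback.snd f σ₁) σ₂ := by
    refine IsPullback.of_right ?_ (pullback.lift_snd _ _ _) (IsPullback.of_hasPullback f σ₁)
    rw [pullback.lift_fst, hσ]
    exact IsPullback.of_hasPullback f σ
  haveI : GeometricallyIrreducible r := MorphismProperty.of_isPullback (P := @GeometricallyIrreducible) hsq.flip ‹_›
  haveI : UniversallyOpen r := MorphismProperty.of_isPullback (P := @UniversallyOpen) hsq.flip inferInstance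
  haveI : IsLocallyNoetherian Y := LocallyOfFiniteType.isLocallyNoetherian (pullback.snd f σ₁)
  haveI : CompactSpace Y := QuasiCompact.compactSpace_of_compactSpace (pullback.snd f σ₁)
  haveI : IsNoetherian Y := {}
  exact isOpen_dense (pullback.fst f σ) r q (pullback.lift_fst _ _ _) W hW

end Groth.Agent.CAlg6.MaxPts
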