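import Groth.Agent.CAlg6.GammaHopf
import Groth.Agent.CAlg6.AffHom
import Groth.Agent.SGA3a.DominantHom
import Groth.Agent.SGA3a.FlatHom

/-!
A quasi-compact monomorphism of group schemes over a field into an affine one is a closed immersion
(SGA 3 VI_B 11.11).
-/

set_option autoImplicit false
set_option linter.unusedSectionVars false
set_option backward.isDefEq.respectTransparency.types false
universe u

open CategoryTheory CategoryTheory.Limits MonoidalCategory CartesianMonoidalCategory MonObj AlgebraicGeometry

noncomputable section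

namespace Groth.Agent.CAlg6.MonoAffine

theorem isAffine_of_onePoint (X : Scheme.{u}) [Subsingleton X] (x : X) : IsAffine X := by
  obtain ⟨_, ⟨U, hU, rfl⟩, hxU, -⟩ := X.isBasis_affineOpens.exists_subset_of_mem_open (Set.mem_univ x) isOpen_univ
  replace hU : IsAffineOpen U := hU
  have hU' : (U : X.Opens) = ⊤ := top_le_iff.1 fun y _ => Subsingleton.elim x y ▸ hxU
  subst hU'
  have : IsAffine (⊤ : X.Opens).toScheme := hU
  exact IsAffine.of_isIso X.topIso.inv

/-- a monomorphism to an affine scheme inducing an iso on functions is flat at a point over a maximal point -/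
theorem flat_at_maximal {X Y : Scheme.{u}} [IsAffine Y] [CompactSpace X] [QuasiSeparatedSpace X] (f : X ⟶ Y) [Mono f]
    [IsIso f.appTop] (x : X) (hmax : ∀ z, z ⤳ f x → z = f x) : (f.stalkMap x).hom.Flat := by
  let ℓ := Y.fromSpecStalk (f x)
  have : Mono ℓ := inferInstance
  let P := pullback f ℓ
  have hsub : Subsingleton P := ⟨fun a b => by
    have key : ∀ c : P, pullback.fst f ℓ c = x := fun c => by
      refine f.injective ?_
      refine hmax _ ?_
      have : f (pullback.fst f ℓ c) ∈ Set.range ℓ := ⟨pullback.snd f ℓ c, by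
        rw [← Scheme.Hom.comp_apply, ← Scheme.Hom.comp_apply, pullback.condition]⟩
      rwa [Scheme.range_fromSpecStalk] at this
    exact (pullback.fst f ℓ).injective ((key a).trans (key b).symm)⟩
  let g : Spec (X.presheaf.stalk x) ⟶ P :=
    pullback.lift (X.fromSpecStalk x) (Spec.map (f.stalkMap x)) (Scheme.SpecMap_stalkMap_fromSpecStalk f).symm
  have : IsAffine P := isAffine_of_onePoint P (g (IsLocalRing.closedPoint _))
  have hsq : IsPullback (pullback.fst f ℓ) (pullback.snd f ℓ) f ℓ := IsPullback.of_hasPullback f ℓ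
  have : Flat ℓ := inferInstance
  have hiso := isIso_pushoutSection_of_isQuasiSeparated_of_flat_right hsq
    (US := ⊤) (UT := ⊤) (UX := ⊤) (UY := ⊤) le_top le_top (by simp) (isAffineOpen_top _) (isAffineOpen_top _)
    isCompact_univ (IsQuasiSeparated.of_quasiSeparatedSpace _)
  have hpo := (isIso_pushoutSection_iff hsq (US := ⊤) (UT := ⊤) (UX := ⊤) (UY := ⊤) le_top le_top (by simp)).1 hiso
  have : IsIso (f.appLE ⊤ ⊤ le_top) := by
    rw [show f.appLE ⊤ ⊤ le_top = f.appTop from (Scheme.Hom.app_eq_appLE _).symm]; infer_instance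
  have hsnd : IsIso ((pullback.snd f ℓ).appLE ⊤ ⊤ le_top) := hpo.isIso_inr_of_isIso
  have : IsIso (pullback.snd f ℓ).appTop := by
    rw [show (pullback.snd f ℓ).appTop = (pullback.snd f ℓ).appLE ⊤ ⊤ le_top from Scheme.Hom.app_eq_appLE _]
    exact hsnd
  have : IsIso (pullback.snd f ℓ) := by
    have e : pullback.snd f ℓ =
        P.isoSpec.hom ≫ Spec.map (pullback.snd f ℓ).appTop ≫ (Spec (Y.presheaf.stalk (f x))).isoSpec.inv := by
      rw [Scheme.isoSpec_hom_naturality_assoc, Iso.hom_inv_id, Category.comp_id]
    rw [e]; infer_instance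
  have hgsnd : g ≫ pullback.snd f ℓ = Spec.map (f.stalkMap x) := pullback.lift_snd _ _ _
  have hg : Flat g := by
    have hfst : g ≫ pullback.fst f ℓ = X.fromSpecStalk x := pullback.lift_fst _ _ _
    have h : IsPullback g (𝟙 _) (pullback.fst f ℓ) (X.fromSpecStalk x) :=
      IsPullback.of_vert_isIso_mono ⟨by rw [hfst, Category.id_comp]⟩
    exact MorphismProperty.of_isPullback (P := @Flat) h.flip inferInstance
  have h2 : Flat (Spec.map (f.stalkMap x)) := hgsnd ▸ inferInstance
  exact (HasRingHomProperty.Spec_iff (P := @Flat)).1 h2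

theorem isClosedImmersion_of_mono {k : Type u} [Field k] {G H : Over (Spec (CommRingCat.of k))}
    [GrpObj G] [GrpObj H] [IsAffine H.left] (u : G ⟶ H) [IsMonHom u] [Mono u] [QuasiCompact u.left] :
    IsClosedImmersion u.left := by
  have : Mono u.left := (Over.forget _).map_mono u
  have : IsSeparated u.left := inferInstance
  have : IsSeparated H.hom := inferInstance
  have : QuasiCompact H.hom := inferInstance
  have : QuasiCompact G.hom := by rw [← Over.w u]; infer_instance
  have : IsSeparated G.hom := by rw [← Over.w u]; infer_instance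
  have : CompactSpace G.left := QuasiCompact.compactSpace_of_compactSpace G.hom
  have : QuasiSeparatedSpace G.left := quasiSeparatedSpace_of_quasiSeparated G.hom
  let Q := GammaHopf.hull G
  let q := GammaHopf.toHull G
  let hQ : GrpObj Q := GammaHopf.hullGrp G
  have : IsMonHom q := GammaHopf.isMonHom_toHull G
  have : IsAffine Q.left := inferInstanceAs (IsAffine (Spec _))
  have hiso : IsIso q.left.appTop := by
    show IsIso G.left.toSpecΓ.appTop
    rw [Scheme.toSpecΓ_appTop]; infer_instance
  have hfac : q.left ≫ Spec.map u.left.appTop ≫ H.left.isoSpec.inv = u.left := by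
    show G.left.toSpecΓ ≫ Spec.map u.left.appTop ≫ H.left.isoSpec.inv = u.left
    exact (Scheme.toSpecΓ_naturality_assoc u.left _).symm.trans (by rw [← Scheme.isoSpec_hom, Iso.hom_inv_id, Category.comp_id])
  have : Mono q.left := by
    have : Mono (q.left ≫ Spec.map u.left.appTop ≫ H.left.isoSpec.inv) := by rw [hfac]; infer_instance
    exact mono_of_mono q.left (Spec.map u.left.appTop ≫ H.left.isoSpec.inv)
  have : QuasiCompact q.left := by
    show QuasiCompact G.left.toSpecΓ; infer_instance
  have hd : DenseRange q.left := (inferInstance : IsDominant G.left.toSpecΓ).1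
  obtain ⟨η', -, hη⟩ := SGA3a.exists_maximal_generalization (α := Q.left)
    (η[Q].left (IsLocalRing.closedPoint k))
  obtain ⟨x, rfl⟩ := SGA3a.maximal_mem_range q.left hd hη
  have : Subsingleton (Spec (CommRingCat.of k)) := inferInstanceAs (Subsingleton (PrimeSpectrum k))
  have hflat : Flat q.left := SGA3a.flat_hom_of_flat_at q x (flat_at_maximal q.left x hη)
  have hsurj : Surjective q.left := SGA3a.surjective_of_dominant q hd
  have hqiso : IsIso q.left := by
    have h : IsPullback (𝟙 G.left) (𝟙 G.left) q.left q.left := IsKernelPair.id_of_mono q.left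
    exact MorphismProperty.of_isPullback_of_descendsAlong (P := MorphismProperty.isomorphisms Scheme.{u})
      (Q := @Surjective ⊓ @Flat ⊓ @QuasiCompact) h.flip ⟨⟨hsurj, hflat⟩, ‹_›⟩
      (show IsIso (𝟙 G.left) from inferInstance)
  have : IsAffine G.left := IsAffine.of_isIso q.left
  obtain ⟨C, _, p, i, -, -, hpi, hps, hpf, hic, -, -⟩ := AffHom.exists_factor u
  have : Mono p.left := by
    have : Mono (p.left ≫ i.left) := by rw [← Over.comp_left, hpi]; infer_instance
    exact mono_of_mono p.left i.left
  have : QuasiCompact p.left := by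
    have : QuasiCompact (p.left ≫ i.left) := by rw [← Over.comp_left, hpi]; infer_instance
    exact QuasiCompact.of_comp p.left i.left
  have : IsIso p.left := by
    have h : IsPullback (𝟙 G.left) (𝟙 G.left) p.left p.left := IsKernelPair.id_of_mono p.left
    exact MorphismProperty.of_isPullback_of_descendsAlong (P := MorphismProperty.isomorphisms Scheme.{u})
      (Q := @Surjective ⊓ @Flat ⊓ @QuasiCompact) h.flip ⟨⟨hps, hpf⟩, ‹_›⟩
      (show IsIso (𝟙 G.left) from inferInstance)
  rw [← hpi, Over.comp_left]
  infer_instance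

end Groth.Agent.CAlg6.MonoAffine
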