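import Groth.Agent.S2732
import Mathlib.CategoryTheory.Monoidal.Cartesian.Grp
import Mathlib.CategoryTheory.Monoidal.Cartesian.Over
import Mathlib.AlgebraicGeometry.Morphisms.FinitePresentation

/-!
Monomorphic endomorphisms of a finitely presented scheme over a variable base are bijective on points.
-/

set_option autoImplicit false
set_option backward.isDefEq.respectTransparency.types false
universe u
open CategoryTheory CategoryTheory.Limits MonoidalCategory CartesianMonoidalCategory AlgebraicGeometry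
  MonObj GrpObj

namespace Groth.Agent.CAlg6.MonoEndoPts

variable {S : Scheme.{u}}

theorem isIso_endo (T X : Over S) [LocallyOfFinitePresentation X.hom] [QuasiCompact X.hom]
    [QuasiSeparated X.hom] (φ : T ⊗ X ⟶ T ⊗ X) [Mono φ] (hφ : φ ≫ fst T X = fst T X) : IsIso φ := by
  haveI : LocallyOfFinitePresentation (fst T X).left :=
    inferInstanceAs (LocallyOfFinitePresentation (pullback.fst T.hom X.hom))
  haveI : QuasiCompact (fst T X).left := inferInstanceAs (QuasiCompact (pullback.fst T.hom X.hom))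
  haveI : QuasiSeparated (fst T X).left := inferInstanceAs (QuasiSeparated (pullback.fst T.hom X.hom))
  haveI : Mono φ.left := (Over.forget S).map_mono φ
  haveI : IsIso φ.left := S2732.result (fst T X).left φ.left (congrArg CommaMorphism.left hφ)
  haveI : IsIso ((Over.forget S).map φ) := inferInstanceAs (IsIso φ.left)
  exact isIso_of_reflects_iso φ (Over.forget S)

/-- A natural injective self-map of the points of `X` relative to `T` is surjective. -/
theorem exists_preimage (T X : Over S) [LocallyOfFinitePresentation X.hom] [QuasiCompact X.hom]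
    [QuasiSeparated X.hom] (F : T ⊗ X ⟶ X)
    (hF : ∀ (W : Over S) (t : W ⟶ T) (x y : W ⟶ X), lift t x ≫ F = lift t y ≫ F → x = y)
    (W : Over S) (t : W ⟶ T) (z : W ⟶ X) : ∃ x : W ⟶ X, lift t x ≫ F = z := by
  let φ := lift (fst T X) F
  have hfst : φ ≫ fst T X = fst T X := lift_fst _ _
  have hsnd : φ ≫ snd T X = F := lift_snd _ _
  haveI : Mono φ := ⟨fun {W} a b h => by
    have h1 := congrArg (· ≫ fst T X) h
    have h2 := congrArg (· ≫ snd T X) h
    simp only [Category.assoc, hfst, hsnd] at h1 h2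
    have ha : a = lift (a ≫ fst T X) (a ≫ snd T X) := by ext <;> simp
    have hb : b = lift (a ≫ fst T X) (b ≫ snd T X) := by ext <;> simp [h1]
    rw [ha, hb] at h2
    refine hom_ext _ _ h1 (hF _ _ _ _ h2)⟩
  haveI := isIso_endo T X φ hfst
  have h1 : (lift t z ≫ inv φ) ≫ fst T X = t := by
    rw [Category.assoc, ← (IsIso.eq_inv_comp φ).2 hfst, lift_fst]
  refine ⟨(lift t z ≫ inv φ) ≫ snd T X, ?_⟩
  have : lift t ((lift t z ≫ inv φ) ≫ snd T X) = lift t z ≫ inv φ := by
    refine hom_ext _ _ ?_ ?_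
    · rw [lift_fst, h1]
    · rw [lift_snd]
  rw [this, ← hsnd, Category.assoc, IsIso.inv_hom_id_assoc, lift_snd]

theorem conj_inv_mem (G X : Over S) [GrpObj G] (u : X ⟶ G) [Mono u]
    [LocallyOfFinitePresentation X.hom] [QuasiCompact X.hom] [QuasiSeparated X.hom]
    (T : Over S) (g : T ⟶ G)
    (hg : ∀ (T' : Over S) (t : T' ⟶ T) (x : T' ⟶ X),
      ∃ x' : T' ⟶ X, (t ≫ g) * (x ≫ u) * (t ≫ g)⁻¹ = x' ≫ u)
    (T' : Over S) (t : T' ⟶ T) (x : T' ⟶ X) :
    ∃ x' : T' ⟶ X, (t ≫ g)⁻¹ * (x ≫ u) * (t ≫ g) = x' ≫ u := by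
  obtain ⟨F, hF⟩ := hg (T ⊗ X) (fst T X) (snd T X)
  have hnat : ∀ (W : Over S) (s : W ⟶ T) (y : W ⟶ X),
      (lift s y ≫ F) ≫ u = (s ≫ g) * (y ≫ u) * (s ≫ g)⁻¹ := fun W s y => by
    rw [Category.assoc, ← hF, MonObj.comp_mul, MonObj.comp_mul, GrpObj.comp_inv, lift_fst_assoc,
      lift_snd_assoc]
  obtain ⟨y, hy⟩ := exists_preimage T X F (fun W s a b h => by
    have h' := congrArg (· ≫ u) h
    simp only [hnat] at h'
    exact (cancel_mono u).1 (mul_left_cancel (mul_right_cancel h'))) T' t x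
  refine ⟨y, ?_⟩
  rw [← hy, hnat]
  group

theorem exists_grpObj (G : Over S) [LocallyOfFinitePresentation G.hom] [QuasiCompact G.hom]
    [QuasiSeparated G.hom] (m : G ⊗ G ⟶ G)
    (hassoc : (m ▷ G) ≫ m = (α_ G G G).hom ≫ (G ◁ m) ≫ m)
    (hl : ∀ (T : Over S) (g : T ⟶ G), Function.Injective (fun x : T ⟶ G => lift g x ≫ m))
    (hr : ∀ (T : Over S) (g : T ⟶ G), Function.Injective (fun x : T ⟶ G => lift x g ≫ m))
    (e : 𝟙_ (Over S) ⟶ G) : ∃ inst : GrpObj G, inst.mul = m := by
  have nat : ∀ {W W' : Over S} (p : W' ⟶ W) (a b : W ⟶ G),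
      p ≫ lift a b ≫ m = lift (p ≫ a) (p ≫ b) ≫ m := fun p a b => by rw [comp_lift_assoc]
  have assoc : ∀ {W : Over S} (a b c : W ⟶ G),
      lift (lift a b ≫ m) c ≫ m = lift a (lift b c ≫ m) ≫ m := fun a b c => by
    have := congrArg (lift (lift a b) c ≫ ·) hassoc
    simpa using this
  have solve : ∀ {W : Over S} (a b : W ⟶ G), ∃ x, lift a x ≫ m = b := fun a b => by
    obtain ⟨x, hx⟩ := exists_preimage G G m (fun W t x y h => hl W t h) _ a b
    exact ⟨x, hx⟩
  obtain ⟨one, hone⟩ := solve e e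
  have one_mul' : ∀ {W : Over S} (a : W ⟶ G), lift (toUnit W ≫ one) a ≫ m = a := fun {W} a => by
    apply hl W (toUnit W ≫ e)
    show lift _ _ ≫ m = lift _ _ ≫ m
    rw [← assoc, ← nat, hone]
  have mul_one' : ∀ {W : Over S} (a : W ⟶ G), lift a (toUnit W ≫ one) ≫ m = a := fun {W} a => by
    apply hr W a
    show lift _ _ ≫ m = lift _ _ ≫ m
    rw [assoc, one_mul']
  obtain ⟨iv, hiv⟩ := solve (𝟙 G) (toUnit G ≫ one)
  let M : MonObj G :=
    { one := one
      mul := m
      one_mul := by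
        have : one ▷ G = lift (toUnit _ ≫ one) (snd _ G) :=
          hom_ext _ _ (by rw [whiskerRight_fst, lift_fst]; congr 1)
            (by rw [whiskerRight_snd, lift_snd])
        rw [this, one_mul', leftUnitor_hom]
      mul_one := by
        have : G ◁ one = lift (fst G _) (toUnit _ ≫ one) :=
          hom_ext _ _ (by rw [whiskerLeft_fst, lift_fst])
            (by rw [whiskerLeft_snd, lift_snd]; congr 1; exact toUnit_unique _ _)
        rw [this, mul_one', rightUnitor_hom]
      mul_assoc := hassoc }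
  refine ⟨{ toMonObj := M, inv := iv, left_inv := ?_, right_inv := hiv }, rfl⟩
  show lift iv (𝟙 G) ≫ m = toUnit G ≫ one
  apply hl G (𝟙 G)
  show lift _ _ ≫ m = lift _ _ ≫ m
  rw [← assoc, hiv, one_mul', mul_one']

end Groth.Agent.CAlg6.MonoEndoPts
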