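import Groth.Agent.CAlg6.NeutralCons
import Groth.Agent.FlatMor68.SectionOpenSmooth
import Groth.Agent.Unr55.FppfScheme
import Groth.Agent.SGA3a.SubGrpOfMono
import Groth.Agent.SGA3a.NeutralQC
import Mathlib.AlgebraicGeometry.Morphisms.Smooth
import Mathlib.AlgebraicGeometry.Morphisms.UniversallyOpen

/-!
The union of the neutral components of a group scheme which is smooth along the unit section is an open
subgroup scheme, smooth and quasi-compact.
-/

set_option autoImplicit false
set_option backward.isDefEq.respectTransparency.types false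
universe u
open CategoryTheory CategoryTheory.Limits MonoidalCategory CartesianMonoidalCategory MonObj GrpObj AlgebraicGeometry

noncomputable section

namespace Groth.Agent.CAlg6.NeutralOpen

open Groth.Agent.SGA3a

/-- Products of an open piece of the neutral component fill it; no finiteness hypothesis. -/
theorem exists_mul_of_subset {K : Type u} [Field K] (G : Over (Spec (CommRingCat.of K))) [GrpObj G]
    (U : G.left.Opens) (he : Grp57.unitPt G ∈ U)
    (hU : (U : Set G.left) ⊆ connectedComponent (Grp57.unitPt G)) {x : G.left}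
    (hx : x ∈ connectedComponent (Grp57.unitPt G)) :
    ∃ w : (G ⊗ G).left, (fst G G).left w ∈ U ∧ (snd G G).left w ∈ U ∧ μ[G].left w = x := by
  set C := connectedComponent (Grp57.unitPt G)
  have hirr : IsIrreducible C := (Grp57.connectedComponent_unit G).1
  let U' : G.left.Opens := ⟨(U : Set G.left) ∪ Cᶜ, U.isOpen.union isClosed_connectedComponent.isOpen_compl⟩
  have hU' : Dense (U' : Set G.left) := by
    intro y
    by_cases hy : y ∈ C
    · refine closure_mono Set.subset_union_left ?_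
      exact (closure_mono Set.inter_subset_right) (subset_closure_inter_of_isPreirreducible_of_isOpen
        hirr.2 U.isOpen ⟨_, mem_connectedComponent, he⟩ hy)
    · exact subset_closure (Or.inr hy)
  obtain ⟨w, ⟨h1, h2⟩, hw⟩ := (Grp57.mul_image_dense U' U hU' ⟨_, he⟩).ge (Set.mem_univ x)
  have h1C : (fst G G).left w ∈ C := by
    have h := (div_conj_mem G ((lift μ[G] (snd G G)).left w)
      (by rw [Grp57.left_apply' _ _ _ (lift_snd _ _)]; exact hU h2)).1
      (by rw [Grp57.left_apply' _ _ _ (lift_fst _ _), hw]; exact hx)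
    rwa [Grp57.left_apply' _ _ (fst G G) ?_] at h
    rw [MonObj.mul_eq_mul]
    simp [divHom, comp_mul, GrpObj.comp_inv]
  exact ⟨w, h1.resolve_right (fun h => h h1C), h2, hw⟩

variable {S : Scheme.{u}} (G : Over S) [GrpObj G]

theorem hom_unit (s : S) : G.hom (η[G].left s) = s := congr($(Over.w η[G]) s)

theorem unit_mem_neutralSet (s : S) : η[G].left s ∈ SGA3x.neutralSet G :=
  Set.mem_iUnion.2 ⟨s, mem_connectedComponentIn (hom_unit G s)⟩

theorem inv_mem_neutralSet {x : G.left} (hx : x ∈ SGA3x.neutralSet G) :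
    ((ι[G] : G ⟶ G).left x) ∈ SGA3x.neutralSet G := by
  obtain ⟨s, hs⟩ := Set.mem_iUnion.1 hx
  have hi : (ι[G] : G ⟶ G).left (η[G].left s) = η[G].left s := by
    rw [← Scheme.Hom.comp_apply, ← Over.comp_left]
    congr 3
    rw [show (ι[G] : G ⟶ G) = (𝟙 G)⁻¹ from rfl, GrpObj.comp_inv, Category.comp_id, MonObj.one_eq_one, inv_one]
  refine Set.mem_iUnion.2 ⟨s, ?_⟩
  refine (isPreconnected_connectedComponentIn.image _
    (ι[G] : G ⟶ G).left.continuous.continuousOn).subset_connectedComponentIn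
      ⟨_, mem_connectedComponentIn (hom_unit G s), hi⟩ ?_ ⟨x, hs, rfl⟩
  rintro _ ⟨y, hy, rfl⟩
  exact congr($(Over.w (ι[G] : G ⟶ G)) y).trans (show y ∈ G.hom ⁻¹' {_} from connectedComponentIn_subset _ _ hy)

/-- the pairs of points of an open subscheme -/
def pairs (W : G.left.Opens) : (G ⊗ G).left.Opens := (fst G G).left ⁻¹ᵁ W ⊓ (snd G G).left ⁻¹ᵁ W

theorem image_pairs (W : G.left.Opens) (hW : (W : Set G.left) ⊆ SGA3x.neutralSet G)
    (he : ∀ s : S, η[G].left s ∈ W) : μ[G].left '' (pairs G W : Set (G ⊗ G).left) = SGA3x.neutralSet G := by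
  refine Set.Subset.antisymm ?_ fun x hx => ?_
  · rintro _ ⟨p, ⟨h1, h2⟩, rfl⟩
    exact NeutralCons.mul_mem_neutralSet G p (hW h1) (hW h2)
  · let f : Spec (CommRingCat.of (S.residueField (G.hom x))) ⟶ S := S.fromSpecResidueField (G.hom x)
    letI : GrpObj (bcO f G) := bcOGrp G f
    obtain ⟨z, hz, hzx⟩ := (mem_neutralSet_iff_image G).1 hx
    obtain ⟨w, h1, h2, h3⟩ := exists_mul_of_subset (bcO f G) (prO f G ⁻¹ᵁ W)
      (show prO f G (Grp57.unitPt (bcO f G)) ∈ W by rw [prO_unitPt]; exact he _)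
      (fun y hy => (prO_mem_neutralSet_iff G f y).1 (hW hy)) hz
    refine ⟨pairO f G w, ⟨?_, ?_⟩, ?_⟩
    · show (fst G G).left (pairO f G w) ∈ W
      rw [pairO_fst_apply]; exact h1
    · show (snd G G).left (pairO f G w) ∈ W
      rw [pairO_snd_apply]; exact h2
    · rw [pairO_mul_apply]
      exact (congrArg _ h3).trans hzx

/-- the shear map `(a, b) ↦ (a, a b)` -/
def shear : G ⊗ G ⟶ G ⊗ G := lift (fst G G) μ[G]

instance : IsIso (shear G) :=
  ⟨lift (fst G G) ((fst G G)⁻¹ * snd G G),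
    by ext : 1 <;> simp [shear, MonObj.mul_eq_mul, comp_mul, GrpObj.comp_inv],
    by ext : 1 <;> simp [shear, MonObj.mul_eq_mul, comp_mul, GrpObj.comp_inv]⟩

instance : IsIso (shear G).left := inferInstanceAs (IsIso ((Over.forget S).map (shear G)))

variable (W : G.left.Opens)

theorem smooth_snd [Smooth (W.ι ≫ G.hom)] :
    Smooth (((fst G G).left ⁻¹ᵁ W).ι ≫ (snd G G).left) :=
  MorphismProperty.of_isPullback
    ((isPullback_morphismRestrict (fst G G).left W).paste_vert
      (show IsPullback (fst G G).left (snd G G).left G.hom G.hom from IsPullback.of_hasPullback G.hom G.hom))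
    (by assumption)

theorem smooth_pairs_mul [Smooth (W.ι ≫ G.hom)] : Smooth ((pairs G W).ι ≫ μ[G].left) := by
  let Q := (fst G G).left ⁻¹ᵁ W
  have := smooth_snd G W
  have hfst : (shear G).left ≫ (fst G G).left = (fst G G).left := by
    rw [← Over.comp_left, shear, lift_fst]
  have hμ : (shear G).left ≫ (snd G G).left = μ[G].left := by
    rw [← Over.comp_left, shear, lift_snd]
  have hr : Set.range ((pairs G W).ι ≫ (shear G).left) ⊆ Set.range Q.ι := by
    rw [Scheme.Opens.range_ι]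
    rintro _ ⟨p, rfl⟩
    show (fst G G).left ((shear G).left ((pairs G W).ι p)) ∈ W
    rw [← Scheme.Hom.comp_apply, hfst]
    exact p.2.1
  let l := IsOpenImmersion.lift Q.ι ((pairs G W).ι ≫ (shear G).left) hr
  have hl : l ≫ Q.ι = (pairs G W).ι ≫ (shear G).left := IsOpenImmersion.lift_fac _ _ _
  have : IsOpenImmersion (l ≫ Q.ι) := by rw [hl]; infer_instance
  have : IsOpenImmersion l := IsOpenImmersion.of_comp l Q.ι
  rw [← hμ, ← Category.assoc, ← hl, Category.assoc]
  infer_instance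

theorem smooth_pairs_hom [Smooth (W.ι ≫ G.hom)] : Smooth ((pairs G W).ι ≫ (G ⊗ G).hom) := by
  have := smooth_snd G W
  let g := (pairs G W).ι ≫ (snd G G).left
  have h1 : Smooth g := by
    rw [show g = (G ⊗ G).left.homOfLE (inf_le_left : pairs G W ≤ _) ≫
      ((fst G G).left ⁻¹ᵁ W).ι ≫ (snd G G).left by rw [← Category.assoc, Scheme.homOfLE_ι]; rfl]
    exact MorphismProperty.comp_mem _ _ _ (inferInstanceAs (Smooth _)) this
  have hr : Set.range g ⊆ Set.range W.ι := by
    rw [Scheme.Opens.range_ι]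
    rintro _ ⟨p, rfl⟩
    exact p.2.2
  let m := IsOpenImmersion.lift W.ι g hr
  have hm : m ≫ W.ι = g := IsOpenImmersion.lift_fac _ _ _
  have : Smooth m := MorphismProperty.of_postcomp (W := @Smooth) (W' := @IsOpenImmersion) m W.ι inferInstance
    (by rw [hm]; exact h1)
  rw [← Over.w (snd G G), ← Category.assoc]
  show Smooth (g ≫ G.hom)
  rw [← hm, Category.assoc]
  infer_instance

/-- The neutral set is an open subgroup scheme, smooth and quasi-compact, when `G` is smooth along the unit. -/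
theorem main (W : G.left.Opens) [Smooth (W.ι ≫ G.hom)] (hW : ∀ s : S, η[G].left s ∈ W) :
    IsOpen (SGA3x.neutralSet G) ∧
    ∃ (G0 : Over S) (_ : GrpObj G0) (i : G0 ⟶ G), IsMonHom i ∧ IsOpenImmersion i.left ∧
      Set.range i.left.base = SGA3x.neutralSet G ∧ Smooth G0.hom ∧ QuasiCompact G0.hom := by
  -- a smooth open piece with connected fibres
  have hr : Set.range η[G].left ⊆ Set.range W.ι := by
    rw [Scheme.Opens.range_ι]
    rintro _ ⟨s, rfl⟩
    exact hW s
  let e : S ⟶ W.toScheme := IsOpenImmersion.lift W.ι η[G].left hr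
  have heι : e ≫ W.ι = η[G].left := IsOpenImmersion.lift_fac _ _ _
  have he : e ≫ (W.ι ≫ G.hom) = 𝟙 S := by
    rw [← Category.assoc, heι]; exact Over.w η[G]
  let W₁ : W.toScheme.Opens := ⟨MoreMor.sectionComponents (W.ι ≫ G.hom) e,
    FlatMor68.SectionOpenSmooth.isOpen_sectionComponents _ e he⟩
  let W₀ : G.left.Opens := W.ι ''ᵁ W₁
  haveI : Smooth (W₀.ι ≫ G.hom) := by
    rw [← MorphismProperty.cancel_left_of_respectsIso @Smooth (Scheme.Hom.isoImage W.ι W₁).hom,
      ← Category.assoc, Scheme.Hom.isoImage_hom_ι, Category.assoc]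
    infer_instance
  have hW₀ : (W₀ : Set G.left) ⊆ SGA3x.neutralSet G := by
    rintro _ ⟨w, hw, rfl⟩
    refine Set.mem_iUnion.2 ⟨G.hom (W.ι w), ?_⟩
    refine (isPreconnected_connectedComponentIn.image _ W.ι.continuous.continuousOn).subset_connectedComponentIn
      ⟨e ((W.ι ≫ G.hom) w), mem_connectedComponentIn (congr($he ((W.ι ≫ G.hom) w))),
        (congr($heι ((W.ι ≫ G.hom) w)))⟩ ?_ ⟨w, hw, rfl⟩
    rintro _ ⟨z, hz, rfl⟩
    exact (show z ∈ (W.ι ≫ G.hom) ⁻¹' {_} from connectedComponentIn_subset _ _ hz)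
  have he₀ : ∀ s : S, η[G].left s ∈ W₀ := fun s => by
    refine ⟨e s, ?_, congr($heι s)⟩
    show e s ∈ connectedComponentIn _ (e ((W.ι ≫ G.hom) (e s)))
    rw [show (W.ι ≫ G.hom) (e s) = s from congr($he s)]
    exact mem_connectedComponentIn (congr($he s))
  -- openness
  have himage := image_pairs G W₀ hW₀ he₀
  have := smooth_pairs_mul G W₀
  have hrange : Set.range ((pairs G W₀).ι ≫ μ[G].left) = SGA3x.neutralSet G := by
    rw [Scheme.Hom.comp_base, TopCat.coe_comp, Set.range_comp, Scheme.Opens.range_ι]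
    exact himage
  have hopen : IsOpen (SGA3x.neutralSet G) := by
    rw [← hrange]
    exact ((pairs G W₀).ι ≫ μ[G].left).isOpenMap.isOpen_range
  refine ⟨hopen, ?_⟩
  let U : G.left.Opens := ⟨SGA3x.neutralSet G, hopen⟩
  let i : Over.mk (U.ι ≫ G.hom) ⟶ G := Over.homMk U.ι rfl
  haveI : Mono i := by
    have : Mono ((Over.forget S).map i) := inferInstanceAs (Mono U.ι)
    exact (Over.forget S).mono_of_mono_map this
  have hfac : ∀ {T : Over S} (g : T ⟶ G), Set.range g.left.base ⊆ SGA3x.neutralSet G → ∃ z, z ≫ i = g :=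
    fun {T} g hg => ⟨Over.homMk (IsOpenImmersion.lift U.ι g.left (by rw [Scheme.Opens.range_ι]; exact hg))
      (by
        show _ ≫ U.ι ≫ G.hom = _
        rw [IsOpenImmersion.lift_fac_assoc, Over.w g]),
      Over.OverMorphism.ext (IsOpenImmersion.lift_fac _ _ _)⟩
  have h1 : ∃ z, z ≫ i = (1 : 𝟙_ (Over S) ⟶ G) := hfac _ (by
    rintro _ ⟨s, rfl⟩
    rw [← MonObj.one_eq_one]
    exact unit_mem_neutralSet G s)
  have hinv : ∃ z, z ≫ i = i⁻¹ := hfac _ (by
    rintro _ ⟨y, rfl⟩
    rw [show i⁻¹ = i ≫ (ι[G] : G ⟶ G) by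
      rw [show (ι[G] : G ⟶ G) = (𝟙 G)⁻¹ from rfl, GrpObj.comp_inv, Category.comp_id]]
    exact inv_mem_neutralSet G y.2)
  have hmul : ∃ z, z ≫ i = (fst _ _ ≫ i) * (snd _ _ ≫ i) := hfac _ (by
    rintro _ ⟨y, rfl⟩
    rw [Hom.mul_def, Over.comp_left, Scheme.Hom.comp_apply]
    refine NeutralCons.mul_mem_neutralSet G _ ?_ ?_
    · rw [← Scheme.Hom.comp_apply, ← Over.comp_left, lift_fst, Over.comp_left, Scheme.Hom.comp_apply]
      exact ((fst (Over.mk (U.ι ≫ G.hom)) (Over.mk (U.ι ≫ G.hom))).left y).2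
    · rw [← Scheme.Hom.comp_apply, ← Over.comp_left, lift_snd, Over.comp_left, Scheme.Hom.comp_apply]
      exact ((snd (Over.mk (U.ι ≫ G.hom)) (Over.mk (U.ι ≫ G.hom))).left y).2)
  letI : GrpObj (Over.mk (U.ι ≫ G.hom)) := grpObjOfMono i h1 hmul hinv
  haveI hsmooth : Smooth (Over.mk (U.ι ≫ G.hom)).hom := by
    let p := (pairs G W₀).ι ≫ μ[G].left
    let p' := IsOpenImmersion.lift U.ι p (by rw [Scheme.Opens.range_ι]; exact hrange.le)
    have hp' : p' ≫ U.ι = p := IsOpenImmersion.lift_fac _ _ _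
    have : Smooth p' := MorphismProperty.of_postcomp (W := @Smooth) (W' := @IsOpenImmersion) p' U.ι inferInstance
      (by rw [hp']; assumption)
    have : Surjective p' := ⟨fun x => by
      obtain ⟨z, hz⟩ := hrange.ge x.2
      exact ⟨z, U.ι.isOpenEmbedding.injective ((congr($hp' z)).trans hz)⟩⟩
    have : Smooth (p' ≫ U.ι ≫ G.hom) := by
      rw [← Category.assoc, hp', Category.assoc, Over.w μ[G]]
      exact smooth_pairs_hom G W₀
    exact Unr55.smooth_of_fppf_comp p' (U.ι ≫ G.hom)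
  refine ⟨_, inferInstance, i, isMonHom_grpObjOfMono i h1 hmul hinv, inferInstanceAs (IsOpenImmersion U.ι),
    Scheme.Opens.range_ι U, hsmooth, ?_⟩
  refine quasiCompact_of_connected_fibres (Over.mk (U.ι ≫ G.hom))
    (fun s => by
      haveI : Smooth (U.ι ≫ G.hom) := hsmooth
      exact MorphismProperty.pullback_snd (P := @LocallyOfFiniteType) _ _ inferInstance) fun s => ?_
  have him : U.ι '' ((U.ι ≫ G.hom) ⁻¹' {s}) = connectedComponentIn (G.hom ⁻¹' {s}) (η[G].left s) := by
    refine Set.Subset.antisymm ?_ fun x hx => ?_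
    · rintro _ ⟨y, hy, rfl⟩
      obtain ⟨t, ht⟩ := Set.mem_iUnion.1 (show U.ι y ∈ SGA3x.neutralSet G from y.2)
      obtain rfl : t = s := (connectedComponentIn_subset _ _ ht).symm.trans hy
      exact ht
    · exact ⟨⟨x, Set.mem_iUnion.2 ⟨s, hx⟩⟩, connectedComponentIn_subset (G.hom ⁻¹' {s}) _ hx, rfl⟩
  have hc := isConnected_connectedComponentIn_iff.2 (show η[G].left s ∈ G.hom ⁻¹' {s} from hom_unit G s)
  rw [← him] at hc
  exact ⟨hc.nonempty.of_image, U.ι.isOpenEmbedding.isInducing.isPreconnected_image.1 hc.isPreconnected⟩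

end Groth.Agent.CAlg6.NeutralOpen
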