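import Groth.Agent.CAlg6.NeutralDim
import Groth.Agent.CAlg6.NeutralOpen
import Groth.Agent.SGA3a.HomogSep
import Groth.Agent.AlgGrp79.Act
import Groth.Agent.ConsPts12.Cons
import Groth.Agent.ConsProp93.Approx

/-!
Translates of a separated open by the neutral components, when the fibre dimension is locally constant.
-/

set_option autoImplicit false
set_option linter.style.haveILetI false
set_option backward.isDefEq.respectTransparency.types false
universe u
open CategoryTheory CategoryTheory.Limits AlgebraicGeometry MonoidalCategory CartesianMonoidalCategory MonObj GrpObj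

noncomputable section

namespace Groth.Agent.CAlg6.NeutralAct

open Groth.Agent.SGA3a

variable {S : Scheme.{u}} {G X : Over S} [GrpObj G] [LocallyOfFinitePresentation G.hom] (a : AlgGrp.Action G X)

/-- `G⁰ · U` -/
def actSet (U : X.left.Opens) : Set X.left :=
  a.act.left '' {z : ↥(G ⊗ X).left | (fst G X).left z ∈ SGA3x.neutralSet G ∧ (snd G X).left z ∈ U}

omit [LocallyOfFinitePresentation G.hom] in
theorem dim_eq_of_specializes
    (hdim : IsLocallyConstant (fun s : S => topologicalKrullDim ↥(G.hom.base ⁻¹' {s}))) {t s : S} (h : t ⤳ s) :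
    topologicalKrullDim ↥(G.hom.base ⁻¹' {t}) = topologicalKrullDim ↥(G.hom.base ⁻¹' {s}) :=
  h.mem_open (hdim.isOpen_fiber (topologicalKrullDim ↥(G.hom.base ⁻¹' {s}))) rfl

variable (hdim : IsLocallyConstant (fun s : S => topologicalKrullDim ↥(G.hom.base ⁻¹' {s})))
include hdim

/-- generisations lift along the action inside the neutral components -/
theorem exists_lift (z : ↥(G ⊗ X).left) (hz : (fst G X).left z ∈ SGA3x.neutralSet G) {y : X.left}
    (hy : y ⤳ a.act.left z) :
    ∃ z', z' ⤳ z ∧ (fst G X).left z' ∈ SGA3x.neutralSet G ∧ a.act.left z' = y := by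
  let σ := (AlgGrp79.shear a).hom
  let τ := (AlgGrp79.shear a).inv
  have hσ1 : σ ≫ fst G X = fst G X := lift_fst _ _
  have hσ2 : σ ≫ snd G X = a.act := AlgGrp79.shear_hom_snd a
  letI : GrpObj (Red.bc X.hom G) := bcOGrp G X.hom
  haveI : LocallyOfFinitePresentation (Red.bc X.hom G).hom :=
    MorphismProperty.pullback_snd (P := @LocallyOfFinitePresentation) _ _ inferInstance
  let G' : Over X.left := Red.bc X.hom G
  have hd : ∀ x : X.left, topologicalKrullDim ↥(G'.hom.base ⁻¹' {x}) =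
      topologicalKrullDim ↥(G.hom.base ⁻¹' {X.hom x}) := fun x => by
    rw [← NeutralDim.fibreDimAt_unit, ← NeutralDim.fibreDimAt_unit]
    refine (FibDim94.fibreDimAt_eq_of_isPullback (IsPullback.of_hasPullback G.hom X.hom) _).trans ?_
    congr 1
    exact congr($(prO_unit G X.hom) x)
  let w₀ : G'.left := σ.left z
  have hw₀ : w₀ ∈ SGA3x.neutralSet G' := by
    rw [neutralSet_bc G X.hom]
    show (fst G X).left (σ.left z) ∈ SGA3x.neutralSet G
    rw [← Scheme.Hom.comp_apply, ← Over.comp_left, hσ1]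
    exact hz
  have hx : G'.hom w₀ = a.act.left z := by
    show (snd G X).left (σ.left z) = _
    rw [← Scheme.Hom.comp_apply, ← Over.comp_left, hσ2]
  obtain ⟨w, hw, hww, hwy⟩ := NeutralDim.exists_generisation G' hw₀ (z := y) (by rw [hx]; exact hy) (by
    rw [hd, hd, hx]
    exact (dim_eq_of_specializes hdim (hy.map X.hom.continuous)).ge)
  rw [neutralSet_bc G X.hom] at hw
  let w' : ↥(G ⊗ X).left := w
  have hτσ : τ.left (σ.left z) = z := by
    rw [← Scheme.Hom.comp_apply, ← Over.comp_left, Iso.hom_inv_id]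
    rfl
  refine ⟨τ.left w', ?_, ?_, ?_⟩
  · refine hτσ ▸ Specializes.map ?_ τ.left.continuous
    exact hww
  · rw [← Scheme.Hom.comp_apply, ← Over.comp_left, show τ ≫ fst G X = fst G X from lift_fst _ _]
    exact hw
  · rw [← Scheme.Hom.comp_apply, ← Over.comp_left, ← hσ2, Iso.inv_hom_id_assoc]
    exact hwy

theorem isOpen_actSet (U : X.left.Opens) : IsOpen (actSet a U) := by
  haveI : LocallyOfFinitePresentation a.act.left :=
    AlgGrp79.act_left_prop a @LocallyOfFinitePresentation inferInstance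
  have hC : ProCons.IsIndConstructible (actSet a U) := by
    refine ConsPts12.isIndConstructible_image a.act.left (ConsPts12.isIndConstructible_iff.2 ?_)
    rw [show {z : ↥(G ⊗ X).left | (fst G X).left z ∈ SGA3x.neutralSet G ∧ (snd G X).left z ∈ U} =
      (fst G X).left ⁻¹' SGA3x.neutralSet G ∩ (snd G X).left ⁻¹' (U : Set X.left) from rfl, Set.compl_inter]
    exact (((ConsPts12.isIndConstructible_iff.1 (NeutralCons.isIndConstructible G)).preimage (fst G X).left)).union
      (LimTop61.isConsClosed_of_isClosed (U.isOpen.preimage (snd G X).left.continuous).isClosed_compl)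
  rw [← subset_interior_iff_isOpen]
  intro x hx
  rw [ConsPts12.mem_interior_iff hC]
  intro y hy
  obtain ⟨z, ⟨hz, hzU⟩, rfl⟩ := hx
  obtain ⟨z', hz', hz'0, rfl⟩ := exists_lift a hdim z hz hy
  exact ⟨z', ⟨hz'0, (hz'.map (snd G X).left.continuous).mem_open U.isOpen hzU⟩, rfl⟩

omit hdim [LocallyOfFinitePresentation G.hom] [GrpObj G] in
theorem preimage_diag (U : X.left.Opens) :
    (pullback.map (U.ι ≫ X.hom) (U.ι ≫ X.hom) X.hom X.hom U.ι U.ι (𝟙 _) (by simp) (by simp) :
        pullback (U.ι ≫ X.hom) (U.ι ≫ X.hom) ⟶ (X ⊗ X).left) ⁻¹' Set.range (diagO X).left =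
      Set.range (pullback.diagonal (U.ι ≫ X.hom)) := by
  let m : pullback (U.ι ≫ X.hom) (U.ι ≫ X.hom) ⟶ (X ⊗ X).left :=
    pullback.map _ _ _ _ U.ι U.ι (𝟙 _) (by simp) (by simp)
  have hr : Set.range m = (fst X X).left ⁻¹' (U : Set X.left) ∩ (snd X X).left ⁻¹' (U : Set X.left) := by
    rw [Scheme.Pullback.range_map, Scheme.Opens.range_ι]; rfl
  have : IsOpenImmersion m := inferInstanceAs (IsOpenImmersion (pullback.map _ _ _ _ _ _ _ _ _))
  have hcomm : pullback.diagonal (U.ι ≫ X.hom) ≫ m = U.ι ≫ (diagO X).left := by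
    apply pullback.hom_ext
    · rw [Category.assoc, Category.assoc, pullback.lift_fst, pullback.diagonal_fst_assoc]
      show U.ι = U.ι ≫ (diagO X ≫ fst X X).left
      rw [lift_fst]; exact (Category.comp_id _).symm
    · rw [Category.assoc, Category.assoc, pullback.lift_snd, pullback.diagonal_snd_assoc]
      show U.ι = U.ι ≫ (diagO X ≫ snd X X).left
      rw [lift_snd]; exact (Category.comp_id _).symm
  ext y'
  constructor
  · rintro ⟨x0, hx0⟩
    have hx0U : x0 ∈ (U : Set X.left) := by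
      have h : (fst X X).left ((diagO X).left x0) ∈ (U : Set X.left) := hx0 ▸ (hr.le ⟨y', rfl⟩).1
      rw [← Scheme.Hom.comp_apply, ← Over.comp_left, lift_fst] at h
      exact h
    obtain ⟨x1', rfl⟩ : x0 ∈ Set.range U.ι := by rw [Scheme.Opens.range_ι]; exact hx0U
    exact ⟨x1', m.isOpenEmbedding.injective (by rw [← Scheme.Hom.comp_apply, hcomm, Scheme.Hom.comp_apply, hx0])⟩
  · rintro ⟨x1', rfl⟩
    exact ⟨U.ι x1', by rw [← Scheme.Hom.comp_apply, ← hcomm]; rfl⟩

omit hdim [LocallyOfFinitePresentation G.hom] [GrpObj G] in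
theorem mem_diag_of_mem_closure (U : X.left.Opens) [IsSeparated (U.ι ≫ X.hom)] {v : ↥(X ⊗ X).left}
    (h1 : (fst X X).left v ∈ U) (h2 : (snd X X).left v ∈ U)
    (hv : v ∈ closure (Set.range (diagO X).left)) : v ∈ Set.range (diagO X).left := by
  let m : pullback (U.ι ≫ X.hom) (U.ι ≫ X.hom) ⟶ (X ⊗ X).left :=
    pullback.map _ _ _ _ U.ι U.ι (𝟙 _) (by simp) (by simp)
  have : IsOpenImmersion m := inferInstanceAs (IsOpenImmersion (pullback.map _ _ _ _ _ _ _ _ _))
  obtain ⟨y, rfl⟩ : v ∈ Set.range m := by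
    rw [show Set.range m = (fst X X).left ⁻¹' (U : Set X.left) ∩ (snd X X).left ⁻¹' (U : Set X.left) by
      rw [Scheme.Pullback.range_map, Scheme.Opens.range_ι]; rfl]
    exact ⟨h1, h2⟩
  have hcl : IsClosed (m ⁻¹' Set.range (diagO X).left) := by
    rw [preimage_diag]; exact (pullback.diagonal (U.ι ≫ X.hom)).isClosedEmbedding.isClosed_range
  show y ∈ m ⁻¹' Set.range (diagO X).left
  rw [← hcl.closure_eq]
  exact m.isOpenMap.preimage_closure_subset_closure_preimage hv

theorem mem_diag_of_mem_actSet (U : X.left.Opens) [IsSeparated (U.ι ≫ X.hom)] {w : ↥(X ⊗ X).left}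
    (h1 : (fst X X).left w ∈ actSet a U) (h2 : (snd X X).left w ∈ actSet a U)
    (hw : w ∈ closure (Set.range (diagO X).left)) : w ∈ Set.range (diagO X).left := by
  let fw : Spec (CommRingCat.of ((X ⊗ X).left.residueField w)) ⟶ (X ⊗ X).left :=
    (X ⊗ X).left.fromSpecResidueField w
  let f : Spec (CommRingCat.of ((X ⊗ X).left.residueField w)) ⟶ S := fw ≫ (X ⊗ X).hom
  letI : GrpObj (bcO f G) := bcOGrp G f
  haveI : LocallyOfFiniteType (bcO f G).hom :=
    MorphismProperty.pullback_snd (P := @LocallyOfFiniteType) _ _ inferInstance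
  -- the group points carrying one entry into `U`
  let ψ : ∀ π : X ⊗ X ⟶ X, (bcO f G).left ⟶ (G ⊗ X).left := fun π =>
    pullback.lift (prO f G) (pullback.snd G.hom f ≫ fw ≫ π.left)
      (by rw [Category.assoc, Category.assoc, Over.w π]; exact pullback.condition)
  have hψ1 : ∀ π, ψ π ≫ (fst G X).left = prO f G := fun π => pullback.lift_fst _ _ _
  have hψ2 : ∀ π, ψ π ≫ (snd G X).left = pullback.snd G.hom f ≫ fw ≫ π.left := fun π => pullback.lift_snd _ _ _
  have key : ∀ π : X ⊗ X ⟶ X, π.left w ∈ actSet a U →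
      (fibNeutral G f ∩ (ψ π ≫ a.act.left) ⁻¹' (U : Set X.left)).Nonempty := by
    rintro π ⟨z, ⟨hz0, hzU⟩, hzx⟩
    let T : G ⊗ X ⟶ G ⊗ X := lift ((fst G X)⁻¹) a.act
    let p := T.left z
    have hp1 : (fst G X).left p ∈ SGA3x.neutralSet G := by
      rw [← Scheme.Hom.comp_apply, ← Over.comp_left, lift_fst]
      rw [show (fst G X)⁻¹ = fst G X ≫ (ι[G] : G ⟶ G) by
        rw [show (ι[G] : G ⟶ G) = (𝟙 G)⁻¹ from rfl, GrpObj.comp_inv, Category.comp_id]]
      exact NeutralOpen.inv_mem_neutralSet G hz0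
    have hp2 : (snd G X).left p = π.left w := by
      rw [← Scheme.Hom.comp_apply, ← Over.comp_left, lift_snd, hzx]
    have hp3 : a.act.left p ∈ U := by
      rw [← Scheme.Hom.comp_apply, ← Over.comp_left,
        show T ≫ a.act = lift (fst G X)⁻¹ (lift (fst G X) (snd G X) ≫ a.act) ≫ a.act by
          rw [lift_fst_snd, Category.id_comp],
        AlgGrp79.inv_act_act]
      exact hzU
    have hsq : IsPullback (ψ π) (pullback.snd G.hom f) (snd G X).left (fw ≫ π.left) := by
      refine IsPullback.of_right ?_ (hψ2 π)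
        (show IsPullback (fst G X).left (snd G X).left G.hom X.hom from IsPullback.of_hasPullback _ _)
      rw [hψ1, Category.assoc, Over.w π]
      exact IsPullback.of_hasPullback G.hom f
    obtain ⟨q, hq, -⟩ := AlgGrp79.exists_preimage_of_isPullback hsq p (IsLocalRing.closedPoint _)
      (by rw [hp2, Scheme.Hom.comp_apply, show fw (IsLocalRing.closedPoint _) = w from
        (X ⊗ X).left.fromSpecResidueField_apply w _])
    refine ⟨q, ?_, ?_⟩
    · rw [← prO_mem_neutralSet_iff, ← hψ1 π, Scheme.Hom.comp_apply, hq]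
      exact hp1
    · show a.act.left (ψ π q) ∈ U
      rw [hq]
      exact hp3
  obtain ⟨q₁, hq₁, hq₁U⟩ := key (fst X X) h1
  obtain ⟨q₂, hq₂, hq₂U⟩ := key (snd X X) h2
  obtain ⟨q, hq, hqU₁, hqU₂⟩ := (Grp57.connectedComponent_unit (bcO f G)).1.2 _ _
    (U.isOpen.preimage (ψ (fst X X) ≫ a.act.left).continuous)
    (U.isOpen.preimage (ψ (snd X X) ≫ a.act.left).continuous) ⟨q₁, hq₁, hq₁U⟩ ⟨q₂, hq₂, hq₂U⟩
  -- the point moving both entries
  let m₀ : (bcO f G).left ⟶ (G ⊗ (X ⊗ X)).left :=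
    pullback.lift (prO f G) (pullback.snd G.hom f ≫ fw) (by rw [Category.assoc]; exact pullback.condition)
  let z := m₀ q
  let g : G ⊗ (X ⊗ X) ⟶ G := fst G (X ⊗ X) ≫ 𝟙 G
  have hm₀1 : m₀ ≫ (fst G (X ⊗ X)).left = prO f G := pullback.lift_fst _ _ _
  have hm₀2 : m₀ ≫ (snd G (X ⊗ X)).left = pullback.snd G.hom f ≫ fw := pullback.lift_snd _ _ _
  have hzw : (snd G (X ⊗ X)).left z = w := by
    rw [← Scheme.Hom.comp_apply, hm₀2, Scheme.Hom.comp_apply]
    exact (X ⊗ X).left.fromSpecResidueField_apply w _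
  have hz0 : (fst G (X ⊗ X)).left z ∈ SGA3x.neutralSet G := by
    rw [← Scheme.Hom.comp_apply, hm₀1]
    exact (prO_mem_neutralSet_iff G f q).2 hq
  have hm : ∀ π : X ⊗ X ⟶ X, (lift g (snd G (X ⊗ X) ≫ π) ≫ a.act).left z = a.act.left (ψ π q) := by
    intro π
    have : m₀ ≫ (lift g (snd G (X ⊗ X) ≫ π)).left = ψ π := by
      refine pullback.hom_ext (f := G.hom) (g := X.hom) ?_ ?_
      · rw [Category.assoc]
        show m₀ ≫ (lift g (snd G (X ⊗ X) ≫ π) ≫ fst G X).left = _
        rw [lift_fst, Over.comp_left, Over.id_left, Category.comp_id, hm₀1]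
        exact (hψ1 π).symm
      · rw [Category.assoc]
        show m₀ ≫ (lift g (snd G (X ⊗ X) ≫ π) ≫ snd G X).left = _
        rw [lift_snd, Over.comp_left, ← Category.assoc, hm₀2, Category.assoc]
        exact (hψ2 π).symm
    rw [Over.comp_left, Scheme.Hom.comp_apply, ← this, Scheme.Hom.comp_apply]
  let θ := pairAct a g
  have hθD : θ.left z ∈ Set.range (diagO X).left := by
    refine mem_diag_of_mem_closure U ?_ ?_ ?_
    · rw [← Scheme.Hom.comp_apply, ← Over.comp_left, lift_fst, hm]; exact hqU₁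
    · rw [← Scheme.Hom.comp_apply, ← Over.comp_left, lift_snd, hm]; exact hqU₂
    refine mem_closure_iff.2 fun O hO hzO => ?_
    have hopen : EGA43.IsOpenAt (snd G (X ⊗ X)).left z :=
      E4O.isOpenAt_of_isPullback (NeutralDim.isUnivOpenAt_of_dim_ge G hz0 fun t ht =>
          (dim_eq_of_specializes hdim ht).ge)
        (show IsPullback (fst G (X ⊗ X)).left (snd G (X ⊗ X)).left G.hom (X ⊗ X).hom from
          IsPullback.of_hasPullback _ _) z rfl
    obtain ⟨O', hO'sub, hO', hwO'⟩ := mem_nhds_iff.1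
      (hopen _ ((hO.preimage θ.left.continuous).mem_nhds hzO))
    obtain ⟨v, hvO', hvD⟩ := mem_closure_iff.1 hw O' hO' (hzw ▸ hwO')
    obtain ⟨z₁, hz₁, rfl⟩ := hO'sub hvO'
    exact ⟨θ.left z₁, hz₁, pairAct_mem_range a g z₁ hvD⟩
  exact hzw ▸ mem_range_of_pairAct a (𝟙 G) z hθD

theorem main (U : X.left.Opens) (hU : IsSeparated (U.ι ≫ X.hom)) :
    ∃ V : X.left.Opens, (V : Set X.left) = actSet a U ∧ IsSeparated (V.ι ≫ X.hom) := by
  let V : X.left.Opens := ⟨actSet a U, isOpen_actSet a hdim U⟩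
  refine ⟨V, rfl, ?_⟩
  let m : pullback (V.ι ≫ X.hom) (V.ι ≫ X.hom) ⟶ (X ⊗ X).left :=
    pullback.map _ _ _ _ V.ι V.ι (𝟙 _) (by simp) (by simp)
  have hr : Set.range m = (fst X X).left ⁻¹' (V : Set X.left) ∩ (snd X X).left ⁻¹' (V : Set X.left) := by
    rw [Scheme.Pullback.range_map, Scheme.Opens.range_ι]; rfl
  have hcl : IsClosed (Set.range (pullback.diagonal (V.ι ≫ X.hom))) := by
    rw [← preimage_diag V]
    refine isClosed_of_closure_subset fun y hy => ?_
    exact mem_diag_of_mem_actSet a hdim U (hr.le ⟨y, rfl⟩).1 (hr.le ⟨y, rfl⟩).2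
      (image_closure_subset_closure_image m.continuous ⟨y, hy, rfl⟩ |>
        (closure_mono (Set.image_preimage_subset _ _) ·))
  exact ⟨IsClosedImmersion.of_isPreimmersion _ hcl⟩

end Groth.Agent.CAlg6.NeutralAct
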