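import Groth.Agent.SGA3a.NeutralQC
import Groth.Agent.E4O.SectionCompCons
import Groth.Agent.SpPts86.LocPMore
import Groth.Agent.ConsPts12.Cons
import Groth.Prelude.Def_MoreMor
import Groth.Prelude.Def_ProCons

/-! Constructibility of the union of the neutral components of the fibres of a group scheme. -/

set_option autoImplicit false
universe u
open CategoryTheory CategoryTheory.Limits MonoidalCategory CartesianMonoidalCategory MonObj GrpObj AlgebraicGeometry Topology

noncomputable section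

namespace Groth.Agent.CAlg6.NeutralCons

open Groth.Agent.SGA3a

theorem mul_mem_component {K : Type u} [Field K] (G : Over (Spec (CommRingCat.of K))) [GrpObj G]
    (v : (G ⊗ G).left) (h1 : (fst G G).left v ∈ connectedComponent (Grp57.unitPt G))
    (h2 : (snd G G).left v ∈ connectedComponent (Grp57.unitPt G)) :
    μ[G].left v ∈ connectedComponent (Grp57.unitPt G) := by
  have hinv : ((snd G G)⁻¹ : G ⊗ G ⟶ G).left v ∈ connectedComponent (Grp57.unitPt G) := by
    have h := (div_conj_mem G ((lift (1 : G ⊗ G ⟶ G) (snd G G)).left v)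
      (by rw [Grp57.left_apply' _ _ _ (lift_snd _ _)]; exact h2)).1
      (by
        rw [Grp57.left_apply' _ _ _ (lift_fst _ _)]
        have e : (1 : G ⊗ G ⟶ G).left v = Grp57.unitPt G := by
          rw [Hom.one_def, Over.comp_left, Scheme.Hom.comp_apply]
          exact congrArg η[G].left (Subsingleton.elim (α := PrimeSpectrum K) _ _)
        rw [e]; exact mem_connectedComponent)
    rwa [Grp57.left_apply' _ _ ((snd G G)⁻¹ : G ⊗ G ⟶ G) ?_] at h
    simp [divHom, comp_mul, GrpObj.comp_inv]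
  have h := (div_conj_mem G ((lift (fst G G) (snd G G)⁻¹).left v)
    (by rw [Grp57.left_apply' _ _ _ (lift_snd _ _)]; exact hinv)).1
    (by rw [Grp57.left_apply' _ _ _ (lift_fst _ _)]; exact h1)
  rwa [Grp57.left_apply' _ _ μ[G] ?_] at h
  rw [MonObj.mul_eq_mul]
  simp [divHom, comp_mul, GrpObj.comp_inv]

variable {S : Scheme.{u}} (G : Over S) [GrpObj G]

theorem mul_mem_neutralSet (p : (G ⊗ G).left) (h1 : (fst G G).left p ∈ SGA3x.neutralSet G)
    (h2 : (snd G G).left p ∈ SGA3x.neutralSet G) : μ[G].left p ∈ SGA3x.neutralSet G := by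
  let s := (G ⊗ G).hom p
  let f : Spec (CommRingCat.of (S.residueField s)) ⟶ S := S.fromSpecResidueField s
  letI : GrpObj (bcO f G) := bcOGrp G f
  obtain ⟨v, hv⟩ : p ∈ Set.range (pairO f G) := by
    have : IsIso (Functor.LaxMonoidal.μ (Over.pullback f) G G).left :=
      ((Over.forget _).mapIso (Functor.Monoidal.μIso (Over.pullback f) G G)).isIso_hom
    obtain ⟨z, hz⟩ : p ∈ Set.range (prO f (G ⊗ G)) := by
      rw [Scheme.Pullback.range_fst, Scheme.range_fromSpecResidueField]; rfl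
    obtain ⟨v, hv⟩ := (Functor.LaxMonoidal.μ (Over.pullback f) G G).left.surjective z
    exact ⟨v, by rw [pairO, Scheme.Hom.comp_apply, hv, hz]⟩
  rw [← hv, pairO_fst_apply, prO_mem_neutralSet_iff] at h1
  rw [← hv, pairO_snd_apply, prO_mem_neutralSet_iff] at h2
  rw [← hv, pairO_mul_apply, prO_mem_neutralSet_iff]
  exact mul_mem_component (bcO f G) v h1 h2

theorem mem_range_pairs (W : G.left.Opens) (V : S.Opens) (g : W.toScheme ⟶ V.toScheme)
    (hg : g ≫ V.ι = W.ι ≫ G.hom) (p : (G ⊗ G).left) (h1 : (fst G G).left p ∈ W) (h2 : (snd G G).left p ∈ W) :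
    p ∈ Set.range (pullback.map g g G.hom G.hom W.ι W.ι V.ι hg hg : pullback g g ⟶ (G ⊗ G).left) := by
  show (p : ↥(pullback G.hom G.hom)) ∈ Set.range (pullback.map g g G.hom G.hom W.ι W.ι V.ι hg hg)
  rw [Scheme.Pullback.range_map]
  exact ⟨(Scheme.Opens.range_ι W).ge h1, (Scheme.Opens.range_ι W).ge h2⟩

theorem exists_local [LocallyOfFinitePresentation G.hom] (s : S) :
    ∃ V : S.Opens, s ∈ V ∧ IsAffineOpen V ∧ ∃ (P : Scheme.{u}) (m : P ⟶ G.left) (C : Set P),
      CompactSpace P ∧ QuasiSeparatedSpace P ∧ LocallyOfFinitePresentation m ∧ IsLocallyConstructible C ∧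
        m '' C = SGA3x.neutralSet G ∩ G.hom ⁻¹' (V : Set S) ∧ Set.range m ⊆ G.hom ⁻¹' (V : Set S) := by
  obtain ⟨_, ⟨V₀, hV₀, rfl⟩, hsV₀, -⟩ := S.isBasis_affineOpens.exists_subset_of_mem_open (Set.mem_univ s) isOpen_univ
  let V₀' : S.Opens := V₀
  replace hV₀ : IsAffineOpen V₀' := hV₀
  have hη : ∀ t : S, G.hom (η[G].left t) = t := fun t => congr($(Over.w η[G]) t)
  obtain ⟨_, ⟨W₀, hW₀, rfl⟩, heW₀, hW₀V⟩ := G.left.isBasis_affineOpens.exists_subset_of_mem_open
    (show η[G].left s ∈ ((G.hom ⁻¹ᵁ V₀' : G.left.Opens) : Set G.left) by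
      show G.hom (η[G].left s) ∈ V₀'
      rw [hη]; exact hsV₀) (G.hom ⁻¹ᵁ V₀').isOpen
  let W₀' : G.left.Opens := W₀
  replace hW₀ : IsAffineOpen W₀' := hW₀
  obtain ⟨_, ⟨V, hV, rfl⟩, hsV, hVW⟩ := S.isBasis_affineOpens.exists_subset_of_mem_open
    (show s ∈ ((η[G].left : S ⟶ G.left) ⁻¹ᵁ W₀' ⊓ V₀' : S.Opens) from ⟨heW₀, hsV₀⟩)
    ((η[G].left : S ⟶ G.left) ⁻¹ᵁ W₀' ⊓ V₀' : S.Opens).isOpen
  let V' : S.Opens := V
  replace hV : IsAffineOpen V' := hV
  let W : G.left.Opens := W₀' ⊓ G.hom ⁻¹ᵁ V'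
  have hle : W ≤ G.hom ⁻¹ᵁ V' := inf_le_right
  have heW : V' ≤ (η[G].left : S ⟶ G.left) ⁻¹ᵁ W := fun t ht =>
    ⟨(hVW ht).1, show G.hom (η[G].left t) ∈ V' by rw [hη]; exact ht⟩
  let fW : W.toScheme ⟶ V'.toScheme := G.hom.resLE V' W hle
  let sW : V'.toScheme ⟶ W.toScheme := (η[G].left : S ⟶ G.left).resLE W V' heW
  have hfW : fW ≫ V'.ι = W.ι ≫ G.hom := Scheme.Hom.resLE_comp_ι _ _
  have hsW : sW ≫ W.ι = V'.ι ≫ η[G].left := Scheme.Hom.resLE_comp_ι _ _
  have hsec : sW ≫ fW = 𝟙 _ := by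
    rw [← cancel_mono V'.ι, Category.assoc, hfW, ← Category.assoc, hsW, Category.assoc,
      show η[G].left ≫ G.hom = 𝟙 _ from Over.w η[G], Category.id_comp]
    exact Category.comp_id _
  haveI : IsAffine W₀'.toScheme := hW₀
  haveI : IsAffine V'.toScheme := hV
  haveI : IsAffine V₀'.toScheme := hV₀
  haveI : QuasiSeparatedSpace W.toScheme :=
    (G.left.homOfLE (inf_le_left : W ≤ W₀')).isOpenEmbedding.quasiSeparatedSpace
  haveI : CompactSpace W.toScheme := by
    refine isCompact_iff_compactSpace.1 ?_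
    let g : W₀'.toScheme ⟶ V₀'.toScheme := G.hom.resLE V₀' W₀' hW₀V
    have hc : IsCompact (g ⁻¹' (V₀'.ι ⁻¹' (V' : Set S))) := by
      refine g.isSpectralMap.2 (V'.isOpen.preimage V₀'.ι.continuous) ?_
      rw [V₀'.ι.isOpenEmbedding.isInducing.isCompact_iff, Set.image_preimage_eq_of_subset]
      · exact hV.isCompact
      · rw [Scheme.Opens.range_ι]; exact fun t ht => (hVW ht).2
    have hW' : (W : Set G.left) = W₀'.ι '' (g ⁻¹' (V₀'.ι ⁻¹' (V' : Set S))) := by
      refine Set.ext fun x => ⟨fun hx => ?_, ?_⟩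
      · have hx1 : x ∈ W₀' := hx.1
        refine ⟨⟨x, hx1⟩, ?_, rfl⟩
        show (g ≫ V₀'.ι) ⟨x, hx1⟩ ∈ V'
        rw [Scheme.Hom.resLE_comp_ι]
        exact hx.2
      · rintro ⟨y, hy, rfl⟩
        refine ⟨y.2, ?_⟩
        have hy' : (g ≫ V₀'.ι) y ∈ V' := hy
        rw [Scheme.Hom.resLE_comp_ι] at hy'
        exact hy'
    rw [hW']
    exact hc.image W₀'.ι.continuous
  haveI : QuasiCompact fW := quasiCompact_of_compactSpace fW
  haveI : QuasiSeparated fW := QuasiSeparated.of_quasiSeparatedSpace fW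
  haveI : LocallyOfFinitePresentation fW := inferInstance
  let C₀ := MoreMor.sectionComponents fW sW
  have hC₀ : IsLocallyConstructible C₀ := E4O.isLocallyConstructible_sectionComponents fW sW hsec
  have hfib : ∀ w : W.toScheme, V'.ι (fW w) = G.hom (W.ι w) := fun w => congr($hfW w)
  have hC₀sub : ∀ w ∈ C₀, W.ι w ∈ SGA3x.neutralSet G := by
    intro w hw
    refine Set.mem_iUnion.2 ⟨G.hom (W.ι w), ?_⟩
    refine (isPreconnected_connectedComponentIn.image W.ι W.ι.continuous.continuousOn).subset_connectedComponentIn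
      ⟨sW (fW w), mem_connectedComponentIn (congr($hsec (fW w))), ?_⟩ ?_ ⟨w, hw, rfl⟩
    · rw [← hfib]; exact congr($hsW (fW w))
    · rintro _ ⟨z, hz, rfl⟩
      show G.hom (W.ι z) = G.hom (W.ι w)
      have hz' : fW z = fW w := (connectedComponentIn_subset _ _ hz : z ∈ fW ⁻¹' {fW w})
      rw [← hfib, ← hfib, hz']
  let P := pullback fW fW
  let mp : P ⟶ (G ⊗ G).left := pullback.map fW fW G.hom G.hom W.ι W.ι V'.ι hfW hfW
  let m : P ⟶ G.left := mp ≫ μ[G].left
  have hmp1 : mp ≫ (fst G G).left = pullback.fst fW fW ≫ W.ι := pullback.lift_fst _ _ _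
  have hmp2 : mp ≫ (snd G G).left = pullback.snd fW fW ≫ W.ι := pullback.lift_snd _ _ _
  haveI : LocallyOfFinitePresentation (m ≫ G.hom) := by
    have : m ≫ G.hom = pullback.fst fW fW ≫ fW ≫ V'.ι := by
      rw [hfW, ← Category.assoc (pullback.fst fW fW), ← hmp1, Category.assoc, Category.assoc,
        Over.w μ[G], Over.w (fst G G)]
    rw [this]; infer_instance
  haveI : LocallyOfFinitePresentation m := SpPts86.lfp_of_comp m G.hom
  haveI : CompactSpace P := QuasiCompact.compactSpace_of_compactSpace (pullback.fst fW fW)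
  haveI : QuasiSeparatedSpace P := quasiSeparatedSpace_of_quasiSeparated (pullback.fst fW fW)
  refine ⟨V', hsV, hV, P, m, pullback.fst fW fW ⁻¹' C₀ ∩ pullback.snd fW fW ⁻¹' C₀, inferInstance, inferInstance,
    inferInstance, (SpPts86.isLocallyConstructible_preimage _ hC₀).inter (SpPts86.isLocallyConstructible_preimage _ hC₀), ?_⟩
  have hrange : Set.range m ⊆ G.hom ⁻¹' (V' : Set S) := by
    rintro _ ⟨q, rfl⟩
    show G.hom (μ[G].left (mp q)) ∈ V'
    rw [← Scheme.Hom.comp_apply _ G.hom, Over.w μ[G],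
      show (G ⊗ G).hom = (fst G G).left ≫ G.hom from (Over.w (fst G G)).symm, ← Scheme.Hom.comp_apply,
      ← Category.assoc, hmp1, Category.assoc, ← hfW]
    exact (fW (pullback.fst fW fW q)).2
  refine ⟨Set.Subset.antisymm ?_ ?_, hrange⟩
  · rintro _ ⟨q, ⟨hq1, hq2⟩, rfl⟩
    refine ⟨mul_mem_neutralSet G (mp q) ?_ ?_, hrange ⟨q, rfl⟩⟩
    · rw [← Scheme.Hom.comp_apply, hmp1]; exact hC₀sub _ hq1
    · rw [← Scheme.Hom.comp_apply, hmp2]; exact hC₀sub _ hq2
  · rintro x ⟨hx, hxV⟩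
    let t := G.hom x
    let f : Spec (CommRingCat.of (S.residueField t)) ⟶ S := S.fromSpecResidueField t
    letI : GrpObj (bcO f G) := bcOGrp G f
    haveI : LocallyOfFiniteType (bcO f G).hom := inferInstanceAs (LocallyOfFiniteType (pullback.snd G.hom f))
    obtain ⟨z, hz, hzx⟩ := (mem_neutralSet_iff_image G).1 hx
    let Cf := connectedComponent (Grp57.unitPt (bcO f G))
    let O : (bcO f G).left.Opens := ⟨prO f G ⁻¹' (W : Set G.left) ∩ Cf,
      (W.isOpen.preimage (prO f G).continuous).inter (isOpen_connectedComponent_unit (bcO f G))⟩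
    have hpu : prO f G (Grp57.unitPt (bcO f G)) = η[G].left t := by
      rw [prO_unitPt, S.fromSpecResidueField_apply]
    have heO : Grp57.unitPt (bcO f G) ∈ O := by
      refine ⟨?_, mem_connectedComponent⟩
      show prO f G (Grp57.unitPt (bcO f G)) ∈ W
      rw [hpu]; exact heW hxV
    obtain ⟨w, h1, h2, h3⟩ := exists_mul_of_mem_component (bcO f G) O heO hz
    have hOirr : _root_.IsPreconnected (O : Set (bcO f G).left) := by
      refine (show IsPreirreducible (O : Set (bcO f G).left) from ?_).isPreconnected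
      rintro A B hA hB ⟨a, haO, haA⟩ ⟨b, hbO, hbB⟩
      obtain ⟨c, hcC, ⟨hcA, hcO⟩, hcB, -⟩ := (Grp57.connectedComponent_unit (bcO f G)).1.2 (A ∩ O) (B ∩ O)
        (hA.inter O.isOpen) (hB.inter O.isOpen) ⟨a, haO.2, haA, haO⟩ ⟨b, hbO.2, hbB, hbO⟩
      exact ⟨c, hcO, hcA, hcB⟩
    have hmem : ∀ o ∈ O, ∀ w' : W.toScheme, W.ι w' = prO f G o → w' ∈ C₀ := by
      intro o ho w' hw'
      have hsub : prO f G '' (O : Set (bcO f G).left) ⊆ Set.range W.ι := by
        rintro _ ⟨o', ho', rfl⟩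
        rw [Scheme.Opens.range_ι]; exact ho'.1
      have hpc : _root_.IsPreconnected (W.ι ⁻¹' (prO f G '' (O : Set (bcO f G).left))) := by
        rw [← W.ι.isOpenEmbedding.isInducing.isPreconnected_image, Set.image_preimage_eq_of_subset hsub]
        exact hOirr.image _ (prO f G).continuous.continuousOn
      have ht : ∀ y : W.toScheme, W.ι y ∈ prO f G '' (O : Set (bcO f G).left) → V'.ι (fW y) = t := by
        rintro y ⟨o', -, ho'⟩
        rw [hfib, ← ho']
        exact (range_prO_residue G t).le ⟨o', rfl⟩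
      refine hpc.subset_connectedComponentIn ?_ ?_ ⟨o, ho, hw'.symm⟩
      · refine ⟨Grp57.unitPt (bcO f G), heO, ?_⟩
        rw [hpu]
        refine Eq.trans ?_ (congr($hsW (fW w'))).symm
        exact congrArg η[G].left (ht w' ⟨o, ho, hw'.symm⟩).symm
      · intro y hy
        exact V'.ι.isOpenEmbedding.injective ((ht y hy).trans (ht w' ⟨o, ho, hw'.symm⟩).symm)
    have hw1 : (fst G G).left (pairO f G w) ∈ (W : Set G.left) :=
      (pairO_fst_apply f G w).symm ▸ (show prO f G _ ∈ (W : Set G.left) from h1.1)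
    have hw2 : (snd G G).left (pairO f G w) ∈ (W : Set G.left) :=
      (pairO_snd_apply f G w).symm ▸ (show prO f G _ ∈ (W : Set G.left) from h2.1)
    obtain ⟨q, hq⟩ : pairO f G w ∈ Set.range mp := mem_range_pairs G W V' fW hfW _ hw1 hw2
    have e1 : W.ι (pullback.fst fW fW q) = prO f G ((fst (bcO f G) (bcO f G)).left w) := by
      rw [← Scheme.Hom.comp_apply, ← hmp1, Scheme.Hom.comp_apply, hq, pairO_fst_apply]
    have e2 : W.ι (pullback.snd fW fW q) = prO f G ((snd (bcO f G) (bcO f G)).left w) := by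
      rw [← Scheme.Hom.comp_apply, ← hmp2, Scheme.Hom.comp_apply, hq, pairO_snd_apply]
    have hq1 : pullback.fst fW fW q ∈ C₀ :=
      hmem ((fst (bcO f G) (bcO f G)).left w) h1 (pullback.fst fW fW q) e1
    have hq2 : pullback.snd fW fW q ∈ C₀ :=
      hmem ((snd (bcO f G) (bcO f G)).left w) h2 (pullback.snd fW fW q) e2
    refine ⟨q, ⟨?_, ?_⟩, ?_⟩
    · exact hq1
    · exact hq2
    · rw [Scheme.Hom.comp_apply, hq, pairO_mul_apply]
      exact (congrArg _ h3).trans hzx

theorem isIndConstructible [LocallyOfFinitePresentation G.hom] :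
    ProCons.IsIndConstructible (SGA3x.neutralSet G) := by
  intro x
  obtain ⟨V, hsV, hV, P, m, C, _, _, _, hC, hm, -⟩ := exists_local G (G.hom x)
  obtain ⟨_, ⟨U₀, hU, rfl⟩, hxU, hUV⟩ := G.left.isBasis_affineOpens.exists_subset_of_mem_open
    (show x ∈ ((G.hom ⁻¹ᵁ V : G.left.Opens) : Set G.left) from hsV) (G.hom ⁻¹ᵁ V).isOpen
  let U : G.left.Opens := U₀
  replace hU : IsAffineOpen U := hU
  haveI : IsAffine U.toScheme := hU
  haveI : CompactSpace U.toScheme := inferInstance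
  refine ⟨(U : Set G.left), U.isOpen, hxU,
    {T | ∃ O : (m ⁻¹ᵁ U).toScheme.affineOpens, T = (O.1.ι ≫ m ∣_ U) '' (((m ⁻¹ᵁ U).ι ⁻¹' C |> fun A => O.1.ι ⁻¹' A))},
    ?_, ?_⟩
  · rintro T ⟨O, rfl⟩
    haveI : IsAffine O.1.toScheme := O.2
    haveI : QuasiCompact (O.1.ι ≫ m ∣_ U) := quasiCompact_of_compactSpace _
    exact Scheme.Hom.isLocallyConstructible_image _
      (SpPts86.isLocallyConstructible_preimage _ (SpPts86.isLocallyConstructible_preimage _ hC))
  · ext ⟨y, hyU⟩
    constructor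
    · intro hy
      obtain ⟨q, hqC, hqy⟩ := hm.ge ⟨hy, hUV hyU⟩
      let q' : (m ⁻¹ᵁ U).toScheme := ⟨q, show m q ∈ U by rw [hqy]; exact hyU⟩
      obtain ⟨_, ⟨O, hO, rfl⟩, hqO, -⟩ :=
        (m ⁻¹ᵁ U).toScheme.isBasis_affineOpens.exists_subset_of_mem_open (Set.mem_univ q') isOpen_univ
      refine Set.mem_sUnion.2 ⟨_, ⟨⟨O, hO⟩, rfl⟩, ⟨q', hqO⟩, hqC, ?_⟩
      refine U.ι.isOpenEmbedding.injective ?_
      rw [← Scheme.Hom.comp_apply, Category.assoc, morphismRestrict_ι]
      exact hqy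
    · rintro ⟨_, ⟨O, rfl⟩, o, ho, hoy⟩
      have h := congrArg U.ι hoy
      rw [← Scheme.Hom.comp_apply, Category.assoc, morphismRestrict_ι] at h
      exact (hm.le ⟨_, ho, h⟩).1

theorem isLocallyConstructible [LocallyOfFinitePresentation G.hom] [QuasiSeparated G.hom] :
    IsLocallyConstructible (SGA3x.neutralSet G) := by
  choose V hsV hV P m C hP1 hP2 hm hC heq hrange using exists_local G
  refine IsLocallyConstructible.of_isOpenCover (U := fun s : S => G.hom ⁻¹ᵁ V s)
    (TopologicalSpace.IsOpenCover.mk (top_le_iff.mp fun x _ =>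
      TopologicalSpace.Opens.mem_iSup.mpr ⟨G.hom x, hsV (G.hom x)⟩)) fun s => ?_
  let U := G.hom ⁻¹ᵁ V s
  haveI : IsAffine (V s).toScheme := hV s
  haveI : QuasiSeparatedSpace U.toScheme := quasiSeparatedSpace_of_quasiSeparated (G.hom ∣_ V s)
  haveI := hP1 s
  haveI := hm s
  let m' : P s ⟶ U.toScheme := IsOpenImmersion.lift U.ι (m s) (by rw [Scheme.Opens.range_ι]; exact hrange s)
  have hm' : m' ≫ U.ι = m s := IsOpenImmersion.lift_fac _ _ _
  haveI : QuasiCompact m' := quasiCompact_of_compactSpace m'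
  haveI : LocallyOfFinitePresentation (m' ≫ U.ι) := by rw [hm']; infer_instance
  haveI : LocallyOfFinitePresentation m' := SpPts86.lfp_of_comp m' U.ι
  have h := Scheme.Hom.isLocallyConstructible_image m' (hC s)
  have heq' : m' '' C s = U.ι ⁻¹' SGA3x.neutralSet G := by
    ext y
    constructor
    · rintro ⟨q, hq, rfl⟩
      have := (heq s).le ⟨q, hq, rfl⟩
      rw [← hm', Scheme.Hom.comp_apply] at this
      exact this.1
    · intro hy
      obtain ⟨q, hq, hqy⟩ := (heq s).ge ⟨hy, y.2⟩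
      refine ⟨q, hq, U.ι.isOpenEmbedding.injective ?_⟩
      rw [← Scheme.Hom.comp_apply, hm']
      exact hqy
  rw [heq'] at h
  exact h

theorem isConstructible [LocallyOfFinitePresentation G.hom] [QuasiSeparated G.hom] [CompactSpace S] [QuasiSeparatedSpace S] :
    IsConstructible (SGA3x.neutralSet G) := by
  haveI : QuasiSeparatedSpace G.left := quasiSeparatedSpace_of_quasiSeparated G.hom
  obtain ⟨W, hW, hsub⟩ := exists_qc_open_neutralSet G fun s =>
    MorphismProperty.pullback_snd (P := @LocallyOfFiniteType) _ _ inferInstance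
  exact (isLocallyConstructible G).isConstructible_of_subset_of_isCompact hsub hW

end Groth.Agent.CAlg6.NeutralCons
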