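import Groth.Agent.CAlg6.QFSection
import Groth.Agent.E4O.ValuationLift
import Groth.Agent.E4O.BaseChangeDim
import Groth.Agent.LimTop61.Diag
import Mathlib.AlgebraicGeometry.AffineSpace
import Mathlib.AlgebraicGeometry.Morphisms.QuasiFinite

/-!
A quasi-finite morphism to affine space over the base is universally open at a point as soon as the
structure morphism is universally open at the generic point of a component of full dimension through it
(SGA 3 VI_B 5.x / EGA IV 14.5).
-/

set_option autoImplicit false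
universe u
open CategoryTheory CategoryTheory.Limits AlgebraicGeometry MvPolynomial
open scoped TensorProduct
open Groth.Agent.E4O

namespace Groth.Agent.CAlg6.UnivOpenSlice

/-- generic and closed point: lifting from openness -/
theorem exists_generization {P : Scheme.{u}} {V : Type u} [CommRing V] [IsDomain V]
    (q : P ⟶ Spec (CommRingCat.of V)) (z : P) (h : EGA43.IsOpenAt q z) :
    ∃ z' : P, z' ⤳ z ∧ q z' = (⟨⊥, Ideal.isPrime_bot⟩ : PrimeSpectrum V) := by
  let η : PrimeSpectrum V := ⟨⊥, Ideal.isPrime_bot⟩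
  have hcl : z ∈ closure (q ⁻¹' {η}) := by
    rw [mem_closure_iff]
    intro O hO hzO
    obtain ⟨U, hU, hUo, hmU⟩ := mem_nhds_iff.1 (h _ (hO.mem_nhds hzO))
    obtain ⟨a, haO, ha⟩ := hU ((show (η : PrimeSpectrum V) ⤳ (q z) from
      (PrimeSpectrum.le_iff_specializes η _).1 bot_le).mem_open hUo hmU)
    exact ⟨a, haO, ha⟩
  obtain ⟨z', hz', hsp⟩ := exists_specializes_of_mem_closure_preimage q hcl
  exact ⟨z', hsp, hz'⟩

/-- valuative criterion for universal openness at a point -/
theorem isUnivOpenAt_of_valuationRing {X Y : Scheme.{u}} {f : X ⟶ Y} [LocallyOfFinitePresentation f] {x : X}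
    (h : ∀ (V : Type u) [CommRing V] [IsDomain V] [ValuationRing V] (g : Spec (CommRingCat.of V) ⟶ Y)
      (z : ↥(pullback f g)), pullback.fst f g z = x → pullback.snd f g z = IsLocalRing.closedPoint V →
      ∃ z' : ↥(pullback f g), z' ⤳ z ∧ pullback.snd f g z' = (⟨⊥, Ideal.isPrime_bot⟩ : PrimeSpectrum V)) :
    EGA43.IsUnivOpenAt f x := by
  intro T w x' hx'
  rw [isOpenAt_iff_forall_exists_specializes]
  intro y' hy'
  obtain ⟨V, _, _, _, v, hv0, hv1⟩ := exists_valuationRing_hom hy'
  obtain ⟨z, hz1, hz2⟩ := Scheme.Pullback.exists_preimage_pullback (f := f) (g := v ≫ w) x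
    (IsLocalRing.closedPoint V) (by
      rw [Scheme.Hom.comp_apply, hv1, ← hx', ← Scheme.Hom.comp_apply, ← Scheme.Hom.comp_apply, pullback.condition])
  let ρ : pullback f (v ≫ w) ⟶ pullback f w :=
    pullback.lift (pullback.fst _ _) (pullback.snd _ _ ≫ v) (by rw [Category.assoc, pullback.condition])
  -- the point of the iterated base change over `x'` and the closed point
  obtain ⟨z₂, hz₂1, hz₂2⟩ := Scheme.Pullback.exists_preimage_pullback (f := pullback.snd f w) (g := v) x'
    (IsLocalRing.closedPoint V) hv1.symm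
  let e := pullbackLeftPullbackSndIso f w v
  have e1 : pullback.fst f (v ≫ w) (e.hom z₂) = x := by
    rw [← Scheme.Hom.comp_apply, pullbackLeftPullbackSndIso_hom_fst, Scheme.Hom.comp_apply, hz₂1, hx']
  have e2 : pullback.snd f (v ≫ w) (e.hom z₂) = IsLocalRing.closedPoint V := by
    rw [← Scheme.Hom.comp_apply, pullbackLeftPullbackSndIso_hom_snd, hz₂2]
  obtain ⟨z', hz', hz'η⟩ := h V (v ≫ w) (e.hom z₂) e1 e2
  refine ⟨pullback.fst (pullback.snd f w) v (e.inv z'), ?_, ?_⟩
  · rw [← Scheme.Hom.comp_apply, ← Scheme.Hom.comp_apply, ← hv0, ← hz'η, ← Scheme.Hom.comp_apply]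
    congr 1
    simp [e, pullback.condition]
  · have := (hz'.map e.inv.continuous).map (pullback.fst (pullback.snd f w) v).continuous
    rwa [show e.inv (e.hom z₂) = z₂ by rw [← Scheme.Hom.comp_apply, Iso.hom_inv_id]; rfl, hz₂1] at this

/-- a quasi-finite algebra over a polynomial ring: coordinates are independent in maximal dimension -/
theorem algebraicIndependent_of_quasiFinite {A B σ : Type u} [CommRing A] [CommRing B] [Algebra A B]
    [Finite σ] (t : σ → B) (hqf : (aeval (R := A) t).toRingHom.QuasiFinite) (z : Ideal B) [z.IsPrime]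
    (hdeg : Cardinal.mk σ ≤ Algebra.trdeg (A ⧸ z.under A) (B ⧸ z)) :
    AlgebraicIndependent (A ⧸ z.under A) fun i => Ideal.Quotient.mk z (t i) := by
  let D := A ⧸ z.under A
  let E := B ⧸ z
  let T : σ → E := fun i => Ideal.Quotient.mk z (t i)
  have : FaithfulSMul D E := (faithfulSMul_iff_algebraMap_injective _ _).2 Ideal.algebraMap_quotient_injective
  let PA := MvPolynomial σ A
  let _ : Algebra PA B := (aeval (R := A) t).toRingHom.toAlgebra
  have : Algebra.QuasiFinite PA B := hqf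
  let D' := PA ⧸ z.under PA
  have : Algebra.QuasiFinite D' E := Algebra.QuasiFinite.of_restrictScalars PA D' E
  have : FaithfulSMul D' E := (faithfulSMul_iff_algebraMap_injective _ _).2 Ideal.algebraMap_quotient_injective
  let L := FractionRing E
  let K := FractionRing D'
  let _ : Algebra K L := FractionRing.liftAlgebra D' L
  have : Algebra.QuasiFinite D' L := Algebra.QuasiFinite.trans D' E L
  have : Algebra.QuasiFinite K L := Algebra.QuasiFinite.of_restrictScalars D' K L
  have : Module.Finite K L := .of_quasiFinite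
  have hL : Algebra.IsAlgebraic D' L :=
    IsFractionRing.comap_isAlgebraic_iff.mpr (Algebra.IsAlgebraic.of_finite K L)
  let S := Algebra.adjoin D (Set.range T)
  let g : PA →+* S := ((aeval (R := D) T).toRingHom.comp (MvPolynomial.map (Ideal.Quotient.mk (z.under A)))).codRestrict
    S fun p => by
      show aeval T _ ∈ Algebra.adjoin D (Set.range T)
      rw [Algebra.adjoin_range_eq_range_aeval]
      exact ⟨_, rfl⟩
  have hg : ∀ p, (g p).1 = Ideal.Quotient.mk z (aeval (R := A) t p) := fun p => by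
    have : (aeval (R := D) T).toRingHom.comp (MvPolynomial.map (Ideal.Quotient.mk (z.under A))) =
        (Ideal.Quotient.mk z).comp (aeval (R := A) t).toRingHom := by
      refine MvPolynomial.ringHom_ext (fun a => ?_) fun i => ?_
      · show aeval T (MvPolynomial.map _ (C a)) = Ideal.Quotient.mk z (aeval t (C a))
        rw [MvPolynomial.map_C, MvPolynomial.aeval_C, MvPolynomial.aeval_C]
        rfl
      · show aeval T (MvPolynomial.map _ (MvPolynomial.X i)) = Ideal.Quotient.mk z (aeval t (MvPolynomial.X i))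
        rw [MvPolynomial.map_X, MvPolynomial.aeval_X, MvPolynomial.aeval_X]
    exact congr($this p)
  let g' : D' →+* S := Ideal.Quotient.lift _ g fun p hp =>
    Subtype.ext ((hg p).trans (Ideal.Quotient.eq_zero_iff_mem.2 hp))
  have hg' : (algebraMap S E).comp g' = algebraMap D' E := Ideal.Quotient.ringHom_ext (RingHom.ext hg)
  have hg'inj : Function.Injective g' := fun a b h =>
    FaithfulSMul.algebraMap_injective D' E
      ((congr($hg' a)).symm.trans ((congrArg (algebraMap S E) h).trans (congr($hg' b))))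
  have : Algebra.IsAlgebraic S E := ⟨fun e => by
    have h1 : IsAlgebraic D' e := (isAlgebraic_algebraMap_iff (IsFractionRing.injective E L)).1 (hL.isAlgebraic _)
    exact h1.ringHom_of_comp_eq g' (RingHom.id E) hg'inj (RingHom.ext fun a => congr($hg' a))⟩
  exact (Algebra.IsAlgebraic.isTranscendenceBasis_of_le_trdeg_of_finite D T hdeg).1

variable {σ : Type u} {S : Scheme.{u}}

/-- maps from an affine scheme to affine space over an affine chart -/
theorem exists_eq_aeval {A R : Type u} [CommRing A] [CommRing R] [Algebra A R]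
    (j : Spec (CommRingCat.of A) ⟶ S) (g : Spec (CommRingCat.of R) ⟶ 𝔸(σ; S))
    (hg : g ≫ (𝔸(σ; S) ↘ S) = Spec.map (CommRingCat.ofHom (algebraMap A R)) ≫ j) :
    ∃ c : σ → R, g = Spec.map (CommRingCat.ofHom (aeval (R := A) c).toRingHom) ≫
      (AffineSpace.SpecIso σ (CommRingCat.of A)).inv ≫ AffineSpace.map σ j := by
  refine ⟨fun i => (Scheme.ΓSpecIso (CommRingCat.of R)).hom (g.appTop (AffineSpace.coord S i)), ?_⟩
  apply AffineSpace.hom_ext
  · rw [hg, Category.assoc, Category.assoc, AffineSpace.map_over, AffineSpace.SpecIso_inv_over_assoc,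
      ← Spec.map_comp_assoc, ← CommRingCat.ofHom_comp]
    congr 3
    exact ((aeval (R := A) _).comp_algebraMap).symm
  · intro i
    rw [Scheme.Hom.comp_appTop, Scheme.Hom.comp_appTop, CommRingCat.comp_apply, CommRingCat.comp_apply,
      AffineSpace.map_appTop_coord, AffineSpace.SpecIso_inv_appTop_coord, ← CommRingCat.comp_apply,
      ← Scheme.ΓSpecIso_inv_naturality, CommRingCat.comp_apply]
    erw [aeval_X]
    rw [← CommRingCat.comp_apply, Iso.hom_inv_id]
    rfl

theorem isOpenImmersion_chart {A : Type u} [CommRing A] (j : Spec (CommRingCat.of A) ⟶ S) [IsOpenImmersion j] :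
    IsOpenImmersion ((AffineSpace.SpecIso σ (CommRingCat.of A)).inv ≫ AffineSpace.map σ j) := by
  have : IsOpenImmersion (AffineSpace.map σ j) :=
    MorphismProperty.of_isPullback (P := @IsOpenImmersion) (AffineSpace.isPullback_map j).flip ‹_›
  infer_instance

variable {X : Scheme.{u}}

theorem main [Finite σ] (f : X ⟶ S) [LocallyOfFinitePresentation f] (u : X ⟶ 𝔸(σ; S))
    [LocallyQuasiFinite u] (hu : u ≫ (𝔸(σ; S) ↘ S) = f) {x z : X} (hzx : z ⤳ x) (hfz : f z = f x)
    (hopen : EGA43.IsUnivOpenAt f z) (hdeg : Cardinal.mk σ ≤ (fdeg f z : Cardinal.{u})) :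
    EGA43.IsUnivOpenAt u x := by
  haveI : LocallyOfFinitePresentation (u ≫ (𝔸(σ; S) ↘ S)) := by rw [hu]; infer_instance
  haveI : LocallyOfFinitePresentation u := LimTop61.locallyOfFinitePresentation_of_comp u (𝔸(σ; S) ↘ S)
  refine isUnivOpenAt_of_valuationRing fun V _ _ _ a x' hx' hx'c => ?_
  obtain ⟨C, ⟨q, rfl⟩, -⟩ := exists_chart f x
  obtain ⟨qz, rfl⟩ := hzx.mem_open C.isOpenEmbedding_pt.isOpen_range ⟨q, rfl⟩
  have hzq : qz.asIdeal ≤ q.asIdeal := (C.specializes_iff _ _).1 hzx
  have hzA : qz.asIdeal.under C.A = q.asIdeal.under C.A := by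
    have h := hfz
    rw [C.apply, C.apply] at h
    exact congrArg PrimeSpectrum.asIdeal (C.isOpenEmbedding_ptY.injective h)
  let b : Spec (CommRingCat.of V) ⟶ S := a ≫ (𝔸(σ; S) ↘ S)
  have hbc : b (IsLocalRing.closedPoint V) = f (C.pt q) := by
    have h := congrArg (fun k : pullback u a ⟶ 𝔸(σ; S) => (𝔸(σ; S) ↘ S) (k x')) pullback.condition
    simp only [Scheme.Hom.comp_apply] at h
    rw [hx', hx'c] at h
    exact h.symm.trans (congrArg (fun k : X ⟶ S => k (C.pt q)) hu)
  have hrange : Set.range b ⊆ Set.range C.j := by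
    rintro _ ⟨t, rfl⟩
    refine (Specializes.map ((PrimeSpectrum.le_iff_specializes t (IsLocalRing.closedPoint V)).1
      (IsLocalRing.le_maximalIdeal (t : PrimeSpectrum V).2.ne_top)) b.continuous).mem_open
        C.j.isOpenEmbedding.isOpen_range ?_
    rw [hbc, C.apply]
    exact ⟨_, rfl⟩
  let v : Spec (CommRingCat.of V) ⟶ Spec (CommRingCat.of C.A) := IsOpenImmersion.lift C.j b hrange
  obtain ⟨φ, hφ⟩ := Spec.map_surjective v
  let _ : Algebra C.A V := φ.hom.toAlgebra
  have hb : b = Spec.map (CommRingCat.ofHom (algebraMap C.A V)) ≫ C.j := by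
    exact (IsOpenImmersion.lift_fac C.j b hrange).symm.trans (congrArg (· ≫ C.j) hφ.symm)
  let jA := (AffineSpace.SpecIso σ (CommRingCat.of C.A)).inv ≫ AffineSpace.map σ C.j
  have : IsOpenImmersion jA := isOpenImmersion_chart C.j
  obtain ⟨c, hca⟩ := exists_eq_aeval C.j a hb
  obtain ⟨t, hte⟩ := exists_eq_aeval C.j (C.e ≫ u) (by rw [Category.assoc, hu, C.comm])
  have hqf : (aeval (R := C.A) t).toRingHom.QuasiFinite := by
    have h1 : LocallyQuasiFinite (Spec.map (CommRingCat.ofHom (aeval (R := C.A) t).toRingHom) ≫ jA) := by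
      rw [← hte]; infer_instance
    have h2 := LocallyQuasiFinite.of_comp (Spec.map (CommRingCat.ofHom (aeval (R := C.A) t).toRingHom)) jA
    exact (HasRingHomProperty.Spec_iff (P := @LocallyQuasiFinite)).1 h2
  let PA := MvPolynomial σ C.A
  let _ : Algebra PA C.B := (aeval (R := C.A) t).toRingHom.toAlgebra
  let _ : Algebra PA V := (aeval (R := C.A) c).toRingHom.toAlgebra
  have : IsScalarTower C.A PA C.B := IsScalarTower.of_algebraMap_eq fun k => (AlgHom.commutes _ k).symm
  have : IsScalarTower C.A PA V := IsScalarTower.of_algebraMap_eq fun k => (AlgHom.commutes _ k).symm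
  obtain ⟨e, he, he1, he2, her⟩ := exists_tensor_chart u a C.e (𝟙 _) jA hte
    ((Category.id_comp a).trans hca)
  obtain ⟨zc, rfl⟩ : x' ∈ Set.range e := by
    rw [her]
    exact ⟨⟨q, hx'.symm⟩, ⟨_, rfl⟩⟩
  have hfst : ∀ s, pullback.fst u a (e s) =
      C.pt (PrimeSpectrum.comap Algebra.TensorProduct.includeLeftRingHom s) := fun s =>
    (Scheme.Hom.comp_apply e (pullback.fst u a) s).symm.trans (congrArg (fun k : _ ⟶ X => k s) he1)
  have hsnd : ∀ s, pullback.snd u a (e s) = PrimeSpectrum.comap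
      (Algebra.TensorProduct.includeRight : V →ₐ[PA] C.B ⊗[PA] V).toRingHom s := fun s =>
    (Scheme.Hom.comp_apply e (pullback.snd u a) s).symm.trans
      (congrArg (fun k : _ ⟶ Spec (CommRingCat.of V) => k s) he2)
  rw [hfst] at hx'
  rw [hsnd] at hx'c
  let π : C.B ⊗[C.A] V →ₐ[C.A] C.B ⊗[PA] V := Algebra.TensorProduct.lift
    ((Algebra.TensorProduct.includeLeft (S := PA)).restrictScalars C.A)
    ((Algebra.TensorProduct.includeRight : V →ₐ[PA] C.B ⊗[PA] V).restrictScalars C.A)
    fun _ _ => Commute.all _ _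
  have hπl : π.toRingHom.comp Algebra.TensorProduct.includeLeftRingHom =
      Algebra.TensorProduct.includeLeftRingHom := RingHom.ext fun r => by
    show π (r ⊗ₜ[C.A] 1) = r ⊗ₜ[PA] 1
    rw [Algebra.TensorProduct.lift_tmul, map_one, mul_one]; rfl
  have hπr : π.toRingHom.comp (Algebra.TensorProduct.includeRight : V →ₐ[C.A] C.B ⊗[C.A] V).toRingHom =
      (Algebra.TensorProduct.includeRight : V →ₐ[PA] C.B ⊗[PA] V).toRingHom := RingHom.ext fun r => by
    show π (1 ⊗ₜ[C.A] r) = 1 ⊗ₜ[PA] r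
    rw [Algebra.TensorProduct.lift_tmul, map_one, one_mul]; rfl
  have hzc : (PrimeSpectrum.asIdeal (R := C.B ⊗[PA] V) zc).IsPrime := (zc : PrimeSpectrum (C.B ⊗[PA] V)).2
  let Q : Ideal (C.B ⊗[C.A] V) := (PrimeSpectrum.asIdeal (R := C.B ⊗[PA] V) zc).comap π.toRingHom
  have hQ : Q.IsPrime := Ideal.IsPrime.comap _
  have hQl : Q.comap Algebra.TensorProduct.includeLeftRingHom = q.asIdeal := by
    rw [Ideal.comap_comap, hπl]
    exact congrArg PrimeSpectrum.asIdeal (C.isOpenEmbedding_pt.injective hx')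
  have hQr : Q.comap (Algebra.TensorProduct.includeRight : V →ₐ[C.A] C.B ⊗[C.A] V).toRingHom =
      IsLocalRing.maximalIdeal V := by
    rw [Ideal.comap_comap, hπr]
    exact congrArg PrimeSpectrum.asIdeal hx'c
  have hc : ∀ i, t i ⊗ₜ[C.A] 1 - 1 ⊗ₜ[C.A] c i ∈ Q := fun i => by
    show π (t i ⊗ₜ[C.A] 1 - 1 ⊗ₜ[C.A] c i) ∈ PrimeSpectrum.asIdeal (R := C.B ⊗[PA] V) zc
    have e1 : algebraMap PA C.B (MvPolynomial.X i) = t i := aeval_X _ _
    have e2 : algebraMap PA V (MvPolynomial.X i) = c i := aeval_X _ _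
    rw [map_sub, show π (t i ⊗ₜ[C.A] 1) = t i ⊗ₜ[PA] 1 from congr($hπl (t i)),
      show π (1 ⊗ₜ[C.A] c i) = 1 ⊗ₜ[PA] c i from congr($hπr (c i)), ← e1, ← e2,
      Algebra.TensorProduct.tmul_one_eq_one_tmul, sub_self]
    exact Ideal.zero_mem _
  have hind : AlgebraicIndependent (C.A ⧸ qz.asIdeal.under C.A) fun i => Ideal.Quotient.mk qz.asIdeal (t i) :=
    algebraicIndependent_of_quasiFinite t hqf qz.asIdeal (hdeg.trans (C.trdeg_eq_fdeg qz).ge)
  obtain ⟨e', he', he'1, he'2, -⟩ := exists_tensor_chart f b C.e (𝟙 _) C.j C.comm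
    ((Category.id_comp b).trans hb)
  obtain ⟨w, hw, hwQ, hwV, hwc⟩ := QFSection.exists_lift_section t hqf qz.asIdeal q.asIdeal hzq hzA hind
    Q hQl hQr c hc fun Q₀ hQ₀ hl hr => by
      let z₀ : PrimeSpectrum (C.B ⊗[C.A] V) := ⟨Q₀, hQ₀⟩
      have h1 : pullback.fst f b (e' z₀) = C.pt qz := by
        refine ((Scheme.Hom.comp_apply e' (pullback.fst f b) z₀).symm.trans
          (congrArg (fun k : _ ⟶ X => k z₀) he'1)).trans ?_
        exact congrArg C.pt (PrimeSpectrum.ext hl)
      obtain ⟨z', hz', hz'η⟩ := exists_generization (pullback.snd f b) (e' z₀) (hopen _ b (e' z₀) h1)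
      obtain ⟨w, rfl⟩ := hz'.mem_open e'.isOpenEmbedding.isOpen_range ⟨z₀, rfl⟩
      rw [← Scheme.Hom.comp_apply, he'2, Category.comp_id] at hz'η
      exact ⟨PrimeSpectrum.asIdeal (R := C.B ⊗[C.A] V) w, (w : PrimeSpectrum (C.B ⊗[C.A] V)).2,
        (PrimeSpectrum.le_iff_specializes w z₀).2 (e'.isOpenEmbedding.isInducing.specializes_iff.1 hz'),
        congrArg PrimeSpectrum.asIdeal hz'η⟩
  let R := C.B ⊗[C.A] V
  let mw : R →+* R ⧸ w := Ideal.Quotient.mk w
  let fB : C.B →ₐ[PA] R ⧸ w :=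
    (Ideal.Quotient.mkₐ PA w).comp (Algebra.TensorProduct.includeLeft : C.B →ₐ[PA] R)
  let fV : V →ₐ[PA] R ⧸ w :=
    { toRingHom := mw.comp (Algebra.TensorProduct.includeRight : V →ₐ[C.A] R).toRingHom
      commutes' := fun p => by
        show (mw.comp (Algebra.TensorProduct.includeRight : V →ₐ[C.A] R).toRingHom).comp (algebraMap PA V) p =
          algebraMap PA (R ⧸ w) p
        refine RingHom.congr_fun (MvPolynomial.ringHom_ext (fun k => ?_) fun i => ?_) p
        · show mw (1 ⊗ₜ[C.A] aeval (R := C.A) c (MvPolynomial.C k)) =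
            mw (aeval (R := C.A) t (MvPolynomial.C k) ⊗ₜ[C.A] 1)
          rw [aeval_C, aeval_C, ← Algebra.TensorProduct.tmul_one_eq_one_tmul]
        · show mw (1 ⊗ₜ[C.A] aeval (R := C.A) c (MvPolynomial.X i)) = mw (aeval (R := C.A) t (MvPolynomial.X i) ⊗ₜ[C.A] 1)
          rw [aeval_X, aeval_X]
          exact (Ideal.Quotient.eq.2 (hwc i)).symm }
  let θ : C.B ⊗[PA] V →ₐ[PA] R ⧸ w := Algebra.TensorProduct.lift fB fV fun _ _ => Commute.all _ _
  have hθπ : ∀ r, θ (π r) = mw r := by
    intro r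
    induction r using TensorProduct.induction_on with
    | zero => simp
    | tmul b v =>
      rw [Algebra.TensorProduct.lift_tmul]
      show θ (b ⊗ₜ[PA] 1 * 1 ⊗ₜ[PA] v) = mw (b ⊗ₜ[C.A] v)
      rw [Algebra.TensorProduct.tmul_mul_tmul, mul_one, one_mul, Algebra.TensorProduct.lift_tmul]
      show mw (b ⊗ₜ[C.A] 1) * mw (1 ⊗ₜ[C.A] v) = mw (b ⊗ₜ[C.A] v)
      rw [← map_mul, Algebra.TensorProduct.tmul_mul_tmul, mul_one, one_mul]
    | add r s hr hs => simp only [map_add, hr, hs]
  have hπs : ∀ y, ∃ r, π r = y := by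
    intro y
    induction y using TensorProduct.induction_on with
    | zero => exact ⟨0, map_zero _⟩
    | tmul b v =>
      refine ⟨b ⊗ₜ[C.A] v, ?_⟩
      rw [Algebra.TensorProduct.lift_tmul]
      show b ⊗ₜ[PA] 1 * 1 ⊗ₜ[PA] v = b ⊗ₜ[PA] v
      rw [Algebra.TensorProduct.tmul_mul_tmul, mul_one, one_mul]
    | add y y' hy hy' =>
      obtain ⟨r, hr⟩ := hy
      obtain ⟨r', hr'⟩ := hy'
      exact ⟨r + r', by rw [map_add, hr, hr']⟩
  have hker : (RingHom.ker θ.toRingHom).IsPrime := RingHom.ker_isPrime _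
  let w' : PrimeSpectrum (C.B ⊗[PA] V) := ⟨RingHom.ker θ.toRingHom, hker⟩
  refine ⟨e w', Specializes.map ((PrimeSpectrum.le_iff_specializes w' zc).1 fun y hy => ?_) e.continuous, ?_⟩
  · obtain ⟨r, rfl⟩ := hπs y
    exact hwQ (Ideal.Quotient.eq_zero_iff_mem.1 ((hθπ r).symm.trans hy))
  · rw [hsnd]
    refine PrimeSpectrum.ext ?_
    show (RingHom.ker θ.toRingHom).comap
      (Algebra.TensorProduct.includeRight : V →ₐ[PA] C.B ⊗[PA] V).toRingHom = ⊥
    rw [← hπr, ← Ideal.comap_comap, RingHom.comap_ker,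
      show θ.toRingHom.comp π.toRingHom = mw from RingHom.ext hθπ, Ideal.mk_ker, hwV]

end Groth.Agent.CAlg6.UnivOpenSlice
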