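import Groth.Agent.CAlg6.NeutralCons
import Groth.Agent.E4O.SectionCompStable
import Groth.Agent.E4O.ValDim
import Groth.Agent.E4O.BaseChangeDim
import Groth.Agent.E4O.GenOpen
import Groth.Agent.CAlg6.UnivOpenSlice
import Groth.Agent.CM62.DimStrata
import Groth.Agent.SGA3a.GrpDim

/-!
Universal openness along the neutral components of a group scheme and the dimension of the fibres.
-/

set_option autoImplicit false
set_option linter.style.haveILetI false
set_option backward.isDefEq.respectTransparency.types false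
universe u
open CategoryTheory CategoryTheory.Limits AlgebraicGeometry MonoidalCategory CartesianMonoidalCategory MonObj

noncomputable section

namespace Groth.Agent.CAlg6.NeutralDim

open Groth.Agent.SGA3a

variable {S : Scheme.{u}} (G : Over S) [GrpObj G]

theorem hom_unit (s : S) : G.hom (η[G].left s) = s := congr($(Over.w η[G]) s)

theorem unit_comp : η[G].left ≫ G.hom = 𝟙 S := Over.w η[G]

theorem mem_neutralSet_iff {x : G.left} : x ∈ SGA3x.neutralSet G ↔
    x ∈ connectedComponentIn (G.hom ⁻¹' {G.hom x}) (η[G].left (G.hom x)) := by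
  refine ⟨fun hx => ?_, fun hx => Set.mem_iUnion.2 ⟨G.hom x, hx⟩⟩
  obtain ⟨p, hp⟩ := Set.mem_iUnion.1 hx
  have hfib : G.hom x = p := by
    have h := connectedComponentIn_subset _ _ hp
    exact h
  subst hfib
  exact hp

theorem isIrreducible_component [LocallyOfFiniteType G.hom] (s : S) :
    IsIrreducible (connectedComponentIn (G.hom ⁻¹' {s}) (η[G].left s)) := by
  let f := S.fromSpecResidueField s
  letI : GrpObj (bcO f G) := bcOGrp G f
  haveI : LocallyOfFiniteType (bcO f G).hom := MorphismProperty.pullback_snd (P := @LocallyOfFiniteType) _ _ ‹_›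
  have heq : connectedComponentIn (G.hom ⁻¹' {s}) (η[G].left s) = prO f G '' fibNeutral G f := by
    ext x
    constructor
    · intro hx
      have hxs : G.hom x = s := by
        have h := connectedComponentIn_subset _ _ hx
        exact h
      subst hxs
      exact (mem_neutralSet_iff_image G).1 ((mem_neutralSet_iff G).2 hx)
    · rintro ⟨z, hz, rfl⟩
      have h := (mem_neutralSet_iff G).1 ((prO_mem_neutralSet_iff G f z).2 hz)
      have e : G.hom (prO f G z) = s := (range_prO_residue G s).le ⟨z, rfl⟩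
      have key : ∀ a : G.left, a ∈ connectedComponentIn (G.hom ⁻¹' {G.hom a}) (η[G].left (G.hom a)) →
          G.hom a = s → a ∈ connectedComponentIn (G.hom ⁻¹' {s}) (η[G].left s) := fun a ha e => by
        subst e; exact ha
      exact key _ h e
  rw [heq]
  exact (Grp57.connectedComponent_unit (bcO f G)).1.image _ (prO f G).continuous.continuousOn

theorem stableIrredAt [LocallyOfFiniteType G.hom] (s : S) : E4O.StableIrredAt G.hom η[G].left s := by
  intro X' Y' f' p h hsq g' hg' hgp y' _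
  letI : GrpObj (bcO h G) := bcOGrp G h
  haveI : LocallyOfFiniteType (bcO h G).hom := MorphismProperty.pullback_snd (P := @LocallyOfFiniteType) _ _ ‹_›
  let θ : (bcO h G).left ⟶ X' := hsq.isoPullback.inv
  have h1 : θ ≫ f' = (bcO h G).hom := hsq.isoPullback_inv_snd
  have h2 : θ ≫ p = prO h G := hsq.isoPullback_inv_fst
  have hu : η[bcO h G].left ≫ θ = g' := by
    apply hsq.hom_ext
    · rw [Category.assoc, h2, prO_unit, hgp]
    · rw [Category.assoc, h1, hg']
      exact Over.w η[bcO h G]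
  have hirr := (isIrreducible_component (bcO h G) y').image θ θ.continuous.continuousOn
  let Θ := hsq.isoPullback.symm.hom.homeomorph
  have hset : (bcO h G).hom ⁻¹' {y'} = Θ ⁻¹' (f' ⁻¹' {y'}) := by
    ext z
    show (bcO h G).hom z = y' ↔ f' (θ z) = y'
    rw [← Scheme.Hom.comp_apply θ f', h1]
  have h3 : Θ '' connectedComponentIn ((bcO h G).hom ⁻¹' {y'}) (η[bcO h G].left y') =
      connectedComponentIn (f' ⁻¹' {y'}) (g' y') := by
    rw [Θ.image_connectedComponentIn (hom_unit (bcO h G) y'), hset, Θ.image_preimage]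
    congr 1
    exact congr($hu y')
  rw [← h3]
  exact hirr

theorem fibreDimAt_unit [LocallyOfFiniteType G.hom] (s : S) :
    FlatMor.fibreDimAt G.hom (η[G].left s) = topologicalKrullDim ↥(G.hom.base ⁻¹' {s}) :=
  (dim_fibre_eq_fibreDimAt_unit G s).symm

/-- (iii) gives (i) -/
theorem isUnivOpenAt_of_dim_ge [LocallyOfFinitePresentation G.hom] {x : G.left}
    (hx : x ∈ SGA3x.neutralSet G)
    (hd : ∀ z, z ⤳ G.hom x →
      topologicalKrullDim ↥(G.hom.base ⁻¹' {G.hom x}) ≤ topologicalKrullDim ↥(G.hom.base ⁻¹' {z})) :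
    EGA43.IsUnivOpenAt G.hom x :=
  E4O.isUnivOpenAt_of_fibreDimAt_ge G.hom η[G].left (unit_comp G) ((mem_neutralSet_iff G).1 hx)
    (stableIrredAt G _) fun z hz => by rw [fibreDimAt_unit, fibreDimAt_unit]; exact hd z hz

/-- generisations lift inside the neutral components -/
theorem exists_generisation [LocallyOfFiniteType G.hom] {x : G.left} (hx : x ∈ SGA3x.neutralSet G)
    {z : S} (hz : z ⤳ G.hom x)
    (hd : topologicalKrullDim ↥(G.hom.base ⁻¹' {G.hom x}) ≤ topologicalKrullDim ↥(G.hom.base ⁻¹' {z})) :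
    ∃ w ∈ SGA3x.neutralSet G, w ⤳ x ∧ G.hom w = z := by
  obtain ⟨w, hw, hwz, hwC⟩ := E4O.exists_generisation_mem_component G.hom η[G].left (unit_comp G)
    ((mem_neutralSet_iff G).1 hx) (isIrreducible_component G _) hz
    (by rw [fibreDimAt_unit, fibreDimAt_unit]; exact hd)
  exact ⟨w, Set.mem_iUnion.2 ⟨z, hwC⟩, hw, hwz⟩

/-- (i bis) gives the lower bound along generisations -/
theorem dim_ge_of_isUnivOpenAt [LocallyOfFiniteType G.hom] {s : S} {W : G.left.Opens}
    (hW : η[G].left s ∈ W)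
    (h : ∀ x ∈ SGA3x.neutralSet G ∩ G.hom.base ⁻¹' {s}, x ∈ W → EGA43.IsUnivOpenAt G.hom x)
    {y' : S} (hy' : y' ⤳ s) :
    topologicalKrullDim ↥(G.hom.base ⁻¹' {s}) ≤ topologicalKrullDim ↥(G.hom.base ⁻¹' {y'}) := by
  obtain ⟨V, _, _, _, g, hg0, hg1⟩ := E4O.exists_valuationRing_hom hy'
  have hsq : IsPullback (pullback.fst G.hom g) (pullback.snd G.hom g) G.hom g := IsPullback.of_hasPullback _ _
  let p := pullback.fst G.hom g
  let q := pullback.snd G.hom g
  let g' : Spec (CommRingCat.of V) ⟶ pullback G.hom g :=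
    pullback.lift (g ≫ η[G].left) (𝟙 _) (by rw [Category.assoc, unit_comp, Category.comp_id, Category.id_comp])
  let u₀ := g' (IsLocalRing.closedPoint V)
  have hpu : p u₀ = η[G].left s := by
    rw [← hg1, ← Scheme.Hom.comp_apply, ← Scheme.Hom.comp_apply]
    rw [show g' ≫ p = g ≫ η[G].left from pullback.lift_fst _ _ _]
  have hqu : q u₀ = IsLocalRing.closedPoint V := by
    rw [← Scheme.Hom.comp_apply]
    rw [show g' ≫ q = 𝟙 _ from pullback.lift_snd _ _ _]
    rfl
  obtain ⟨z, hz, hfz, hzd, -, -⟩ := E4O.exists_fibreDimAt_eq q u₀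
  have hpz : p z ⤳ η[G].left s := hpu ▸ hz.map p.continuous
  have hqz : q z = IsLocalRing.closedPoint V := hfz.trans hqu
  have hGz : G.hom (p z) = s := by
    rw [← Scheme.Hom.comp_apply, hsq.w, Scheme.Hom.comp_apply, hqz, hg1]
  have hopen := h (p z) ⟨Set.mem_iUnion.2 ⟨s, E4O.mem_connectedComponentIn_of_specializes G.hom
      (mem_connectedComponentIn (hom_unit G s)) hpz hGz⟩, hGz⟩ (hpz.mem_open W.isOpen hW)
  obtain ⟨z', hz', hqz'⟩ := UnivOpenSlice.exists_generization q z (E4O.isOpenAt_of_isPullback hopen hsq z rfl)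
  have hGz' : G.hom (p z') = y' := by
    rw [← Scheme.Hom.comp_apply, hsq.w, Scheme.Hom.comp_apply, hqz', hg0]
  calc topologicalKrullDim ↥(G.hom.base ⁻¹' {s}) = FlatMor.fibreDimAt q u₀ := by
        rw [FibDim94.fibreDimAt_eq_of_isPullback hsq, hpu, fibreDimAt_unit]
    _ = _ := hzd
    _ ≤ _ := Nat.cast_le.2 (E4O.fdeg_le_of_specializes_of_valuationRing q hz' hqz)
    _ ≤ FlatMor.fibreDimAt q z' := E4O.fdeg_le_fibreDimAt specializes_rfl rfl
    _ = topologicalKrullDim ↥(G.hom.base ⁻¹' {y'}) := by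
        rw [FibDim94.fibreDimAt_eq_of_isPullback hsq, ← dim_fibre_eq_fibreDimAt, hGz']

/-- constancy near a point from the bound along generisations -/
theorem exists_nhds_dim_eq [LocallyOfFinitePresentation G.hom] {s : S}
    (h : ∀ z, z ⤳ s → topologicalKrullDim ↥(G.hom.base ⁻¹' {s}) ≤ topologicalKrullDim ↥(G.hom.base ⁻¹' {z})) :
    ∃ U : Set S, U ∈ nhds s ∧
      ∀ t ∈ U, topologicalKrullDim ↥(G.hom.base ⁻¹' {t}) = topologicalKrullDim ↥(G.hom.base ⁻¹' {s}) := by
  obtain ⟨z₀, -, -, hd₀, -, -⟩ := E4O.exists_fibreDimAt_eq G.hom (η[G].left s)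
  obtain ⟨n, hn⟩ : ∃ n : ℕ, FlatMor.fibreDimAt G.hom (η[G].left s) = (n : ℕ) := ⟨_, hd₀⟩
  have heq : ∀ z, z ⤳ s → FlatMor.fibreDimAt G.hom (η[G].left z) = (n : ℕ) := fun z hz => by
    refine le_antisymm ?_ ?_
    · obtain ⟨W, hW, hle⟩ := E4O.exists_open_forall_fibreDimAt_le G.hom (η[G].left s)
      exact (hle _ ((hz.map η[G].left.continuous).mem_open W.isOpen hW)).trans hn.le
    · rw [← hn, fibreDimAt_unit, fibreDimAt_unit]
      exact h z hz
  refine ⟨_, E4O.mem_nhds_of_forall_generization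
    (SpPts86.isLocallyConstructible_preimage η[G].left (CM62.isLocallyConstructible_fibreDimAt_eq G.hom n)) heq,
    fun t ht => ?_⟩
  rw [← fibreDimAt_unit, ← fibreDimAt_unit, hn]
  exact ht

theorem exists_nhds_iff_forall_generisation [LocallyOfFinitePresentation G.hom] {s : S} :
    (∃ U : Set S, U ∈ nhds s ∧
      ∀ t ∈ U, topologicalKrullDim ↥(G.hom.base ⁻¹' {t}) = topologicalKrullDim ↥(G.hom.base ⁻¹' {s})) ↔
    ∀ z, z ⤳ s → topologicalKrullDim ↥(G.hom.base ⁻¹' {s}) ≤ topologicalKrullDim ↥(G.hom.base ⁻¹' {z}) :=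
  ⟨fun ⟨U, hU, hd⟩ z hz => (hd z (by
    obtain ⟨O, hOU, hO, hsO⟩ := mem_nhds_iff.1 hU
    exact hOU (hz.mem_open hO hsO))).ge, exists_nhds_dim_eq G⟩

theorem univOpen_iff [LocallyOfFinitePresentation G.hom] (s : S) :
    ((∀ x ∈ (SGA3x.neutralSet G ∩ G.hom.base ⁻¹' {s}), EGA43.IsUnivOpenAt G.hom x) ↔
      ∀ z, z ⤳ s → topologicalKrullDim ↥(G.hom.base ⁻¹' {s}) ≤ topologicalKrullDim ↥(G.hom.base ⁻¹' {z})) := by
  refine ⟨fun h z hz => dim_ge_of_isUnivOpenAt G (W := ⊤) trivial (fun x hx _ => h x hx) hz, ?_⟩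
  rintro h x ⟨hx, hxs⟩
  obtain rfl : G.hom x = s := hxs
  exact isUnivOpenAt_of_dim_ge G hx h

end Groth.Agent.CAlg6.NeutralDim
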