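import Groth.Agent.CAlg6.NeutralOpen
import Groth.Agent.SGA3a.GrpFibreFlat
import Groth.Agent.SGA3a.DominantHom
import Groth.Agent.SGA3a.FlatHom
import Groth.Agent.E4O.DvrCrit
import Mathlib.AlgebraicGeometry.Morphisms.UniversallyOpen

/-!
Flat homomorphisms of group schemes and neutral components.
-/

set_option autoImplicit false
set_option linter.style.haveILetI false
set_option backward.isDefEq.respectTransparency.types false
universe u
open CategoryTheory CategoryTheory.Limits AlgebraicGeometry MonoidalCategory CartesianMonoidalCategory MonObj GrpObj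

noncomputable section

namespace Groth.Agent.CAlg6.NeutralFlatHom

open Groth.Agent.SGA3a

section Field

variable {K : Type u} [Field K] {G H : Over (Spec (CommRingCat.of K))} [GrpObj G] [GrpObj H] (v : G ⟶ H) [IsMonHom v]
  [LocallyOfFiniteType G.hom] [LocallyOfFiniteType H.hom]

omit [LocallyOfFiniteType G.hom] [LocallyOfFiniteType H.hom] in
theorem map_unitPt : v.left (Grp57.unitPt G) = Grp57.unitPt H := by
  show v.left (η[G].left _) = η[H].left _
  rw [← Scheme.Hom.comp_apply, ← Over.comp_left, IsMonHom.one_hom]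

omit [LocallyOfFiniteType G.hom] [LocallyOfFiniteType H.hom] in
theorem image_subset : v.left '' connectedComponent (Grp57.unitPt G) ⊆ connectedComponent (Grp57.unitPt H) := by
  have h := v.left.continuous.image_connectedComponent_subset (Grp57.unitPt G)
  rwa [map_unitPt v] at h

theorem image_component_of_flat [Flat v.left] :
    v.left '' connectedComponent (Grp57.unitPt G) = connectedComponent (Grp57.unitPt H) := by
  haveI : LocallyOfFinitePresentation G.hom :=
    E4O.locallyOfFinitePresentation_of_isLocallyNoetherian G.hom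
  haveI : LocallyOfFinitePresentation H.hom :=
    E4O.locallyOfFinitePresentation_of_isLocallyNoetherian H.hom
  haveI : LocallyOfFinitePresentation (v.left ≫ H.hom) := by rw [Over.w v]; infer_instance
  haveI : LocallyOfFinitePresentation v.left := LimTop61.locallyOfFinitePresentation_of_comp v.left H.hom
  refine Set.Subset.antisymm (image_subset v) fun h hh => ?_
  let U : H.left.Opens := ⟨v.left '' connectedComponent (Grp57.unitPt G),
    v.left.isOpenMap _ (isOpen_connectedComponent_unit G)⟩
  obtain ⟨w, h1, h2, h3⟩ := NeutralOpen.exists_mul_of_subset H U ⟨_, mem_connectedComponent, map_unitPt v⟩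
    (image_subset v) hh
  obtain ⟨g₁, hg₁, hg₁w⟩ := h1
  obtain ⟨g₂, hg₂, hg₂w⟩ := h2
  let m : (G ⊗ G).left ⟶ (H ⊗ H).left :=
    pullback.map G.hom G.hom H.hom H.hom v.left v.left (𝟙 _) (by simp) (by simp)
  have hm1 : m ≫ (fst H H).left = (fst G G).left ≫ v.left := pullback.lift_fst _ _ _
  have hm2 : m ≫ (snd H H).left = (snd G G).left ≫ v.left := pullback.lift_snd _ _ _
  let O₁ : G.left.Opens := ⟨connectedComponent (Grp57.unitPt G), isOpen_connectedComponent_unit G⟩
  have hc : (O₁.ι ≫ G.hom) ≫ 𝟙 _ = (O₁.ι ≫ v.left) ≫ H.hom := by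
    rw [Category.comp_id, Category.assoc, Over.w v]
  let j : pullback (O₁.ι ≫ G.hom) (O₁.ι ≫ G.hom) ⟶ (H ⊗ H).left :=
    pullback.map _ _ H.hom H.hom (O₁.ι ≫ v.left) (O₁.ι ≫ v.left) (𝟙 _) hc hc
  obtain ⟨q, hq⟩ : w ∈ Set.range j := by
    show (w : ↥(pullback H.hom H.hom)) ∈ Set.range
      (pullback.map (O₁.ι ≫ G.hom) (O₁.ι ≫ G.hom) H.hom H.hom (O₁.ι ≫ v.left) (O₁.ι ≫ v.left) (𝟙 _) hc hc)
    rw [Scheme.Pullback.range_map]
    exact ⟨⟨⟨g₁, hg₁⟩, hg₁w⟩, ⟨⟨g₂, hg₂⟩, hg₂w⟩⟩
  let pm : pullback (O₁.ι ≫ G.hom) (O₁.ι ≫ G.hom) ⟶ (G ⊗ G).left :=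
    pullback.map (O₁.ι ≫ G.hom) (O₁.ι ≫ G.hom) G.hom G.hom O₁.ι O₁.ι (𝟙 _) (by simp) (by simp)
  have hpm1 : pm ≫ (fst G G).left = pullback.fst _ _ ≫ O₁.ι := pullback.lift_fst _ _ _
  have hpm2 : pm ≫ (snd G G).left = pullback.snd _ _ ≫ O₁.ι := pullback.lift_snd _ _ _
  let p : (G ⊗ G).left := pm q
  have hp1 : (fst G G).left p = O₁.ι (pullback.fst (O₁.ι ≫ G.hom) (O₁.ι ≫ G.hom) q) := congr($hpm1 q)
  have hp2 : (snd G G).left p = O₁.ι (pullback.snd (O₁.ι ≫ G.hom) (O₁.ι ≫ G.hom) q) := congr($hpm2 q)
  refine ⟨μ[G].left p, NeutralCons.mul_mem_component G p (by rw [hp1]; exact (pullback.fst (O₁.ι ≫ G.hom) (O₁.ι ≫ G.hom) q).2)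
    (by rw [hp2]; exact (pullback.snd (O₁.ι ≫ G.hom) (O₁.ι ≫ G.hom) q).2), ?_⟩
  have e : pm ≫ m = j := by
    refine pullback.hom_ext (f := H.hom) (g := H.hom) ?_ ?_
    · rw [Category.assoc]
      refine (congrArg (pm ≫ ·) hm1).trans ?_
      show pm ≫ (fst G G).left ≫ v.left = _
      rw [← Category.assoc, hpm1, Category.assoc]
      exact (pullback.lift_fst _ _ _).symm
    · rw [Category.assoc]
      refine (congrArg (pm ≫ ·) hm2).trans ?_
      show pm ≫ (snd G G).left ≫ v.left = _
      rw [← Category.assoc, hpm2, Category.assoc]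
      exact (pullback.lift_snd _ _ _).symm
  have hmp : m p = w := by
    rw [← hq, ← e]
    rfl
  rw [← Scheme.Hom.comp_apply, ← Over.comp_left, IsMonHom.mul_hom, Over.comp_left, Scheme.Hom.comp_apply,
    ← h3, ← hmp]
  rfl

theorem flat_of_subset_image [IsReduced H.left]
    (h : connectedComponent (Grp57.unitPt H) ⊆ v.left '' connectedComponent (Grp57.unitPt G)) : Flat v.left := by
  obtain ⟨y, hy₁, hy⟩ := exists_maximal_generalization (α := H.left) (Grp57.unitPt H)
  obtain ⟨x, -, rfl⟩ := h (hy₁.mem_open (isOpen_connectedComponent_unit H) mem_connectedComponent)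
  have hfield := isField_stalk_maximal hy
  letI := hfield.toField
  haveI : Subsingleton (Spec (CommRingCat.of K)) := inferInstanceAs (Subsingleton (PrimeSpectrum K))
  refine flat_hom_of_flat_at v x ?_
  letI := (v.left.stalkMap x).hom.toAlgebra
  show Module.Flat _ _
  infer_instance

end Field

variable {S : Scheme.{u}} {G H : Over S} [GrpObj G] [GrpObj H]
  [LocallyOfFinitePresentation G.hom] [LocallyOfFinitePresentation H.hom] (v : G ⟶ H) [IsMonHom v]

omit [GrpObj G] [GrpObj H] [LocallyOfFinitePresentation G.hom] [LocallyOfFinitePresentation H.hom] [IsMonHom v] in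
theorem prO_map_apply {S' : Scheme.{u}} (f : S' ⟶ S) (z : (bcO f G).left) :
    prO f H (((Over.pullback f).map v).left z) = v.left (prO f G z) := by
  rw [← Scheme.Hom.comp_apply, prO_naturality]
  rfl

theorem image_neutralSet_of_flat [Flat v.left] : v.left '' SGA3x.neutralSet G = SGA3x.neutralSet H := by
  have key : ∀ s : S, ((Over.pullback (S.fromSpecResidueField s)).map v).left ''
      fibNeutral G (S.fromSpecResidueField s) = fibNeutral H (S.fromSpecResidueField s) := fun s => by
    let f : Spec (CommRingCat.of (S.residueField s)) ⟶ S := S.fromSpecResidueField s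
    letI : GrpObj (bcO f G) := bcOGrp G f
    letI : GrpObj (bcO f H) := bcOGrp H f
    let j : bcO f G ⟶ bcO f H := (Over.pullback f).map v
    have hj : IsMonHom j := inferInstanceAs (IsMonHom ((Over.pullback f).map v))
    haveI : LocallyOfFiniteType (bcO f G).hom := MorphismProperty.pullback_snd (P := @LocallyOfFiniteType) _ _ inferInstance
    haveI : LocallyOfFiniteType (bcO f H).hom := MorphismProperty.pullback_snd (P := @LocallyOfFiniteType) _ _ inferInstance
    haveI : Flat j.left :=
      MorphismProperty.of_isPullback (P := @Flat) (GrpLocus.isPullback_pullback_map f v) ‹_›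
    exact image_component_of_flat j
  ext y
  constructor
  · rintro ⟨x, hx, rfl⟩
    obtain ⟨z, hz, hzx⟩ := (mem_neutralSet_iff_image G).1 hx
    rw [← hzx, ← prO_map_apply]
    exact (prO_mem_neutralSet_iff H _ _).2 ((key _).le ⟨z, hz, rfl⟩)
  · intro hy
    obtain ⟨z, hz, hzy⟩ := (mem_neutralSet_iff_image H).1 hy
    obtain ⟨w, hw, rfl⟩ := (key _).ge hz
    exact ⟨prO _ G w, (prO_mem_neutralSet_iff G _ w).2 hw, by rw [← prO_map_apply]; exact hzy⟩

theorem flat_of_image_neutralSet [Flat G.hom] (hred : ∀ s : S, IsReduced (H.hom.fiber s))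
    (him : v.left '' SGA3x.neutralSet G = SGA3x.neutralSet H) : Flat v.left := by
  have key : ∀ s : S, Flat ((Over.pullback (S.fromSpecResidueField s)).map v).left := fun s => by
    let f : Spec (CommRingCat.of (S.residueField s)) ⟶ S := S.fromSpecResidueField s
    letI : GrpObj (bcO f G) := bcOGrp G f
    letI : GrpObj (bcO f H) := bcOGrp H f
    let j : bcO f G ⟶ bcO f H := (Over.pullback f).map v
    have hj : IsMonHom j := inferInstanceAs (IsMonHom ((Over.pullback f).map v))
    haveI : LocallyOfFiniteType (bcO f G).hom := MorphismProperty.pullback_snd (P := @LocallyOfFiniteType) _ _ inferInstance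
    haveI : LocallyOfFiniteType (bcO f H).hom := MorphismProperty.pullback_snd (P := @LocallyOfFiniteType) _ _ inferInstance
    haveI : IsReduced (bcO f H).left := hred s
    refine flat_of_subset_image j fun y hy => ?_
    obtain ⟨x, hx, hxy⟩ := him.ge ((prO_mem_neutralSet_iff H f y).2 hy)
    have hxs : x ∈ Set.range (prO f G) := by
      rw [range_prO_residue]
      show G.hom x = s
      rw [← Over.w v, Scheme.Hom.comp_apply, hxy]
      exact (range_prO_residue H s).le ⟨y, rfl⟩
    obtain ⟨z, rfl⟩ := hxs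
    refine ⟨z, (prO_mem_neutralSet_iff G f z).1 hx, ?_⟩
    exact (pullback.fst H.hom f).isEmbedding.injective ((prO_map_apply v f z).trans hxy)
  refine Flat.of_stalkMap _ fun x => (GrpLocus.near_flatFP_iff v.left H.hom (Over.w v) x).1 ?_
  rw [GrpLocus.near_iff_near_unit' v NearLocus.descPt_flatFP]
  exact (GrpLocus.flat_fibre_iff v _).1 (key _)

end Groth.Agent.CAlg6.NeutralFlatHom
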