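import Groth.Agent.CAlg6.NeutralOpen
import Groth.Agent.E4O.SectionCompOpen
import Groth.Agent.SGA3a.GrpDim
import Groth.Agent.CM62.DimStrata
import Groth.Agent.FBase64.SmoothFibre
import Groth.Agent.SpFP87.Reduced
import Groth.Agent.S0386

/-!
A group scheme over a reduced base with smooth fibres of locally constant dimension is smooth along the
unit section (EGA IV 15.6.5).
-/

set_option autoImplicit false
set_option linter.style.haveILetI false
set_option backward.isDefEq.respectTransparency.types false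
universe u
open CategoryTheory CategoryTheory.Limits AlgebraicGeometry MonoidalCategory CartesianMonoidalCategory MonObj

noncomputable section

namespace Groth.Agent.CAlg6.NeutralReduced

variable {X Y : Scheme.{u}}

/-- All fibres are smooth. -/
abbrev SmoothFibres (f : X ⟶ Y) : Prop := ∀ y : Y, Smooth (pullback.snd f (Y.fromSpecResidueField y))

theorem smoothFibres_comp {U : Scheme.{u}} (j : U ⟶ X) [IsOpenImmersion j] {f : X ⟶ Y} (hf : SmoothFibres f) :
    SmoothFibres (j ≫ f) := fun y => by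
  have := hf y
  rw [← pullbackRightPullbackFstIso_inv_snd_snd f (Y.fromSpecResidueField y) j]
  infer_instance

theorem smoothFibres_baseChange {X' Y' : Scheme.{u}} {f : X ⟶ Y} {f' : X' ⟶ Y'} {p : X' ⟶ X} {h : Y' ⟶ Y}
    (hsq : IsPullback p f' f h) (hf : SmoothFibres f) : SmoothFibres f' := fun y' => by
  let σ := Spec.map (h.residueFieldMap y')
  have hσ : σ ≫ Y.fromSpecResidueField (h y') = Y'.fromSpecResidueField y' ≫ h :=
    Scheme.Hom.SpecMap_residueFieldMap_fromSpecResidueField _ _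
  let k := Y.fromSpecResidueField (h y')
  let k' := Y'.fromSpecResidueField y'
  let m : pullback f' k' ⟶ pullback f k :=
    pullback.lift (pullback.fst f' k' ≫ p) (pullback.snd f' k' ≫ σ) (by
      rw [Category.assoc, hsq.w, pullback.condition_assoc, Category.assoc, hσ])
  have hp := (IsPullback.of_hasPullback f' k').paste_horiz hsq
  rw [← hσ, ← show m ≫ pullback.fst f k = pullback.fst f' k' ≫ p from pullback.lift_fst _ _ _] at hp
  exact MorphismProperty.of_isPullback
    (IsPullback.of_right hp (pullback.lift_snd _ _ _) (IsPullback.of_hasPullback f k)) (hf (h y'))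

theorem isPreirreducible_component {f : X ⟶ Y} (hf : SmoothFibres f) {s : Y} {a : X}
    (ha : a ∈ f ⁻¹' {s}) : IsPreirreducible (connectedComponentIn (f ⁻¹' {s}) a) := by
  let q := f.fiberToSpecResidueField s
  haveI : Smooth q := hf s
  let y := (f.fiberHomeo s).symm ⟨a, ha⟩
  have h := FlatMor68.SectionOpenSmooth.isPreirreducible_connectedComponentIn q (a := y) (s := q y) rfl
  have huniv : q ⁻¹' {q y} = Set.univ := Set.eq_univ_of_forall fun z => Subsingleton.elim (α := ↥(Spec (CommRingCat.of (Y.residueField s)))) _ _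
  rw [huniv, connectedComponentIn_univ] at h
  have h2 := h.image _ (f.fiberι s).continuous.continuousOn
  have heq : connectedComponentIn (f ⁻¹' {s}) a = f.fiberι s '' connectedComponent y := by
    rw [connectedComponentIn_eq_image ha]
    apply Set.Subset.antisymm
    · rintro _ ⟨w, hw, rfl⟩
      exact ⟨(f.fiberHomeo s).symm w,
        (f.fiberHomeo s).symm.continuous.image_connectedComponent_subset ⟨a, ha⟩ ⟨w, hw, rfl⟩,
        f.fiberι_fiberHomeo_symm s w⟩
    · rintro _ ⟨w, hw, rfl⟩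
      refine ⟨f.fiberHomeo s w, ?_, rfl⟩
      have h1 := (f.fiberHomeo s).continuous.image_connectedComponent_subset y ⟨w, hw, rfl⟩
      rwa [Homeomorph.apply_symm_apply] at h1
  rw [heq]
  exact h2

theorem stableIrredAt_of_smoothFibres {f : X ⟶ Y} (hf : SmoothFibres f) (g : Y ⟶ X) (y : Y) :
    E4O.StableIrredAt f g y := by
  intro X' Y' f' p h hsq g' hg' _ y' _
  have ha : g' y' ∈ f' ⁻¹' {y'} := by
    show f' (g' y') = y'
    rw [← Scheme.Hom.comp_apply, hg']
    rfl
  exact ⟨⟨_, mem_connectedComponentIn ha⟩, isPreirreducible_component (smoothFibres_baseChange hsq hf) ha⟩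

theorem isGeomReducedAt_of_smooth {k : Type u} [Field k] (f : X ⟶ Spec (CommRingCat.of k)) [Smooth f] (x : X) :
    FBase.IsGeomReducedAt f x := fun K _ _ x' _ => by
  have : Smooth (FBase.bcStr f K) := MorphismProperty.pullback_snd _ _ ‹_›
  have := SpFP87.isReduced_of_smooth (FBase.bcStr f K)
  exact inferInstanceAs (_root_.IsReduced ((FBase.bc f K).presheaf.stalk x'))

open scoped MonObj in
theorem flat_stalkMap_unit {S : Scheme.{u}} [IsReduced S] (G : Over S) [GrpObj G]
    [LocallyOfFinitePresentation G.hom] (hfib : SmoothFibres G.hom)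
    (hdim : IsLocallyConstant (fun s : S => topologicalKrullDim ↥(G.hom.base ⁻¹' {s}))) (s : S) :
    (G.hom.stalkMap (η[G].left s)).hom.Flat := by
  let e : S ⟶ G.left := η[G].left
  let f := G.hom
  have he : e ≫ f = 𝟙 S := Over.w η[G]
  have hfe : ∀ t : S, f (e t) = t := fun t => by
    rw [← Scheme.Hom.comp_apply, he]; rfl
  show (f.stalkMap (e s)).hom.Flat
  let D : S.Opens := ⟨{t | topologicalKrullDim ↥(f.base ⁻¹' {t}) = topologicalKrullDim ↥(f.base ⁻¹' {s})},
    hdim.isOpen_fiber _⟩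
  obtain ⟨V₀, hV₀, hsV₀, hV₀D⟩ := exists_isAffineOpen_mem_and_subset (U := D) (x := s) rfl
  obtain ⟨U₀, hU₀, hxU₀, hU₀le⟩ := exists_isAffineOpen_mem_and_subset (U := f ⁻¹ᵁ V₀) (x := e s)
    (show f (e s) ∈ V₀ by rw [hfe]; exact hsV₀)
  obtain ⟨r, hr, hsr⟩ := hV₀.exists_basicOpen_le (V := V₀ ⊓ e ⁻¹ᵁ U₀) ⟨s, ⟨hsV₀, hxU₀⟩⟩ hsV₀
  let V := S.basicOpen r
  have hV : IsAffineOpen V := hV₀.basicOpen r
  let U := G.left.basicOpen ((f.appLE V₀ U₀ hU₀le).hom r)
  have hU : IsAffineOpen U := hU₀.basicOpen _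
  have hUeq : U = U₀ ⊓ f ⁻¹ᵁ V := Scheme.basicOpen_appLE f U₀ V₀ _ r
  have hUV : U ≤ f ⁻¹ᵁ V := hUeq.le.trans inf_le_right
  have hVU : ∀ p ∈ V, e p ∈ U := by
    intro p hp
    rw [hUeq]
    exact ⟨(hr hp).2, show f (e p) ∈ V by rw [hfe]; exact hp⟩
  haveI : IsAffine U := hU
  haveI : IsAffine V := hV
  let f' := f.resLE V U hUV
  have hf' : f' ≫ V.ι = U.ι ≫ f := Scheme.Hom.resLE_comp_ι _ _
  let g : (V : Scheme) ⟶ U := IsOpenImmersion.lift U.ι (V.ι ≫ e) (by
    rw [Scheme.Opens.range_ι]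
    rintro _ ⟨p, rfl⟩
    exact hVU _ p.2)
  have hgι : g ≫ U.ι = V.ι ≫ e := IsOpenImmersion.lift_fac _ _ _
  have hg : g ≫ f' = 𝟙 _ := by
    rw [← cancel_mono V.ι, Category.assoc, hf', reassoc_of% hgι, he, Category.id_comp, Category.comp_id]
  have hfib' : SmoothFibres f' :=
    smoothFibres_comp (G.left.homOfLE hUV) (smoothFibres_baseChange (isPullback_morphismRestrict f V).flip hfib)
  haveI : LocallyOfFinitePresentation f' :=
    inferInstanceAs (LocallyOfFinitePresentation (G.left.homOfLE hUV ≫ (f ∣_ V)))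
  have hd : ∀ z : (V : Scheme), FlatMor.fibreDimAt f' (g z) = topologicalKrullDim ↥(f.base ⁻¹' {s}) := fun z => by
    rw [← CM62.fibreDimAt_of_square f U.ι V.ι f' hf' (g z), ← Scheme.Hom.comp_apply, hgι, Scheme.Hom.comp_apply]
    exact (SGA3a.dim_fibre_eq_fibreDimAt_unit G (V.ι z)).symm.trans
      (show _ = _ from hV₀D (hr z.2).1)
  let y : (V : Scheme) := ⟨s, hsr⟩
  have hflat := E4O.flat_stalkMap_of_dim_const_fp f' g hg (y := y) (x := g y)
    (mem_connectedComponentIn (show f' (g y) = y by rw [← Scheme.Hom.comp_apply, hg]; rfl))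
    (stableIrredAt_of_smoothFibres hfib' g y) isOpen_univ trivial (fun z _ => ((hd y).trans (hd z).symm).le)
    (@isGeomReducedAt_of_smooth _ _ _ _ (hfib' (f' (g y))) _)
  have hflat2 : ((f' ≫ V.ι).stalkMap (g y)).hom.Flat := by
    rw [Scheme.Hom.stalkMap_comp]
    exact RingHom.Flat.comp (RingHom.Flat.of_bijective
      (ConcreteCategory.bijective_of_isIso (V.ι.stalkMap (f' (g y))))) hflat
  rw [hf'] at hflat2
  have h3 := E4O.flat_of_flat_comp_openImmersion U.ι f (g y) hflat2
  have hpt : U.ι (g y) = e s := by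
    rw [← Scheme.Hom.comp_apply, hgι]
    rfl
  exact hpt ▸ h3

open scoped MonObj in
theorem exists_smooth_open {S : Scheme.{u}} [IsReduced S] (G : Over S) [GrpObj G]
    [LocallyOfFinitePresentation G.hom] (hfib : SmoothFibres G.hom)
    (hdim : IsLocallyConstant (fun s : S => topologicalKrullDim ↥(G.hom.base ⁻¹' {s}))) :
    ∃ U : G.left.Opens, Smooth (U.ι ≫ G.hom) ∧ ∀ s : S, η[G].left s ∈ U := by
  let U : G.left.Opens := ⟨{x | (G.hom.stalkMap x).hom.Flat}, S0386.result G.hom⟩
  have : Flat (U.ι ≫ G.hom) := Flat.of_stalkMap _ fun x => by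
    rw [Scheme.Hom.stalkMap_comp]
    exact (RingHom.Flat.respectsIso.cancel_right_isIso _ _).2 x.2
  exact ⟨U, Scheme.Hom.smoothLocus_eq_top_iff.1 (top_le_iff.1 fun x _ =>
    FBase64.mem_smoothLocus_of_smooth_fiber _ x (smoothFibres_comp U.ι hfib _)),
    flat_stalkMap_unit G hfib hdim⟩

end Groth.Agent.CAlg6.NeutralReduced
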