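import Groth.Agent.CAlg6.TopFactor
import Groth.Agent.CAlg6.NeutralCons
import Groth.Agent.LimTop61.BaseChange
import Groth.Prelude.Def_Red

/-! Representability of the neutral component over a limit. -/

set_option autoImplicit false
universe u
open CategoryTheory CategoryTheory.Limits MonoidalCategory CartesianMonoidalCategory MonObj GrpObj AlgebraicGeometry Opposite

noncomputable section

namespace Groth.Agent.CAlg6.NeutralStage

open Groth.Agent.SGA3a

variable {S : Scheme.{u}} (G : Over S) [GrpObj G]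

/-- representable iff open -/
theorem representable_iff [LocallyOfFinitePresentation G.hom] :
    (∃ (G0 : Over S) (i0 : G0 ⟶ G), Mono i0 ∧
      ∀ (T : Over S) (g : T ⟶ G), (∃ z : T ⟶ G0, z ≫ i0 = g) ↔ Set.range g.left.base ⊆ SGA3x.neutralSet G) ↔
    IsOpen (SGA3x.neutralSet G) := by
  constructor
  · rintro ⟨G0, i0, hm, h⟩
    haveI : Mono i0.left := inferInstanceAs (Mono ((Over.forget S).map i0))
    refine TopFactor.isOpen (SGA3x.neutralSet G) i0.left (NeutralCons.isIndConstructible G) fun T g => ?_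
    let g' : Over.mk (g ≫ G.hom) ⟶ G := Over.homMk g rfl
    rw [show Set.range g = Set.range g'.left.base from rfl, ← h _ g']
    refine ⟨fun ⟨z, hz⟩ => ⟨Over.homMk z ?_, Over.OverMorphism.ext hz⟩, fun ⟨z, hz⟩ => ⟨z.left, congrArg Over.Hom.left hz⟩⟩
    show z ≫ G0.hom = g ≫ G.hom
    rw [← Over.w i0, ← Category.assoc, hz]
  · intro hopen
    let U : G.left.Opens := ⟨SGA3x.neutralSet G, hopen⟩
    let i0 : Over.mk (U.ι ≫ G.hom) ⟶ G := Over.homMk U.ι rfl
    have hmono : Mono i0 := by
      have : Mono ((Over.forget S).map i0) := inferInstanceAs (Mono U.ι)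
      exact (Over.forget S).mono_of_mono_map this
    refine ⟨_, i0, hmono, fun T g => ⟨?_, fun hg => ?_⟩⟩
    · rintro ⟨z, rfl⟩ _ ⟨t, rfl⟩
      exact (z.left t).2
    · refine ⟨Over.homMk (IsOpenImmersion.lift U.ι g.left (by rw [Scheme.Opens.range_ι]; exact hg)) ?_,
        Over.OverMorphism.ext (IsOpenImmersion.lift_fac _ _ _)⟩
      show _ ≫ U.ι ≫ G.hom = _
      rw [IsOpenImmersion.lift_fac_assoc, Over.w g]

theorem main {I : Type u} [SmallCategory I] [IsCofiltered I]
    (D : I ⥤ Scheme.{u}) (c : Limits.Cone D) (hc : Limits.IsLimit c)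
    [∀ (i i' : I) (f : i ⟶ i'), IsAffineHom (D.map f)] [∀ i, CompactSpace (D.obj i)] [∀ i, QuasiSeparatedSpace (D.obj i)]
    (j : I) (Gj : Over (D.obj j)) [GrpObj Gj]
    [LocallyOfFinitePresentation Gj.hom] [QuasiCompact Gj.hom] [QuasiSeparated Gj.hom] :
    (∃ (G0 : Over c.pt) (i0 : G0 ⟶ Red.bc (c.π.app j) Gj), Mono i0 ∧
      ∀ (T : Over c.pt) (g : T ⟶ Red.bc (c.π.app j) Gj), (∃ z : T ⟶ G0, z ≫ i0 = g) ↔
        Set.range g.left.base ⊆ SGA3x.neutralSet (Red.bc (c.π.app j) Gj)) ↔
    ∃ (i : I) (f : i ⟶ j) (G0 : Over (D.obj i)) (i0 : G0 ⟶ Red.bc (D.map f) Gj), Mono i0 ∧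
      ∀ (T : Over (D.obj i)) (g : T ⟶ Red.bc (D.map f) Gj), (∃ z : T ⟶ G0, z ≫ i0 = g) ↔
        Set.range g.left.base ⊆ SGA3x.neutralSet (Red.bc (D.map f) Gj) := by
  haveI : ∀ {S' : Scheme.{u}} (g : S' ⟶ D.obj j), LocallyOfFinitePresentation (Red.bc g Gj).hom := fun g =>
    inferInstanceAs (LocallyOfFinitePresentation (pullback.snd Gj.hom g))
  rw [representable_iff]
  constructor
  · intro hopen
    haveI : CompactSpace Gj.left := QuasiCompact.compactSpace_of_compactSpace Gj.hom
    let D' := LimTop61.bcDiagram D Gj.hom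
    have hp : IsPullback (pullback.fst Gj.hom (c.π.app j)) (pullback.snd Gj.hom (c.π.app j)) Gj.hom (c.π.app j) :=
      IsPullback.of_hasPullback _ _
    let c' := LimTop61.bcCone D c Gj.hom _ _ hp.w
    have hc' : IsLimit c' := LimTop61.isLimitBcCone D c hc Gj.hom _ _ hp
    haveI : ∀ (k l : Over j) (f : k ⟶ l), IsAffineHom (D'.map f) := fun _ _ f =>
      LimTop61.bcDiagram_isAffineHom D Gj.hom f
    haveI : ∀ k, CompactSpace (D'.obj k) := fun k => LimTop61.bcDiagram_compactSpace D Gj.hom k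
    let k₀ : Over j := Over.mk (𝟙 j)
    have hC := NeutralCons.isConstructible Gj
    let Z : Set (D'.obj k₀) := pullback.fst Gj.hom (D.map k₀.hom) ⁻¹' SGA3x.neutralSet Gj
    have h0 : c'.π.app k₀ ≫ pullback.fst Gj.hom (D.map k₀.hom) = pullback.fst Gj.hom (c.π.app j) :=
      pullback.lift_fst _ _ _
    obtain ⟨k, φ, hk⟩ := LimTop61.exists_isOpen_preimage D' c' hc' (i := k₀) Z
      ((LimTop61.isConsClosed_of_isConstructible hC).preimage _)
      (by rw [← Set.preimage_compl]; exact (LimTop61.isConsClosed_of_isConstructible hC.compl).preimage _)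
      (by
        rw [show (c'.π.app k₀) ⁻¹' Z = SGA3x.neutralSet (Red.bc (c.π.app j) Gj) from ?_]
        · exact hopen
        rw [neutralSet_bc, ← h0]
        rfl)
    refine ⟨k.left, k.hom, ?_⟩
    rw [representable_iff, neutralSet_bc]
    have h1 : D'.map φ ≫ pullback.fst Gj.hom (D.map k₀.hom) = pullback.fst Gj.hom (D.map k.hom) :=
      pullback.lift_fst _ _ _
    rw [← h1]
    exact hk
  · rintro ⟨i, f, hi⟩
    rw [representable_iff, neutralSet_bc] at hi
    let m : (Red.bc (c.π.app j) Gj).left ⟶ (Red.bc (D.map f) Gj).left :=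
      pullback.lift (pullback.fst Gj.hom (c.π.app j)) (pullback.snd Gj.hom (c.π.app j) ≫ c.π.app i)
        (by rw [Category.assoc, c.w f]; exact pullback.condition)
    rw [neutralSet_bc, show pullback.fst Gj.hom (c.π.app j) = m ≫ pullback.fst Gj.hom (D.map f) from
      (pullback.lift_fst _ _ _).symm]
    exact hi.preimage m.continuous

end Groth.Agent.CAlg6.NeutralStage
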