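import Mathlib
import Groth.Agent.S16707

/-! A morphism from a flat scheme which is an isomorphism modulo a nilpotent ideal is an isomorphism. -/

set_option autoImplicit false
universe u
open CategoryTheory CategoryTheory.Limits AlgebraicGeometry
open scoped TensorProduct

namespace Groth.Agent.CAlg6.NilIso

variable {R : Type u} [CommRing R] (I : Ideal R)

noncomputable abbrev q : Spec (CommRingCat.of (R ⧸ I)) ⟶ Spec (CommRingCat.of R) :=
  Spec.map (CommRingCat.ofHom (algebraMap R (R ⧸ I)))

/-- the affine case -/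
theorem bijective_of_isIso_bc (hI : IsNilpotent I) (A B : Type u) [CommRing A] [CommRing B] [Algebra R A] [Algebra R B]
    [Module.Flat R B] (φ : A →ₐ[R] B)
    (m : pullback (q I) (Spec.map (CommRingCat.ofHom (algebraMap R B))) ⟶
      pullback (q I) (Spec.map (CommRingCat.ofHom (algebraMap R A))))
    (hm₁ : m ≫ pullback.fst _ _ = pullback.fst _ _)
    (hm₂ : m ≫ pullback.snd _ _ = pullback.snd _ _ ≫ Spec.map (CommRingCat.ofHom φ.toRingHom))
    [IsIso m] : Function.Bijective φ := by
  refine Groth.Agent.S16707.result R I hI A B φ.toLinearMap ?_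
  let ψ : (R ⧸ I) ⊗[R] A →ₐ[R ⧸ I] (R ⧸ I) ⊗[R] B := Algebra.TensorProduct.map (AlgHom.id _ _) φ
  suffices h : Function.Bijective ψ by
    rw [show ⇑(φ.toLinearMap.baseChange (R ⧸ I)) = ⇑ψ from funext fun x => by
      induction x using TensorProduct.induction_on with
      | zero => simp
      | tmul r a => simp [ψ]
      | add x y hx hy => simp [hx, hy]]
    exact h
  let eA := pullbackSpecIso R (R ⧸ I) A
  let eB := pullbackSpecIso R (R ⧸ I) B
  have h : Spec.map (CommRingCat.ofHom ψ.toRingHom) = eB.inv ≫ m ≫ eA.hom := by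
    rw [← cancel_mono eA.inv, Category.assoc, Category.assoc, Iso.hom_inv_id, Category.comp_id]
    apply pullback.hom_ext
    · rw [Category.assoc, Category.assoc, hm₁, pullbackSpecIso_inv_fst, pullbackSpecIso_inv_fst, ← Spec.map_comp,
        ← CommRingCat.ofHom_comp]
      congr 2
      exact RingHom.ext fun r => by simp [ψ]
    · rw [Category.assoc, Category.assoc, hm₂, pullbackSpecIso_inv_snd, pullbackSpecIso_inv_snd_assoc,
        ← Spec.map_comp, ← Spec.map_comp, ← CommRingCat.ofHom_comp, ← CommRingCat.ofHom_comp]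
      congr 2
  have : IsIso (Spec.map (CommRingCat.ofHom ψ.toRingHom)) := by rw [h]; infer_instance
  have : IsIso (Scheme.Spec.map (CommRingCat.ofHom ψ.toRingHom).op) := this
  have : IsIso (CommRingCat.ofHom ψ.toRingHom) :=
    (isIso_op_iff _).1 (isIso_of_reflects_iso (CommRingCat.ofHom ψ.toRingHom).op Scheme.Spec)
  exact ConcreteCategory.bijective_of_isIso (CommRingCat.ofHom ψ.toRingHom)

/-- the global statement -/
theorem isIso_of_flat {X Y : Over (Spec (CommRingCat.of R))} (hI : IsNilpotent I) [Flat X.hom] (f : X ⟶ Y)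
    [IsIso ((Over.pullback (q I)).map f)] : IsIso f := by
  suffices IsIso f.left by
    haveI : IsIso ((Over.forget _).map f) := this
    exact isIso_of_reflects_iso f (Over.forget _)
  let F := Over.pullback (q I)
  haveI : IsClosedImmersion (q I) := IsClosedImmersion.spec_of_surjective _ Ideal.Quotient.mk_surjective
  haveI : Surjective (q I) := by
    refine ⟨fun p => ?_⟩
    show p ∈ Set.range (PrimeSpectrum.comap (Ideal.Quotient.mk I))
    rw [range_comap_of_surjective _ _ Ideal.Quotient.mk_surjective, Ideal.mk_ker]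
    intro x hx
    obtain ⟨n, hn⟩ := hI
    have : x ^ n ∈ I ^ n := Ideal.pow_mem_pow hx n
    rw [hn] at this
    exact (PrimeSpectrum.isPrime p).mem_of_pow_mem n (by
      rw [show x ^ n = 0 from this]; exact zero_mem _)
  have hhom : ∀ Z : Over (Spec (CommRingCat.of R)), IsHomeomorph (pullback.fst Z.hom (q I)) := fun Z => by
    haveI : IsClosedImmersion (pullback.fst Z.hom (q I)) := MorphismProperty.pullback_fst _ _ inferInstance
    haveI : Surjective (pullback.fst Z.hom (q I)) := MorphismProperty.pullback_fst _ _ inferInstance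
    exact isHomeomorph_iff_isEmbedding_surjective.2
      ⟨(pullback.fst Z.hom (q I)).isClosedEmbedding.isEmbedding, (pullback.fst Z.hom (q I)).surjective⟩
  haveI : IsIso (F.map f).left := ((Over.forget _).mapIso (asIso (F.map f))).isIso_hom
  have hsq : (F.map f).left ≫ pullback.fst Y.hom (q I) = pullback.fst X.hom (q I) ≫ f.left := pullback.lift_fst _ _ _
  let eX := (hhom X).homeomorph
  let eY := (hhom Y).homeomorph
  let e : X.left ≃ₜ Y.left := eX.symm.trans ((Scheme.homeoOfIso (asIso (F.map f).left)).trans eY)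
  have hfe : ⇑f.left = e := funext fun x => by
    obtain ⟨x', rfl⟩ := (hhom X).surjective x
    have h1 : (F.map f).left ≫ pullback.fst Y.hom (q I) = pullback.fst X.hom (q I) ≫ f.left := hsq
    have := congr($h1 x')
    show f.left (pullback.fst X.hom (q I) x') = eY ((F.map f).left (eX.symm (eX x')))
    rw [eX.symm_apply_apply]
    exact this.symm
  haveI : IsAffineHom f.left :=
    isAffineHom_of_isInducing _ (hfe ▸ e.isInducing) (hfe ▸ (by rw [e.range_coe]; exact isClosed_univ))
  show (MorphismProperty.isomorphisms Scheme.{u}) f.left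
  rw [IsZariskiLocalAtTarget.iff_of_iSup_eq_top (P := MorphismProperty.isomorphisms Scheme.{u})
    (fun U : Y.left.affineOpens => U.1) (iSup_affineOpens_eq_top Y.left)]
  intro U
  let U' : Y.left.Opens := U.1
  haveI : IsAffine U'.toScheme := U.2
  haveI : IsAffine (f.left ⁻¹ᵁ U').toScheme := U.2.preimage f.left
  let g : (f.left ⁻¹ᵁ U').toScheme ⟶ U'.toScheme := f.left ∣_ U'
  let a : U'.toScheme ⟶ Spec (CommRingCat.of R) := U'.ι ≫ Y.hom
  have hg : g ≫ a = (f.left ⁻¹ᵁ U').ι ≫ X.hom := by
    show (f.left ∣_ U') ≫ U'.ι ≫ Y.hom = _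
    rw [morphismRestrict_ι_assoc, Over.w]
  haveI : Flat (g ≫ a) := by rw [hg]; infer_instance
  -- pass to rings
  let eU := U'.toScheme.isoSpec
  let eV := (f.left ⁻¹ᵁ U').toScheme.isoSpec
  obtain ⟨α, hα⟩ : ∃ α, Spec.map α = eU.inv ≫ a := ⟨_, Spec.map_preimage _⟩
  obtain ⟨β, hβ⟩ : ∃ β, Spec.map β = eV.inv ≫ g ≫ a := ⟨_, Spec.map_preimage _⟩
  obtain ⟨γ, hγ⟩ : ∃ γ, Spec.map γ = eV.inv ≫ g ≫ eU.hom := ⟨_, Spec.map_preimage _⟩
  letI := α.hom.toAlgebra
  letI := β.hom.toAlgebra
  have hαγ : α ≫ γ = β := Spec.map_injective (by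
    rw [Spec.map_comp, hα, hβ, hγ]; simp)
  let φ : Γ(U'.toScheme, ⊤) →ₐ[R] Γ((f.left ⁻¹ᵁ U').toScheme, ⊤) :=
    ⟨γ.hom, fun r => congr($(hαγ).hom r)⟩
  haveI : Module.Flat R Γ((f.left ⁻¹ᵁ U').toScheme, ⊤) := by
    have : Flat (Spec.map β) := by rw [hβ]; infer_instance
    exact RingHom.flat_algebraMap_iff.1 ((HasRingHomProperty.Spec_iff (P := @Flat)).1 this)
  let m : pullback (q I) (Spec.map β) ⟶ pullback (q I) (Spec.map α) :=
    pullback.map _ _ _ _ (𝟙 _) (Spec.map γ) (𝟙 _) (by simp) (by rw [Category.comp_id, ← Spec.map_comp, hαγ])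
  have hmiso : IsIso m := by
    -- `m` is a restriction of the base change of `f`
    let jX : pullback (q I) (Spec.map β) ⟶ pullback X.hom (q I) :=
      pullback.lift (pullback.snd _ _ ≫ eV.inv ≫ (f.left ⁻¹ᵁ U').ι) (pullback.fst _ _) (by
        rw [Category.assoc, Category.assoc, ← hg, ← hβ, pullback.condition])
    let jY : pullback (q I) (Spec.map α) ⟶ pullback Y.hom (q I) :=
      pullback.lift (pullback.snd _ _ ≫ eU.inv ≫ U'.ι) (pullback.fst _ _) (by
        rw [Category.assoc, Category.assoc, ← hα, pullback.condition])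
    have hsqV : IsPullback (pullback.snd (q I) (Spec.map β)) jX (eV.inv ≫ (f.left ⁻¹ᵁ U').ι) (pullback.fst X.hom (q I)) := by
      refine IsPullback.of_bot ?_ (pullback.lift_fst _ _ _).symm (IsPullback.of_hasPullback X.hom (q I)).flip.flip
      rw [pullback.lift_snd, Category.assoc, ← hg, ← hβ]
      exact (IsPullback.of_hasPullback _ _).flip
    have hsqU : IsPullback (pullback.snd (q I) (Spec.map α)) jY (eU.inv ≫ U'.ι) (pullback.fst Y.hom (q I)) := by
      refine IsPullback.of_bot ?_ (pullback.lift_fst _ _ _).symm (IsPullback.of_hasPullback Y.hom (q I)).flip.flip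
      rw [pullback.lift_snd, Category.assoc, ← hα]
      exact (IsPullback.of_hasPullback _ _).flip
    have hγ' : IsPullback (Spec.map γ) (eV.inv ≫ (f.left ⁻¹ᵁ U').ι) (eU.inv ≫ U'.ι) f.left := by
      refine IsPullback.of_iso (isPullback_morphismRestrict f.left U') eV eU (Iso.refl _) (Iso.refl _) ?_ ?_ ?_ ?_
      · rw [hγ, Iso.hom_inv_id_assoc]
      · simp
      · simp
      · simp
    have hcomm : jX ≫ (F.map f).left = m ≫ jY := by
      apply pullback.hom_ext
      · rw [Category.assoc, hsq, pullback.lift_fst_assoc, Category.assoc, ← hγ'.w, Category.assoc m,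
          pullback.lift_fst, ← Category.assoc m, show m ≫ pullback.snd (q I) (Spec.map α) =
            pullback.snd (q I) (Spec.map β) ≫ Spec.map γ from pullback.lift_snd _ _ _, Category.assoc]
      · rw [Category.assoc, show (F.map f).left ≫ pullback.snd Y.hom (q I) = pullback.snd X.hom (q I) from
          pullback.lift_snd _ _ _, pullback.lift_snd, Category.assoc, pullback.lift_snd]
        exact ((pullback.lift_fst _ _ _).trans (Category.comp_id _)).symm
    have h1 : IsPullback (pullback.snd (q I) (Spec.map β) ≫ Spec.map γ) jX (eU.inv ≫ U'.ι)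
        (pullback.fst X.hom (q I) ≫ f.left) := hsqV.paste_horiz hγ'
    rw [← show m ≫ pullback.snd (q I) (Spec.map α) = pullback.snd (q I) (Spec.map β) ≫ Spec.map γ from
      pullback.lift_snd _ _ _, ← hsq] at h1
    exact (IsPullback.of_right h1 hcomm.symm hsqU).isIso_fst_of_isIso
  have := bijective_of_isIso_bc I hI _ _ φ m ((pullback.lift_fst _ _ _).trans (Category.comp_id _))
    (pullback.lift_snd _ _ _)
  have hγi : IsIso γ := (ConcreteCategory.isIso_iff_bijective γ).2 this
  have : g = eV.hom ≫ Spec.map γ ≫ eU.inv := by rw [hγ]; simp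
  show IsIso (f.left ∣_ U')
  rw [show f.left ∣_ U' = g from rfl, this]
  infer_instance

end Groth.Agent.CAlg6.NilIso
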