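import Groth.Agent.GrSyz54.Tor
import Groth.Agent.TorMod7.PD

/-!
The periodic minimal resolution of the residue field of a node `x * y = 0`.
-/

set_option autoImplicit false

universe u

open CategoryTheory

namespace Groth.Agent.CAlg6.NodeRes

variable {A : Type u} [CommRing A]

/-- The rank of the `i`-th term. -/
def idx : ℕ → Type
  | 0 => Fin 1
  | _ + 1 => Fin 2

instance finite_idx : ∀ i, Finite (idx i)
  | 0 => inferInstanceAs (Finite (Fin 1))
  | _ + 1 => inferInstanceAs (Finite (Fin 2))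

/-- First map `(a, b) ↦ x a + y b`. -/
def d₀ (x y : A) : (Fin 2 → A) →ₗ[A] (Fin 1 → A) :=
  LinearMap.pi fun _ => x • LinearMap.proj 0 + y • LinearMap.proj 1

/-- The periodic maps. -/
def dd (x y : A) : (Fin 2 → A) →ₗ[A] (Fin 2 → A) :=
  LinearMap.pi fun j => (if j = 0 then x else y) • LinearMap.proj j

/-- The resolution. -/
def fc (x y : A) : GrSyz54.FC A where
  ι := idx
  fin := finite_idx
  d := fun i => match i with
    | 0 => d₀ x y
    | i + 1 => if Even i then dd y x else dd x y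

/-- Augmentation. -/
def aug (x y : A) : (idx 0 → A) →ₗ[A] A ⧸ Ideal.span ({x, y} : Set A) :=
  Submodule.mkQ _ ∘ₗ LinearMap.proj (0 : Fin 1)

variable {x y : A}

theorem ker_dd (hx : ∀ a, x * a = 0 ↔ y ∣ a) (hy : ∀ a, y * a = 0 ↔ x ∣ a) :
    LinearMap.ker (dd x y) = LinearMap.range (dd y x) := by
  ext v
  rw [LinearMap.mem_ker, LinearMap.mem_range]
  constructor
  · intro h
    obtain ⟨a, ha⟩ := (hx (v 0)).1 (by simpa [dd] using congrFun h 0)
    obtain ⟨b, hb⟩ := (hy (v 1)).1 (by simpa [dd] using congrFun h 1)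
    exact ⟨![a, b], by funext j; fin_cases j <;> simp [dd, ha, hb]⟩
  · rintro ⟨w, rfl⟩
    funext j
    fin_cases j
    · simpa [dd] using (hx (y * w 0)).2 (dvd_mul_right y _)
    · simpa [dd] using (hy (x * w 1)).2 (dvd_mul_right x _)

theorem ker_d₀ (hx : ∀ a, x * a = 0 ↔ y ∣ a) (hy : ∀ a, y * a = 0 ↔ x ∣ a)
    (hxy : ∀ a b, x * a + y * b = 0 → y ∣ a ∧ x ∣ b) :
    LinearMap.ker (d₀ x y) = LinearMap.range (dd y x) := by
  ext v
  rw [LinearMap.mem_ker, LinearMap.mem_range]
  constructor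
  · intro h
    obtain ⟨⟨a, ha⟩, b, hb⟩ := hxy (v 0) (v 1) (by simpa [d₀] using congrFun h 0)
    exact ⟨![a, b], by funext j; fin_cases j <;> simp [dd, ha, hb]⟩
  · rintro ⟨w, rfl⟩
    funext j
    simp [d₀, dd, (hx (y * w 0)).2 (dvd_mul_right y _), (hy (x * w 1)).2 (dvd_mul_right x _)]

theorem isRes (hx : ∀ a, x * a = 0 ↔ y ∣ a) (hy : ∀ a, y * a = 0 ↔ x ∣ a)
    (hxy : ∀ a b, x * a + y * b = 0 → y ∣ a ∧ x ∣ b) : (fc x y).IsRes (aug x y) where
  surj := fun q => by
    obtain ⟨a, rfl⟩ := Submodule.mkQ_surjective _ q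
    exact ⟨fun _ => a, rfl⟩
  exact_zero := by
    ext v
    rw [LinearMap.mem_ker, LinearMap.mem_range]
    constructor
    · intro h
      obtain ⟨a, b, hab⟩ := Ideal.mem_span_pair.1 ((Submodule.Quotient.mk_eq_zero _).1 h)
      refine ⟨![a, b], funext fun (j : Fin 1) => ?_⟩
      have hj : j = 0 := Subsingleton.elim _ _
      subst hj
      change x * (![a, b] 0) + y * (![a, b] 1) = v (0 : Fin 1)
      have hab' : a * x + b * y = v (0 : Fin 1) := hab
      simpa [mul_comm] using hab'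
    · rintro ⟨w, rfl⟩
      refine (Submodule.Quotient.mk_eq_zero _).2 (Ideal.mem_span_pair.2 ⟨w (0 : Fin 2), w (1 : Fin 2), ?_⟩)
      change w (0 : Fin 2) * x + w (1 : Fin 2) * y = x * w (0 : Fin 2) + y * w (1 : Fin 2)
      ring
  exact_succ := fun i => by
    cases i with
    | zero => exact ker_d₀ hx hy hxy
    | succ i =>
      change LinearMap.ker (if Even i then dd y x else dd x y) =
        LinearMap.range (if Even (i + 1) then dd y x else dd x y)
      by_cases h : Even i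
      · rw [if_pos h, if_neg (Nat.not_even_iff_odd.2 h.add_one)]
        exact ker_dd hy hx
      · rw [if_neg h, if_pos (Nat.even_add_one.2 h)]
        exact ker_dd hx hy

theorem minAt (i : ℕ) : (fc x y).MinAt (Ideal.span ({x, y} : Set A)) i := by
  have hxm : x ∈ Ideal.span ({x, y} : Set A) := Ideal.subset_span (by simp)
  have hym : y ∈ Ideal.span ({x, y} : Set A) := Ideal.subset_span (by simp)
  intro v a
  match i with
  | 0 => exact Ideal.mem_span_pair.2 ⟨v (0 : Fin 2), v (1 : Fin 2), by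
      change v (0 : Fin 2) * x + v (1 : Fin 2) * y = x * v (0 : Fin 2) + y * v (1 : Fin 2)
      ring⟩
  | i + 1 =>
    change (if Even i then dd y x else dd x y) v a ∈ _
    split_ifs <;> simp only [dd, LinearMap.pi_apply, LinearMap.smul_apply, smul_eq_mul] <;>
      split_ifs <;> first
        | exact Ideal.mul_mem_right _ _ hxm
        | exact Ideal.mul_mem_right _ _ hym

theorem length_tor (hx : ∀ a, x * a = 0 ↔ y ∣ a) (hy : ∀ a, y * a = 0 ↔ x ∣ a)
    (hxy : ∀ a b, x * a + y * b = 0 → y ∣ a ∧ x ∣ b) [hm : (Ideal.span ({x, y} : Set A)).IsMaximal]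
    (i : ℕ) (hi : 1 ≤ i) :
    Module.length A (((Tor (ModuleCat.{u} A) i).obj (ModuleCat.of A (A ⧸ Ideal.span ({x, y} : Set A)))).obj
      (ModuleCat.of A (A ⧸ Ideal.span ({x, y} : Set A)))) = 2 := by
  rw [GrSyz54.FC.length_tor_eq (C := fc x y) (isRes hx hy hxy) _ minAt i]
  obtain ⟨j, rfl⟩ := Nat.exists_eq_add_of_le hi
  rw [add_comm]
  exact congrArg Nat.cast (Nat.card_fin 2)

theorem not_hasPD (hx : ∀ a, x * a = 0 ↔ y ∣ a) (hy : ∀ a, y * a = 0 ↔ x ∣ a)
    (hxy : ∀ a b, x * a + y * b = 0 → y ∣ a ∧ x ∣ b) [hm : (Ideal.span ({x, y} : Set A)).IsMaximal]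
    (n : ℕ) :
    ¬ HasProjectiveDimensionLT (ModuleCat.of A (A ⧸ Ideal.span ({x, y} : Set A))) n := by
  intro h
  haveI := h
  have : HasProjectiveDimensionLT (ModuleCat.of A (A ⧸ Ideal.span ({x, y} : Set A))) (n + 1) :=
    hasProjectiveDimensionLT_of_ge _ n (n + 1) n.le_succ
  have h1 := TorMod7.isZero_leftDerived_of_hasProjectiveDimensionLT
    ((MonoidalCategory.tensoringLeft (ModuleCat.{u} A)).obj
      (ModuleCat.of A (A ⧸ Ideal.span ({x, y} : Set A))))
    (ModuleCat.of A (A ⧸ Ideal.span ({x, y} : Set A))) n (n + 1) n.lt_succ_self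
  have h2 := length_tor hx hy hxy (n + 1) (by omega)
  have h3 : Subsingleton (((Tor (ModuleCat.{u} A) (n + 1)).obj
      (ModuleCat.of A (A ⧸ Ideal.span ({x, y} : Set A)))).obj
      (ModuleCat.of A (A ⧸ Ideal.span ({x, y} : Set A)))) :=
    ModuleCat.subsingleton_of_isZero h1
  rw [Module.length_eq_zero] at h2
  exact two_ne_zero h2.symm

end Groth.Agent.CAlg6.NodeRes
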