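import Mathlib

/-!
The norm and the minimal polynomial over an integrally closed domain; primes through an element.
-/

set_option autoImplicit false

universe u

namespace Groth.Agent.CAlg6

theorem norm_eq_sign_mul_pow {K L : Type u} [Field K] [Field L] [Algebra K L] [FiniteDimensional K L] (x : L) :
    ∃ n s : ℕ, 0 < n ∧ Algebra.norm K x = ((-1) ^ s * (minpoly K x).coeff 0) ^ n := by
  have hx : IsIntegral K x := IsIntegral.of_finite K x
  refine ⟨Module.finrank (IntermediateField.adjoin K ({x} : Set L)) L, (minpoly K x).natDegree,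
    Module.finrank_pos, ?_⟩
  rw [Algebra.norm_eq_norm_adjoin K x]
  congr 1
  rw [← IntermediateField.adjoin.powerBasis_gen hx, Algebra.PowerBasis.norm_gen_eq_coeff_zero_minpoly,
    IntermediateField.adjoin.powerBasis_dim, IntermediateField.adjoin.powerBasis_gen, IntermediateField.minpoly_gen]

/-- A prime over a prime containing the constant term of the minimal polynomial, containing `b`. -/
theorem exists_prime_mem {A B : Type u} [CommRing A] [IsDomain A] [CommRing B] [IsDomain B] [Algebra A B]
    [Algebra.IsIntegral A B] [IsIntegrallyClosed A] [Module.IsTorsionFree A B] (b : B) (P : Ideal A) [P.IsPrime]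
    (hc : (minpoly A b).coeff 0 ∈ P) : ∃ Q : Ideal B, Q.IsPrime ∧ b ∈ Q ∧ Q.comap (algebraMap A B) = P := by
  have hb : IsIntegral A b := Algebra.IsIntegral.isIntegral b
  let f := minpoly A b
  let C := Algebra.adjoin A ({b} : Set B)
  have h0 : f.eval₂ (Ideal.Quotient.mk P) 0 = 0 := by
    rw [Polynomial.eval₂_at_zero, Ideal.Quotient.eq_zero_iff_mem]
    exact hc
  let χ : C →+* A ⧸ P := (AdjoinRoot.lift (Ideal.Quotient.mk P) 0 h0).comp (minpoly.equivAdjoin hb).symm.toRingEquiv.toRingHom
  have hχA : ∀ a, χ (algebraMap A C a) = Ideal.Quotient.mk P a := fun a => by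
    show AdjoinRoot.lift (Ideal.Quotient.mk P) 0 h0 ((minpoly.equivAdjoin hb).symm (algebraMap A C a)) = _
    rw [AlgEquiv.commutes, AdjoinRoot.algebraMap_eq, AdjoinRoot.lift_of]
  have hχb : χ ⟨b, Algebra.self_mem_adjoin_singleton A b⟩ = 0 := by
    show AdjoinRoot.lift (Ideal.Quotient.mk P) 0 h0 ((minpoly.equivAdjoin hb).symm _) = _
    have : (minpoly.equivAdjoin hb) (AdjoinRoot.root f) = ⟨b, Algebra.self_mem_adjoin_singleton A b⟩ := by
      rw [minpoly.coe_equivAdjoin]
      exact Subtype.ext (by simp [AdjoinRoot.Minpoly.toAdjoin, f])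
    rw [← this, AlgEquiv.symm_apply_apply, AdjoinRoot.lift_root]
  have : Algebra.IsIntegral C B := Algebra.IsIntegral.tower_top (R := A)
  have := RingHom.ker_isPrime χ
  obtain ⟨Q, -, hQ, hQc⟩ := Ideal.exists_ideal_over_prime_of_isIntegral (RingHom.ker χ) (⊥ : Ideal B) (by
    intro z hz
    have : z = 0 := Subtype.ext (Ideal.mem_bot.1 hz)
    rw [this]; exact zero_mem _)
  refine ⟨Q, hQ, ?_, ?_⟩
  · have : (⟨b, Algebra.self_mem_adjoin_singleton A b⟩ : C) ∈ Q.comap (algebraMap C B) := by
      rw [hQc]; exact hχb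
    exact this
  · ext a
    have : algebraMap A B a ∈ Q ↔ algebraMap A C a ∈ Q.comap (algebraMap C B) := Iff.rfl
    rw [Ideal.mem_comap, this, hQc, RingHom.mem_ker, hχA, Ideal.Quotient.eq_zero_iff_mem]

end Groth.Agent.CAlg6
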