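import Mathlib
import Groth.Prelude.Def_RefHull
import Groth.Agent.CAlg6.FlatHartogs
import Groth.Agent.Div89.Ref1.Hull
import Groth.Agent.SubMod72.OfMono
import Groth.Agent.FlatMor68.PullbackDescent

set_option autoImplicit false
set_option backward.isDefEq.respectTransparency.types false
universe u
open CategoryTheory AlgebraicGeometry TopologicalSpace Opposite Limits
open Groth.Agent.QC70

namespace Groth.Agent.CAlg6.NormalBidual

variable {S : Scheme.{u}}

open Groth.Agent.SubMod72 in
theorem isCoh_of_mono {A F : S.Modules} (ι : F ⟶ A) [Mono ι] [A.IsQuasicoherent] [F.IsFiniteType] :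
    Coh.IsCoh F := by
  let P : Sub A :=
    { carrier := fun W => LinearMap.range (appLinear ι W)
      res_mem := fun {V W} h {x} hx => by
        obtain ⟨y, rfl⟩ := hx
        exact ⟨res F h y, app_res ι h y⟩
      local_mem := fun {W} x hx => by
        choose V hV hpV y hy using fun p : W => hx p.1 p.2
        have hy' : ∀ p, ι.app (V p) (y p) = res A (hV p) x := hy
        obtain ⟨Y, hY⟩ := exists_glue F V hV (fun q hq => Opens.mem_iSup.mpr ⟨⟨q, hq⟩, hpV ⟨q, hq⟩⟩) y (fun p q => by
          refine app_injective_of_mono ι _ ?_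
          rw [app_res, app_res, hy', hy', res_res, res_res])
        refine ⟨Y, section_ext A _ _ fun q hq => ⟨V ⟨q, hq⟩, hV _, hpV _, ?_⟩⟩
        show res A _ (ι.app W Y) = _
        rw [← app_res, hY, hy'] }
  have hP : FG ⊤ P := by
    intro p _
    obtain ⟨V, κ, _, s, hpV, hs⟩ := exists_locGenBy F p
    refine ⟨V, Set.range fun j => ι.app V (s j), le_top, hpV, Set.finite_range _, fun W hW => ?_⟩
    ext x
    constructor
    · rintro ⟨y, rfl⟩ q hq _
      obtain ⟨W', h₁, h₂, a, hqW', e⟩ := hs W hW y q hq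
      refine ⟨W', h₁, h₂, hqW', ?_⟩
      show res A h₁ (ι.app W y) ∈ _
      rw [← app_res, e]
      show appLinear ι W' _ ∈ _
      rw [map_sum]
      refine Submodule.sum_mem _ fun j _ => ?_
      rw [map_smul]
      refine Submodule.smul_mem _ _ (Submodule.subset_span ⟨_, ⟨j, rfl⟩, ?_⟩)
      exact (app_res ι h₂ (s j)).symm
    · intro hx
      refine P.local_mem x fun q hq => ?_
      obtain ⟨W', h₁, h₂, hq', hm⟩ := hx q hq (hW hq)
      refine ⟨W', h₁, hq', ?_⟩
      refine Submodule.span_le.2 ?_ hm
      rintro _ ⟨_, ⟨j, rfl⟩, rfl⟩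
      exact ⟨res F h₂ (s j), app_res ι h₂ (s j)⟩
  obtain ⟨hq, -⟩ := isQuasicoherent_isFiniteType_toMod hP
  have h1 : toModι P ≫ cokernel.π ι = 0 := by
    ext W x
    obtain ⟨y, hy⟩ := (mem_iff_exists P _).mpr ⟨x, rfl⟩
    show (cokernel.π ι).app W ((toModι P).app W x) = 0
    rw [← hy]
    exact congr((Scheme.Modules.Hom.app $(cokernel.condition ι) W) y)
  have h2 : ι ≫ cokernel.π (toModι P) = 0 := by
    ext W y
    obtain ⟨z, hz⟩ := (mem_iff_exists P (ι.app W y)).mp ⟨y, rfl⟩
    show (cokernel.π (toModι P)).app W (ι.app W y) = 0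
    rw [← hz]
    exact congr((Scheme.Modules.Hom.app $(cokernel.condition (toModι P)) W) z)
  let e : toMod P ≅ F := ⟨Abelian.monoLift ι _ h1, Abelian.monoLift _ ι h2,
    by rw [← cancel_mono (toModι P), Category.assoc, Abelian.monoLift_comp, Abelian.monoLift_comp, Category.id_comp],
    by rw [← cancel_mono ι, Category.assoc, Abelian.monoLift_comp, Abelian.monoLift_comp, Category.id_comp]⟩
  exact ⟨isQuasicoherent_of_iso e hq, ‹_›⟩

theorem exists_iso [IsNoetherian S] (hS : Pi1.IsNormalScheme S) (A F : S.Modules) (hA : Coh.IsQCoh A)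
    (hAfl : FlatMod.IsFlat A) (ι : F ⟶ A) [Mono ι] (hF : CohB1.IsFT F) (U : S.Opens)
    (hU : (U : Set S) = {s : S | FlatMod.IsFlatAt F s}) :
    ∃ e : RefHull.ddual F ≅ (Scheme.Modules.pushforward U.ι).obj (F.restrict U.ι),
      RefHull.bidualMap F ≫ e.hom = (Scheme.Modules.restrictAdjunction U.ι).unit.app F := by
  haveI : A.IsQuasicoherent := hA
  haveI : F.IsFiniteType := hF
  haveI hFc : Coh.IsCoh F := isCoh_of_mono ι
  haveI : F.IsQuasicoherent := hFc.1
  haveI hdom : ∀ x : S, IsDomain (S.presheaf.stalk x) := fun x => (hS x).1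
  haveI hfin : ∀ x : S, Module.Finite (S.presheaf.stalk x) (F.presheaf.stalk x) := fun x => QC70.finite_stalk F x
  haveI hnoe : ∀ x : S, IsNoetherianRing (S.presheaf.stalk x) := fun x => inferInstance
  have hmemU : ∀ x : S, x ∈ U ↔ Module.Flat (S.presheaf.stalk x) (F.presheaf.stalk x) := fun x => Set.ext_iff.1 hU x
  -- points of codimension at most one are in U
  have hcodim : ∀ x : S, x ∉ U → (2 : WithBot ℕ∞) ≤ ringKrullDim (S.presheaf.stalk x) := by
    intro x hx
    by_contra h
    apply hx
    rw [hmemU]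
    haveI := (hS x).2
    haveI : Module.Flat (S.presheaf.stalk x) (A.presheaf.stalk x) := hAfl x
    haveI : IsPrincipalIdealRing (S.presheaf.stalk x) := by
      by_cases hfield : IsField (S.presheaf.stalk x)
      · letI := hfield.toField; infer_instance
      · haveI : Ring.KrullDimLE 1 (S.presheaf.stalk x) := by
          rw [Ring.krullDimLE_iff]
          obtain ⟨n, hn⟩ : ∃ n : ℕ∞, ringKrullDim (S.presheaf.stalk x) = n :=
            ⟨_, (WithBot.coe_unbot _ ringKrullDim_ne_bot).symm⟩
          rw [hn] at h ⊢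
          exact_mod_cast Order.le_of_lt_add_one (show n < 1 + 1 by rw [one_add_one_eq_two]; exact WithBot.coe_lt_coe.1 (not_le.1 h))
        haveI : Ring.DimensionLEOne (S.presheaf.stalk x) := ⟨fun hp hpp => hpp.isMaximal_of_ne_bot hp⟩
        haveI : IsDedekindDomain (S.presheaf.stalk x) := { }
        exact (((IsDiscreteValuationRing.TFAE (S.presheaf.stalk x) hfield).out 2 0 :) |>.1 inferInstance).toIsPrincipalIdealRing
    haveI : Module.IsTorsionFree (S.presheaf.stalk x) (A.presheaf.stalk x) := inferInstance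
    haveI : Module.IsTorsionFree (S.presheaf.stalk x) (F.presheaf.stalk x) :=
      Function.Injective.moduleIsTorsionFree (stalkLinear ι x) (injective_stalkMapM_of_mono ι x) (map_smul _)
    haveI : Module.Free (S.presheaf.stalk x) (F.presheaf.stalk x) := Module.free_of_finite_type_torsion_free'
    infer_instance
  -- the bidual is bijective on stalks over U
  have hbid : ∀ x ∈ U, Function.Bijective (RefHull.stalkMapₗ (RefHull.bidualMap F) x) := by
    intro x hx
    haveI := (hmemU x).1 hx
    haveI : Module.Free (S.presheaf.stalk x) (F.presheaf.stalk x) := Module.free_of_flat_of_isLocalRing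
    exact Div89.Ref1.bijective_stalk_bidual F hFc x (show Module.IsReflexive _ _ from inferInstance)
  haveI hiso : IsIso ((Scheme.Modules.restrictFunctor U.ι).map (RefHull.bidualMap F)) := by
    rw [Scheme.Modules.Hom.isIso_iff_isIso_app]
    intro W
    rw [ConcreteCategory.isIso_iff_bijective]
    refine TopCat.Presheaf.app_bijective_of_stalkFunctor_map_bijective
      (F := (⟨F.presheaf, F.isSheaf⟩ : TopCat.Sheaf Ab.{u} S))
      (G := (⟨(RefHull.ddual F).presheaf, (RefHull.ddual F).isSheaf⟩ : TopCat.Sheaf Ab.{u} S))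
      ⟨(RefHull.bidualMap F).mapPresheaf⟩ (U.ι ''ᵁ W) fun x hx => ?_
    exact hbid x (SubMod72.image_le U W hx)
  -- the bidual is the direct image of its restriction
  have hd : Coh.IsCoh (RefHull.ddual F) := Div89.isCoh_dual _ (Div89.isCoh_dual F hFc)
  have hr : ∀ x : S, Module.IsReflexive (S.presheaf.stalk x) ((RefHull.ddual F).presheaf.stalk x) := fun x =>
    Div89.isReflexiveAt_homSh _ _ (Div89.isCoh_dual F hFc) Div89.isCoh_structureModule x
      (Div89.Ref1.isReflexiveAt_of_framed (Div89.Ref1.framed_of_isInvertible EGA73.isInvertible_structureModule x))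
  haveI : IsIso ((Scheme.Modules.restrictAdjunction U.ι).unit.app (RefHull.ddual F)) :=
    (Div89.isIso_unit_iff _ U).2 (Div89.res_bijective_of_reflexive _ hd U (fun x hx => by
      haveI := (hS x).2
      exact CAlg1.two_le_depth_of_isIntegrallyClosed _ (hcodim x hx)) hr)
  refine ⟨asIso ((Scheme.Modules.restrictAdjunction U.ι).unit.app (RefHull.ddual F)) ≪≫
    (Scheme.Modules.pushforward U.ι).mapIso (asIso ((Scheme.Modules.restrictFunctor U.ι).map (RefHull.bidualMap F))).symm, ?_⟩
  simp only [Iso.trans_hom, asIso_hom, Functor.mapIso_hom, Iso.symm_hom, asIso_inv]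
  have h := (Scheme.Modules.restrictAdjunction U.ι).unit.naturality (RefHull.bidualMap F)
  simp only [Functor.id_map, Functor.comp_map] at h
  rw [← Category.assoc]
  erw [h, Category.assoc, ← Functor.map_comp, IsIso.hom_inv_id, CategoryTheory.Functor.map_id, Category.comp_id]

end Groth.Agent.CAlg6.NormalBidual
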