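import Groth.Agent.CAlg6.GrpHomStage
import Groth.Agent.LimTop61.SubgroupDescent
import Groth.Agent.LimTop61.Diag

/-! Normal and central monomorphisms of group schemes descend to a stage of a limit. -/

set_option autoImplicit false
universe u
open CategoryTheory CategoryTheory.Limits MonoidalCategory CartesianMonoidalCategory AlgebraicGeometry ActBC
open Groth.Agent.Tors37 Groth.Agent.LimTop61
open MonObj

noncomputable section

namespace Groth.Agent.CAlg6.NormalStage

section BC

variable {S S' S'' : Scheme.{u}} (g : S' ⟶ S) (h : S'' ⟶ S') {d : S'' ⟶ S} (he : h ≫ g = d)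

include he in
theorem factorsBC_comp_iff {T H G : Over S} (a : T ⟶ G) (em : H ⟶ G) :
    FactorsBC h ((Over.pullback g).map a) ((Over.pullback g).map em) ↔ FactorsBC d a em := by
  constructor
  · rintro ⟨z, hz⟩
    refine ⟨(bcCompIso h g T he).inv ≫ z ≫ (bcCompIso h g H he).hom, ?_⟩
    simp only [Category.assoc]
    rw [← bcCompIso_hom_naturality, reassoc_of% hz, bcCompIso_hom_naturality, Iso.inv_hom_id_assoc]
  · rintro ⟨z, hz⟩
    refine ⟨(bcCompIso h g T he).hom ≫ z ≫ (bcCompIso h g H he).inv, ?_⟩
    rw [← cancel_mono (bcCompIso h g G he).hom]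
    simp only [Category.assoc, bcCompIso_hom_naturality, Iso.inv_hom_id_assoc, hz]

include he in
theorem FactorsBC.trans {T H G : Over S} {a : T ⟶ G} {em : H ⟶ G} (hf : FactorsBC g a em) :
    FactorsBC d a em := by
  obtain ⟨z, hz⟩ := hf
  exact (factorsBC_comp_iff g h he a em).1 ⟨(Over.pullback h).map z, by rw [← Functor.map_comp, hz]⟩

include he in
theorem mono_comp {A B : Over S} (e : A ⟶ B) [Mono ((Over.pullback g).map e)] :
    Mono ((Over.pullback d).map e) := by
  rw [show (Over.pullback d).map e = (bcCompIso h g A he).inv ≫ (Over.pullback h).map ((Over.pullback g).map e) ≫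
    (bcCompIso h g B he).hom by rw [bcCompIso_hom_naturality, Iso.inv_hom_id_assoc]]
  infer_instance

end BC

section Central

variable {S S' : Scheme.{u}} (m : S' ⟶ S) {G H : Over S} [GrpObj G] (em : H ⟶ G)

def cl : G ⊗ H ⟶ G := fst G H * (snd G H ≫ em)
def cr : G ⊗ H ⟶ G := (snd G H ≫ em) * fst G H

theorem central_iff :
    (∀ (T : Over S') (g : T ⟶ Red.bc m G) (n : T ⟶ Red.bc m H),
      g * (n ≫ (Over.pullback m).map em) = (n ≫ (Over.pullback m).map em) * g) ↔
    (Over.pullback m).map (cl em) = (Over.pullback m).map (cr em) := by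
  constructor
  · intro h
    have := h _ ((Over.pullback m).map (fst G H)) ((Over.pullback m).map (snd G H))
    simp only [cl, cr, Functor.map_mul, Functor.map_comp]
    exact this
  · intro h T g n
    have := congrArg (fun x => lift g n ≫ Functor.LaxMonoidal.μ (Over.pullback m) G H ≫ x) h
    simp only [cl, cr, Functor.map_mul, Functor.map_comp, MonObj.comp_mul] at this
    rw [← Category.assoc (Functor.LaxMonoidal.μ _ G H), map_fst', map_snd', lift_fst, lift_snd_assoc] at this
    exact this

end Central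

variable {I : Type u} [SmallCategory I] [IsCofiltered I]
    (D : I ⥤ Scheme.{u}) (c : Limits.Cone D) (hc : Limits.IsLimit c)
    [∀ (i i' : I) (f : i ⟶ i'), IsAffineHom (D.map f)] [∀ i, CompactSpace (D.obj i)] [∀ i, QuasiSeparatedSpace (D.obj i)]

theorem left_props {i : I} {A B : Over (D.obj i)} (e : A ⟶ B)
    [LocallyOfFinitePresentation A.hom] [QuasiCompact A.hom] [QuasiSeparated A.hom]
    [LocallyOfFinitePresentation B.hom] [QuasiSeparated B.hom] :
    QuasiCompact e.left ∧ QuasiSeparated e.left ∧ LocallyOfFinitePresentation e.left := by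
  haveI : QuasiCompact (e.left ≫ B.hom) := by rw [Over.w]; infer_instance
  haveI : QuasiSeparated (e.left ≫ B.hom) := by rw [Over.w]; infer_instance
  haveI : LocallyOfFinitePresentation (e.left ≫ B.hom) := by rw [Over.w]; infer_instance
  exact ⟨QuasiCompact.of_comp e.left B.hom, QuasiSeparated.of_comp e.left B.hom,
    LimTop61.locallyOfFinitePresentation_of_comp e.left B.hom⟩

include hc

theorem exists_mono {i : I} {A B : Over (D.obj i)} (e : A ⟶ B)
    [LocallyOfFinitePresentation A.hom] [QuasiCompact A.hom] [QuasiSeparated A.hom]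
    [LocallyOfFinitePresentation B.hom] [QuasiCompact B.hom] [QuasiSeparated B.hom]
    (h : Mono ((Over.pullback (c.π.app i)).map e)) :
    ∃ (j : I) (φ : j ⟶ i), Mono ((Over.pullback (D.map φ)).map e) := by
  obtain ⟨_, _, _⟩ := left_props D e
  haveI : CompactSpace B.left := QuasiCompact.compactSpace_of_compactSpace B.hom
  haveI : QuasiSeparatedSpace B.left := quasiSeparatedSpace_of_quasiSeparated B.hom
  haveI : LocallyOfFiniteType e.left := inferInstance
  have key : ∀ {T : Scheme.{u}} (f : T ⟶ D.obj i), IsPullback (pullback.fst A.hom f)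
      ((Over.pullback f).map e).left e.left (pullback.fst B.hom f) := fun {T} f => by
    refine IsPullback.of_bot (v₂₁ := pullback.snd B.hom f) (v₂₂ := B.hom) ?_
      (pullback_map_left_fst (g := f) e).symm (IsPullback.of_hasPullback _ _)
    rw [Over.w e, show ((Over.pullback f).map e).left ≫ pullback.snd B.hom f = pullback.snd A.hom f from
      Over.w ((Over.pullback f).map e)]
    exact IsPullback.of_hasPullback _ _
  have h' : Mono ((Over.pullback (c.π.app i)).map e).left := inferInstance
  obtain ⟨j, φ, hj⟩ := LimDesc62.descProp_mono.rel D c hc i B.hom e.left ‹_›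
    ((LimDesc62.prop_iff_of_isPullback (P := MorphismProperty.monomorphisms Scheme.{u})
      (key (c.π.app i))).mp h')
  have hj' : Mono ((Over.pullback (D.map φ)).map e).left :=
    (LimDesc62.prop_iff_of_isPullback (P := MorphismProperty.monomorphisms Scheme.{u}) (key (D.map φ))).mpr hj
  exact ⟨j, φ, Over.mono_of_mono_left _⟩

theorem exists_factors {i : I} {T H G : Over (D.obj i)} (a : T ⟶ G) (em : H ⟶ G)
    [LocallyOfFinitePresentation H.hom] [QuasiCompact H.hom] [QuasiSeparated H.hom]
    [LocallyOfFinitePresentation G.hom] [QuasiSeparated G.hom] [QuasiCompact T.hom] [QuasiSeparated T.hom]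
    [Mono em] (h : FactorsBC (c.π.app i) a em) :
    ∃ (j : I) (φ : j ⟶ i), FactorsBC (D.map φ) a em := by
  obtain ⟨_, _, _⟩ := left_props D em
  haveI : CompactSpace T.left := QuasiCompact.compactSpace_of_compactSpace T.hom
  haveI : QuasiSeparatedSpace T.left := quasiSeparatedSpace_of_quasiSeparated T.hom
  haveI : Mono em.left := inferInstance
  rw [factorsBC_iff_isIso] at h
  have := LimDesc62.respectsIso_lfp.{u}
  have : LocallyOfFinitePresentation (pullback.snd em.left a.left) :=
    MorphismProperty.pullback_snd (P := @LocallyOfFinitePresentation) _ _ inferInstance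
  obtain ⟨j, φ, hj⟩ := LimDesc62.descProp_isIso.rel D c hc i T.hom (pullback.snd em.left a.left) this h
  exact ⟨j, φ, (factorsBC_iff_isIso _ a em).mpr hj⟩

variable (j : I) (G H : Over (D.obj j)) [GrpObj G] [GrpObj H]
    [LocallyOfFinitePresentation G.hom] [QuasiCompact G.hom] [QuasiSeparated G.hom]
    [LocallyOfFinitePresentation H.hom] [QuasiCompact H.hom] [QuasiSeparated H.hom]
    (u : H ⟶ G)

theorem normal :
    (Mono ((Over.pullback (c.π.app j)).map u) ∧ AlgGrp.IsNormalHom ((Over.pullback (c.π.app j)).map u)) ↔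
      ∃ (i : I) (f : i ⟶ j), Mono ((Over.pullback (D.map f)).map u) ∧
        AlgGrp.IsNormalHom ((Over.pullback (D.map f)).map u) := by
  constructor
  · rintro ⟨hm, hn⟩
    obtain ⟨i, f, hmi⟩ := exists_mono D c hc u hm
    have h0 := factors_of_isNormalHom (c.π.app j) u hn
    rw [← factorsBC_comp_iff (D.map f) (c.π.app i) (c.w f)] at h0
    obtain ⟨_, _, _, _⟩ := GrpStage.compact_tensor G H
    haveI : QuasiCompact (G ⊗ H).hom := quasiCompact_of_compactSpace _
    haveI : QuasiSeparated (G ⊗ H).hom := QuasiSeparated.of_quasiSeparatedSpace _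
    haveI : QuasiCompact (Red.bc (D.map f) (G ⊗ H)).hom := MorphismProperty.pullback_snd (P := @QuasiCompact) _ _ ‹_›
    haveI : QuasiSeparated (Red.bc (D.map f) (G ⊗ H)).hom :=
      MorphismProperty.pullback_snd (P := @QuasiSeparated) _ _ ‹_›
    haveI : LocallyOfFinitePresentation (Red.bc (D.map f) G).hom :=
      MorphismProperty.pullback_snd (P := @LocallyOfFinitePresentation) _ _ ‹_›
    haveI : QuasiSeparated (Red.bc (D.map f) G).hom :=
      MorphismProperty.pullback_snd (P := @QuasiSeparated) _ _ ‹_›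
    haveI : LocallyOfFinitePresentation (Red.bc (D.map f) H).hom :=
      MorphismProperty.pullback_snd (P := @LocallyOfFinitePresentation) _ _ ‹_›
    haveI : QuasiCompact (Red.bc (D.map f) H).hom := MorphismProperty.pullback_snd (P := @QuasiCompact) _ _ ‹_›
    haveI : QuasiSeparated (Red.bc (D.map f) H).hom :=
      MorphismProperty.pullback_snd (P := @QuasiSeparated) _ _ ‹_›
    obtain ⟨k, φ, hk⟩ := exists_factors D c hc ((Over.pullback (D.map f)).map (conjMap u))
      ((Over.pullback (D.map f)).map u) h0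
    exact ⟨k, φ ≫ f, mono_comp (D.map f) (D.map φ) (D.map_comp _ _).symm u,
      isNormalHom_of_factors _ u ((factorsBC_comp_iff (D.map f) (D.map φ) (D.map_comp _ _).symm _ _).1 hk)⟩
  · rintro ⟨i, f, hm, hn⟩
    exact ⟨mono_comp (D.map f) (c.π.app i) (c.w f) u, isNormalHom_of_factors _ u
      (FactorsBC.trans (D.map f) (c.π.app i) (c.w f) (factors_of_isNormalHom _ u hn))⟩

theorem central :
    (Mono ((Over.pullback (c.π.app j)).map u) ∧ (∀ (T : Over c.pt) (g : T ⟶ Red.bc (c.π.app j) G)
      (n : T ⟶ Red.bc (c.π.app j) H), g * (n ≫ (Over.pullback (c.π.app j)).map u) =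
        (n ≫ (Over.pullback (c.π.app j)).map u) * g)) ↔
      ∃ (i : I) (f : i ⟶ j), Mono ((Over.pullback (D.map f)).map u) ∧
        (∀ (T : Over (D.obj i)) (g : T ⟶ Red.bc (D.map f) G) (n : T ⟶ Red.bc (D.map f) H),
          g * (n ≫ (Over.pullback (D.map f)).map u) = (n ≫ (Over.pullback (D.map f)).map u) * g) := by
  simp only [central_iff]
  constructor
  · rintro ⟨hm, he⟩
    obtain ⟨i₁, f₁, hm₁⟩ := exists_mono D c hc u hm
    obtain ⟨_, _, _, _⟩ := GrpStage.compact_tensor G H
    obtain ⟨i₂, f₂, he₂⟩ := exists_map_eq D c hc _ _ he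
    obtain ⟨i, u₁, u₂, hu⟩ := IsCofiltered.cospan f₁ f₂
    exact ⟨i, u₁ ≫ f₁, mono_comp (D.map f₁) (D.map u₁) (D.map_comp _ _).symm u,
      GrpHomStage.stable_eq D f₂ _ u₂ hu.symm _ _ he₂⟩
  · rintro ⟨i, f, hm, he⟩
    refine ⟨mono_comp (D.map f) (c.π.app i) (c.w f) u, ?_⟩
    rw [← cancel_epi (bcCompIso (c.π.app i) (D.map f) _ (c.w f)).hom, ← bcCompIso_hom_naturality,
      ← bcCompIso_hom_naturality, he]

end Groth.Agent.CAlg6.NormalStage
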