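import Groth.Agent.E4O.UnibranchPoly
import Mathlib.RingTheory.IntegralClosure.GoingDown
import Mathlib.RingTheory.ZariskisMainTheorem
import Mathlib.RingTheory.RingHom.QuasiFinite
import Mathlib.RingTheory.RingHom.Flat
import Mathlib.Algebra.GCDMonoid.IntegrallyClosed
import Mathlib.RingTheory.Ideal.MinimalPrime.Localization
import Mathlib.RingTheory.TensorProduct.MvPolynomial
import Mathlib.RingTheory.Valuation.ValuationRing
import Mathlib.RingTheory.AlgebraicIndependent.TranscendenceBasis

/-!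
Lifting generizations along a quasi-finite morphism to affine space over a valuation ring
(the algebra behind SGA 3 VI_B / EGA IV 14.5).
-/

set_option autoImplicit false
universe u
open scoped TensorProduct

namespace Groth.Agent.CAlg6.QFSection

attribute [local instance] MvPolynomial.algebraMvPolynomial

/-- going down for a quasi-finite extension of an integrally closed domain -/
theorem going_down {P B : Type u} [CommRing P] [IsDomain P] [IsIntegrallyClosed P] [CommRing B]
    [IsDomain B] [Algebra P B] [Algebra.FiniteType P B] [Algebra.QuasiFinite P B]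
    (hinj : Function.Injective (algebraMap P B)) (q : Ideal B) [q.IsPrime] (p₁ : Ideal P) [p₁.IsPrime]
    (hp : p₁ ≤ q.under P) : ∃ w : Ideal B, w.IsPrime ∧ w ≤ q ∧ w.under P = p₁ := by
  obtain ⟨S', hfg, r, hrq, hbij⟩ :=
    Algebra.QuasiFiniteAt.exists_fg_and_exists_notMem_and_awayMap_bijective (R := P) q
  have : Module.Finite P S' := ⟨(Submodule.fg_top _).mpr hfg⟩
  have : FaithfulSMul P S' := (faithfulSMul_iff_algebraMap_injective _ _).2
    fun a b h => hinj (congrArg Subtype.val h)
  let n : Ideal S' := q.comap S'.val.toRingHom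
  have : n.LiesOver (n.under P) := ⟨rfl⟩
  obtain ⟨s, hsn, hs, hsp⟩ := Ideal.exists_ideal_le_liesOver_of_le (p := p₁) (q := n.under P) n hp
  have hrs : r ∉ s := fun h => hrq (hsn h)
  let aw : Localization.Away r →ₐ[P] Localization.Away r.1 := Localization.awayMapₐ S'.val r
  have haw : Function.Bijective aw := hbij
  let θ : B →+* Localization.Away r :=
    (AlgEquiv.ofBijective aw haw).symm.toRingEquiv.toRingHom.comp (algebraMap B (Localization.Away r.1))
  have hθ : ∀ x : S', θ x.1 = algebraMap S' (Localization.Away r) x := fun x => by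
    show (AlgEquiv.ofBijective aw haw).symm (algebraMap B (Localization.Away r.1) x.1) = _
    rw [AlgEquiv.symm_apply_eq]
    simp only [aw, Localization.awayMapₐ, AlgEquiv.ofBijective_apply]
    erw [IsLocalization.Away.mapₐ_apply]
    exact (IsLocalization.map_eq (M := Submonoid.powers r) (T := Submonoid.powers r.1) (Q := Localization.Away r.1) (g := S'.val.toRingHom) _ x).symm
  have hdisj : Disjoint (Submonoid.powers r : Set S') s :=
    Set.disjoint_left.2 fun b hb hb' => by
      obtain ⟨k, rfl⟩ := hb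
      exact hrs (hs.mem_of_pow_mem k hb')
  have hJ : (s.map (algebraMap S' (Localization.Away r))).IsPrime :=
    IsLocalization.isPrime_of_isPrime_disjoint (Submonoid.powers r) _ s hs hdisj
  have hJc : (s.map (algebraMap S' (Localization.Away r))).comap (algebraMap S' (Localization.Away r)) = s :=
    IsLocalization.under_map_of_isPrime_disjoint (Submonoid.powers r) _ hs hdisj
  refine ⟨(s.map (algebraMap S' (Localization.Away r))).comap θ, hJ.comap θ, fun b hb => ?_, ?_⟩
  · obtain ⟨x, sk, hx⟩ := IsLocalization.exists_mk'_eq (Submonoid.powers r) (θ b)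
    obtain ⟨k, hk⟩ : ∃ k, r ^ k = sk.1 := sk.2
    have hmem : x ∈ s := by
      rw [← hJc, Ideal.mem_comap, ← IsLocalization.mk'_spec (Localization.Away r) x sk, hx]
      exact Ideal.mul_mem_right _ _ hb
    have h1 : θ (b * (r.1 ^ k)) = θ x.1 := by
      rw [map_mul, hθ, show θ (r.1 ^ k) = algebraMap S' (Localization.Away r) sk.1 from
        (hθ (r ^ k)).trans (congrArg _ hk), ← hx, IsLocalization.mk'_spec]
    have h2 : algebraMap B (Localization.Away r.1) (b * r.1 ^ k) = algebraMap B (Localization.Away r.1) x.1 :=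
      (AlgEquiv.ofBijective aw haw).symm.injective h1
    obtain ⟨⟨_, m, rfl⟩, hm⟩ := (IsLocalization.eq_iff_exists (Submonoid.powers r.1) _).1 h2
    have h3 : r.1 ^ m * (b * r.1 ^ k) ∈ q := hm ▸ Ideal.mul_mem_left _ _ (hsn hmem)
    have hr : ∀ j, r.1 ^ j ∉ q := fun j h => hrq (‹q.IsPrime›.mem_of_pow_mem j h)
    rcases ‹q.IsPrime›.mem_or_mem h3 with h | h
    · exact absurd h (hr m)
    · exact (‹q.IsPrime›.mem_or_mem h).resolve_right (hr k)
  · ext a
    have ha : θ (algebraMap P B a) = algebraMap S' (Localization.Away r) (algebraMap P S' a) :=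
      hθ (algebraMap P S' a)
    have h4 : s.under P = p₁ := hsp.over.symm
    rw [Ideal.mem_comap, Ideal.mem_comap, ha, ← Ideal.mem_comap, hJc, ← Ideal.mem_comap, ← h4]

theorem exists_dvd_all {V : Type u} [CommRing V] [IsDomain V] [ValuationRing V] (s : Finset V)
    (hs : s.Nonempty) : ∃ a ∈ s, ∀ b ∈ s, a ∣ b := by
  induction hs using Finset.Nonempty.cons_induction with
  | singleton a => exact ⟨a, Finset.mem_singleton_self a, fun b hb => (Finset.mem_singleton.1 hb) ▸ dvd_rfl⟩
  | cons a t ha ht ih =>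
    obtain ⟨c, hc, hct⟩ := ih
    rcases ValuationRing.dvd_total a c with h | h
    · exact ⟨a, Finset.mem_cons_self a t, fun b hb => by
        rcases Finset.mem_cons.1 hb with rfl | hb
        exacts [dvd_rfl, h.trans (hct b hb)]⟩
    · exact ⟨c, Finset.mem_cons_of_mem hc, fun b hb => by
        rcases Finset.mem_cons.1 hb with rfl | hb
        exacts [h, hct b hb]⟩

theorem qf_pushout {PA PV B R' : Type u} [CommRing PA] [CommRing PV] [CommRing B] [CommRing R']
    [Algebra PA PV] [Algebra PA B] [Algebra PV R'] [Algebra.FiniteType PA B] [Algebra.QuasiFinite PA B]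
    (f : B →+* R') (hf : f.comp (algebraMap PA B) = (algebraMap PV R').comp (algebraMap PA PV))
    (hgen : ∀ x, x ∈ Subring.closure (Set.range f ∪ Set.range (algebraMap PV R'))) :
    Algebra.FiniteType PV R' ∧ Algebra.QuasiFinite PV R' := by
  let _ : Algebra PA R' := ((algebraMap PV R').comp (algebraMap PA PV)).toAlgebra
  have : IsScalarTower PA PV R' := IsScalarTower.of_algebraMap_eq fun _ => rfl
  let ψ : PV ⊗[PA] B →ₐ[PV] R' := Algebra.TensorProduct.lift (Algebra.ofId PV R')
    (⟨f, fun a => congr($hf a)⟩ : B →ₐ[PA] R') fun _ _ => Commute.all _ _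
  have hψ : Function.Surjective ψ := by
    intro x
    have hle : Subring.closure (Set.range f ∪ Set.range (algebraMap PV R')) ≤ ψ.toRingHom.range := by
      rw [Subring.closure_le]
      rintro _ (⟨b, rfl⟩ | ⟨v, rfl⟩)
      · exact ⟨1 ⊗ₜ[PA] b, (Algebra.TensorProduct.lift_tmul _ _ _ _ _).trans (by rw [map_one, one_mul]; rfl)⟩
      · exact ⟨algebraMap PV (PV ⊗[PA] B) v, AlgHom.commutes ψ v⟩
    exact hle (hgen x)
  exact ⟨Algebra.FiniteType.of_surjective ψ hψ, Algebra.QuasiFinite.of_surjective_algHom ψ hψ⟩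

open MvPolynomial in
/-- The key lifting: a valued point of affine space whose closed point lifts lifts at the generic point. -/
theorem exists_lift_section {A B V : Type u} [CommRing A] [CommRing B] [CommRing V] [IsDomain V]
    [ValuationRing V] [Algebra A B] [Algebra A V] [Algebra.FiniteType A B] {σ : Type u} [Finite σ]
    (t : σ → B) (hqf : (aeval (R := A) t).toRingHom.QuasiFinite)
    (z q : Ideal B) [z.IsPrime] [q.IsPrime] (hzq : z ≤ q) (hzA : z.under A = q.under A)
    (hind : AlgebraicIndependent (A ⧸ z.under A) fun i => Ideal.Quotient.mk z (t i))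
    (Q : Ideal (B ⊗[A] V)) [Q.IsPrime]
    (hQl : Q.comap Algebra.TensorProduct.includeLeftRingHom = q)
    (hQr : Q.comap (Algebra.TensorProduct.includeRight : V →ₐ[A] B ⊗[A] V).toRingHom =
      IsLocalRing.maximalIdeal V)
    (c : σ → V) (hc : ∀ i, t i ⊗ₜ[A] 1 - 1 ⊗ₜ[A] c i ∈ Q)
    (hopen : ∀ Q₀ : Ideal (B ⊗[A] V), Q₀.IsPrime →
      Q₀.comap Algebra.TensorProduct.includeLeftRingHom = z →
      Q₀.comap (Algebra.TensorProduct.includeRight : V →ₐ[A] B ⊗[A] V).toRingHom =
        IsLocalRing.maximalIdeal V →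
      ∃ w : Ideal (B ⊗[A] V), w.IsPrime ∧ w ≤ Q₀ ∧
        w.comap (Algebra.TensorProduct.includeRight : V →ₐ[A] B ⊗[A] V).toRingHom = ⊥) :
    ∃ w : Ideal (B ⊗[A] V), w.IsPrime ∧ w ≤ Q ∧
      w.comap (Algebra.TensorProduct.includeRight : V →ₐ[A] B ⊗[A] V).toRingHom = ⊥ ∧
      ∀ i, t i ⊗ₜ[A] 1 - 1 ⊗ₜ[A] c i ∈ w := by
  classical
  let R := B ⊗[A] V
  let iB : B →+* R := Algebra.TensorProduct.includeLeftRingHom
  let iV : V →+* R := (Algebra.TensorProduct.includeRight : V →ₐ[A] B ⊗[A] V).toRingHom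
  have hiA : ∀ a, iB (algebraMap A B a) = iV (algebraMap A V a) := fun a =>
    ((Algebra.TensorProduct.includeRight : V →ₐ[A] B ⊗[A] V).commutes a).symm
  let φ : MvPolynomial σ V →+* R := eval₂Hom iV fun i => iB (t i)
  let p := z.under A
  have hVp : (IsLocalRing.maximalIdeal V).comap (algebraMap A V) = p := by
    show _ = z.under A
    rw [hzA, Ideal.under_def, ← hQl, ← hQr, Ideal.comap_comap, Ideal.comap_comap]
    exact congrArg (fun k => Ideal.comap k Q) (RingHom.ext fun a => (hiA a).symm)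
  let k := IsLocalRing.ResidueField V
  let D := A ⧸ p
  let jA : D →+* k := Ideal.quotientMap _ (algebraMap A V) hVp.ge
  have hjA : Function.Injective jA := Ideal.quotientMap_injective' hVp.le
  let _ : Algebra D k := jA.toAlgebra
  have : FaithfulSMul D k := (faithfulSMul_iff_algebraMap_injective _ _).2 hjA
  let _ : Algebra (FractionRing D) k := FractionRing.liftAlgebra D k
  have hkflat : Module.Flat D k := Module.Flat.trans D (FractionRing D) k
  let DX := MvPolynomial σ D
  let kX := MvPolynomial σ k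
  have : Module.Flat DX kX :=
    Module.Flat.isBaseChange (R := D) (M := k) (S := DX) (N := kX)
      (f := (IsScalarTower.toAlgHom D k kX).toLinearMap) (Algebra.IsPushout.out)
  let Bz := B ⧸ z
  let T : σ → Bz := fun i => Ideal.Quotient.mk z (t i)
  let _ : Algebra DX Bz := (aeval (R := D) T).toRingHom.toAlgebra
  have hinjT : Function.Injective (algebraMap DX Bz) := hind
  let L := FractionRing Bz
  have : FaithfulSMul DX L := (faithfulSMul_iff_algebraMap_injective _ _).2
    ((IsFractionRing.injective Bz L).comp hinjT)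
  let _ : Algebra (FractionRing DX) L := FractionRing.liftAlgebra DX L
  have hLflat : Module.Flat DX L := Module.Flat.trans DX (FractionRing DX) L
  let M0 := Bz ⊗[DX] kX
  have hregB : ∀ b : Bz, b ≠ 0 → (b ⊗ₜ[DX] (1 : kX) : M0) ∈ nonZeroDivisors M0 := by
    intro b hb
    have h : Function.Injective ((LinearMap.mulLeft DX b).rTensor kX) :=
      Module.Flat.rTensor_preserves_injective_linearMap _ (mul_right_injective₀ hb)
    have he : (LinearMap.mulLeft DX b).rTensor kX = LinearMap.mulLeft DX (b ⊗ₜ[DX] (1 : kX) : M0) :=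
      TensorProduct.ext' fun x y => by simp [Algebra.TensorProduct.tmul_mul_tmul]
    rw [he] at h
    exact mem_nonZeroDivisors_iff_right.2 fun x hx => h (by
      show (b ⊗ₜ[DX] (1 : kX) : M0) * x = (b ⊗ₜ[DX] (1 : kX) : M0) * 0
      rw [mul_zero, mul_comm, hx])
  have hregK : ∀ g : kX, g ≠ 0 → ((1 : Bz) ⊗ₜ[DX] g : M0) ∈ nonZeroDivisors M0 := by
    intro g hg
    let ι : M0 →ₐ[DX] L ⊗[DX] kX :=
      Algebra.TensorProduct.map (IsScalarTower.toAlgHom DX Bz L) (AlgHom.id DX kX)
    have hι : Function.Injective ι :=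
      Module.Flat.rTensor_preserves_injective_linearMap (IsScalarTower.toAlgHom DX Bz L).toLinearMap
        (IsFractionRing.injective Bz L)
    have h : Function.Injective ((LinearMap.mulLeft DX g).lTensor L) :=
      Module.Flat.lTensor_preserves_injective_linearMap _ (mul_right_injective₀ hg)
    have he : (LinearMap.mulLeft DX g).lTensor L =
        LinearMap.mulLeft DX ((1 : L) ⊗ₜ[DX] g : L ⊗[DX] kX) :=
      TensorProduct.ext' fun x y => by simp [Algebra.TensorProduct.tmul_mul_tmul]
    rw [he] at h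
    refine mem_nonZeroDivisors_iff_right.2 fun x hx => hι (h ?_)
    show ((1 : L) ⊗ₜ[DX] g : L ⊗[DX] kX) * ι x = ((1 : L) ⊗ₜ[DX] g : L ⊗[DX] kX) * ι 0
    have hg' : ((1 : L) ⊗ₜ[DX] g : L ⊗[DX] kX) = ι ((1 : Bz) ⊗ₜ[DX] g) :=
      ((Algebra.TensorProduct.map_tmul _ _ _ _).trans (by rw [map_one]; rfl)).symm
    rw [hg', ← map_mul, ← map_mul, mul_zero, mul_comm, hx]
  -- the two comparison maps
  let resV : V →+* k := IsLocalRing.residue V
  let gV : V →+* M0 :=
    ((Algebra.TensorProduct.includeRight : kX →ₐ[DX] M0).toRingHom.comp MvPolynomial.C).comp resV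
  let gB : B →+* M0 := (Algebra.TensorProduct.includeLeftRingHom (R := DX)).comp (Ideal.Quotient.mk z)
  let _ : Algebra A M0 := (gB.comp (algebraMap A B)).toAlgebra
  have hcompA : ∀ a, gV (algebraMap A V a) = gB (algebraMap A B a) := fun a => by
    show (1 : Bz) ⊗ₜ[DX] (MvPolynomial.C (resV (algebraMap A V a)) : kX) =
      Ideal.Quotient.mk z (algebraMap A B a) ⊗ₜ[DX] (1 : kX)
    have e1 : algebraMap DX kX (C (Ideal.Quotient.mk p a)) = C (resV (algebraMap A V a)) :=
      MvPolynomial.map_C _ _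
    have e2 : algebraMap DX Bz (C (Ideal.Quotient.mk p a)) = Ideal.Quotient.mk z (algebraMap A B a) :=
      MvPolynomial.aeval_C _ _
    rw [← e1, ← e2, ← Algebra.TensorProduct.tmul_one_eq_one_tmul]
  let θ₀ : R →ₐ[A] M0 := Algebra.TensorProduct.lift (⟨gB, fun a => rfl⟩ : B →ₐ[A] M0)
    (⟨gV, hcompA⟩ : V →ₐ[A] M0) fun _ _ => Commute.all _ _
  have hθB : ∀ b, θ₀ (iB b) = gB b := fun b => by
    show θ₀ (b ⊗ₜ[A] 1) = _
    rw [Algebra.TensorProduct.lift_tmul, map_one, mul_one]; rfl
  have hθV : ∀ v, θ₀ (iV v) = gV v := fun v => by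
    show θ₀ (1 ⊗ₜ[A] v) = _
    rw [Algebra.TensorProduct.lift_tmul, map_one, one_mul]; rfl
  let S := R ⧸ Q
  let fB : Bz →+* S := Ideal.Quotient.lift z ((Ideal.Quotient.mk Q).comp iB) fun b hb =>
    Ideal.Quotient.eq_zero_iff_mem.2 (hQl.ge (hzq hb))
  let fk : k →+* S := Ideal.Quotient.lift (IsLocalRing.maximalIdeal V) ((Ideal.Quotient.mk Q).comp iV)
    fun v hv => Ideal.Quotient.eq_zero_iff_mem.2 (hQr.ge hv)
  let fX : kX →+* S := eval₂Hom fk fun i => Ideal.Quotient.mk Q (iB (t i))
  let _ : Algebra DX S := (fB.comp (algebraMap DX Bz)).toAlgebra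
  have hfX : fX.comp (algebraMap DX kX) = fB.comp (algebraMap DX Bz) := by
    refine MvPolynomial.ringHom_ext (fun a => ?_) fun i => ?_
    · obtain ⟨a, rfl⟩ := Ideal.Quotient.mk_surjective a
      have e1 : algebraMap DX kX (C (Ideal.Quotient.mk p a)) = C (resV (algebraMap A V a)) :=
        MvPolynomial.map_C _ _
      have e2 : algebraMap DX Bz (C (Ideal.Quotient.mk p a)) = Ideal.Quotient.mk z (algebraMap A B a) :=
        MvPolynomial.aeval_C _ _
      rw [RingHom.comp_apply, RingHom.comp_apply, e1, e2, eval₂Hom_C]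
      exact congrArg (Ideal.Quotient.mk Q) (hiA a).symm
    · have e1 : algebraMap DX kX (X i) = X i := MvPolynomial.map_X _ _
      have e2 : algebraMap DX Bz (X i) = T i := MvPolynomial.aeval_X _ _
      rw [RingHom.comp_apply, RingHom.comp_apply, e1, e2, eval₂Hom_X']
      rfl
  let θ' : M0 →ₐ[DX] S := Algebra.TensorProduct.lift (⟨fB, fun a => rfl⟩ : Bz →ₐ[DX] S)
    (⟨fX, fun a => congr($hfX a)⟩ : kX →ₐ[DX] S) fun _ _ => Commute.all _ _
  have hθ' : ∀ r, θ' (θ₀ r) = Ideal.Quotient.mk Q r := by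
    intro r
    induction r using TensorProduct.induction_on with
    | zero => simp
    | tmul b v =>
      rw [show b ⊗ₜ[A] v = iB b * iV v by
        show b ⊗ₜ[A] v = b ⊗ₜ[A] 1 * 1 ⊗ₜ[A] v
        rw [Algebra.TensorProduct.tmul_mul_tmul, mul_one, one_mul], map_mul, map_mul, map_mul, hθB, hθV]
      congr 1
      · show θ' (Ideal.Quotient.mk z b ⊗ₜ[DX] 1) = _
        rw [Algebra.TensorProduct.lift_tmul, map_one, mul_one]; rfl
      · show θ' ((1 : Bz) ⊗ₜ[DX] C (resV v)) = _
        rw [Algebra.TensorProduct.lift_tmul, map_one, one_mul]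
        exact eval₂Hom_C _ _ _
    | add x y hx hy => simp only [map_add, hx, hy]
  -- a minimal prime below `Q`
  have hkp : (RingHom.ker θ'.toRingHom).IsPrime := RingHom.ker_isPrime _
  obtain ⟨P₀, hP₀, hP₀le⟩ := Ideal.exists_minimalPrimes_le (I := ⊥) (J := RingHom.ker θ'.toRingHom) bot_le
  have : P₀.IsPrime := hP₀.1.1
  have hP₀reg : ∀ x ∈ nonZeroDivisors M0, x ∉ P₀ := fun x hx =>
    Set.disjoint_left.1 (Ideal.disjoint_nonZeroDivisors_of_mem_minimalPrimes hP₀).symm hx
  let Q₀ : Ideal R := P₀.comap θ₀.toRingHom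
  have hQ₀Q : Q₀ ≤ Q := fun r hr => Ideal.Quotient.eq_zero_iff_mem.1 ((hθ' r).symm.trans (hP₀le hr))
  have hQ₀p : Q₀.IsPrime := Ideal.IsPrime.comap _
  obtain ⟨w₀, hw₀, hw₀Q, hw₀V⟩ := hopen Q₀ hQ₀p (by
    ext b
    show θ₀ (iB b) ∈ P₀ ↔ _
    rw [hθB]
    constructor
    · intro h
      by_contra hb
      exact hP₀reg _ (hregB _ fun h0 => hb (Ideal.Quotient.eq_zero_iff_mem.1 h0)) h
    · intro hb
      have : gB b = 0 := by
        show Ideal.Quotient.mk z b ⊗ₜ[DX] (1 : kX) = 0
        rw [Ideal.Quotient.eq_zero_iff_mem.2 hb, TensorProduct.zero_tmul]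
      rw [this]; exact P₀.zero_mem) (by
    ext v
    show θ₀ (iV v) ∈ P₀ ↔ _
    rw [hθV]
    constructor
    · intro h
      by_contra hv
      exact ‹P₀.IsPrime›.ne_top (Ideal.eq_top_of_isUnit_mem _ h
        (((IsLocalRing.notMem_maximalIdeal).1 hv).map gV))
    · intro hv
      have : gV v = 0 := by
        show (1 : Bz) ⊗ₜ[DX] C (resV v) = 0
        rw [show resV v = 0 from (IsLocalRing.residue_eq_zero_iff v).2 hv, map_zero, TensorProduct.tmul_zero]
      rw [this]; exact P₀.zero_mem)
  have hφθ : ∀ g, θ₀ (φ g) = (1 : Bz) ⊗ₜ[DX] MvPolynomial.map resV g := fun g => by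
    have : θ₀.toRingHom.comp φ =
        (Algebra.TensorProduct.includeRight : kX →ₐ[DX] M0).toRingHom.comp (MvPolynomial.map resV) := by
      refine MvPolynomial.ringHom_ext (fun v => ?_) fun i => ?_
      · show θ₀ (φ (C v)) = (1 : Bz) ⊗ₜ[DX] MvPolynomial.map resV (C v)
        rw [eval₂Hom_C, hθV, MvPolynomial.map_C]; rfl
      · show θ₀ (φ (X i)) = (1 : Bz) ⊗ₜ[DX] MvPolynomial.map resV (X i)
        have e1 : algebraMap DX kX (X i) = X i := MvPolynomial.map_X _ _
        have e2 : algebraMap DX Bz (X i) = T i := MvPolynomial.aeval_X _ _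
        rw [eval₂Hom_X', hθB, MvPolynomial.map_X, ← e1, ← Algebra.TensorProduct.tmul_one_eq_one_tmul, e2]
        rfl
    exact congr($this g)
  let R' := R ⧸ w₀
  let mw : R →+* R' := Ideal.Quotient.mk w₀
  let PV := MvPolynomial σ V
  let _ : Algebra PV R' := (mw.comp φ).toAlgebra
  have hVinj : ∀ v : V, iV v ∈ w₀ → v = 0 := fun v hv => by
    have : v ∈ w₀.comap iV := hv
    rw [hw₀V] at this
    exact this
  have hinj : Function.Injective (algebraMap PV R') := by
    rw [injective_iff_map_eq_zero]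
    intro g hg
    by_contra hg0
    obtain ⟨v, hv, hdvd⟩ := exists_dvd_all (g.support.image fun s => coeff s g)
      ((MvPolynomial.support_nonempty.2 hg0).image _)
    obtain ⟨s₀, hs₀, rfl⟩ := Finset.mem_image.1 hv
    obtain ⟨g', hg'⟩ : C (coeff s₀ g) ∣ g := (C_dvd_iff_dvd_coeff _ _).2 fun s => by
      by_cases hs : s ∈ g.support
      · exact hdvd _ (Finset.mem_image_of_mem _ hs)
      · rw [MvPolynomial.notMem_support_iff.1 hs]; exact dvd_zero _
    have hne : coeff s₀ g ≠ 0 := MvPolynomial.mem_support_iff.1 hs₀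
    have hone : coeff s₀ g' = 1 := by
      have := congrArg (coeff s₀) hg'
      rw [MvPolynomial.coeff_C_mul] at this
      exact mul_left_cancel₀ hne (by rw [mul_one]; exact this.symm)
    have hmem : φ g ∈ w₀ := Ideal.Quotient.eq_zero_iff_mem.1 hg
    rw [hg', map_mul, eval₂Hom_C] at hmem
    rcases hw₀.mem_or_mem hmem with h | h
    · exact hne (hVinj _ h)
    · have h1 : θ₀ (φ g') ∈ P₀ := hw₀Q h
      rw [hφθ] at h1
      refine hP₀reg _ (hregK _ fun h0 => ?_) h1
      have := congrArg (coeff s₀) h0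
      rw [MvPolynomial.coeff_map, hone, map_one, MvPolynomial.coeff_zero] at this
      exact one_ne_zero this
  -- quasi-finiteness
  let PA := MvPolynomial σ A
  let _ : Algebra PA B := (aeval (R := A) t).toRingHom.toAlgebra
  have : Algebra.QuasiFinite PA B := hqf
  have : IsScalarTower A PA B := IsScalarTower.of_algebraMap_eq fun a => (AlgHom.commutes _ a).symm
  have : Algebra.FiniteType PA B := .of_restrictScalars_finiteType A _ _
  have hBR : (mw.comp iB).comp (algebraMap PA B) =
      (algebraMap PV R').comp (algebraMap PA PV) := by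
    refine MvPolynomial.ringHom_ext (fun a => ?_) fun i => ?_
    · show mw (iB (aeval (R := A) t (C a))) = mw (φ (MvPolynomial.map (algebraMap A V) (C a)))
      rw [MvPolynomial.aeval_C, MvPolynomial.map_C, eval₂Hom_C]
      exact congrArg mw (hiA a)
    · show mw (iB (aeval (R := A) t (X i))) = mw (φ (MvPolynomial.map (algebraMap A V) (X i)))
      rw [MvPolynomial.aeval_X, MvPolynomial.map_X, eval₂Hom_X']
  obtain ⟨hft, hqfR⟩ := qf_pushout (PA := PA) (PV := PV) (B := B) (R' := R') (mw.comp iB) hBR (fun x => by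
    obtain ⟨x, rfl⟩ := Ideal.Quotient.mk_surjective x
    show mw x ∈ Subring.closure _
    induction x using TensorProduct.induction_on with
    | zero => rw [map_zero]; exact Subring.zero_mem _
    | tmul b v =>
      have : mw (b ⊗ₜ[A] v) = mw (iB b) * algebraMap PV R' (C v) := by
        show _ = mw (iB b) * mw (φ (C v))
        rw [eval₂Hom_C, ← map_mul]
        exact congrArg mw (by
          show b ⊗ₜ[A] v = b ⊗ₜ[A] 1 * 1 ⊗ₜ[A] v
          rw [Algebra.TensorProduct.tmul_mul_tmul, mul_one, one_mul])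
      rw [this]
      exact Subring.mul_mem _ (Subring.subset_closure (Or.inl ⟨b, rfl⟩))
        (Subring.subset_closure (Or.inr ⟨C v, rfl⟩))
    | add x y hx hy => rw [map_add]; exact Subring.add_mem _ hx hy)
  have : IsIntegrallyClosed PV := Groth.Agent.E4O.isIntegrallyClosed_mvPolynomial V σ
  have hw₀le : RingHom.ker mw ≤ Q := Ideal.mk_ker.le.trans (hw₀Q.trans hQ₀Q)
  let Q' := Q.map mw
  have hQ' : Q'.IsPrime := Ideal.map_isPrime_of_surjective Ideal.Quotient.mk_surjective hw₀le
  have hQ'c : Q'.comap mw = Q := by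
    rw [Ideal.comap_map_of_surjective mw Ideal.Quotient.mk_surjective, ← RingHom.ker_eq_comap_bot]
    exact sup_eq_left.2 hw₀le
  let p₁ : Ideal PV := RingHom.ker (eval c : PV →+* V)
  have hp₁ : p₁.IsPrime := RingHom.ker_isPrime _
  have hev : (Ideal.Quotient.mk Q).comp φ = ((Ideal.Quotient.mk Q).comp iV).comp (eval c) := by
    refine MvPolynomial.ringHom_ext (fun v => ?_) fun i => ?_
    · simp [φ]
    · show Ideal.Quotient.mk Q (φ (X i)) = Ideal.Quotient.mk Q (iV (eval c (X i)))
      rw [eval₂Hom_X', eval_X]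
      exact Ideal.Quotient.eq.2 (hc i)
  have hp₁le : p₁ ≤ Q'.under PV := fun g hg => by
    show mw (φ g) ∈ Q'
    rw [← Ideal.mem_comap, hQ'c]
    refine Ideal.Quotient.eq_zero_iff_mem.1 ?_
    have := congr($hev g)
    simp only [RingHom.comp_apply] at this
    rw [this, show eval c g = 0 from hg, map_zero, map_zero]
  obtain ⟨w', hw', hw'Q, hw'p⟩ := going_down hinj Q' p₁ hp₁le
  refine ⟨w'.comap mw, hw'.comap _, (Ideal.comap_mono hw'Q).trans hQ'c.le, ?_, fun i => ?_⟩
  · ext v
    show mw (iV v) ∈ w' ↔ v = 0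
    rw [show mw (iV v) = algebraMap PV R' (C v) from (congrArg mw (eval₂Hom_C _ _ _)).symm,
      ← Ideal.mem_comap, ← Ideal.under_def, hw'p, RingHom.mem_ker, eval_C]
  · have : algebraMap PV R' (X i - C (c i)) ∈ w' := by
      rw [← Ideal.mem_comap, ← Ideal.under_def, hw'p, RingHom.mem_ker, map_sub, eval_X, eval_C, sub_self]
    rw [show algebraMap PV R' (X i - C (c i)) = mw (φ (X i - C (c i))) from rfl, map_sub,
      eval₂Hom_X', eval₂Hom_C] at this
    exact this

end Groth.Agent.CAlg6.QFSection
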