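import Groth.Agent.CAlg6.UnivOpenSlice
import Groth.Agent.E4O.QuasiSectionScheme
import Groth.Agent.Cyc20.EtaleNbhd
import Groth.Agent.S4925
import Mathlib.AlgebraicGeometry.Morphisms.Etale
import Mathlib.AlgebraicGeometry.ZariskisMainTheorem
import Groth.Agent.FlatMor66.OnePoint

/-!
Quasi-sections through a closed point of a fibre (SGA 3 VI_B 5.x).
-/

set_option autoImplicit false
universe u
open CategoryTheory CategoryTheory.Limits AlgebraicGeometry MvPolynomial
open Groth.Agent.E4O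

namespace Groth.Agent.CAlg6.QuasiSec

theorem isUnivOpenAt_openImmersion_comp {U X Y : Scheme.{u}} (i : U ⟶ X) [IsOpenImmersion i] (f : X ⟶ Y)
    (w : U) (h : EGA43.IsUnivOpenAt f (i w)) : EGA43.IsUnivOpenAt (i ≫ f) w :=
  S4925.result i f w (fun T g x' _ => isOpenAt_of_isOpenMap (pullback.snd i g).isOpenEmbedding.isOpenMap x') h

theorem isIso_residueFieldMap {U X : Scheme.{u}} (i : U ⟶ X) [SurjectiveOnStalks i] (w : U) :
    IsIso (i.residueFieldMap w) := by
  refine (ConcreteCategory.isIso_iff_bijective _).2 ⟨RingHom.injective _, fun y => ?_⟩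
  obtain ⟨y, rfl⟩ := IsLocalRing.residue_surjective y
  obtain ⟨z, rfl⟩ := i.stalkMap_surjective w y
  refine ⟨(X.residue (i w)).hom z, ?_⟩
  exact congr(($(Scheme.residue_residueFieldMap i w)).hom z)

/-- the etale-finite step -/
theorem etale_step {X S : Scheme.{u}} (g₀ : X ⟶ S) [LocallyQuasiFinite g₀] [LocallyOfFinitePresentation g₀]
    (x : X) (h : EGA43.IsUnivOpenAt g₀ x) :
    ∃ (S' S'' : Scheme.{u}) (_ : IsAffine S') (w : S' ⟶ S) (π : S'' ⟶ S') (k : S'' ⟶ X),
      Etale w ∧ IsFinite π ∧ Surjective π ∧ LocallyOfFinitePresentation π ∧ k ≫ g₀ = π ≫ w ∧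
      ∃ s'' : S'', (π ≫ w).base ⁻¹' {g₀.base x} = {s''} ∧ k.base s'' = x ∧ IsIso (k.residueFieldMap s'') := by
  obtain ⟨U, g, u₀, hg, hgu, V, v, hvV, hfin, hvx, hvu, hiso, huniq⟩ :=
    Cyc20.exists_elementary_etale_finite_unique g₀ x (g₀.quasiFiniteAt x)
  let N : Set U := interior (pullback.snd g₀ g '' (V : Set _))
  have hN : u₀ ∈ N := by
    rw [mem_interior_iff_mem_nhds, ← hvu]
    exact h U g v hvx _ (V.2.mem_nhds hvV)
  haveI : Etale g := hg
  haveI : LocallyQuasiFinite g := FlatMor66.lqf_of_etale g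
  let R : Set U := closure (g ⁻¹' {g₀ x} \ {u₀})
  have hR : u₀ ∉ R := by
    intro hmem
    have hd := g.isDiscrete_preimage_singleton (g₀ x)
    obtain ⟨O, hO, hOu⟩ := isDiscrete_iff_forall_mem_exists_isOpen.1 hd u₀ hgu
    obtain ⟨w, hwO, hw⟩ := mem_closure_iff.1 hmem O hO
      ((show u₀ ∈ O ∩ g ⁻¹' {g₀ x} by rw [hOu]; rfl).1)
    have : w ∈ O ∩ g ⁻¹' {g₀ x} := ⟨hwO, hw.1⟩
    rw [hOu] at this
    exact hw.2 this
  obtain ⟨_, ⟨U', hU', rfl⟩, hu₀U', hU'sub⟩ := U.isBasis_affineOpens.exists_subset_of_mem_open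
    (show u₀ ∈ N ∩ Rᶜ from ⟨hN, hR⟩) (isOpen_interior.inter isClosed_closure.isOpen_compl)
  let U1 : U.Opens := U'
  haveI : IsAffine U1.toScheme := hU'
  let p : V.toScheme ⟶ U := V.ι ≫ pullback.snd g₀ g
  haveI : IsFinite p := hfin
  haveI : LocallyOfFinitePresentation p := inferInstanceAs (LocallyOfFinitePresentation (V.ι ≫ _))
  let π : (p ⁻¹ᵁ U1).toScheme ⟶ U1.toScheme := p ∣_ U1
  let k : (p ⁻¹ᵁ U1).toScheme ⟶ X := (p ⁻¹ᵁ U1).ι ≫ V.ι ≫ pullback.fst g₀ g
  have hπι : π ≫ U1.ι = (p ⁻¹ᵁ U1).ι ≫ p := morphismRestrict_ι p U1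
  have hk : k ≫ g₀ = π ≫ U1.ι ≫ g := by
    rw [← Category.assoc π, hπι]
    simp only [k, p, Category.assoc, pullback.condition]
  let s'' : (p ⁻¹ᵁ U1).toScheme := ⟨⟨v, hvV⟩, show p ⟨v, hvV⟩ ∈ U1 by
    show pullback.snd g₀ g v ∈ U1
    rw [hvu]; exact hu₀U'⟩
  have hkv : k s'' = x := hvx
  have hval : ∀ t : (p ⁻¹ᵁ U1).toScheme, (π ≫ U1.ι) t = pullback.snd g₀ g (t.1.1) := fun t => by
    rw [hπι]; rfl
  refine ⟨U1.toScheme, _, inferInstance, U1.ι ≫ g, π, k, inferInstance,
    IsZariskiLocalAtTarget.restrict (P := @IsFinite) inferInstance U1, ⟨fun t => ?_⟩,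
    IsZariskiLocalAtTarget.restrict (P := @LocallyOfFinitePresentation) inferInstance U1, hk, s'', ?_, hkv, ?_⟩
  · obtain ⟨b, hbV, hb⟩ := interior_subset (hU'sub t.2).1
    refine ⟨⟨⟨b, hbV⟩, show p ⟨b, hbV⟩ ∈ U1 by show pullback.snd g₀ g b ∈ U1; rw [hb]; exact t.2⟩, ?_⟩
    exact Subtype.ext ((hval _).trans hb)
  · ext t
    constructor
    · intro ht
      have h1 : g (pullback.snd g₀ g t.1.1) = g₀ x := by
        rw [← hval]; exact ht
      have h2 : pullback.snd g₀ g t.1.1 = u₀ := by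
        by_contra hne
        exact (hU'sub (show pullback.snd g₀ g t.1.1 ∈ U1 from t.2)).2 (subset_closure ⟨h1, hne⟩)
      exact Subtype.ext (Subtype.ext (huniq t.1.1 t.1.2 h2))
    · rintro rfl
      show (π ≫ U1.ι ≫ g) s'' = g₀ x
      rw [← hk, Scheme.Hom.comp_apply, hkv]
  · haveI := isIso_residueFieldMap (p ⁻¹ᵁ U1).ι s''
    haveI := isIso_residueFieldMap V.ι ((p ⁻¹ᵁ U1).ι s'')
    rw [Scheme.residueFieldMap_comp, Scheme.residueFieldMap_comp]
    exact IsIso.comp_isIso' (IsIso.comp_isIso' hiso inferInstance) inferInstance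

theorem main {X S : Scheme.{u}} (f : X ⟶ S) [LocallyOfFinitePresentation f] {x z : X}
    (hclosed : ∀ x' : X, f x' = f x → x ⤳ x' → x' = x) (hzx : z ⤳ x) (hfz : f z = f x)
    (hopen : EGA43.IsUnivOpenAt f z) (hdeg : FlatMor.fibreDimAt f x ≤ (fdeg f z : ℕ)) :
    ∃ (S' S'' : Scheme.{u}) (_ : IsAffine S') (w : S' ⟶ S) (π : S'' ⟶ S') (h : S'' ⟶ X),
      Etale w ∧ IsFinite π ∧ Surjective π ∧ LocallyOfFinitePresentation π ∧ h ≫ f = π ≫ w ∧
      ∃ s'' : S'', (π ≫ w).base ⁻¹' {f.base x} = {s''} ∧ h.base s'' = x ∧ IsIso (h.residueFieldMap s'') := by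
  obtain ⟨C, ⟨q, rfl⟩, -⟩ := exists_chart f x
  let p : Ideal C.A := q.asIdeal.under C.A
  have hfx : f (C.pt q) = C.ptY (PrimeSpectrum.comap (algebraMap C.A C.B) q) := C.apply q
  obtain ⟨ι, _, t, hcard, htq, huniq⟩ := exists_cut_fibre p q.asIdeal (fun r hr hrp hqr => by
      have := hclosed (C.pt ⟨r, hr⟩)
        (by rw [C.apply, hfx]; exact congrArg C.ptY (PrimeSpectrum.ext hrp))
        ((C.specializes_iff _ _).2 hqr)
      exact congrArg PrimeSpectrum.asIdeal (C.isOpenEmbedding_pt.injective this))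
    (fdeg f z) fun l hl => by
      have hfib : ∀ w : {w : PrimeSpectrum C.B //
          PrimeSpectrum.comap (algebraMap C.A C.B) w = ⟨p, inferInstance⟩},
          f (C.pt w.1) = f (C.pt q) := fun w => by
        rw [C.apply, hfx, w.2]; rfl
      have h1 := length_add_le_of_lt (fun w : {w : PrimeSpectrum C.B //
          PrimeSpectrum.comap (algebraMap C.A C.B) w = ⟨p, inferInstance⟩} => fdeg f (C.pt w.1))
        (fun a b h => fdeg_lt ((C.specializes_iff _ _).2 h.le) ((hfib a).trans (hfib b).symm)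
          fun h' => h.ne (Subtype.ext (C.isOpenEmbedding_pt.injective h'))) l
      have hhead : C.pt l.head.1 ⤳ C.pt q :=
        (C.specializes_iff _ _).2 ((show l.head.1.asIdeal ≤ l.last.1.asIdeal from l.head_le_last).trans hl.le)
      have h2 := (fdeg_le_fibreDimAt hhead (hfib _)).trans hdeg
      have h3 : fdeg f (C.pt l.head.1) ≤ fdeg f z := by exact_mod_cast h2
      exact le_trans (le_trans (Nat.le_add_right _ _) h1) h3
  -- quasi-finite neighbourhood over affine space
  let PA := MvPolynomial ι C.A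
  let _ : Algebra PA C.B := (aeval (R := C.A) t).toRingHom.toAlgebra
  have : IsScalarTower C.A PA C.B := IsScalarTower.of_algebraMap_eq fun k => (AlgHom.commutes _ k).symm
  have : Algebra.FiniteType PA C.B := .of_restrictScalars_finiteType C.A _ _
  have hqf : Algebra.QuasiFiniteAt PA q.asIdeal := by
    refine quasiFiniteAt_of_forall_comparable q.asIdeal fun r hr hrP h => huniq r hr ?_ (fun i => ?_) h
    · rw [← Ideal.under_under (B := PA) r, hrP, Ideal.under_under]
    · have : MvPolynomial.X i ∈ r.under PA := by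
        rw [hrP]
        show aeval (R := C.A) t (MvPolynomial.X i) ∈ q.asIdeal
        rw [aeval_X]
        exact htq i
      have h' : aeval (R := C.A) t (MvPolynomial.X i) ∈ r := this
      rwa [aeval_X] at h'
  obtain ⟨S₁, hS₁, r, hrq, hbij⟩ :=
    Algebra.QuasiFiniteAt.exists_fg_and_exists_notMem_and_awayMap_bijective (R := PA) q.asIdeal
  have : Module.Finite PA S₁ := ⟨(Submodule.fg_top _).mpr hS₁⟩
  have : Algebra.QuasiFinite PA (Localization.Away r) := .trans _ S₁ _
  have hqfr : Algebra.QuasiFinite PA (Localization.Away r.1) := by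
    let aw : Localization.Away r →ₐ[PA] Localization.Away r.1 := Localization.awayMapₐ S₁.val r
    exact Algebra.QuasiFinite.of_surjective_algHom aw hbij.2
  let Br := Localization.Away r.1
  let m₁ : CommRingCat.of C.B ⟶ CommRingCat.of Br := CommRingCat.ofHom (algebraMap C.B Br)
  have : IsOpenImmersion (Spec.map m₁) := IsOpenImmersion.of_isLocalization r.1
  let i : Spec (CommRingCat.of Br) ⟶ X := Spec.map m₁ ≫ C.e
  let j := (AffineSpace.SpecIso ι (CommRingCat.of C.A)).inv ≫ AffineSpace.map ι C.j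
  have : IsOpenImmersion j := UnivOpenSlice.isOpenImmersion_chart C.j
  let uW : Spec (CommRingCat.of Br) ⟶ 𝔸(ι; S) :=
    Spec.map (CommRingCat.ofHom (algebraMap PA Br)) ≫ j
  have : LocallyQuasiFinite (Spec.map (CommRingCat.ofHom (algebraMap PA Br))) := by
    rw [HasRingHomProperty.Spec_iff (P := @LocallyQuasiFinite)]
    exact RingHom.quasiFinite_algebraMap.2 hqfr
  have : LocallyQuasiFinite uW := inferInstance
  have hu : uW ≫ (𝔸(ι; S) ↘ S) = i ≫ f := by
    simp only [uW, j, i, Category.assoc, AffineSpace.map_over, AffineSpace.SpecIso_inv_over_assoc, C.comm,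
      ← Spec.map_comp_assoc, m₁, ← CommRingCat.ofHom_comp]
    congr 3
    rw [IsScalarTower.algebraMap_eq PA C.B Br, RingHom.comp_assoc]
    exact congrArg (RingHom.comp (algebraMap C.B Br)) (aeval (R := C.A) t).comp_algebraMap
  have hq1 : Disjoint (Submonoid.powers r.1 : Set C.B) q.asIdeal := Set.disjoint_left.2 fun b hb hb' => by
    obtain ⟨k, rfl⟩ := hb
    exact hrq (q.2.mem_of_pow_mem k hb')
  let qr : PrimeSpectrum Br := ⟨q.asIdeal.map (algebraMap C.B Br),
    IsLocalization.isPrime_of_isPrime_disjoint (Submonoid.powers r.1) Br q.asIdeal inferInstance hq1⟩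
  have hqr : qr.asIdeal.comap (algebraMap C.B Br) = q.asIdeal :=
    IsLocalization.under_map_of_isPrime_disjoint (Submonoid.powers r.1) Br inferInstance hq1
  have hiq : i qr = C.pt q := congrArg C.pt (PrimeSpectrum.ext hqr)
  obtain ⟨zr, hzr⟩ := hzx.mem_open i.isOpenEmbedding.isOpen_range ⟨qr, hiq⟩
  have hzrq : zr ⤳ qr := i.isOpenEmbedding.isInducing.specializes_iff.1 (by rw [hzr, hiq]; exact hzx)
  have hopen' : EGA43.IsUnivOpenAt uW qr := by
    refine UnivOpenSlice.main (i ≫ f) uW hu hzrq ?_ (isUnivOpenAt_openImmersion_comp i f zr (hzr.symm ▸ hopen)) ?_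
    · exact ((congrArg f hzr).trans hfz).trans (congrArg f hiq).symm
    · rw [fdeg_comp_openImmersion, hzr]
      exact hcard
  -- the zero section
  let e₀ : S ⟶ 𝔸(ι; S) := AffineSpace.homOfVector (𝟙 S) 0
  have he₀ : e₀ ≫ (𝔸(ι; S) ↘ S) = 𝟙 S := AffineSpace.homOfVector_over _ _
  have : IsPreimmersion e₀ := by
    have : IsClosedImmersion (e₀ ≫ (𝔸(ι; S) ↘ S)) := by rw [he₀]; infer_instance
    have := IsClosedImmersion.of_comp e₀ (𝔸(ι; S) ↘ S)
    infer_instance
  let a : PrimeSpectrum PA := PrimeSpectrum.comap (algebraMap PA C.B) q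
  have hpt : uW qr = e₀ (f (C.pt q)) := by
    have h1 : uW qr = j a := by
      show j _ = j a
      refine congrArg j (PrimeSpectrum.ext ?_)
      show qr.asIdeal.comap (algebraMap PA Br) = q.asIdeal.comap (algebraMap PA C.B)
      rw [IsScalarTower.algebraMap_eq PA C.B Br, ← Ideal.comap_comap, hqr]
    let ev : PA →ₐ[C.A] C.A := aeval 0
    have hj : C.j ≫ e₀ = Spec.map (CommRingCat.ofHom ev.toRingHom) ≫ j := by
      apply AffineSpace.hom_ext
      · simp only [Category.assoc, he₀, Category.comp_id, j, AffineSpace.map_over,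
          AffineSpace.SpecIso_inv_over_assoc, ← Spec.map_comp_assoc, ← CommRingCat.ofHom_comp]
        rw [show ev.toRingHom.comp MvPolynomial.C = RingHom.id C.A from RingHom.ext fun a => (aeval_C _ a),
          CommRingCat.ofHom_id, Spec.map_id, Category.id_comp]
      · intro k
        rw [Scheme.Hom.comp_appTop, Scheme.Hom.comp_appTop, CommRingCat.comp_apply, CommRingCat.comp_apply,
          AffineSpace.homOfVector_appTop_coord, Pi.zero_apply, map_zero]
        rw [Scheme.Hom.comp_appTop, CommRingCat.comp_apply, AffineSpace.map_appTop_coord,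
          AffineSpace.SpecIso_inv_appTop_coord, ← CommRingCat.comp_apply, ← Scheme.ΓSpecIso_inv_naturality,
          CommRingCat.comp_apply]
        erw [aeval_X, map_zero]
    have h2 : e₀ (f (C.pt q)) = j (PrimeSpectrum.comap ev.toRingHom (PrimeSpectrum.comap (algebraMap C.A C.B) q)) := by
      rw [hfx]
      exact congrArg (fun k : _ ⟶ 𝔸(ι; S) => k (PrimeSpectrum.comap (algebraMap C.A C.B) q)) hj
    rw [h1, h2]
    refine congrArg j (PrimeSpectrum.ext (Ideal.ext fun g => ?_))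
    show aeval (R := C.A) t g ∈ q.asIdeal ↔ algebraMap C.A C.B (ev g) ∈ q.asIdeal
    have : (Ideal.Quotient.mk q.asIdeal).comp (aeval (R := C.A) t).toRingHom =
        ((Ideal.Quotient.mk q.asIdeal).comp (algebraMap C.A C.B)).comp ev.toRingHom := by
      refine MvPolynomial.ringHom_ext (fun a => ?_) fun k => ?_
      · show Ideal.Quotient.mk q.asIdeal (aeval (R := C.A) t (MvPolynomial.C a)) =
          Ideal.Quotient.mk q.asIdeal (algebraMap C.A C.B (aeval (R := C.A) (0 : ι → C.A) (MvPolynomial.C a)))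
        rw [aeval_C, aeval_C, Algebra.algebraMap_self, RingHom.id_apply]
      · show Ideal.Quotient.mk q.asIdeal (aeval (R := C.A) t (MvPolynomial.X k)) =
          Ideal.Quotient.mk q.asIdeal (algebraMap C.A C.B (aeval (R := C.A) (0 : ι → C.A) (MvPolynomial.X k)))
        rw [aeval_X, aeval_X, Pi.zero_apply, map_zero, map_zero, Ideal.Quotient.eq_zero_iff_mem.2 (htq k)]
    have h3 := congr($this g)
    simp only [RingHom.comp_apply, AlgHom.toRingHom_eq_coe, RingHom.coe_coe] at h3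
    rw [← Ideal.Quotient.eq_zero_iff_mem, ← Ideal.Quotient.eq_zero_iff_mem, h3]
  obtain ⟨x₀, hx₀1, hx₀2⟩ := Scheme.Pullback.exists_preimage_pullback (f := uW) (g := e₀) qr (f (C.pt q)) hpt
  haveI : LocallyOfFinitePresentation (uW ≫ (𝔸(ι; S) ↘ S)) := by rw [hu]; infer_instance
  haveI : LocallyOfFinitePresentation uW := LimTop61.locallyOfFinitePresentation_of_comp uW (𝔸(ι; S) ↘ S)
  obtain ⟨S', S'', hS', w, π, k, h1, h2, h3, h4, h5, s'', h6, h7, h8⟩ :=
    etale_step (pullback.snd uW e₀) x₀ (isUnivOpenAt_of_isPullback hopen' (IsPullback.of_hasPullback uW e₀) x₀ hx₀1)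
  have hc : pullback.fst uW e₀ ≫ i ≫ f = pullback.snd uW e₀ := by
    rw [← hu, pullback.condition_assoc, he₀, Category.comp_id]
  refine ⟨S', S'', hS', w, π, k ≫ pullback.fst uW e₀ ≫ i, h1, h2, h3, h4, ?_, s'', ?_, ?_, ?_⟩
  · rw [Category.assoc, Category.assoc, hc, h5]
  · rw [hx₀2] at h6; exact h6
  · show i (pullback.fst uW e₀ (k s'')) = _
    rw [show k s'' = x₀ from h7, hx₀1, hiq]
  · haveI : SurjectiveOnStalks (pullback.fst uW e₀) :=
      (MorphismProperty.pullback_fst (P := @IsPreimmersion) _ _ ‹_›).toSurjectiveOnStalks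
    rw [Scheme.residueFieldMap_comp, Scheme.residueFieldMap_comp]
    exact IsIso.comp_isIso' (IsIso.comp_isIso' (isIso_residueFieldMap i _)
      (isIso_residueFieldMap (pullback.fst uW e₀) _)) h8

end Groth.Agent.CAlg6.QuasiSec
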