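import Groth.Agent.CAlg6.GrpStage
import Groth.Agent.LimTop61.Diag
import Groth.Agent.Rig93.FlatDesc

/-! Torsors descend to a stage of a limit. -/

set_option autoImplicit false
universe u
open CategoryTheory CategoryTheory.Limits MonoidalCategory CartesianMonoidalCategory AlgebraicGeometry ActBC
open Groth.Agent.Tors37

noncomputable section

namespace Groth.Agent.CAlg6.TorsorStage

theorem map_lift_snd {S S' : Scheme.{u}} (m : S' ⟶ S) {G X : Over S} (a : G ⊗ X ⟶ X) :
    lift (Functor.LaxMonoidal.μ (Over.pullback m) G X ≫ (Over.pullback m).map a)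
        (snd (Red.bc m G) (Red.bc m X)) ≫ Functor.LaxMonoidal.μ (Over.pullback m) X X =
      Functor.LaxMonoidal.μ (Over.pullback m) G X ≫ (Over.pullback m).map (lift a (snd G X)) := by
  rw [← GrpStage.map_lift, ← Category.assoc, comp_lift, Functor.Monoidal.μ_snd]

theorem isIso_lift_iff {S S' : Scheme.{u}} (m : S' ⟶ S) {G X : Over S} (a : G ⊗ X ⟶ X) :
    IsIso (lift (Functor.LaxMonoidal.μ (Over.pullback m) G X ≫ (Over.pullback m).map a)
      (snd (Red.bc m G) (Red.bc m X))) ↔ IsIso ((Over.pullback m).map (lift a (snd G X))) := by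
  rw [← isIso_comp_right_iff _ (Functor.LaxMonoidal.μ (Over.pullback m) X X), map_lift_snd, isIso_comp_left_iff]

theorem isIso_map_comp {S S' S'' : Scheme.{u}} (g : S' ⟶ S) (h : S'' ⟶ S') {d : S'' ⟶ S} (he : h ≫ g = d)
    {A B : Over S} (e : A ⟶ B) [IsIso ((Over.pullback g).map e)] : IsIso ((Over.pullback d).map e) := by
  rw [show (Over.pullback d).map e = (bcCompIso h g A he).inv ≫ (Over.pullback h).map ((Over.pullback g).map e) ≫
    (bcCompIso h g B he).hom by rw [bcCompIso_hom_naturality, Iso.inv_hom_id_assoc]]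
  infer_instance

/-- The covering condition of a torsor -/
def Covers {S : Scheme.{u}} (X : Over S) : Prop :=
  ∃ (Z : Scheme.{u}) (v : Z ⟶ S) (w : Z ⟶ X.left), w ≫ X.hom = v ∧
    Flat v ∧ Surjective v ∧ LocallyOfFinitePresentation v ∧ QuasiCompact v ∧ QuasiSeparated v

theorem Covers.of_hom {S : Scheme.{u}} {X Z : Over S} (w : Z ⟶ X) (h1 : Flat Z.hom) (h2 : Surjective Z.hom)
    (h3 : LocallyOfFinitePresentation Z.hom) (h4 : QuasiCompact Z.hom) (h5 : QuasiSeparated Z.hom) : Covers X :=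
  ⟨Z.left, Z.hom, w.left, Over.w w, h1, h2, h3, h4, h5⟩

theorem Covers.baseChange {S S' S'' : Scheme.{u}} (g : S' ⟶ S) (h : S'' ⟶ S') {d : S'' ⟶ S} (he : h ≫ g = d)
    {X : Over S} (hc : Covers (Red.bc g X)) : Covers (Red.bc d X) := by
  obtain ⟨Z, v, w, hw, h1, h2, h3, h4, h5⟩ := hc
  exact Covers.of_hom ((Over.pullback h).map (Over.homMk w hw : Over.mk v ⟶ Red.bc g X) ≫ (bcCompIso h g X he).hom)
    (MorphismProperty.pullback_snd (P := @Flat) _ _ h1) (MorphismProperty.pullback_snd (P := @Surjective) _ _ h2)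
    (MorphismProperty.pullback_snd (P := @LocallyOfFinitePresentation) _ _ h3)
    (MorphismProperty.pullback_snd (P := @QuasiCompact) _ _ h4)
    (MorphismProperty.pullback_snd (P := @QuasiSeparated) _ _ h5)

variable {I : Type u} [SmallCategory I] [IsCofiltered I]
    (D : I ⥤ Scheme.{u}) (c : Limits.Cone D) (hc : Limits.IsLimit c)
    [∀ (i i' : I) (f : i ⟶ i'), IsAffineHom (D.map f)] [∀ i, CompactSpace (D.obj i)] [∀ i, QuasiSeparatedSpace (D.obj i)]

include hc

theorem exists_covers {j : I} (X : Over (D.obj j)) [LocallyOfFinitePresentation X.hom]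
    (h : Covers (Red.bc (c.π.app j) X)) : ∃ (i : I) (f : i ⟶ j), Covers (Red.bc (D.map f) X) := by
  obtain ⟨Z, v, w, hw, h1, h2, h3, h4, h5⟩ := h
  obtain ⟨i, Zi, fi, q, hlfp, hqc, hqs, hq⟩ := Approx60.S0591 D c hc Z v
  let W := Over.mk fi
  let eW : Red.bc (c.π.app i) W ≅ Over.mk v := Over.isoMk hq.isoPullback.symm hq.isoPullback_inv_snd
  obtain ⟨k, a, b⟩ : ∃ k, ∃ (_ : k ⟶ i) (_ : k ⟶ j), True :=
    ⟨IsCofiltered.min i j, IsCofiltered.minToLeft i j, IsCofiltered.minToRight i j, trivial⟩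
  obtain ⟨b, -⟩ := b
  let A := Red.bc (D.map a) W
  let B := Red.bc (D.map b) X
  haveI : LocallyOfFinitePresentation A.hom := MorphismProperty.pullback_snd (P := @LocallyOfFinitePresentation) _ _ hlfp
  haveI : QuasiCompact A.hom := MorphismProperty.pullback_snd (P := @QuasiCompact) _ _ hqc
  haveI : QuasiSeparated A.hom := MorphismProperty.pullback_snd (P := @QuasiSeparated) _ _ hqs
  haveI : LocallyOfFinitePresentation B.hom :=
    MorphismProperty.pullback_snd (P := @LocallyOfFinitePresentation) _ _ ‹_›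
  haveI : CompactSpace A.left := QuasiCompact.compactSpace_of_compactSpace A.hom
  haveI : QuasiSeparatedSpace A.left := quasiSeparatedSpace_of_quasiSeparated A.hom
  let eA : Red.bc (c.π.app k) A ≅ Over.mk v := bcCompIso (c.π.app k) (D.map a) W (c.w a) ≪≫ eW
  have eq : (Red.bc (c.π.app k) A).hom = eA.hom.left ≫ v := (Over.w eA.hom).symm
  obtain ⟨k₂, φ₂, g, -⟩ := exists_descend_hom D c hc (eA.hom ≫ (Over.homMk w hw : Over.mk v ⟶ Red.bc (c.π.app j) X) ≫
    (bcCompIso (c.π.app k) (D.map b) X (c.w b)).inv)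
  obtain ⟨k₃, φ₃, hfl⟩ := Rig93.descProp_flat.desc D c hc k A.hom ‹_› (by
    show Flat (Red.bc (c.π.app k) A).hom
    rw [eq]; haveI := h1; infer_instance)
  obtain ⟨k₄, φ₄, hsu⟩ := LimDesc62.descProp_surjective.desc D c hc k A.hom ‹_› (by
    show Surjective (Red.bc (c.π.app k) A).hom
    rw [eq]; haveI := h2; infer_instance)
  obtain ⟨l, u₂, u₃, h23⟩ := IsCofiltered.cospan φ₂ φ₃
  obtain ⟨m, v₂, v₄, h24⟩ := IsCofiltered.cospan (u₂ ≫ φ₂) φ₄
  let θ := (v₂ ≫ u₂) ≫ φ₂
  refine ⟨m, θ ≫ b, Covers.of_hom ((bcCompIso (D.map (v₂ ≫ u₂)) (D.map φ₂) A (D.map_comp _ _).symm).inv ≫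
    (Over.pullback (D.map (v₂ ≫ u₂))).map g ≫ (bcCompIso (D.map (v₂ ≫ u₂)) (D.map φ₂) B (D.map_comp _ _).symm).hom ≫
    (bcCompIso (D.map θ) (D.map b) X (D.map_comp _ _).symm).hom) ?_ ?_ ?_ ?_ ?_⟩
  · have e : θ = (v₂ ≫ u₃) ≫ φ₃ := by simp [θ, h23]
    show Flat (pullback.snd A.hom (D.map θ))
    rw [e]; exact LimDesc62.DescProp.snd_map (P := @Flat) D A.hom φ₃ _ hfl
  · have e : θ = v₄ ≫ φ₄ := by simp [θ, ← h24]
    show Surjective (pullback.snd A.hom (D.map θ))
    rw [e]; exact LimDesc62.DescProp.snd_map (P := @Surjective) D A.hom φ₄ _ hsu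
  · exact MorphismProperty.pullback_snd (P := @LocallyOfFinitePresentation) _ _ ‹LocallyOfFinitePresentation A.hom›
  · exact MorphismProperty.pullback_snd (P := @QuasiCompact) _ _ ‹QuasiCompact A.hom›
  · exact MorphismProperty.pullback_snd (P := @QuasiSeparated) _ _ ‹QuasiSeparated A.hom›

theorem main (j : I) (G X : Over (D.obj j)) (a : G ⊗ X ⟶ X)
    [LocallyOfFinitePresentation G.hom] [QuasiCompact G.hom] [QuasiSeparated G.hom]
    [LocallyOfFinitePresentation X.hom] [QuasiCompact X.hom] [QuasiSeparated X.hom] :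
    (IsIso (lift (Functor.LaxMonoidal.μ (Over.pullback (c.π.app j)) G X ≫ (Over.pullback (c.π.app j)).map a)
        (snd (Red.bc (c.π.app j) G) (Red.bc (c.π.app j) X))) ∧ Covers (Red.bc (c.π.app j) X)) ↔
    ∃ (i : I) (f : i ⟶ j), IsIso (lift (Functor.LaxMonoidal.μ (Over.pullback (D.map f)) G X ≫ (Over.pullback (D.map f)).map a)
        (snd (Red.bc (D.map f) G) (Red.bc (D.map f) X))) ∧ Covers (Red.bc (D.map f) X) := by
  simp only [isIso_lift_iff]
  constructor
  · rintro ⟨hi, hcov⟩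
    obtain ⟨_, _, _, _⟩ := GrpStage.compact_tensor X X
    obtain ⟨_, _, _, _⟩ := GrpStage.compact_tensor G X
    let e := lift a (snd G X)
    haveI : QuasiCompact (X ⊗ X).hom := quasiCompact_of_compactSpace _
    haveI : QuasiSeparated (X ⊗ X).hom := QuasiSeparated.of_quasiSeparatedSpace _
    haveI : QuasiCompact (G ⊗ X).hom := quasiCompact_of_compactSpace _
    haveI : QuasiSeparated (G ⊗ X).hom := QuasiSeparated.of_quasiSeparatedSpace _
    haveI : QuasiCompact (e.left ≫ (X ⊗ X).hom) := by rw [Over.w]; infer_instance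
    haveI : QuasiSeparated (e.left ≫ (X ⊗ X).hom) := by rw [Over.w]; infer_instance
    haveI := QuasiCompact.of_comp e.left (X ⊗ X).hom
    haveI := QuasiSeparated.of_comp e.left (X ⊗ X).hom
    haveI : LocallyOfFinitePresentation (G ⊗ X).hom := by
      show LocallyOfFinitePresentation (pullback.fst G.hom X.hom ≫ G.hom)
      infer_instance
    haveI : LocallyOfFinitePresentation (X ⊗ X).hom := by
      show LocallyOfFinitePresentation (pullback.fst X.hom X.hom ≫ X.hom)
      infer_instance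
    haveI : LocallyOfFinitePresentation (e.left ≫ (X ⊗ X).hom) := by rw [Over.w]; infer_instance
    haveI : LocallyOfFinitePresentation e.left :=
      LimTop61.locallyOfFinitePresentation_of_comp e.left (X ⊗ X).hom
    obtain ⟨i₁, f₁, h₁⟩ := exists_isIso_map D c hc e hi
    obtain ⟨i₂, f₂, h₂⟩ := exists_covers D c hc X hcov
    obtain ⟨i, u₁, u₂, hu⟩ := IsCofiltered.cospan f₁ f₂
    exact ⟨i, u₁ ≫ f₁, isIso_map_comp (D.map f₁) (D.map u₁) (D.map_comp _ _).symm e,
      Covers.baseChange (D.map f₂) (D.map u₂) (by rw [← D.map_comp, hu]) h₂⟩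
  · rintro ⟨i, f, hi, hcov⟩
    exact ⟨isIso_map_comp (D.map f) (c.π.app i) (c.w f) _, Covers.baseChange (D.map f) (c.π.app i) (c.w f) hcov⟩

end Groth.Agent.CAlg6.TorsorStage
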