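import Groth.Agent.CAlg6.NormalStage
import Groth.Agent.CAlg6.TorsorStage
import Groth.Agent.SGA3a.QuotCover
import Groth.Agent.Unr55.FppfScheme

/-! Representable quotients by fppf relations descend to a stage of a limit. -/

set_option autoImplicit false
universe u
open CategoryTheory CategoryTheory.Limits AlgebraicGeometry ActBC
open Groth.Agent.Tors37

noncomputable section

namespace Groth.Agent.CAlg6.QuotStage

/-- quasi-compactness descends along a surjective open map -/
theorem qc_descend {T X Y Z : Scheme.{u}} {a : T ⟶ X} {b : T ⟶ Z} {f : X ⟶ Y} {q : Z ⟶ Y}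
    (h : IsPullback a b f q) [Surjective q] (hopen : IsOpenMap q) [QuasiCompact b] : QuasiCompact f := by
  refine ⟨fun K hK hc => ?_⟩
  have key : ∀ y ∈ K, ∃ W : Z.Opens, IsCompact (W : Set Z) ∧ y ∈ q '' (W : Set Z) ∧ q '' (W : Set Z) ⊆ K := by
    intro y hy
    obtain ⟨z, rfl⟩ := q.surjective y
    obtain ⟨_, ⟨W, hW, rfl⟩, hzW, hWK⟩ :=
      Z.isBasis_affineOpens.exists_subset_of_mem_open (show z ∈ q ⁻¹' K from hy) (hK.preimage q.continuous)
    exact ⟨W, hW.isCompact, ⟨z, hzW, rfl⟩, Set.image_subset_iff.2 hWK⟩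
  choose W hWc hWm hWK using key
  obtain ⟨s, hs⟩ := hc.elim_finite_subcover (fun y : K => q '' (W y.1 y.2 : Set Z))
    (fun y => hopen _ (W y.1 y.2).2) (fun y hy => Set.mem_iUnion.2 ⟨⟨y, hy⟩, hWm y hy⟩)
  let V : Set Z := ⋃ y ∈ s, (W y.1 y.2 : Set Z)
  have hV : IsCompact V := s.isCompact_biUnion fun y _ => hWc y.1 y.2
  have hVo : IsOpen V := isOpen_biUnion fun y _ => (W y.1 y.2).2
  have hVK : q '' V = K := by
    refine Set.Subset.antisymm ?_ ?_
    · simp only [V, Set.image_iUnion]
      exact Set.iUnion₂_subset fun y _ => hWK y.1 y.2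
    · simpa only [V, Set.image_iUnion] using hs
  have e : f ⁻¹' K = a '' (b ⁻¹' V) := by
    ext x
    constructor
    · intro hx
      obtain ⟨z, hz, hzx⟩ : f x ∈ q '' V := by rw [hVK]; exact hx
      obtain ⟨w, hw1, hw2⟩ := Scheme.Pullback.exists_preimage_pullback (f := f) (g := q) x z hzx.symm
      refine ⟨h.isoPullback.inv w, ?_, ?_⟩
      · show b (h.isoPullback.inv w) ∈ V
        rw [← Scheme.Hom.comp_apply, h.isoPullback_inv_snd, hw2]; exact hz
      · rw [← Scheme.Hom.comp_apply, h.isoPullback_inv_fst, hw1]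
    · rintro ⟨w, hw, rfl⟩
      show f (a w) ∈ K
      rw [← Scheme.Hom.comp_apply, h.w, Scheme.Hom.comp_apply, ← hVK]
      exact ⟨_, hw, rfl⟩
  rw [e]
  exact (b.isSpectralMap.2 hVo hV).image a.continuous

/-- The base of a representable fppf quotient of a qcqs scheme by a qc relation is fp. -/
theorem base_props {S : Scheme.{u}} {X R Y : Over S} (s t : R ⟶ X) (p : X ⟶ Y)
    [LocallyOfFinitePresentation X.hom] [QuasiCompact X.hom] [QuasiSeparated X.hom] [QuasiCompact R.hom]
    [Flat p.left] [Surjective p.left] [LocallyOfFinitePresentation p.left] (h : IsPullback s t p p) :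
    LocallyOfFinitePresentation Y.hom ∧ QuasiCompact Y.hom ∧ QuasiSeparated Y.hom := by
  haveI : LocallyOfFinitePresentation (p.left ≫ Y.hom) := by rw [Over.w]; infer_instance
  haveI : QuasiCompact (p.left ≫ Y.hom) := by rw [Over.w]; infer_instance
  refine ⟨Unr55.locallyOfFinitePresentation_of_fppf_comp p.left Y.hom,
    SGA3a.QuotCover.quasiCompact_of_comp p.left Y.hom, ?_⟩
  have hl : IsPullback s.left t.left p.left p.left := h.map (Over.forget S)
  rw [quasiSeparated_iff]
  let k := pullback.mapDesc p.left p.left Y.hom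
  haveI : QuasiSeparated (p.left ≫ Y.hom) := by rw [Over.w]; infer_instance
  haveI : QuasiCompact (k ≫ pullback.fst (p.left ≫ Y.hom) (p.left ≫ Y.hom) ≫ p.left ≫ Y.hom) := by
    rw [show k ≫ pullback.fst (p.left ≫ Y.hom) (p.left ≫ Y.hom) ≫ p.left ≫ Y.hom = hl.isoPullback.inv ≫ R.hom from by
      rw [← Over.w s, hl.isoPullback_inv_fst_assoc, ← Over.w p, ← Category.assoc, pullback.lift_fst, Category.comp_id]]
    infer_instance
  haveI : QuasiCompact k := QuasiCompact.of_comp k (pullback.fst (p.left ≫ Y.hom) (p.left ≫ Y.hom) ≫ p.left ≫ Y.hom)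
  let q := pullback.map (p.left ≫ Y.hom) (p.left ≫ Y.hom) Y.hom Y.hom p.left p.left (𝟙 _)
    (Category.comp_id _) (Category.comp_id _)
  haveI : Flat q := MorphismProperty.pullbackMap (P := @Flat) ‹Flat p.left› ‹Flat p.left› rfl rfl
  haveI : LocallyOfFinitePresentation q :=
    MorphismProperty.pullbackMap (P := @LocallyOfFinitePresentation) ‹LocallyOfFinitePresentation p.left›
      ‹LocallyOfFinitePresentation p.left› rfl rfl
  haveI : Surjective q := MorphismProperty.pullbackMap (P := @Surjective) ‹Surjective p.left› ‹Surjective p.left› rfl rfl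
  exact qc_descend (pullback_map_diagonal_isPullback p.left p.left Y.hom) q.isOpenMap

/-- `X` has a representable fppf quotient by the relation `s, t`. -/
def Quot {S : Scheme.{u}} {X R : Over S} (s t : R ⟶ X) : Prop :=
  ∃ (Y : Over S) (p : X ⟶ Y), Flat p.left ∧ Surjective p.left ∧ LocallyOfFinitePresentation p.left ∧
    IsPullback s t p p

theorem key {S T : Scheme.{u}} {A B : Over S} (e : A ⟶ B) (f : T ⟶ S) : IsPullback (pullback.fst A.hom f)
      ((Over.pullback f).map e).left e.left (pullback.fst B.hom f) := by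
    refine IsPullback.of_bot (v₂₁ := pullback.snd B.hom f) (v₂₂ := B.hom) ?_
      (pullback_map_left_fst (g := f) e).symm (IsPullback.of_hasPullback _ _)
    rw [Over.w e, show ((Over.pullback f).map e).left ≫ pullback.snd B.hom f = pullback.snd A.hom f from
      Over.w ((Over.pullback f).map e)]
    exact IsPullback.of_hasPullback _ _

theorem prop_map (P : MorphismProperty Scheme.{u}) [P.IsStableUnderBaseChange] {S T : Scheme.{u}} {A B : Over S}
    (e : A ⟶ B) (f : T ⟶ S) (he : P e.left) : P ((Over.pullback f).map e).left :=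
  P.of_isPullback (key e f) he

theorem prop_map_comp (P : MorphismProperty Scheme.{u}) [P.IsStableUnderBaseChange] {S S' S'' : Scheme.{u}}
    (g : S' ⟶ S) (h : S'' ⟶ S') {d : S'' ⟶ S} (he : h ≫ g = d) {A B : Over S} (e : A ⟶ B)
    (hp : P ((Over.pullback g).map e).left) : P ((Over.pullback d).map e).left := by
  rw [show (Over.pullback d).map e = (bcCompIso h g A he).inv ≫ (Over.pullback h).map ((Over.pullback g).map e) ≫
    (bcCompIso h g B he).hom by rw [bcCompIso_hom_naturality, Iso.inv_hom_id_assoc]]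
  rw [Over.comp_left, Over.comp_left, P.cancel_left_of_respectsIso, P.cancel_right_of_respectsIso]
  exact prop_map P _ h hp

theorem Quot.of_iso {S : Scheme.{u}} {X R X' R' : Over S} {s t : R ⟶ X} {s' t' : R' ⟶ X'} (eR : R ≅ R')
    (eX : X ≅ X') (hs : s ≫ eX.hom = eR.hom ≫ s') (ht : t ≫ eX.hom = eR.hom ≫ t') (h : Quot s t) :
    Quot s' t' := by
  obtain ⟨Y, p, h1, h2, h3, h4⟩ := h
  refine ⟨Y, eX.inv ≫ p, ?_, ?_, ?_, h4.of_iso eR eX eX (Iso.refl Y) hs ht (by simp) (by simp)⟩
  · rw [Over.comp_left]; infer_instance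
  · rw [Over.comp_left]; infer_instance
  · rw [Over.comp_left]; infer_instance

theorem isPullback_map {S S' : Scheme.{u}} (m : S' ⟶ S) {A B C E : Over S} {a : A ⟶ B} {b : A ⟶ C}
    {x : B ⟶ E} {y : C ⟶ E} (h : IsPullback a b x y) :
    IsPullback ((Over.pullback m).map a) ((Over.pullback m).map b) ((Over.pullback m).map x)
      ((Over.pullback m).map y) :=
  h.map _

theorem Quot.map {S S' : Scheme.{u}} (m : S' ⟶ S) {X R : Over S} {s t : R ⟶ X} (h : Quot s t) :
    Quot ((Over.pullback m).map s) ((Over.pullback m).map t) := by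
  obtain ⟨Y, p, h1, h2, h3, h4⟩ := h
  exact ⟨_, (Over.pullback m).map p, prop_map @Flat p m h1, prop_map @Surjective p m h2,
    prop_map @LocallyOfFinitePresentation p m h3, isPullback_map m h4⟩

theorem Quot.comp_iff {S S' S'' : Scheme.{u}} (g : S' ⟶ S) (h : S'' ⟶ S') {d : S'' ⟶ S} (he : h ≫ g = d)
    {X R : Over S} (s t : R ⟶ X) :
    Quot ((Over.pullback h).map ((Over.pullback g).map s)) ((Over.pullback h).map ((Over.pullback g).map t)) ↔
      Quot ((Over.pullback d).map s) ((Over.pullback d).map t) := by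
  constructor
  · exact Quot.of_iso (bcCompIso h g R he) (bcCompIso h g X he) (bcCompIso_hom_naturality _ _ he s)
      (bcCompIso_hom_naturality _ _ he t)
  · refine Quot.of_iso (bcCompIso h g R he).symm (bcCompIso h g X he).symm ?_ ?_ <;>
    · rw [Iso.symm_hom, Iso.symm_hom, Iso.comp_inv_eq, Category.assoc, bcCompIso_hom_naturality,
        Iso.inv_hom_id_assoc]

theorem isPullback_comp {S S' S'' : Scheme.{u}} (g : S' ⟶ S) (h : S'' ⟶ S') {d : S'' ⟶ S} (he : h ≫ g = d)
    {A B C E : Over S} {a : A ⟶ B} {b : A ⟶ C} {x : B ⟶ E} {y : C ⟶ E} :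
    IsPullback ((Over.pullback h).map ((Over.pullback g).map a)) ((Over.pullback h).map ((Over.pullback g).map b))
      ((Over.pullback h).map ((Over.pullback g).map x)) ((Over.pullback h).map ((Over.pullback g).map y)) ↔
    IsPullback ((Over.pullback d).map a) ((Over.pullback d).map b) ((Over.pullback d).map x) ((Over.pullback d).map y) :=
  ⟨fun H => H.of_iso (bcCompIso h g A he) (bcCompIso h g B he) (bcCompIso h g C he) (bcCompIso h g E he)
    (bcCompIso_hom_naturality _ _ he a) (bcCompIso_hom_naturality _ _ he b) (bcCompIso_hom_naturality _ _ he x)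
    (bcCompIso_hom_naturality _ _ he y),
  fun H => H.of_iso (bcCompIso h g A he).symm (bcCompIso h g B he).symm (bcCompIso h g C he).symm
    (bcCompIso h g E he).symm
    (by rw [Iso.symm_hom, Iso.symm_hom, Iso.comp_inv_eq, Category.assoc, bcCompIso_hom_naturality, Iso.inv_hom_id_assoc])
    (by rw [Iso.symm_hom, Iso.symm_hom, Iso.comp_inv_eq, Category.assoc, bcCompIso_hom_naturality, Iso.inv_hom_id_assoc])
    (by rw [Iso.symm_hom, Iso.symm_hom, Iso.comp_inv_eq, Category.assoc, bcCompIso_hom_naturality, Iso.inv_hom_id_assoc])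
    (by rw [Iso.symm_hom, Iso.symm_hom, Iso.comp_inv_eq, Category.assoc, bcCompIso_hom_naturality, Iso.inv_hom_id_assoc])⟩

variable {I : Type u} [SmallCategory I] [IsCofiltered I]
    (D : I ⥤ Scheme.{u}) (c : Limits.Cone D) (hc : Limits.IsLimit c)
    [∀ (i i' : I) (f : i ⟶ i'), IsAffineHom (D.map f)] [∀ i, CompactSpace (D.obj i)] [∀ i, QuasiSeparatedSpace (D.obj i)]

include hc

theorem exists_prop {H P : MorphismProperty Scheme.{u}} [P.RespectsIso] [H.RespectsIso]
    (hd : LimDesc62.DescProp H P) {i : I} {A B : Over (D.obj i)} (e : A ⟶ B) [QuasiCompact B.hom]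
    [QuasiSeparated B.hom] [QuasiCompact e.left] [QuasiSeparated e.left] (hH : H e.left)
    (h : P ((Over.pullback (c.π.app i)).map e).left) :
    ∃ (j : I) (φ : j ⟶ i), P ((Over.pullback (D.map φ)).map e).left := by
  haveI : CompactSpace B.left := QuasiCompact.compactSpace_of_compactSpace B.hom
  haveI : QuasiSeparatedSpace B.left := quasiSeparatedSpace_of_quasiSeparated B.hom
  obtain ⟨j, φ, hj⟩ := hd.rel D c hc i B.hom e.left hH
    ((LimDesc62.prop_iff_of_isPullback (P := P) (key e (c.π.app i))).mp h)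
  exact ⟨j, φ, (LimDesc62.prop_iff_of_isPullback (P := P) (key e (D.map φ))).mpr hj⟩

/-- A square which is cartesian over the limit is cartesian at a stage. -/
theorem exists_isPullback {i : I} {R X Y : Over (D.obj i)} (s t : R ⟶ X) (g : X ⟶ Y)
    [LocallyOfFinitePresentation R.hom] [QuasiCompact R.hom] [QuasiSeparated R.hom]
    [LocallyOfFinitePresentation X.hom] [QuasiCompact X.hom] [QuasiSeparated X.hom]
    [LocallyOfFinitePresentation Y.hom] [QuasiCompact Y.hom] [QuasiSeparated Y.hom]
    (h : IsPullback ((Over.pullback (c.π.app i)).map s) ((Over.pullback (c.π.app i)).map t)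
      ((Over.pullback (c.π.app i)).map g) ((Over.pullback (c.π.app i)).map g)) :
    ∃ (j : I) (φ : j ⟶ i), IsPullback ((Over.pullback (D.map φ)).map s) ((Over.pullback (D.map φ)).map t)
      ((Over.pullback (D.map φ)).map g) ((Over.pullback (D.map φ)).map g) := by
  haveI : CompactSpace R.left := QuasiCompact.compactSpace_of_compactSpace R.hom
  obtain ⟨i₁, φ₁, h₁⟩ := exists_map_eq D c hc (s ≫ g) (t ≫ g)
    (by rw [Functor.map_comp, Functor.map_comp, h.w])
  let F := Over.pullback (D.map φ₁)
  let g₁ : Red.bc (D.map φ₁) X ⟶ Red.bc (D.map φ₁) Y := F.map g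
  haveI : LocallyOfFinitePresentation (Red.bc (D.map φ₁) R).hom :=
    MorphismProperty.pullback_snd (P := @LocallyOfFinitePresentation) _ _ ‹_›
  haveI : LocallyOfFinitePresentation (Red.bc (D.map φ₁) X).hom :=
    MorphismProperty.pullback_snd (P := @LocallyOfFinitePresentation) _ _ ‹_›
  haveI : LocallyOfFinitePresentation (Red.bc (D.map φ₁) Y).hom :=
    MorphismProperty.pullback_snd (P := @LocallyOfFinitePresentation) _ _ ‹_›
  haveI : QuasiCompact (Red.bc (D.map φ₁) R).hom := MorphismProperty.pullback_snd (P := @QuasiCompact) _ _ ‹_›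
  haveI : QuasiCompact (Red.bc (D.map φ₁) X).hom := MorphismProperty.pullback_snd (P := @QuasiCompact) _ _ ‹_›
  haveI : QuasiCompact (Red.bc (D.map φ₁) Y).hom := MorphismProperty.pullback_snd (P := @QuasiCompact) _ _ ‹_›
  haveI : QuasiSeparated (Red.bc (D.map φ₁) R).hom := MorphismProperty.pullback_snd (P := @QuasiSeparated) _ _ ‹_›
  haveI : QuasiSeparated (Red.bc (D.map φ₁) X).hom := MorphismProperty.pullback_snd (P := @QuasiSeparated) _ _ ‹_›
  haveI : QuasiSeparated (Red.bc (D.map φ₁) Y).hom := MorphismProperty.pullback_snd (P := @QuasiSeparated) _ _ ‹_›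
  obtain ⟨_, _, _⟩ := NormalStage.left_props D g₁
  let P : Over (D.obj i₁) := Over.mk (pullback.fst g₁.left g₁.left ≫ (Red.bc (D.map φ₁) X).hom)
  haveI : LocallyOfFinitePresentation P.hom := by
    show LocallyOfFinitePresentation (pullback.fst g₁.left g₁.left ≫ _); infer_instance
  haveI : QuasiCompact P.hom := by show QuasiCompact (pullback.fst g₁.left g₁.left ≫ _); infer_instance
  haveI : QuasiSeparated P.hom := by show QuasiSeparated (pullback.fst g₁.left g₁.left ≫ _); infer_instance
  let a : P ⟶ Red.bc (D.map φ₁) X := Over.homMk (pullback.fst g₁.left g₁.left) rfl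
  let b : P ⟶ Red.bc (D.map φ₁) X := Over.homMk (pullback.snd g₁.left g₁.left) (by
    show pullback.snd g₁.left g₁.left ≫ _ = pullback.fst g₁.left g₁.left ≫ _
    rw [← Over.w g₁, ← pullback.condition_assoc])
  have hab : IsPullback a b g₁ g₁ := IsPullback.of_map (Over.forget _) (Over.OverMorphism.ext pullback.condition)
    (IsPullback.of_hasPullback g₁.left g₁.left)
  have hw : F.map s ≫ g₁ = F.map t ≫ g₁ := by rw [← Functor.map_comp, ← Functor.map_comp, h₁]
  let e := hab.lift (F.map s) (F.map t) hw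
  have hi : IsIso ((Over.pullback (c.π.app i₁)).map e) := by
    have H1 : IsPullback ((Over.pullback (c.π.app i₁)).map (F.map s)) ((Over.pullback (c.π.app i₁)).map (F.map t))
        ((Over.pullback (c.π.app i₁)).map g₁) ((Over.pullback (c.π.app i₁)).map g₁) :=
      (isPullback_comp (D.map φ₁) (c.π.app i₁) (c.w φ₁)).2 h
    have H2 := isPullback_map (c.π.app i₁) hab
    have : (Over.pullback (c.π.app i₁)).map e = (H1.isoIsPullback _ _ H2).hom := by
      apply H2.hom_ext
      · rw [IsPullback.isoIsPullback_hom_fst, ← Functor.map_comp, hab.lift_fst]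
      · rw [IsPullback.isoIsPullback_hom_snd, ← Functor.map_comp, hab.lift_snd]
    rw [this]; infer_instance
  obtain ⟨_, _, _⟩ := NormalStage.left_props D e
  haveI : CompactSpace P.left := QuasiCompact.compactSpace_of_compactSpace P.hom
  haveI : QuasiSeparatedSpace P.left := quasiSeparatedSpace_of_quasiSeparated P.hom
  obtain ⟨j, φ, hj⟩ := exists_isIso_map D c hc e hi
  refine ⟨j, φ ≫ φ₁, (isPullback_comp (D.map φ₁) (D.map φ) (D.map_comp _ _).symm).1 ?_⟩
  refine (isPullback_map (D.map φ) hab).of_iso (asIso ((Over.pullback (D.map φ)).map e)).symm (Iso.refl _)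
    (Iso.refl _) (Iso.refl _) ?_ ?_ (by simp; rfl) (by simp; rfl)
  · rw [Iso.refl_hom, Category.comp_id, Iso.symm_hom, asIso_inv, IsIso.eq_inv_comp, ← Functor.map_comp,
      hab.lift_fst]
  · rw [Iso.refl_hom, Category.comp_id, Iso.symm_hom, asIso_inv, IsIso.eq_inv_comp, ← Functor.map_comp,
      hab.lift_snd]

theorem descend {i : I} {R X Y : Over (D.obj i)} (s t : R ⟶ X)
    [LocallyOfFinitePresentation R.hom] [QuasiCompact R.hom] [QuasiSeparated R.hom]
    [LocallyOfFinitePresentation X.hom] [QuasiCompact X.hom] [QuasiSeparated X.hom]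
    [LocallyOfFinitePresentation Y.hom] [QuasiCompact Y.hom] [QuasiSeparated Y.hom]
    (p : Red.bc (c.π.app i) X ⟶ Red.bc (c.π.app i) Y) (h1 : Flat p.left) (h2 : Surjective p.left)
    (h4 : IsPullback ((Over.pullback (c.π.app i)).map s) ((Over.pullback (c.π.app i)).map t) p p) :
    ∃ (j : I) (φ : j ⟶ i), Quot ((Over.pullback (D.map φ)).map s) ((Over.pullback (D.map φ)).map t) := by
  haveI : CompactSpace X.left := QuasiCompact.compactSpace_of_compactSpace X.hom
  haveI : QuasiSeparatedSpace X.left := quasiSeparatedSpace_of_quasiSeparated X.hom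
  obtain ⟨k, φ₁, g, hg⟩ := exists_descend_hom D c hc p
  let F := Over.pullback (D.map φ₁)
  haveI : LocallyOfFinitePresentation (Red.bc (D.map φ₁) R).hom :=
    MorphismProperty.pullback_snd (P := @LocallyOfFinitePresentation) _ _ ‹_›
  haveI : LocallyOfFinitePresentation (Red.bc (D.map φ₁) X).hom :=
    MorphismProperty.pullback_snd (P := @LocallyOfFinitePresentation) _ _ ‹_›
  haveI : LocallyOfFinitePresentation (Red.bc (D.map φ₁) Y).hom :=
    MorphismProperty.pullback_snd (P := @LocallyOfFinitePresentation) _ _ ‹_›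
  haveI : QuasiCompact (Red.bc (D.map φ₁) R).hom := MorphismProperty.pullback_snd (P := @QuasiCompact) _ _ ‹_›
  haveI : QuasiCompact (Red.bc (D.map φ₁) X).hom := MorphismProperty.pullback_snd (P := @QuasiCompact) _ _ ‹_›
  haveI : QuasiCompact (Red.bc (D.map φ₁) Y).hom := MorphismProperty.pullback_snd (P := @QuasiCompact) _ _ ‹_›
  haveI : QuasiSeparated (Red.bc (D.map φ₁) R).hom := MorphismProperty.pullback_snd (P := @QuasiSeparated) _ _ ‹_›
  haveI : QuasiSeparated (Red.bc (D.map φ₁) X).hom := MorphismProperty.pullback_snd (P := @QuasiSeparated) _ _ ‹_›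
  haveI : QuasiSeparated (Red.bc (D.map φ₁) Y).hom := MorphismProperty.pullback_snd (P := @QuasiSeparated) _ _ ‹_›
  obtain ⟨_, _, hlfp⟩ := NormalStage.left_props D g
  let eX := bcCompIso (c.π.app k) (D.map φ₁) X (c.w φ₁)
  let eY := bcCompIso (c.π.app k) (D.map φ₁) Y (c.w φ₁)
  let eR := bcCompIso (c.π.app k) (D.map φ₁) R (c.w φ₁)
  have hg' : (Over.pullback (c.π.app k)).map g = eX.hom ≫ p ≫ eY.inv := by
    rw [← Category.assoc, Iso.eq_comp_inv]; exact hg
  have := LimDesc62.respectsIso_lfp.{u}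
  obtain ⟨k₁, ψ₁, f1⟩ := exists_prop D c hc Rig93.descProp_flat g hlfp (by
    rw [hg', Over.comp_left, Over.comp_left]; infer_instance)
  obtain ⟨k₂, ψ₂, f2⟩ := exists_prop D c hc LimDesc62.descProp_surjective g hlfp (by
    rw [hg', Over.comp_left, Over.comp_left]; infer_instance)
  obtain ⟨k₃, ψ₃, f3⟩ := exists_isPullback D c hc (F.map s) (F.map t) g (by
    refine h4.of_iso eR.symm eX.symm eX.symm eY.symm ?_ ?_ ?_ ?_
    · rw [Iso.symm_hom, Iso.symm_hom, Iso.comp_inv_eq, Category.assoc,
        show (Over.pullback (c.π.app k)).map (F.map s) ≫ eX.hom = _ from bcCompIso_hom_naturality _ _ (c.w φ₁) s,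
        Iso.inv_hom_id_assoc]
    · rw [Iso.symm_hom, Iso.symm_hom, Iso.comp_inv_eq, Category.assoc,
        show (Over.pullback (c.π.app k)).map (F.map t) ≫ eX.hom = _ from bcCompIso_hom_naturality _ _ (c.w φ₁) t,
        Iso.inv_hom_id_assoc]
    · rw [Iso.symm_hom, Iso.symm_hom, hg', Iso.inv_hom_id_assoc]
    · rw [Iso.symm_hom, Iso.symm_hom, hg', Iso.inv_hom_id_assoc])
  obtain ⟨m, u₁, u₂, hu⟩ := IsCofiltered.cospan ψ₁ ψ₂
  obtain ⟨l, v₁, v₃, hv⟩ := IsCofiltered.cospan (u₁ ≫ ψ₁) ψ₃
  let θ := v₁ ≫ u₁ ≫ ψ₁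
  refine ⟨l, θ ≫ φ₁, (Quot.comp_iff (D.map φ₁) (D.map θ) (D.map_comp _ _).symm s t).1
    ⟨_, (Over.pullback (D.map θ)).map g, ?_, ?_, prop_map @LocallyOfFinitePresentation g _ hlfp, ?_⟩⟩
  · exact prop_map_comp @Flat (D.map ψ₁) (D.map (v₁ ≫ u₁)) (by rw [← D.map_comp, Category.assoc]) g f1
  · exact prop_map_comp @Surjective (D.map ψ₂) (D.map (v₁ ≫ u₂)) (by rw [← D.map_comp, Category.assoc, ← hu]) g f2
  · exact (isPullback_comp (D.map ψ₃) (D.map v₃) (by rw [← D.map_comp, ← hv])).1 (isPullback_map (D.map v₃) f3)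

theorem main (j : I) (X R : Over (D.obj j)) (s t : R ⟶ X)
    [LocallyOfFinitePresentation X.hom] [QuasiCompact X.hom] [QuasiSeparated X.hom]
    [LocallyOfFinitePresentation R.hom] [QuasiCompact R.hom] [QuasiSeparated R.hom] :
    Quot ((Over.pullback (c.π.app j)).map s) ((Over.pullback (c.π.app j)).map t) ↔
      ∃ (i : I) (f : i ⟶ j), Quot ((Over.pullback (D.map f)).map s) ((Over.pullback (D.map f)).map t) := by
  constructor
  · intro h
    obtain ⟨Y, p, h1, h2, h3, h4⟩ := h
    haveI : LocallyOfFinitePresentation (Red.bc (c.π.app j) X).hom :=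
      MorphismProperty.pullback_snd (P := @LocallyOfFinitePresentation) _ _ ‹_›
    haveI : QuasiCompact (Red.bc (c.π.app j) X).hom := MorphismProperty.pullback_snd (P := @QuasiCompact) _ _ ‹_›
    haveI : QuasiSeparated (Red.bc (c.π.app j) X).hom := MorphismProperty.pullback_snd (P := @QuasiSeparated) _ _ ‹_›
    haveI : QuasiCompact (Red.bc (c.π.app j) R).hom := MorphismProperty.pullback_snd (P := @QuasiCompact) _ _ ‹_›
    obtain ⟨_, _, _⟩ := base_props _ _ p h4
    obtain ⟨i, Yi, fi, q, hlfp, hqc, hqs, hq⟩ := Approx60.S0591 D c hc Y.left Y.hom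
    let W := Over.mk fi
    let eW : Red.bc (c.π.app i) W ≅ Y := Over.isoMk hq.isoPullback.symm hq.isoPullback_inv_snd
    let a := IsCofiltered.minToLeft i j
    let b := IsCofiltered.minToRight i j
    let k := IsCofiltered.min i j
    let Yk := Red.bc (D.map a) W
    haveI : LocallyOfFinitePresentation Yk.hom :=
      MorphismProperty.pullback_snd (P := @LocallyOfFinitePresentation) _ _ hlfp
    haveI : QuasiCompact Yk.hom := MorphismProperty.pullback_snd (P := @QuasiCompact) _ _ hqc
    haveI : QuasiSeparated Yk.hom := MorphismProperty.pullback_snd (P := @QuasiSeparated) _ _ hqs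
    haveI : LocallyOfFinitePresentation (Red.bc (D.map b) X).hom :=
      MorphismProperty.pullback_snd (P := @LocallyOfFinitePresentation) _ _ ‹_›
    haveI : QuasiCompact (Red.bc (D.map b) X).hom := MorphismProperty.pullback_snd (P := @QuasiCompact) _ _ ‹_›
    haveI : QuasiSeparated (Red.bc (D.map b) X).hom := MorphismProperty.pullback_snd (P := @QuasiSeparated) _ _ ‹_›
    haveI : LocallyOfFinitePresentation (Red.bc (D.map b) R).hom :=
      MorphismProperty.pullback_snd (P := @LocallyOfFinitePresentation) _ _ ‹_›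
    haveI : QuasiCompact (Red.bc (D.map b) R).hom := MorphismProperty.pullback_snd (P := @QuasiCompact) _ _ ‹_›
    haveI : QuasiSeparated (Red.bc (D.map b) R).hom := MorphismProperty.pullback_snd (P := @QuasiSeparated) _ _ ‹_›
    let eX := bcCompIso (c.π.app k) (D.map b) X (c.w b)
    let eR := bcCompIso (c.π.app k) (D.map b) R (c.w b)
    let eY : Red.bc (c.π.app k) Yk ≅ Y := bcCompIso (c.π.app k) (D.map a) W (c.w a) ≪≫ eW
    obtain ⟨l, φ, hl⟩ := descend D c hc ((Over.pullback (D.map b)).map s) ((Over.pullback (D.map b)).map t)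
      (eX.hom ≫ p ≫ eY.inv) (by rw [Over.comp_left, Over.comp_left]; infer_instance)
      (by rw [Over.comp_left, Over.comp_left]; infer_instance) (by
        refine h4.of_iso eR.symm eX.symm eX.symm eY.symm ?_ ?_ ?_ ?_
        · rw [Iso.symm_hom, Iso.symm_hom, Iso.comp_inv_eq, Category.assoc,
            show (Over.pullback (c.π.app k)).map ((Over.pullback (D.map b)).map s) ≫ eX.hom = _ from
              bcCompIso_hom_naturality _ _ (c.w b) s, Iso.inv_hom_id_assoc]
        · rw [Iso.symm_hom, Iso.symm_hom, Iso.comp_inv_eq, Category.assoc,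
            show (Over.pullback (c.π.app k)).map ((Over.pullback (D.map b)).map t) ≫ eX.hom = _ from
              bcCompIso_hom_naturality _ _ (c.w b) t, Iso.inv_hom_id_assoc]
        · simp
        · simp)
    exact ⟨l, φ ≫ b, (Quot.comp_iff (D.map b) (D.map φ) (D.map_comp _ _).symm s t).1 hl⟩
  · rintro ⟨i, f, h⟩
    exact (Quot.comp_iff (D.map f) (c.π.app i) (c.w f) s t).1 (Quot.map _ h)

end Groth.Agent.CAlg6.QuotStage
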