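import Mathlib

/-!
Geometric irreducibility of `K` over `k` versus `K(t)` over `k(t)`.
-/

set_option autoImplicit false

universe u

open TensorProduct Polynomial

namespace Groth.Agent.CAlg6.RatFuncIrred

variable {k K : Type u} [Field k] [Field K] [Algebra k K]
variable (kt Kt : Type u) [Field kt] [Field Kt] [Algebra (Polynomial k) kt]
  [IsFractionRing (Polynomial k) kt] [Algebra (Polynomial K) Kt] [IsFractionRing (Polynomial K) Kt]
  [Algebra kt Kt]
  (hcompat : ∀ p : Polynomial k, algebraMap kt Kt (algebraMap (Polynomial k) kt p) =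
    algebraMap (Polynomial K) Kt (Polynomial.map (algebraMap k K) p))

/-- A ring whose nilradical is prime keeps this under injections. -/
theorem prime_of_injective {R S : Type u} [CommRing R] [CommRing S] (f : R →+* S)
    (hf : Function.Injective f) (h : (nilradical S).IsPrime) : (nilradical R).IsPrime := by
  have : nilradical R = (nilradical S).comap f := by
    ext x
    simp [mem_nilradical, IsNilpotent.map_iff hf]
  rw [this]
  exact h.comap f

/-- A nontrivial localization of a ring with prime nilradical has prime nilradical. -/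
theorem prime_localization {R : Type u} [CommRing R] (M : Submonoid R) (h : (nilradical R).IsPrime)
    (hM : Nontrivial (Localization M)) : (nilradical (Localization M)).IsPrime := by
  refine Ideal.isPrime_iff.2 ⟨fun htop => ?_, fun {x y} hxy => ?_⟩
  · have h1 : (1 : Localization M) ∈ nilradical (Localization M) := htop ▸ trivial
    obtain ⟨n, hn⟩ := mem_nilradical.1 h1
    exact absurd (by simpa using hn : (1 : Localization M) = 0) one_ne_zero
  · obtain ⟨⟨a, s⟩, rfl⟩ := IsLocalization.mk'_surjective M x
    obtain ⟨⟨b, t⟩, rfl⟩ := IsLocalization.mk'_surjective M y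
    rw [← IsLocalization.mk'_mul, mem_nilradical] at hxy
    obtain ⟨n, hn⟩ := hxy
    rw [← IsLocalization.mk'_pow, IsLocalization.mk'_eq_zero_iff] at hn
    obtain ⟨m, hm⟩ := hn
    have hm0 : (m : R) ∉ nilradical R := fun hmn => by
      obtain ⟨j, hj⟩ := mem_nilradical.1 hmn
      have := (IsLocalization.map_units (Localization M) m).pow j
      rw [← map_pow, hj, map_zero] at this
      exact not_isUnit_zero this
    have hab : a * b ∈ nilradical R := by
      refine h.mem_of_pow_mem n ((h.mem_or_mem ?_).resolve_left hm0)
      rw [hm]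
      exact zero_mem _
    rcases h.mem_or_mem hab with ha | hb
    · exact Or.inl (mem_nilradical.2 (by
        dsimp only
        rw [IsLocalization.mk'_eq_mul_mk'_one]
        exact (Commute.all _ _).isNilpotent_mul_right ((mem_nilradical.1 ha).map _)))
    · exact Or.inr (mem_nilradical.2 (by
        dsimp only
        rw [IsLocalization.mk'_eq_mul_mk'_one]
        exact (Commute.all _ _).isNilpotent_mul_right ((mem_nilradical.1 hb).map _)))

include hcompat in
theorem prime_baseChange (L : Type u) [Field L] [Algebra kt L] [Algebra k L]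
    (hkL : ∀ c : k, algebraMap k L c = algebraMap kt L (algebraMap (Polynomial k) kt (C c)))
    (h : (nilradical (L ⊗[k] K)).IsPrime) : (nilradical (L ⊗[kt] Kt)).IsPrime := by
  let R := L ⊗[k] K
  let tR : R := (algebraMap kt L (algebraMap (Polynomial k) kt X)) ⊗ₜ[k] (1 : K)
  let ψ : Polynomial K →+* R :=
    Polynomial.eval₂RingHom (Algebra.TensorProduct.includeRight (R := k) (A := L) (B := K)).toRingHom tR
  let M : Submonoid R := (nonZeroDivisors (Polynomial K)).map ψ
  let P := L ⊗[kt] Kt
  let Q := Localization M
  -- the map to the target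
  let iK : K →+* P := (Algebra.TensorProduct.includeRight (R := kt) (A := L) (B := Kt)).toRingHom.comp
    ((algebraMap (Polynomial K) Kt).comp C)
  let iL : L →+* P := Algebra.TensorProduct.includeLeftRingHom
  letI : Algebra k P := (iL.comp (algebraMap k L)).toAlgebra
  have hiK : ∀ c : k, iK (algebraMap k K c) = algebraMap k P c := fun c => by
    show (1 : L) ⊗ₜ[kt] algebraMap (Polynomial K) Kt (C (algebraMap k K c)) =
      algebraMap k L c ⊗ₜ[kt] (1 : Kt)
    rw [← Polynomial.map_C, ← hcompat, hkL, Algebra.algebraMap_eq_smul_one (R := kt) (A := L),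
      Algebra.algebraMap_eq_smul_one (R := kt) (A := Kt), TensorProduct.smul_tmul]
  let φ : R →ₐ[k] P := Algebra.TensorProduct.productMap
    ({ iL with commutes' := fun c => rfl } : L →ₐ[k] P)
    ({ iK with commutes' := hiK } : K →ₐ[k] P)
  have hφt : ∀ (a : L) (c : K), φ (a ⊗ₜ[k] c) = iL a * iK c := fun _ _ => rfl
  have hφψ : ∀ q : Polynomial K, φ (ψ q) = (1 : L) ⊗ₜ[kt] algebraMap (Polynomial K) Kt q := by
    suffices φ.toRingHom.comp ψ =
        (Algebra.TensorProduct.includeRight (R := kt) (A := L) (B := Kt)).toRingHom.comp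
          (algebraMap (Polynomial K) Kt) from fun q => RingHom.congr_fun this q
    refine Polynomial.ringHom_ext (fun c => ?_) ?_
    · show φ (ψ (C c)) = _
      rw [show ψ (C c) = (1 : L) ⊗ₜ[k] c from eval₂_C _ _, hφt, map_one, one_mul]
      rfl
    · show φ (ψ X) = (1 : L) ⊗ₜ[kt] algebraMap (Polynomial K) Kt X
      rw [show ψ X = tR from eval₂_X _ _, hφt, map_one, mul_one]
      show algebraMap kt L (algebraMap (Polynomial k) kt X) ⊗ₜ[kt] (1 : Kt) = _
      rw [← Polynomial.map_X (algebraMap k K), ← hcompat, Algebra.algebraMap_eq_smul_one (R := kt) (A := L),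
        Algebra.algebraMap_eq_smul_one (R := kt) (A := Kt), TensorProduct.smul_tmul]
  have hnt : Nontrivial P := inferInstance
  have hunit : ∀ m : M, IsUnit (φ m.1) := by
    rintro ⟨_, q, hq, rfl⟩
    rw [hφψ]
    exact (IsLocalization.map_units Kt ⟨q, hq⟩).map
      (Algebra.TensorProduct.includeRight (R := kt) (A := L) (B := Kt))
  let g : Q →+* P := IsLocalization.lift (M := M) (g := φ.toRingHom) hunit
  -- the inverse
  let jL : L →+* Q := (algebraMap R Q).comp Algebra.TensorProduct.includeLeftRingHom
  letI : Algebra kt Q := (jL.comp (algebraMap kt L)).toAlgebra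
  have hu : ∀ q : nonZeroDivisors (Polynomial K), IsUnit ((algebraMap R Q).comp ψ q.1) := fun q =>
    IsLocalization.map_units Q (⟨ψ q.1, q.1, q.2, rfl⟩ : M)
  let jK : Kt →+* Q := IsLocalization.lift (M := nonZeroDivisors (Polynomial K)) hu
  have hj : jK.comp (algebraMap kt Kt) = algebraMap kt Q := by
    refine IsLocalization.ringHom_ext (nonZeroDivisors (Polynomial k)) ?_
    refine Polynomial.ringHom_ext (fun c => ?_) ?_
    · show jK (algebraMap kt Kt (algebraMap (Polynomial k) kt (C c))) =
        jL (algebraMap kt L (algebraMap (Polynomial k) kt (C c)))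
      rw [hcompat, IsLocalization.lift_eq, Polynomial.map_C, ← hkL]
      simp only [jL, ψ, RingHom.comp_apply, coe_eval₂RingHom, eval₂_C]
      congr 1
      exact ((Algebra.TensorProduct.includeRight (R := k) (A := L) (B := K)).commutes c)
    · show jK (algebraMap kt Kt (algebraMap (Polynomial k) kt X)) = jL (algebraMap kt L (algebraMap (Polynomial k) kt X))
      rw [hcompat, IsLocalization.lift_eq, Polynomial.map_X]
      simp only [jL, ψ, RingHom.comp_apply, coe_eval₂RingHom, eval₂_X]
      rfl
  let f : P →ₐ[kt] Q := Algebra.TensorProduct.productMap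
    ({ jL with commutes' := fun c => rfl } : L →ₐ[kt] Q)
    ({ jK with commutes' := fun c => RingHom.congr_fun hj c } : Kt →ₐ[kt] Q)
  have hgf : ∀ z : P, g (f z) = z := by
    intro z
    induction z using TensorProduct.induction_on with
    | zero => simp
    | add a b ha hb => simp [ha, hb]
    | tmul a b =>
      have h1 : g (jL a) = a ⊗ₜ[kt] (1 : Kt) := by
        show g (algebraMap R Q (a ⊗ₜ 1)) = _
        rw [IsLocalization.lift_eq]
        show φ (a ⊗ₜ[k] (1 : K)) = _
        rw [hφt, map_one, mul_one]
        rfl
      have h2 : g (jK b) = (1 : L) ⊗ₜ[kt] b := by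
        suffices g.comp jK =
            (Algebra.TensorProduct.includeRight (R := kt) (A := L) (B := Kt)).toRingHom from
          RingHom.congr_fun this b
        refine IsLocalization.ringHom_ext (nonZeroDivisors (Polynomial K)) (RingHom.ext fun q => ?_)
        simp only [RingHom.comp_apply, jK, IsLocalization.lift_eq, g]
        exact hφψ q
      rw [show f (a ⊗ₜ[kt] b) = jL a * jK b from rfl, map_mul, h1, h2]
      rw [Algebra.TensorProduct.tmul_mul_tmul, mul_one, one_mul]
  have hQ : Nontrivial Q := g.domain_nontrivial
  exact prime_of_injective f.toRingHom (Function.LeftInverse.injective hgf) (prime_localization M h hQ)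

include hcompat in
theorem linearIndependent_C {ι : Type*} {b : ι → K} (hb : LinearIndependent k b) :
    LinearIndependent kt (fun i => algebraMap (Polynomial K) Kt (C (b i))) := by
  letI : Algebra (Polynomial k) Kt := ((algebraMap kt Kt).comp (algebraMap (Polynomial k) kt)).toAlgebra
  have : IsScalarTower (Polynomial k) kt Kt := IsScalarTower.of_algebraMap_eq fun _ => rfl
  rw [← LinearIndependent.iff_fractionRing (R := Polynomial k) (K := kt)]
  rw [linearIndependent_iff']
  intro s c hc i hi
  have h1 : algebraMap (Polynomial K) Kt (∑ j ∈ s, Polynomial.map (algebraMap k K) (c j) * C (b j)) = 0 := by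
    rw [map_sum, ← hc]
    refine Finset.sum_congr rfl fun j _ => ?_
    rw [map_mul, ← hcompat, Algebra.smul_def]
    rfl
  have h2 := (map_eq_zero_iff _ (IsFractionRing.injective (Polynomial K) Kt)).1 h1
  ext n
  have h3 := congrArg (fun p => p.coeff n) h2
  simp only [finsetSum_coeff, coeff_mul_C, coeff_map, coeff_zero] at h3
  rw [coeff_zero]
  refine linearIndependent_iff'.1 hb s (fun j => (c j).coeff n) ?_ i hi
  simpa [Algebra.smul_def] using h3

include hcompat in
theorem prime_descend (k' : Type u) [Field k'] [Algebra k k']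
    (h : ∀ (L : Type u) [Field L] [Algebra kt L], (nilradical (L ⊗[kt] Kt)).IsPrime) :
    (nilradical (k' ⊗[k] K)).IsPrime := by
  classical
  let L := FractionRing (Polynomial k')
  have hinjp : Function.Injective ((algebraMap (Polynomial k') L).comp (Polynomial.mapRingHom (algebraMap k k'))) :=
    (IsFractionRing.injective (Polynomial k') L).comp (Polynomial.map_injective _ (algebraMap k k').injective)
  letI : Algebra kt L := (IsFractionRing.lift hinjp : kt →+* L).toAlgebra
  have hkt : ∀ p : Polynomial k, algebraMap kt L (algebraMap (Polynomial k) kt p) =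
      algebraMap (Polynomial k') L (Polynomial.map (algebraMap k k') p) := fun p =>
    IsFractionRing.lift_algebraMap hinjp p
  let P := L ⊗[kt] Kt
  let iK : K →+* P := (Algebra.TensorProduct.includeRight (R := kt) (A := L) (B := Kt)).toRingHom.comp
    ((algebraMap (Polynomial K) Kt).comp C)
  let ik : k' →+* P := (Algebra.TensorProduct.includeLeftRingHom (R := kt) (A := L) (B := Kt)).comp
    ((algebraMap (Polynomial k') L).comp C)
  letI : Algebra k P := (ik.comp (algebraMap k k')).toAlgebra
  have hiK : ∀ c : k, iK (algebraMap k K c) = algebraMap k P c := fun c => by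
    show (1 : L) ⊗ₜ[kt] algebraMap (Polynomial K) Kt (C (algebraMap k K c)) =
      algebraMap (Polynomial k') L (C (algebraMap k k' c)) ⊗ₜ[kt] (1 : Kt)
    rw [← Polynomial.map_C, ← hcompat, ← Polynomial.map_C, ← hkt, Algebra.algebraMap_eq_smul_one (R := kt) (A := L),
      Algebra.algebraMap_eq_smul_one (R := kt) (A := Kt), TensorProduct.smul_tmul]
  let φ : k' ⊗[k] K →ₐ[k] P := Algebra.TensorProduct.productMap
    ({ ik with commutes' := fun c => rfl } : k' →ₐ[k] P)
    ({ iK with commutes' := hiK } : K →ₐ[k] P)
  refine prime_of_injective φ.toRingHom ?_ (h L)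
  let bk := Module.Basis.ofVectorSpace k k'
  let bK := Module.Basis.ofVectorSpace k K
  have hli1 : LinearIndependent kt (fun i => algebraMap (Polynomial k') L (C (bk i))) :=
    linearIndependent_C kt L hkt bk.linearIndependent
  have hli2 : LinearIndependent kt (fun i => algebraMap (Polynomial K) Kt (C (bK i))) :=
    linearIndependent_C kt Kt hcompat bK.linearIndependent
  have hli := hli1.tmul_of_flat_left hli2
  let B := bk.tensorProduct bK
  refine (injective_iff_map_eq_zero _).2 fun z hz => ?_
  change φ z = 0 at hz
  rw [← B.linearCombination_repr z] at hz ⊢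
  rw [Finsupp.linearCombination_apply, map_finsuppSum] at hz
  have hterm : ∀ (x : _ × _) (c : k), φ (c • B x) =
      algebraMap (Polynomial k) kt (C c) •
        (algebraMap (Polynomial k') L (C (bk x.1)) ⊗ₜ[kt] algebraMap (Polynomial K) Kt (C (bK x.2))) := by
    intro x c
    rw [Algebra.smul_def c (B x), map_mul, AlgHom.commutes]
    rw [show B x = bk x.1 ⊗ₜ[k] bK x.2 from Module.Basis.tensorProduct_apply' _ _ x,
      show φ (bk x.1 ⊗ₜ[k] bK x.2) = ik (bk x.1) * iK (bK x.2) from rfl]
    show algebraMap (Polynomial k') L (C (algebraMap k k' c)) ⊗ₜ[kt] (1 : Kt) *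
      ((algebraMap (Polynomial k') L (C (bk x.1)) ⊗ₜ[kt] (1 : Kt)) *
        ((1 : L) ⊗ₜ[kt] algebraMap (Polynomial K) Kt (C (bK x.2)))) = _
    rw [TensorProduct.smul_tmul', ← Polynomial.map_C, ← hkt]
    simp only [Algebra.TensorProduct.tmul_mul_tmul, mul_one, one_mul, Algebra.smul_def]
  simp only [hterm] at hz
  have hzero : B.repr z = 0 := by
    ext x
    by_cases hx : x ∈ (B.repr z).support
    · have := linearIndependent_iff'.1 hli (B.repr z).support
        (fun x => algebraMap (Polynomial k) kt (C ((B.repr z) x))) hz x hx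
      rw [map_eq_zero_iff _ (IsFractionRing.injective (Polynomial k) kt), C_eq_zero] at this
      exact this
    · simpa using Finsupp.notMem_support_iff.1 hx
  rw [hzero, map_zero]

end Groth.Agent.CAlg6.RatFuncIrred
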