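import Groth.Prelude.Def_Desc
import Groth.Agent.RedPts82.MultBc
import Groth.Agent.RedPts82.MultClosed
import Groth.Agent.RedPts82.Quot
import Groth.Agent.SGA3a.SubGrpOfMono
import Groth.Agent.Const38.HomFpqc
import Groth.Agent.Desc59.DDIndQAEff
import Groth.Agent.AlgSt88.QuotStackDesc
import Groth.Agent.AlgGrp33.TorusBridge

/-!
Descent of reductive centres along fpqc coverings.
-/

set_option autoImplicit false
set_option linter.style.haveILetI false
set_option backward.isDefEq.respectTransparency.types false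

universe u

open CategoryTheory CategoryTheory.Limits MonoidalCategory CartesianMonoidalCategory MonObj GrpObj AlgebraicGeometry
open Groth.Agent.RedPts82

noncomputable section

namespace Groth.Agent.CAlg6.RedCentreDesc

variable {S : Scheme.{u}} (G : Over S) [GrpObj G]

/-- `z : Z ⟶ G` is a reductive centre -/
def IsRedCentre {Z : Over S} [GrpObj Z] (z : Z ⟶ G) : Prop :=
  IsMonHom z ∧ Mono z ∧ SGA3x.IsMultTypeFT Z ∧
    (∀ (X : Over S) (x : X ⟶ Z) (g : X ⟶ G), (x ≫ z) * g = g * (x ≫ z)) ∧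
    ∀ (S' : Scheme.{u}) (f : S' ⟶ S) (H : Over S') [GrpObj H] (v : H ⟶ Red.bc f G) [IsMonHom v],
      SGA3x.IsMultTypeFT H →
      (∀ (X : Over S') (x : X ⟶ H) (g : X ⟶ Red.bc f G), (x ≫ v) * g = g * (x ≫ v)) →
      ∃ w : H ⟶ Red.bc f Z, w ≫ (Over.pullback f).map z = v

variable {S₁ S₂ T : Scheme.{u}}

/-- relabelling of an object over two composites with the same value -/
def rel {x : T ⟶ S₁} {p : S₁ ⟶ S} {y : T ⟶ S₂} {q : S₂ ⟶ S} (h : x ≫ p = y ≫ q) (X : Over T) :
    (Over.map p).obj ((Over.map x).obj X) ⟶ (Over.map q).obj ((Over.map y).obj X) :=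
  Over.homMk (𝟙 X.left) (by simp [h])

theorem rel_left {x : T ⟶ S₁} {p : S₁ ⟶ S} {y : T ⟶ S₂} {q : S₂ ⟶ S} (h : x ≫ p = y ≫ q) (X : Over T) :
    (rel h X).left = 𝟙 X.left := rfl

theorem rel_rel {x : T ⟶ S₁} {p : S₁ ⟶ S} {y : T ⟶ S₂} {q : S₂ ⟶ S} (h : x ≫ p = y ≫ q) (X : Over T) :
    rel h X ≫ rel h.symm X = 𝟙 _ :=
  Over.OverMorphism.ext (Category.comp_id _)

theorem rel_natural {x : T ⟶ S₁} {p : S₁ ⟶ S} {y : T ⟶ S₂} {q : S₂ ⟶ S} (h : x ≫ p = y ≫ q) {X Y : Over T}
    (a : X ⟶ Y) : (Over.map p).map ((Over.map x).map a) ≫ rel h Y = rel h X ≫ (Over.map q).map ((Over.map y).map a) :=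
  Over.OverMorphism.ext ((Category.comp_id _).trans (Category.id_comp _).symm)

section Centre

variable {S' : Scheme.{u}} (f : S' ⟶ S) {Z' : Over S'} [GrpObj Z'] (z' : Z' ⟶ Red.bc f G)

/-- universality, seen from another presentation of the base -/
theorem exists_transfer (hZ : IsRedCentre (Red.bc f G) z') (a : T ⟶ S') {f₁ : S₁ ⟶ S} (b : T ⟶ S₁)
    (h : a ≫ f = b ≫ f₁) {H : Over S₁} [GrpObj H] (v : H ⟶ Red.bc f₁ G) [IsMonHom v]
    (hH : SGA3x.IsMultTypeFT H)
    (hv : ∀ (X : Over S₁) (x : X ⟶ H) (g : X ⟶ Red.bc f₁ G), (x ≫ v) * g = g * (x ≫ v)) :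
    ∃ w : Red.bc b H ⟶ Red.bc a Z', ∀ (X : Over T) (x : X ⟶ Red.bc b H),
      toBase f (toBase a (x ≫ w) ≫ z') = rel h X ≫ toBase f₁ (toBase b x ≫ v) := by
  obtain ⟨-, -, -, -, hu⟩ := hZ
  let v₂ : Red.bc b H ⟶ Red.bc a (Red.bc f G) :=
    ofBase a (ofBase f (rel h _ ≫ toBase f₁ (toBase b (𝟙 _) ≫ v)))
  have hv₂ : ∀ {X : Over T} (x : X ⟶ Red.bc b H),
      toBase f (toBase a (x ≫ v₂)) = rel h X ≫ toBase f₁ (toBase b x ≫ v) := fun {X} x => by
    rw [toBase_comp, toBase_comp, toBase_ofBase, toBase_ofBase, ← Category.assoc, rel_natural, Category.assoc]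
    congr 1
  have hinj : ∀ {X : Over T} {p q : X ⟶ Red.bc a (Red.bc f G)},
      toBase f (toBase a p) = toBase f (toBase a q) → p = q := fun e =>
    toBase_injective a (toBase_injective f e)
  haveI : IsMonHom v₂ := isMonHom_of_points _ fun X x y => hinj (by
    rw [toBase_mul, toBase_mul, hv₂, hv₂, hv₂, toBase_mul, MonObj.mul_comp _ _ v, toBase_mul, MonObj.comp_mul])
  obtain ⟨w, hw⟩ := hu T a (Red.bc b H) v₂ (isMultTypeFT_bc b hH) fun X x g => hinj (by
    let g' : (Over.map b).obj X ⟶ Red.bc f₁ G := ofBase f₁ (rel h.symm X ≫ toBase f (toBase a g))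
    have e := congrArg (fun t => rel h X ≫ toBase f₁ t) (hv _ (toBase b x) g')
    simp only [toBase_mul, MonObj.comp_mul, g', toBase_ofBase, ← Category.assoc, rel_rel, Category.id_comp] at e
    rw [toBase_mul, toBase_mul, toBase_mul, toBase_mul, hv₂]
    exact e)
  exact ⟨w, fun X x => by rw [← toBase_comp_map, Category.assoc, hw, hv₂]⟩

/-- the image in `G` -/
abbrev im : Z'.left ⟶ G.left := z'.left ≫ pullback.fst G.hom f

theorem mono_left_of_mono [Mono z'] : Mono z'.left := inferInstanceAs (Mono ((Over.forget S').map z'))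

theorem ext_im [Mono z'] {W : Scheme.{u}} {a b : W ⟶ Z'.left} (h₁ : a ≫ im G f z' = b ≫ im G f z')
    (h₂ : a ≫ Z'.hom = b ≫ Z'.hom) : a = b := by
  haveI := mono_left_of_mono G f z'
  rw [← cancel_mono z'.left]
  apply pullback.hom_ext
  · rw [Category.assoc, Category.assoc]; exact h₁
  · rw [Category.assoc, Category.assoc]
    have := Over.w z'
    rw [show (Red.bc f G).hom = pullback.snd G.hom f from rfl] at this
    rw [this]; exact h₂

theorem exists_swap (hZ : IsRedCentre (Red.bc f G) z') {W : Scheme.{u}} (x₀ x₁ : W ⟶ S')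
    (h : x₀ ≫ f = x₁ ≫ f) (v : W ⟶ Z'.left) (hv : v ≫ Z'.hom = x₀) :
    ∃ w : W ⟶ Z'.left, w ≫ Z'.hom = x₁ ∧ w ≫ im G f z' = v ≫ im G f z' := by
  haveI := hZ.1
  obtain ⟨w₀, hw₀⟩ := exists_transfer G f z' hZ x₁ x₀ h.symm z' hZ.2.2.1 hZ.2.2.2.1
  let P : Over W := Over.mk (𝟙 W)
  let a₀ : P ⟶ Red.bc x₀ Z' := ofBase x₀ (Over.homMk v (hv.trans (Category.id_comp x₀).symm))
  refine ⟨(toBase x₁ (a₀ ≫ w₀)).left, (Over.w (toBase x₁ (a₀ ≫ w₀))).trans (Category.id_comp x₁), ?_⟩
  have e := congrArg (fun t => Over.Hom.left t) (hw₀ P a₀)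
  have ea : toBase x₀ a₀ = Over.homMk v (hv.trans (Category.id_comp x₀).symm) := toBase_ofBase _ _
  simp only [ea, toBase_left f, Over.comp_left, rel_left, Over.homMk_left] at e
  simpa [im, Category.assoc] using e

/-- **descent of a reductive centre** -/
theorem exists_descent [Flat f] [Surjective f]
    (hf : ∀ V : S.Opens, IsAffineOpen V → ∃ W : S'.Opens, IsCompact (W : Set ↥S') ∧
      f.base '' (W : Set ↥S') = (V : Set ↥S))
    (hZ : IsRedCentre (Red.bc f G) z') :
    ∃ (Z : Over S) (_ : GrpObj Z) (z : Z ⟶ G), IsRedCentre G z := by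
  classical
  haveI : Desc59.IsFpqcMor f := Const38.isFpqcMor_of_compact f hf
  obtain ⟨hzm, hzmono, hZm, hZc, -⟩ := id hZ
  haveI := hzm
  haveI := hzmono
  haveI := isMultTypeFT_isAffineHom hZm
  choose sw hsw₁ hsw₂ using fun W x₀ x₁ h v hv => exists_swap G f z' hZ (W := W) x₀ x₁ h v hv
  let D : Desc.SchDD f :=
    { obj := Z'
      φ := fun W x₀ x₁ h =>
        { toFun := fun v => ⟨sw W x₀ x₁ h v.1 v.2, hsw₁ _ _ _ _ _ _⟩
          invFun := fun v => ⟨sw W x₁ x₀ h.symm v.1 v.2, hsw₁ _ _ _ _ _ _⟩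
          left_inv := fun v => Subtype.ext (ext_im G f z' (by simp only [hsw₂]) (by simp only [hsw₁, v.2]))
          right_inv := fun v => Subtype.ext (ext_im G f z' (by simp only [hsw₂]) (by simp only [hsw₁, v.2])) }
      φ_natural := fun W W' g x₀ x₁ h h' v v' hv' => ext_im G f z'
        (by simp only [Equiv.coe_fn_mk, Category.assoc, hsw₂, hv'])
        (by simp only [Equiv.coe_fn_mk, Category.assoc, hsw₁])
      φ_self := fun W x v => Subtype.ext (ext_im G f z' (by simp only [Equiv.coe_fn_mk, hsw₂])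
        (by simp only [Equiv.coe_fn_mk, hsw₁, v.2]))
      φ_comp := fun W x₀ x₁ x₂ h₀₁ h₁₂ v => Subtype.ext (ext_im G f z' (by simp only [Equiv.coe_fn_mk, hsw₂])
        (by simp only [Equiv.coe_fn_mk, hsw₁])) }
  obtain ⟨U, ⟨eU⟩⟩ := Desc59.effective_of_isIndQuasiAffineHom' f D
    (AlgSt88.indQA_of_isAffineHom Z'.hom)
  let E : pullback f U.hom ≅ Z'.left :=
    { hom := eU.hom.hom.left
      inv := eU.inv.hom.left
      hom_inv_id := congr(Over.Hom.left (Desc.SchDD.Hom.hom $eU.hom_inv_id))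
      inv_hom_id := congr(Over.Hom.left (Desc.SchDD.Hom.hom $eU.inv_hom_id)) }
  have hE : E.hom ≫ Z'.hom = pullback.fst f U.hom := Over.w eU.hom.hom
  have hqf : Flat (pullback.snd f U.hom) := MorphismProperty.pullback_snd _ _ ‹Flat f›
  let q := pullback.snd f U.hom
  have hinv : ∀ {W : Scheme.{u}} (a b : W ⟶ pullback f U.hom), a ≫ q = b ≫ q →
      a ≫ E.hom ≫ im G f z' = b ≫ E.hom ≫ im G f z' := by
    intro W a b hab
    have h : (a ≫ pullback.fst f U.hom) ≫ f = (b ≫ pullback.fst f U.hom) ≫ f := by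
      rw [Category.assoc, Category.assoc, pullback.condition, ← Category.assoc, ← Category.assoc]
      exact congrArg (· ≫ U.hom) hab
    have hc := eU.hom.comm (a ≫ pullback.fst f U.hom) (b ≫ pullback.fst f U.hom) h ⟨a, rfl⟩
      ⟨a ≫ E.hom, by show (a ≫ E.hom) ≫ Z'.hom = _; rw [Category.assoc, hE]⟩ rfl
    have hb : ((Desc.canonicalDD f U).φ _ _ h ⟨a, rfl⟩).1 = b := pullback.hom_ext
      (by simp [Desc.canonicalDD]) ((pullback.lift_snd _ _ _).trans hab)
    change sw W _ _ h (a ≫ E.hom) _ = ((Desc.canonicalDD f U).φ _ _ h ⟨a, rfl⟩).1 ≫ E.hom at hc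
    rw [hb] at hc
    rw [← Category.assoc a, ← Category.assoc b]
    exact (hsw₂ W _ _ h (a ≫ E.hom) (by rw [Category.assoc, hE])).symm.trans (congrArg (· ≫ im G f z') hc)
  let zl : U.left ⟶ G.left := EffectiveEpi.desc q (E.hom ≫ im G f z') fun a b h => hinv a b h
  have hzl : q ≫ zl = E.hom ≫ im G f z' := EffectiveEpi.fac _ _ _
  have hzlw : zl ≫ G.hom = U.hom := by
    rw [← cancel_epi q, ← Category.assoc, hzl, Category.assoc, ← pullback.condition]
    show E.hom ≫ (z'.left ≫ pullback.fst G.hom f) ≫ G.hom = _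
    rw [Category.assoc, pullback.condition, ← Category.assoc z'.left,
      show z'.left ≫ pullback.snd G.hom f = Z'.hom from Over.w z', ← Category.assoc, hE]
  let z : U ⟶ G := Over.homMk zl hzlw
  haveI hzlm : Mono zl := by
    refine ⟨fun {W} a b hab => ?_⟩
    have hh : a ≫ U.hom = b ≫ U.hom := by rw [← hzlw, ← Category.assoc, hab, Category.assoc]
    let π := pullback.snd f (a ≫ U.hom)
    let la : pullback f (a ≫ U.hom) ⟶ pullback f U.hom :=
      pullback.lift (pullback.fst _ _) (π ≫ a) (by rw [Category.assoc]; exact pullback.condition)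
    let lb : pullback f (a ≫ U.hom) ⟶ pullback f U.hom :=
      pullback.lift (pullback.fst _ _) (π ≫ b) (by rw [Category.assoc, ← hh]; exact pullback.condition)
    have hl : la ≫ E.hom = lb ≫ E.hom := ext_im G f z'
      (by rw [Category.assoc, Category.assoc, ← hzl]; show la ≫ q ≫ zl = lb ≫ q ≫ zl; rw [← Category.assoc, ← Category.assoc, pullback.lift_snd, pullback.lift_snd, Category.assoc, Category.assoc, hab])
      (by rw [Category.assoc, Category.assoc, hE, pullback.lift_fst, pullback.lift_fst])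
    haveI : IsIso E.hom := E.isIso_hom
    have h2 := congrArg (· ≫ q) ((cancel_mono E.hom).1 hl)
    simp only [la, lb, q, pullback.lift_snd] at h2
    exact (cancel_epi π).1 h2
  haveI : Mono z := (Over.forget S).mono_of_mono_map (f := z) hzlm
  -- the base change
  let e : Red.bc f U ≅ Z' := Over.isoMk (pullbackSymmetry U.hom f ≪≫ E) (by
    show (pullbackSymmetry U.hom f ≪≫ E).hom ≫ Z'.hom = pullback.snd U.hom f
    rw [Iso.trans_hom, Category.assoc, hE, pullbackSymmetry_hom_comp_fst])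
  have he : e.hom ≫ z' = (Over.pullback f).map z := by
    apply Over.OverMorphism.ext
    apply pullback.hom_ext
    · show (((pullbackSymmetry U.hom f ≪≫ E).hom) ≫ z'.left) ≫ pullback.fst G.hom f = _
      rw [Category.assoc, Iso.trans_hom, Category.assoc, ← hzl]
      simp [q, z]
      exact (pullback.lift_fst _ _ _).symm
    · show (((pullbackSymmetry U.hom f ≪≫ E).hom) ≫ z'.left) ≫ pullback.snd G.hom f = _
      rw [Category.assoc, show z'.left ≫ pullback.snd G.hom f = Z'.hom from Over.w z', Iso.trans_hom,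
        Category.assoc, hE]
      simp
      exact (pullback.lift_snd _ _ _).symm
  -- the cover of an object
  let qX : ∀ X : Over S, (Over.map f).obj (Red.bc f X) ⟶ X := fun X => toBase f (𝟙 _)
  have hqX : ∀ {X Y : Over S} (p : X ⟶ Y), toBase f ((Over.pullback f).map p) = qX X ≫ p := fun p => by
    rw [← toBase_comp_map, Category.id_comp]
  have hqXl : ∀ X : Over S, (qX X).left = pullback.fst X.hom f := fun X =>
    (toBase_left f _).trans (Category.id_comp _)
  have hcrit : ∀ {X : Over S} (g : X ⟶ G),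
      (∃ l, l ≫ z = g) ↔ ∃ m : Red.bc f X ⟶ Z', m ≫ z' = (Over.pullback f).map g := by
    intro X g
    constructor
    · rintro ⟨l, rfl⟩
      exact ⟨(Over.pullback f).map l ≫ e.hom, by rw [Category.assoc, he, Functor.map_comp]⟩
    · rintro ⟨m, hm⟩
      let p := pullback.fst X.hom f
      haveI : Flat p := MorphismProperty.pullback_fst _ _ ‹Flat f›
      let k : (Over.map f).obj (Red.bc f X) ⟶ U := toBase f (m ≫ e.inv)
      have hk : k.left ≫ zl = p ≫ g.left := by
        have h1 : k ≫ z = qX X ≫ g := by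
          rw [← hqX, ← hm, ← toBase_comp_map, Category.assoc, ← he, ← Category.assoc e.inv, e.inv_hom_id,
            Category.id_comp]
        have h2 := congrArg CommaMorphism.left h1
        exact h2.trans (congrArg (· ≫ g.left) (hqXl X))
      let l : X.left ⟶ U.left := EffectiveEpi.desc p k.left fun a b h => (cancel_mono zl).1 (by
        rw [Category.assoc, Category.assoc, hk, reassoc_of% h])
      have hl : l ≫ zl = g.left := by
        rw [← cancel_epi p, EffectiveEpi.fac_assoc, hk]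
      exact ⟨Over.homMk l (by rw [← hzlw, ← Category.assoc, hl, Over.w g]), Over.OverMorphism.ext hl⟩
  letI : GrpObj U := SGA3a.grpObjOfMono z
    ((hcrit _).2 ⟨1, by
      rw [MonObj.one_comp z']
      exact ((Over.pullback f).map_one).symm⟩)
    (by
      obtain ⟨m₁, h₁⟩ := (hcrit (fst U U ≫ z)).1 ⟨_, rfl⟩
      obtain ⟨m₂, h₂⟩ := (hcrit (snd U U ≫ z)).1 ⟨_, rfl⟩
      exact (hcrit _).2 ⟨m₁ * m₂, by
        rw [MonObj.mul_comp _ _ z', h₁, h₂]
        exact ((Over.pullback f).map_mul _ _).symm⟩)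
    (by
      obtain ⟨m₁, h₁⟩ := (hcrit z).1 ⟨𝟙 _, Category.id_comp _⟩
      exact (hcrit _).2 ⟨m₁⁻¹, by
        rw [GrpObj.inv_comp _ z', h₁]
        exact (map_inv ((Over.pullback f).homMonoidHom : (U ⟶ G) →* _) z).symm⟩)
  haveI : IsMonHom z := SGA3a.isMonHom_grpObjOfMono z _ _ _
  haveI : IsMonHom e.hom := isMonHom_of_points _ fun X x y => by
    rw [← cancel_mono z', MonObj.mul_comp _ _ z', Category.assoc, Category.assoc, Category.assoc, he]
    exact MonObj.mul_comp x y ((Over.pullback f).map z)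
  refine ⟨U, inferInstance, z, inferInstance, inferInstance, ?_, ?_, ?_⟩
  · obtain ⟨S'', g, hg, hgs, hgc, hloc⟩ := hZm
    refine ⟨S'', g ≫ f, inferInstance, inferInstance, fun V hV => ?_, fun s => ?_⟩
    · obtain ⟨W, hWc, hWV⟩ := hf V hV
      choose D hD hxD hDW using fun x : W =>
        exists_isAffineOpen_mem_and_subset (X := S') (x := x.1) (U := W) x.2
      choose K hK hKD using fun x : W => hgc (D x) (hD x)
      obtain ⟨t, ht⟩ := hWc.elim_finite_subcover (fun x => (D x : Set S')) (fun x => (D x).2)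
        fun v hv => Set.mem_iUnion.mpr ⟨⟨v, hv⟩, hxD ⟨v, hv⟩⟩
      refine ⟨⨆ x ∈ t, K x, ?_, ?_⟩
      · simp only [TopologicalSpace.Opens.coe_iSup]
        exact t.isCompact_biUnion fun x _ => hK x
      · rw [← hWV, Scheme.Hom.comp_base, TopCat.coe_comp, Set.image_comp]
        congr 1
        simp only [TopologicalSpace.Opens.coe_iSup, Set.image_iUnion, hKD]
        exact subset_antisymm (Set.iUnion₂_subset fun x _ => hDW x) ht
    · obtain ⟨V, hV, M, hM, hFG, ⟨d⟩⟩ := hloc s
      obtain ⟨d₂⟩ := AlgGrp33.nonempty_bc_comp (V.ι ≫ g) f U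
      refine ⟨V, hV, M, hM, hFG, ?_⟩
      rw [← Category.assoc]
      exact ⟨d₂.symm ≪≫ (Functor.mapGrp (Over.pullback (V.ι ≫ g))).mapIso (Grp.mkIso' e) ≪≫ d⟩
  · intro X x g
    haveI : Flat (pullback.fst X.hom f) := MorphismProperty.pullback_fst _ _ ‹Flat f›
    haveI : Epi (qX X).left := by rw [hqXl]; infer_instance
    haveI : Epi (qX X) := (Over.forget S).epi_of_epi_map (f := qX X) ‹Epi (qX X).left›
    rw [← cancel_epi (qX X), ← hqX, ← hqX]
    congr 1
    obtain ⟨m, hm⟩ := (hcrit (x ≫ z)).1 ⟨x, rfl⟩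
    rw [(Over.pullback f).map_mul, (Over.pullback f).map_mul]
    rw [← hm]
    exact hZc _ m _
  · intro S₁ f₁ H _ v _ hH hv
    obtain ⟨w, hw⟩ := exists_transfer G f z' hZ (pullback.fst f f₁) (pullback.snd f f₁) pullback.condition v hH hv
    let X : Over S := (Over.map f₁).obj H
    let p : (Red.bc f X).left ⟶ pullback f f₁ :=
      pullback.lift (pullback.snd X.hom f) (pullback.fst X.hom f ≫ H.hom)
        (by rw [Category.assoc]; exact (pullback.condition (f := X.hom) (g := f)).symm)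
    let h₂ : Over.mk p ⟶ Red.bc (pullback.snd f f₁) H := ofBase _ (Over.homMk (pullback.fst X.hom f)
      (by show pullback.fst X.hom f ≫ H.hom = p ≫ pullback.snd f f₁; rw [pullback.lift_snd]))
    let k := toBase (pullback.fst f f₁) (h₂ ≫ w)
    let m : Red.bc f X ⟶ Z' := Over.homMk k.left
      ((Over.w k).trans (pullback.lift_fst _ _ _))
    obtain ⟨l, hl⟩ := (hcrit (toBase f₁ v)).2 ⟨m, by
      apply toBase_injective f
      apply Over.OverMorphism.ext
      have e := congrArg (fun t => Over.Hom.left t) (hw (Over.mk p) h₂)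
      have ea : toBase (pullback.snd f f₁) h₂ = Over.homMk (pullback.fst X.hom f)
          (by show pullback.fst X.hom f ≫ H.hom = p ≫ pullback.snd f f₁; rw [pullback.lift_snd]) := toBase_ofBase _ _
      simp only [ea, toBase_left f, toBase_left f₁, Over.comp_left, rel_left, Over.homMk_left] at e
      rw [hqX, toBase_left, Over.comp_left, Over.comp_left, hqXl, toBase_left]
      simpa [m, k, X, Category.assoc] using e⟩
    refine ⟨ofBase f₁ l, ?_⟩
    apply toBase_injective f₁
    rw [toBase_comp_map, toBase_ofBase, hl]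

end Centre

end Groth.Agent.CAlg6.RedCentreDesc
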