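import Mathlib
import Groth.Agent.WildQuot51.Invariant
import Groth.Agent.CAlg1.Serre

/-!
The sufficiency half of the Chevalley-Shephard-Todd theorem for local rings: if a finite group of
invertible order is generated by pseudo-reflections, the ring is flat over the invariants.
-/

set_option autoImplicit false

universe u v w

namespace Groth.Agent.CAlg6.Reflection

open IsLocalRing TensorProduct Pointwise

section

variable (k : Type v) [Field k] (A : Type u) [CommRing A] [Algebra k A]
  (G : Type w) [Group G] [MulSemiringAction G A] [SMulCommClass G k A]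

local notation "R" => FixedPoints.subalgebra k A G

variable {G}

/-- A group element as a linear map over the invariants. -/
def act (g : G) : A →ₗ[R] A where
  toFun a := g • a
  map_add' := smul_add g
  map_smul' r a := by
    change g • ((r : A) * a) = (r : A) * g • a
    rw [smul_mul', r.2 g]

variable {A}

@[simp] theorem act_apply (g : G) (a : A) : act k A g a = g • a := rfl

end

section Main

variable {k : Type v} [Field k] {A : Type u} [CommRing A] [Algebra k A]
  {G : Type w} [Group G] [MulSemiringAction G A] [SMulCommClass G k A]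

local notation "R" => FixedPoints.subalgebra k A G

/-- Division of `g - 1` by a common divisor. -/
theorem exists_div [IsDomain A] (g : G) (α : A) (h : ∀ a : A, g • a - a ∈ Ideal.span {α}) :
    ∃ D : A →ₗ[R] A, act k A g - LinearMap.id = (LinearMap.mulLeft R α) ∘ₗ D := by
  by_cases hα : α = 0
  · refine ⟨0, LinearMap.ext fun a => ?_⟩
    have := h a
    rw [hα, Ideal.span_singleton_eq_bot.2 rfl, Ideal.mem_bot] at this
    simp [this]
  choose D hD using fun a => Ideal.mem_span_singleton'.1 (h a)
  have key : ∀ a, α * D a = g • a - a := fun a => by rw [mul_comm, hD]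
  refine ⟨⟨⟨D, fun a b => mul_left_cancel₀ hα ?_⟩, fun r a => mul_left_cancel₀ hα ?_⟩,
    LinearMap.ext fun a => (key a).symm⟩
  · rw [mul_add, key, key, key, smul_add]; abel
  · change α * D ((r : A) * a) = α * ((r : A) * D a)
    rw [key, mul_left_comm, key, smul_mul', r.2 g]
    ring

variable [IsLocalRing A]

/-- A pseudo-reflection moves everything by a multiple of a single element of the maximal ideal. -/
theorem exists_span_singleton [IsNoetherianRing A]
    (hk : Function.Surjective (IsLocalRing.residue A ∘ algebraMap k A))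
    {n : ℕ} (u : Fin n → A) (hu : Ideal.span (Set.range u) = maximalIdeal A)
    (g : G) (hg : (orderOf g : k) ≠ 0)
    (hrk : n ≤ Module.finrank k
      (A ⧸ (Ideal.span {x : A | ∃ a, x = g • a - a} ⊔ maximalIdeal A ^ 2))) :
    ∃ α ∈ maximalIdeal A, ∀ a : A, g • a - a ∈ Ideal.span {α} := by
  classical
  set I : Ideal A := Ideal.span {x : A | ∃ a, x = g • a - a}
  have hgk : ∀ c : k, g • algebraMap k A c = algebraMap k A c := fun c => smul_algebraMap g c
  have hum : ∀ i, u i ∈ maximalIdeal A := fun i => hu.le (Ideal.subset_span ⟨i, rfl⟩)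
  have hIM : I ≤ maximalIdeal A := by
    rw [Ideal.span_le]
    rintro _ ⟨a, rfl⟩
    refine WildQuot51.orbit_ideal hk g hgk u hu _ (fun i => ?_) a
    exact sub_mem (WildQuot51.smul_mem_maximalIdeal g (hum i)) (hum i)
  -- coordinates modulo the square of the maximal ideal
  let e : Fin (n + 1) → A := Fin.cons 1 u
  have hco : ∀ a : A, ∃ c : Fin (n + 1) → k, a - ∑ i, c i • e i ∈ maximalIdeal A ^ 2 := by
    intro a
    obtain ⟨c₀, hc₀⟩ := hk (residue A a)
    have h1 : a - algebraMap k A c₀ ∈ Ideal.span (Set.range u) := by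
      rw [hu, ← residue_eq_zero_iff, map_sub, sub_eq_zero]
      exact hc₀.symm
    obtain ⟨f, hf⟩ := Ideal.mem_span_range_iff_exists_fun.1 h1
    choose c hc using fun i => hk (residue A (f i))
    refine ⟨Fin.cons c₀ c, ?_⟩
    rw [Fin.sum_univ_succ]
    simp only [Fin.cons_zero, Fin.cons_succ, e, Algebra.smul_def, mul_one]
    rw [← sub_sub, ← hf, ← Finset.sum_sub_distrib]
    refine Submodule.sum_mem _ fun i _ => ?_
    rw [← sub_mul, pow_two]
    refine Ideal.mul_mem_mul ?_ (hum i)
    rw [← residue_eq_zero_iff, map_sub, sub_eq_zero]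
    exact (hc i).symm
  set J : Ideal A := I ⊔ maximalIdeal A ^ 2
  let ψ : (Fin (n + 1) → k) →ₗ[k] A ⧸ J :=
    (Ideal.Quotient.mkₐ k J).toLinearMap ∘ₗ Fintype.linearCombination k e
  have hψ : Function.Surjective ψ := fun y => by
    obtain ⟨a, rfl⟩ := Ideal.Quotient.mk_surjective y
    obtain ⟨c, hc⟩ := hco a
    refine ⟨c, (Ideal.Quotient.eq.2 ?_).symm⟩
    rw [Fintype.linearCombination_apply]
    exact Ideal.mem_sup_right hc
  have hker : Module.finrank k (LinearMap.ker ψ) ≤ 1 := by
    have h1 := ψ.finrank_range_add_finrank_ker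
    rw [LinearMap.range_eq_top.2 hψ, finrank_top, Module.finrank_fin_fun] at h1
    omega
  obtain ⟨v, hv⟩ : ∃ v : Fin (n + 1) → k, v ∈ LinearMap.ker ψ ∧
      ∀ c ∈ LinearMap.ker ψ, ∃ t : k, t • v = c := by
    rw [finrank_le_one_iff] at hker
    obtain ⟨⟨v, hv⟩, h⟩ := hker
    exact ⟨v, hv, fun c hc => ⟨_, congrArg Subtype.val (h ⟨c, hc⟩).choose_spec⟩⟩
  set w : A := ∑ i, v i • e i
  have hwM : w ∈ maximalIdeal A := by
    have h1 : Ideal.Quotient.mk J w = 0 := by
      have := hv.1
      rwa [LinearMap.mem_ker, LinearMap.comp_apply, Fintype.linearCombination_apply] at this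
    exact sup_le hIM (Ideal.pow_le_self two_ne_zero) (Ideal.Quotient.eq_zero_iff_mem.1 h1)
  have hIw : I ≤ Ideal.span {w} ⊔ maximalIdeal A ^ 2 := by
    intro x hx
    obtain ⟨c, hc⟩ := hco x
    have : c ∈ LinearMap.ker ψ := by
      rw [LinearMap.mem_ker, LinearMap.comp_apply, Fintype.linearCombination_apply]
      refine Ideal.Quotient.eq_zero_iff_mem.2 ?_
      have := sub_mem (Ideal.mem_sup_left hx : x ∈ J) (Ideal.mem_sup_right hc)
      rwa [sub_sub_cancel] at this
    obtain ⟨t, rfl⟩ := hv.2 c this
    have h2 : ∑ i, (t • v) i • e i = t • w := by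
      simp [w, Finset.smul_sum, smul_smul]
    rw [h2] at hc
    have h3 : x = t • w + (x - t • w) := by abel
    rw [h3]
    refine add_mem (Ideal.mem_sup_left ?_) (Ideal.mem_sup_right hc)
    rw [Algebra.smul_def]
    exact Ideal.mul_mem_left _ _ (Ideal.subset_span rfl)
  -- averaging over the cyclic group
  have hpow : ∀ (j : ℕ) (a : A), g ^ j • a - a ∈ I := by
    intro j a
    induction j with
    | zero => simp
    | succ j ih =>
      rw [pow_succ', mul_smul, ← sub_add_sub_cancel _ (g ^ j • a) a]
      exact add_mem (Ideal.subset_span ⟨_, rfl⟩) ih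
  let P : A → A := fun a => (orderOf g : k)⁻¹ • ∑ j ∈ Finset.range (orderOf g), g ^ j • a
  have hPfix : ∀ a, g • P a = P a := by
    intro a
    simp only [P]
    rw [smul_comm, Finset.smul_sum]
    congr 1
    have h1 : ∀ j, g • g ^ j • a = g ^ (j + 1) • a := fun j => by rw [pow_succ', mul_smul]
    simp_rw [h1]
    have h2 := Finset.sum_range_succ' (fun j => g ^ j • a) (orderOf g)
    rw [Finset.sum_range_succ, pow_orderOf_eq_one, pow_zero] at h2
    exact add_right_cancel h2.symm
  have hPsub : ∀ a, a - P a ∈ I := by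
    intro a
    have : a - P a = (orderOf g : k)⁻¹ • ∑ j ∈ Finset.range (orderOf g), (a - g ^ j • a) := by
      rw [Finset.sum_sub_distrib, Finset.sum_const, Finset.card_range, smul_sub,
        ← Nat.cast_smul_eq_nsmul k, smul_smul, inv_mul_cancel₀ hg, one_smul]
    rw [this]
    refine Submodule.smul_of_tower_mem _ _ (Submodule.sum_mem _ fun j _ => ?_)
    rw [← neg_sub]
    exact neg_mem (hpow j a)
  let u' : Fin (n + 1) → A := Fin.cons w fun i => P (u i)
  have hu' : Ideal.span (Set.range u') = maximalIdeal A := by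
    refine le_antisymm (Ideal.span_le.2 ?_) ?_
    · rintro _ ⟨i, rfl⟩
      cases i using Fin.cases with
      | zero => simpa [u'] using hwM
      | succ i =>
        simp only [u', Fin.cons_succ]
        have := sub_mem (hum i) (hIM (hPsub (u i)))
        rwa [sub_sub_cancel] at this
    · refine Submodule.le_of_le_smul_of_le_jacobson_bot (IsNoetherian.noetherian _)
        (IsLocalRing.maximalIdeal_le_jacobson _) ?_
      rw [smul_eq_mul, ← pow_two]
      have hw : Ideal.span {w} ≤ Ideal.span (Set.range u') := Ideal.span_mono (by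
        rintro _ rfl; exact ⟨0, rfl⟩)
      conv_lhs => rw [← hu]
      rw [Ideal.span_le]
      rintro _ ⟨i, rfl⟩
      have h1 : u i = P (u i) + (u i - P (u i)) := by abel
      rw [SetLike.mem_coe, h1]
      exact add_mem (Ideal.mem_sup_left (Ideal.subset_span ⟨i.succ, by simp [u']⟩))
        (sup_le_sup_right hw _ (hIw (hPsub (u i))))
  refine ⟨g • w - w, sub_mem (WildQuot51.smul_mem_maximalIdeal g hwM) hwM,
    WildQuot51.orbit_ideal hk g hgk u' hu' _ fun i => ?_⟩
  cases i using Fin.cases with
  | zero => simp only [u', Fin.cons_zero]; exact Ideal.subset_span rfl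
  | succ i => simp only [u', Fin.cons_succ, hPfix, sub_self]; exact zero_mem _

variable [Finite G]

theorem isLocalRing_inv : IsLocalRing R :=
  WildQuot51.isLocalRing_fixed A G

theorem isUnit_inv {b : R} (h : IsUnit (b : A)) : IsUnit b :=
  WildQuot51.isUnit_fixed A G (b := b) h

omit [IsLocalRing A] in
/-- The Reynolds operator onto the invariants. -/
theorem exists_reynolds (hG : (Nat.card G : k) ≠ 0) :
    ∃ P : A →ₗ[R] A, (∀ a, P a ∈ R) ∧ (∀ r : R, P r = r) ∧
      ∀ a, P a - a = (Nat.card G : k)⁻¹ • ∑ᶠ g : G, (g • a - a) := by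
  classical
  have := Fintype.ofFinite G
  let c : R := algebraMap k R (Nat.card G : k)⁻¹
  refine ⟨c • ∑ g : G, act k A g, fun a => ?_, fun r => ?_, fun a => ?_⟩
  · change (c : A) * _ ∈ R
    refine mul_mem c.2 fun h => ?_
    rw [LinearMap.sum_apply, Finset.smul_sum]
    simp only [act_apply, smul_smul]
    exact Fintype.sum_equiv (Equiv.mulLeft h) _ _ fun _ => rfl
  · rw [LinearMap.smul_apply, LinearMap.sum_apply]
    simp only [act_apply]
    rw [Finset.sum_congr rfl fun g _ => r.2 g,
      Finset.sum_const, Finset.card_univ, ← Nat.card_eq_fintype_card, algebraMap_smul,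
      ← Nat.cast_smul_eq_nsmul k, smul_smul, inv_mul_cancel₀ hG, one_smul]
  · rw [finsum_eq_sum_of_fintype, LinearMap.smul_apply, LinearMap.sum_apply,
      Finset.sum_sub_distrib, Finset.sum_const, Finset.card_univ, ← Nat.card_eq_fintype_card,
      smul_sub, algebraMap_smul, ← Nat.cast_smul_eq_nsmul k, smul_smul, inv_mul_cancel₀ hG, one_smul]
    simp

theorem isNoetherianRing_inv [IsNoetherianRing A] (hG : (Nat.card G : k) ≠ 0) :
    IsNoetherianRing R := by
  obtain ⟨P, hPmem, hPid, -⟩ := exists_reynolds (A := A) hG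
  have key : ∀ I : Ideal R, (I.map (algebraMap R A)).comap (algebraMap R A) = I := by
    intro I
    refine le_antisymm (fun r hr => ?_) Ideal.le_comap_map
    have : ∀ a ∈ I.map (algebraMap R A), (⟨P a, hPmem a⟩ : R) ∈ I := by
      intro a ha
      have hs : I.map (algebraMap R A) = Ideal.span (algebraMap R A '' I) := rfl
      rw [hs] at ha
      suffices ∀ b : A, (⟨P (b * a), hPmem _⟩ : R) ∈ I by simpa using this 1
      induction ha using Submodule.span_induction with
      | mem x hx =>
        obtain ⟨i, hi, rfl⟩ := hx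
        intro b
        have : (⟨P (b * algebraMap R A i), hPmem _⟩ : R) = i * ⟨P b, hPmem b⟩ := by
          apply Subtype.ext
          change P (b * (i : A)) = (i : A) * P b
          rw [mul_comm, show (i : A) * b = i • b from rfl, map_smul]
          rfl
        rw [this]
        exact I.mul_mem_right _ hi
      | zero =>
        intro b
        convert I.zero_mem
        simp
      | add x y _ _ hx hy =>
        intro b
        convert I.add_mem (hx b) (hy b)
        simp [mul_add]
      | smul c x _ hx =>
        intro b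
        convert hx (b * c) using 3
        simp [mul_assoc]
    have h1 := this _ (Ideal.mem_comap.1 hr)
    have h2 : (⟨P (algebraMap R A r), hPmem _⟩ : R) = r := Subtype.ext (hPid r)
    rwa [h2] at h1
  refine isNoetherianRing_iff.2 (isNoetherian_iff'.2 ?_)
  exact (Monotone.strictMono_of_injective (f := fun I : Ideal R => I.map (algebraMap R A))
    (fun _ _ h => Ideal.map_mono h)
    (fun I J h => by rw [← key I, ← key J]; exact congrArg (Ideal.comap _) h)).wellFoundedGT

theorem flat_inv [IsDomain A] [IsNoetherianRing A] [Module.Finite R A]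
    (hG : (Nat.card G : k) ≠ 0)
    (hgen : Subgroup.closure
      {g : G | ∃ α ∈ maximalIdeal A, ∀ a : A, g • a - a ∈ Ideal.span {α}} = ⊤) :
    Module.Flat R A := by
  classical
  have := Fintype.ofFinite G
  haveI := isLocalRing_inv (k := k) (A := A) (G := G)
  haveI := isNoetherianRing_inv (A := A) hG
  set 𝔪 : Ideal R := maximalIdeal R
  let ι : A ⊗[R] 𝔪 →ₗ[A] A :=
    (TensorProduct.AlgebraTensorModule.rid R A A).toLinearMap ∘ₗ
      TensorProduct.AlgebraTensorModule.lTensor A A 𝔪.subtype
  have hι : ∀ (a : A) (m : 𝔪), ι (a ⊗ₜ m) = a * (m : R) := fun a m => by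
    simp [ι, Algebra.smul_def, mul_comm]
  have hnat : ∀ (f : A →ₗ[R] A) (z : A ⊗[R] 𝔪), ι (f.rTensor 𝔪 z) = f (ι z) := by
    intro f z
    induction z using TensorProduct.induction_on with
    | zero => simp
    | tmul a m =>
      rw [LinearMap.rTensor_tmul, hι, hι, mul_comm, mul_comm a]
      exact (f.map_smul (m : R) a).symm
    | add x y hx hy => simp only [map_add, hx, hy]
  set K := LinearMap.ker ι
  set M := maximalIdeal A
  have hK : ∀ (f : A →ₗ[R] A) {z}, z ∈ K → f.rTensor 𝔪 z ∈ K := fun f z hz => by
    rw [LinearMap.mem_ker, hnat, LinearMap.mem_ker.1 hz, map_zero]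
  have hmul : ∀ (α : A) (z : A ⊗[R] 𝔪), (LinearMap.mulLeft R α).rTensor 𝔪 z = α • z := by
    intro α z
    induction z using TensorProduct.induction_on with
    | zero => simp
    | tmul a m => rw [LinearMap.rTensor_tmul, TensorProduct.smul_tmul']; rfl
    | add x y hx hy => simp only [map_add, hx, hy, smul_add]
  have hact1 : act k A (1 : G) = LinearMap.id := LinearMap.ext fun a => one_smul G a
  have hactmul : ∀ g h : G, act k A (g * h) = act k A g ∘ₗ act k A h :=
    fun g h => LinearMap.ext fun a => mul_smul g h a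
  let S : Subgroup G :=
    { carrier := {g | ∀ z ∈ K, (act k A g).rTensor 𝔪 z - z ∈ M • K}
      one_mem' := fun z _ => by simp [hact1]
      mul_mem' := fun {g h} hg hh z hz => by
        rw [hactmul, LinearMap.rTensor_comp, LinearMap.comp_apply,
          ← sub_add_sub_cancel _ ((act k A h).rTensor 𝔪 z) z]
        exact add_mem (hg _ (hK _ hz)) (hh z hz)
      inv_mem' := fun {g} hg z hz => by
        have h1 := hg _ (hK (act k A g⁻¹) hz)
        rw [← LinearMap.comp_apply, ← LinearMap.rTensor_comp, ← hactmul, mul_inv_cancel, hact1,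
          LinearMap.rTensor_id, LinearMap.id_apply] at h1
        rw [← neg_sub]
        exact neg_mem h1 }
  have hS : S = ⊤ := by
    rw [eq_top_iff, ← hgen, Subgroup.closure_le]
    rintro g ⟨α, hαM, hα⟩ z hz
    obtain ⟨D, hD⟩ := exists_div (k := k) g α hα
    have h1 : (act k A g).rTensor 𝔪 z - z = α • D.rTensor 𝔪 z := by
      have := congrArg (fun f => LinearMap.rTensor 𝔪 f z) hD
      simp only [LinearMap.rTensor_sub, LinearMap.rTensor_id, LinearMap.sub_apply,
        LinearMap.id_apply, LinearMap.rTensor_comp, LinearMap.comp_apply, hmul] at this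
      exact this
    rw [h1]
    exact Submodule.smul_mem_smul hαM (hK _ hz)
  obtain ⟨P, hPmem, -, hP⟩ := exists_reynolds (A := A) hG
  let P' : A →ₗ[R] R :=
    { toFun := fun a => ⟨P a, hPmem a⟩
      map_add' := fun a b => Subtype.ext (map_add P a b)
      map_smul' := fun r a => Subtype.ext (map_smul P r a) }
  let j : R →ₗ[R] A := Algebra.linearMap R A
  have hPj : P = j ∘ₗ P' := rfl
  have hP0 : ∀ z ∈ K, P.rTensor 𝔪 z = 0 := by
    intro z hz
    have hy : P'.rTensor 𝔪 z = (1 : R) ⊗ₜ[R] (TensorProduct.lid R 𝔪 (P'.rTensor 𝔪 z)) := by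
      apply (TensorProduct.lid R 𝔪).injective
      simp
    set y := TensorProduct.lid R 𝔪 (P'.rTensor 𝔪 z)
    have h3 : P.rTensor 𝔪 z = j (1 : R) ⊗ₜ[R] y := by
      rw [hPj, LinearMap.rTensor_comp]
      exact (congrArg (j.rTensor 𝔪) hy).trans (LinearMap.rTensor_tmul _ _ _ _)
    have h1 := hnat P z
    rw [LinearMap.mem_ker.1 hz, map_zero, h3, hι] at h1
    have h2 : y = 0 := by
      apply Subtype.ext
      apply Subtype.ext
      simpa [j] using h1
    rw [h3, h2]
    simp
  have hKle : K ≤ M • K := by
    intro z hz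
    have h1 : P - LinearMap.id = algebraMap k R (Nat.card G : k)⁻¹ • ∑ g : G, (act k A g - LinearMap.id) := by
      refine LinearMap.ext fun a => ?_
      rw [LinearMap.sub_apply, LinearMap.id_apply, hP, finsum_eq_sum_of_fintype,
        LinearMap.smul_apply, LinearMap.sum_apply, algebraMap_smul]
      rfl
    have h2 := congrArg (fun f => LinearMap.rTensor 𝔪 f z) h1
    simp only [LinearMap.rTensor_sub, LinearMap.rTensor_id, LinearMap.sub_apply,
      LinearMap.id_apply, hP0 z hz, zero_sub, LinearMap.rTensor_smul, LinearMap.smul_apply] at h2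
    rw [← neg_neg z, h2]
    refine neg_mem (Submodule.smul_of_tower_mem _ _ ?_)
    rw [show LinearMap.rTensor 𝔪 (∑ g : G, (act k A g - LinearMap.id)) =
      ∑ g : G, LinearMap.rTensor 𝔪 (act k A g - LinearMap.id) from map_sum (LinearMap.rTensorHom 𝔪) _ _,
      LinearMap.sum_apply]
    refine Submodule.sum_mem _ fun g _ => ?_
    have hg : g ∈ S := hS ▸ Subgroup.mem_top g
    simpa [LinearMap.rTensor_sub] using hg z hz
  have hKbot : K = ⊥ := by
    haveI : Module.Finite R 𝔪 := Module.Finite.iff_fg.2 (IsNoetherian.noetherian 𝔪)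
    haveI : IsNoetherian A (A ⊗[R] 𝔪) := inferInstance
    exact Submodule.eq_bot_of_le_smul_of_le_jacobson_bot M K (IsNoetherian.noetherian K) hKle
      (IsLocalRing.maximalIdeal_le_jacobson _)
  haveI : Module.FinitePresentation R A := Module.finitePresentation_of_finite R A
  haveI : Module.Free R A := by
    refine Module.free_of_maximalIdeal_rTensor_injective ?_
    have h1 : Function.Injective ι := LinearMap.ker_eq_bot.1 hKbot
    have h2 : ∀ z, ι (TensorProduct.comm R 𝔪 A z) =
        TensorProduct.lid R A (𝔪.subtype.rTensor A z) := by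
      intro z
      induction z using TensorProduct.induction_on with
      | zero => simp
      | tmul m a =>
        rw [TensorProduct.comm_tmul, hι, LinearMap.rTensor_tmul, TensorProduct.lid_tmul, mul_comm]
        rfl
      | add x y hx hy => simp only [map_add, hx, hy]
    intro x y hxy
    refine (TensorProduct.comm R 𝔪 A).injective (h1 ?_)
    rw [h2, h2, hxy]
  exact inferInstance

end Main

end Groth.Agent.CAlg6.Reflection
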