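import Mathlib
import Groth.Prelude.Def_GrSeg

/-!
Segre products of graded modules: the projection of `M ⊗ N` onto its diagonal pieces and the
resulting finiteness of Segre products.
-/

set_option autoImplicit false
universe u

open scoped TensorProduct
open DirectSum

namespace Groth.Agent.CAlg6.Seg

section Proj

variable {k : Type u} [CommRing k] {R : Type u} [CommRing R] [Algebra k R]
  (𝒜 : ℤ → Submodule k R) [GradedAlgebra 𝒜]
  {M : Type u} [AddCommGroup M] [Module R M] [Module k M] [IsScalarTower k R M]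
  {σM : Type u} [SetLike σM M] [AddSubgroupClass σM M]
  (ℳ : ℤ → σM) [DirectSum.Decomposition ℳ] [SetLike.GradedSMul 𝒜 ℳ]

include 𝒜 in
theorem smul_k_mem (c : k) {n : ℤ} {x : M} (hx : x ∈ ℳ n) : c • x ∈ ℳ n := by
  have h := SetLike.GradedSMul.smul_mem (SetLike.algebraMap_mem_graded 𝒜 c) hx
  rwa [algebraMap_smul, vadd_eq_add, zero_add] at h

/-- degree `n` component, as a `k`-linear map -/
noncomputable def prj (n : ℤ) : M →ₗ[k] M where
  toFun x := (DirectSum.decompose ℳ x n : M)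
  map_add' x y := by simp
  map_smul' c x := by
    induction x using DirectSum.Decomposition.inductionOn ℳ with
    | zero => simp
    | @homogeneous i m =>
      simp only [RingHom.id_apply]
      rcases eq_or_ne i n with rfl | h
      · rw [DirectSum.decompose_of_mem_same ℳ m.2,
          DirectSum.decompose_of_mem_same ℳ (smul_k_mem 𝒜 ℳ c m.2)]
      · rw [DirectSum.decompose_of_mem_ne ℳ m.2 h,
          DirectSum.decompose_of_mem_ne ℳ (smul_k_mem 𝒜 ℳ c m.2) h, smul_zero]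
    | add a b ha hb =>
      simp only [RingHom.id_apply] at ha hb ⊢
      simp [smul_add, ha, hb]

theorem prj_of_mem {n : ℤ} {x : M} (hx : x ∈ ℳ n) : prj 𝒜 ℳ n x = x :=
  DirectSum.decompose_of_mem_same ℳ hx

theorem prj_of_ne {i n : ℤ} {x : M} (hx : x ∈ ℳ i) (h : i ≠ n) : prj 𝒜 ℳ n x = 0 :=
  DirectSum.decompose_of_mem_ne ℳ hx h

theorem prj_mem (n : ℤ) (x : M) : prj 𝒜 ℳ n x ∈ ℳ n :=
  (DirectSum.decompose ℳ x n).2

theorem eq_of_prj (x : M) : ∃ t : Finset ℤ, x = ∑ n ∈ t, prj 𝒜 ℳ n x := by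
  classical
  exact ⟨(DirectSum.decompose ℳ x).support, (DirectSum.sum_support_decompose ℳ x).symm⟩

theorem nonneg_prj {n : ℤ} (hn : n < 0) (hpos : ∀ n : ℤ, n < 0 → 𝒜 n = ⊥) (x : R) : prj 𝒜 𝒜 n x = 0 :=
  (Submodule.eq_bot_iff _).1 (hpos n hn) _ (prj_mem 𝒜 𝒜 n x)

end Proj

section Induction

variable {k : Type u} [CommRing k]
  {M : Type u} [AddCommGroup M] [Module k M] {σM : Type u} [SetLike σM M] [AddSubgroupClass σM M]
  (ℳ : ℤ → σM) [DirectSum.Decomposition ℳ]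
  {N : Type u} [AddCommGroup N] [Module k N] {σN : Type u} [SetLike σN N] [AddSubgroupClass σN N]
  (𝒩 : ℤ → σN) [DirectSum.Decomposition 𝒩]

/-- to prove an additive property of tensors it suffices to treat homogeneous pure tensors -/
theorem tmul_induction {p : M ⊗[k] N → Prop} (h0 : p 0)
    (hadd : ∀ u v, p u → p v → p (u + v))
    (h : ∀ (i j : ℤ) (a : M) (b : N), a ∈ ℳ i → b ∈ 𝒩 j → p (a ⊗ₜ[k] b)) (u : M ⊗[k] N) : p u := by
  induction u using TensorProduct.induction_on with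
  | zero => exact h0
  | add u v hu hv => exact hadd u v hu hv
  | tmul a b =>
    induction a using DirectSum.Decomposition.inductionOn ℳ with
    | zero => rw [TensorProduct.zero_tmul]; exact h0
    | add a a' ha ha' => rw [TensorProduct.add_tmul]; exact hadd _ _ ha ha'
    | @homogeneous i a =>
      induction b using DirectSum.Decomposition.inductionOn 𝒩 with
      | zero => rw [TensorProduct.tmul_zero]; exact h0
      | add b b' hb hb' => rw [TensorProduct.tmul_add]; exact hadd _ _ hb hb'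
      | @homogeneous j b => exact h i j _ _ a.2 b.2

omit [DirectSum.Decomposition ℳ] [DirectSum.Decomposition 𝒩] in
theorem tmul_mem_piece {n : ℤ} {a : M} {b : N} (ha : a ∈ ℳ n) (hb : b ∈ 𝒩 n) :
    a ⊗ₜ[k] b ∈ GrSeg.segrePiece k ℳ 𝒩 n :=
  Submodule.subset_span ⟨a, ha, b, hb, rfl⟩

/-- `π` is the projection onto the diagonal bidegrees -/
structure IsDg (π : M ⊗[k] N →ₗ[k] M ⊗[k] N) : Prop where
  same : ∀ (i : ℤ) (a : M) (b : N), a ∈ ℳ i → b ∈ 𝒩 i → π (a ⊗ₜ[k] b) = a ⊗ₜ[k] b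
  ne : ∀ (i j : ℤ) (a : M) (b : N), a ∈ ℳ i → b ∈ 𝒩 j → i ≠ j → π (a ⊗ₜ[k] b) = 0

variable {ℳ 𝒩}

theorem IsDg.fix {π : M ⊗[k] N →ₗ[k] M ⊗[k] N} (hπ : IsDg ℳ 𝒩 π) {n : ℤ} {w : M ⊗[k] N}
    (hw : w ∈ GrSeg.segrePiece k ℳ 𝒩 n) : π w = w := by
  induction hw using Submodule.span_induction with
  | mem x hx => obtain ⟨a, ha, b, hb, rfl⟩ := hx; exact hπ.same n a b ha hb
  | zero => exact map_zero π
  | add x y _ _ hx hy => rw [map_add, hx, hy]
  | smul c x _ hx => rw [map_smul, hx]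

end Induction

section Exists

variable {k : Type u} [CommRing k] {R S : Type u} [CommRing R] [CommRing S] [Algebra k R] [Algebra k S]
  (𝒜 : ℤ → Submodule k R) [GradedAlgebra 𝒜] (ℬ : ℤ → Submodule k S) [GradedAlgebra ℬ]
  {M : Type u} [AddCommGroup M] [Module R M] [Module k M] [IsScalarTower k R M]
  {σM : Type u} [SetLike σM M] [AddSubgroupClass σM M]
  (ℳ : ℤ → σM) [DirectSum.Decomposition ℳ] [SetLike.GradedSMul 𝒜 ℳ]
  {N : Type u} [AddCommGroup N] [Module S N] [Module k N] [IsScalarTower k S N]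
  {σN : Type u} [SetLike σN N] [AddSubgroupClass σN N]
  (𝒩 : ℤ → σN) [DirectSum.Decomposition 𝒩] [SetLike.GradedSMul ℬ 𝒩]

include 𝒜 ℬ in
theorem exists_dg : ∃ π : M ⊗[k] N →ₗ[k] M ⊗[k] N, IsDg ℳ 𝒩 π := by
  classical
  let comp : ∀ i : ℤ, ℳ i →+ (N →ₗ[k] M ⊗[k] N) := fun i =>
    AddMonoidHom.mk' (fun x => (TensorProduct.mk k M N (x : M)).comp (prj ℬ 𝒩 i)) fun x y => by
      rw [AddMemClass.coe_add, map_add, LinearMap.add_comp]
  let F : M →+ (N →ₗ[k] M ⊗[k] N) :=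
    (DirectSum.toAddMonoid comp).comp (DirectSum.decomposeAddEquiv ℳ).toAddMonoidHom
  have hF : ∀ (i : ℤ) (a : M), a ∈ ℳ i → F a = (TensorProduct.mk k M N a).comp (prj ℬ 𝒩 i) := by
    intro i a ha
    show DirectSum.toAddMonoid comp (DirectSum.decompose ℳ a) = _
    rw [DirectSum.decompose_of_mem ℳ ha, DirectSum.toAddMonoid_of]
    rfl
  let G : M →ₗ[k] N →ₗ[k] M ⊗[k] N :=
    { toFun := F
      map_add' := map_add F
      map_smul' := fun c x => by
        simp only [RingHom.id_apply]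
        induction x using DirectSum.Decomposition.inductionOn ℳ with
        | zero => simp
        | @homogeneous i m =>
          rw [hF i _ m.2, hF i _ (smul_k_mem 𝒜 ℳ c m.2), map_smul, LinearMap.smul_comp]
        | add a b ha hb => rw [smul_add, map_add, map_add, ha, hb, smul_add] }
  refine ⟨TensorProduct.lift G, ⟨fun i a b ha hb => ?_, fun i j a b ha hb hij => ?_⟩⟩
  · rw [TensorProduct.lift.tmul]
    show F a b = _
    rw [hF i a ha, LinearMap.comp_apply, prj_of_mem ℬ 𝒩 hb, TensorProduct.mk_apply]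
  · rw [TensorProduct.lift.tmul]
    show F a b = _
    rw [hF i a ha, LinearMap.comp_apply, prj_of_ne ℬ 𝒩 hb hij.symm, map_zero]

variable {𝒜 ℬ ℳ 𝒩}

theorem act_piece_left {π0 : R ⊗[k] S →ₗ[k] R ⊗[k] S} (hπ0 : IsDg 𝒜 ℬ π0)
    {π : M ⊗[k] N →ₗ[k] M ⊗[k] N} (hπ : IsDg ℳ 𝒩 π) (u : R ⊗[k] S) {n : ℤ} {w : M ⊗[k] N}
    (hw : w ∈ GrSeg.segrePiece k ℳ 𝒩 n) :
    π (GrSeg.act k R S M N u w) = GrSeg.act k R S M N (π0 u) w := by
  induction hw using Submodule.span_induction with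
  | zero => simp
  | add x y _ _ hx hy => simp [map_add, hx, hy]
  | smul c x _ hx => simp [map_smul, hx]
  | mem x hx =>
    obtain ⟨m, hm, m', hm', rfl⟩ := hx
    induction u using tmul_induction 𝒜 ℬ with
    | h0 => simp
    | hadd u v hu hv => simp [map_add, LinearMap.add_apply, hu, hv]
    | h i j a b ha hb =>
      have h1 : a • m ∈ ℳ (i + n) := by simpa using SetLike.GradedSMul.smul_mem ha hm
      have h2 : b • m' ∈ 𝒩 (j + n) := by simpa using SetLike.GradedSMul.smul_mem hb hm'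
      rw [GrSeg.act_tmul]
      rcases eq_or_ne i j with rfl | hij
      · rw [hπ0.same i a b ha hb, GrSeg.act_tmul, hπ.same _ _ _ h1 h2]
      · rw [hπ0.ne i j a b ha hb hij, hπ.ne _ _ _ _ h1 h2 (by omega)]
        simp

theorem act_piece_right {π : M ⊗[k] N →ₗ[k] M ⊗[k] N} (hπ : IsDg ℳ 𝒩 π) {n : ℤ} {c : R ⊗[k] S}
    (hc : c ∈ GrSeg.segrePiece k 𝒜 ℬ n) (u : M ⊗[k] N) :
    π (GrSeg.act k R S M N c u) = GrSeg.act k R S M N c (π u) := by
  induction hc using Submodule.span_induction with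
  | zero => simp
  | add x y _ _ hx hy => simp [map_add, LinearMap.add_apply, hx, hy]
  | smul c x _ hx => simp [map_smul, LinearMap.smul_apply, hx]
  | mem x hx =>
    obtain ⟨a, ha, b, hb, rfl⟩ := hx
    induction u using tmul_induction ℳ 𝒩 with
    | h0 => simp
    | hadd u v hu hv => simp [map_add, hu, hv]
    | h i j m m' hm hm' =>
      have h1 : a • m ∈ ℳ (n + i) := by simpa using SetLike.GradedSMul.smul_mem ha hm
      have h2 : b • m' ∈ 𝒩 (n + j) := by simpa using SetLike.GradedSMul.smul_mem hb hm'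
      rw [GrSeg.act_tmul]
      rcases eq_or_ne i j with rfl | hij
      · rw [hπ.same i m m' hm hm', GrSeg.act_tmul, hπ.same _ _ _ h1 h2]
      · rw [hπ.ne i j m m' hm hm' hij, hπ.ne _ _ _ _ h1 h2 (by omega)]
        simp

end Exists

section Act

variable (k : Type u) [CommRing k] (R S : Type u) [CommRing R] [CommRing S] [Algebra k R] [Algebra k S]
  (M N : Type u) [AddCommGroup M] [Module R M] [Module k M] [IsScalarTower k R M]
  [AddCommGroup N] [Module S N] [Module k N] [IsScalarTower k S N]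

theorem act_mul (u v : R ⊗[k] S) (w : M ⊗[k] N) :
    GrSeg.act k R S M N (u * v) w = GrSeg.act k R S M N u (GrSeg.act k R S M N v w) := by
  induction u using TensorProduct.induction_on with
  | zero => simp
  | add x y hx hy => simp [add_mul, map_add, LinearMap.add_apply, hx, hy]
  | tmul a b =>
    induction v using TensorProduct.induction_on with
    | zero => simp
    | add x y hx hy => simp [mul_add, map_add, LinearMap.add_apply, hx, hy]
    | tmul c d =>
      induction w using TensorProduct.induction_on with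
      | zero => simp
      | add x y hx hy => rw [map_add, map_add, map_add, hx, hy]
      | tmul m n => simp only [Algebra.TensorProduct.tmul_mul_tmul, GrSeg.act_tmul, mul_smul]

theorem act_one (w : M ⊗[k] N) : GrSeg.act k R S M N 1 w = w := by
  induction w using TensorProduct.induction_on with
  | zero => simp
  | add x y hx hy => simp [map_add, hx, hy]
  | tmul m n => rw [Algebra.TensorProduct.one_def, GrSeg.act_tmul, one_smul, one_smul]

/-- the action of `R ⊗ S` on `M ⊗ N` as a ring map -/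
noncomputable def actHom : R ⊗[k] S →+* Module.End k (M ⊗[k] N) where
  toFun := GrSeg.act k R S M N
  map_one' := LinearMap.ext (act_one k R S M N)
  map_mul' u v := LinearMap.ext (act_mul k R S M N u v)
  map_zero' := map_zero _
  map_add' := map_add _

theorem act_self (u w : R ⊗[k] S) : GrSeg.act k R S R S u w = u * w := by
  induction u using TensorProduct.induction_on with
  | zero => simp
  | add x y hx hy => simp [add_mul, map_add, LinearMap.add_apply, hx, hy]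
  | tmul a b =>
    induction w using TensorProduct.induction_on with
    | zero => simp
    | add x y hx hy => simp [mul_add, map_add, hx, hy]
    | tmul c d => simp [GrSeg.act_tmul]

end Act

section Seg

variable {k : Type u} [CommRing k] {R S T : Type u} [CommRing R] [CommRing S] [CommRing T]
  [Algebra k R] [Algebra k S] [Algebra k T]
  {𝒜 : ℤ → Submodule k R} [GradedAlgebra 𝒜] {ℬ : ℤ → Submodule k S} [GradedAlgebra ℬ]
  {𝒯 : ℤ → Submodule k T} [GradedAlgebra 𝒯] {ψ : T →ₐ[k] R ⊗[k] S}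

theorem psi_mem_piece (hT : GrSeg.IsSegreRing 𝒜 ℬ 𝒯 ψ) {n : ℤ} {t : T} (ht : t ∈ 𝒯 n) :
    ψ t ∈ GrSeg.segrePiece k 𝒜 ℬ n := by
  rw [← hT.2 n]
  exact Submodule.mem_map_of_mem ht

theorem exists_psi_eq (hT : GrSeg.IsSegreRing 𝒜 ℬ 𝒯 ψ) {n : ℤ} {w : R ⊗[k] S}
    (hw : w ∈ GrSeg.segrePiece k 𝒜 ℬ n) : ∃ t ∈ 𝒯 n, ψ t = w := by
  rw [← hT.2 n] at hw
  exact hw

theorem exists_psi_eq_tmul (hT : GrSeg.IsSegreRing 𝒜 ℬ 𝒯 ψ) {n : ℤ} {a : R} {b : S}
    (ha : a ∈ 𝒜 n) (hb : b ∈ ℬ n) : ∃ t ∈ 𝒯 n, ψ t = a ⊗ₜ[k] b :=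
  exists_psi_eq hT (tmul_mem_piece 𝒜 ℬ ha hb)

theorem exists_psi_dg (hT : GrSeg.IsSegreRing 𝒜 ℬ 𝒯 ψ) {π0 : R ⊗[k] S →ₗ[k] R ⊗[k] S}
    (hπ0 : IsDg 𝒜 ℬ π0) (u : R ⊗[k] S) : ∃ t : T, ψ t = π0 u := by
  induction u using tmul_induction 𝒜 ℬ with
  | h0 => exact ⟨0, by simp⟩
  | hadd u v hu hv =>
    obtain ⟨s, hs⟩ := hu
    obtain ⟨t, ht⟩ := hv
    exact ⟨s + t, by simp [hs, ht]⟩
  | h i j a b ha hb =>
    rcases eq_or_ne i j with rfl | hij
    · obtain ⟨t, -, ht⟩ := exists_psi_eq_tmul hT ha hb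
      exact ⟨t, by rw [hπ0.same i a b ha hb, ht]⟩
    · exact ⟨0, by rw [hπ0.ne i j a b ha hb hij, map_zero]⟩

variable {M N P : Type u} [AddCommGroup M] [Module R M] [Module k M] [IsScalarTower k R M]
  [AddCommGroup N] [Module S N] [Module k N] [IsScalarTower k S N]
  [AddCommGroup P] [Module T P] [Module k P] [IsScalarTower k T P]
  {σM σN σQ : Type u} [SetLike σM M] [AddSubgroupClass σM M] [SetLike σN N] [AddSubgroupClass σN N]
  [SetLike σQ P] [AddSubgroupClass σQ P]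
  {ℳ : ℤ → σM} [DirectSum.Decomposition ℳ] [SetLike.GradedSMul 𝒜 ℳ]
  {𝒩 : ℤ → σN} [DirectSum.Decomposition 𝒩] [SetLike.GradedSMul ℬ 𝒩]
  {𝒬 : ℤ → σQ} [DirectSum.Decomposition 𝒬] {φ : P →ₗ[k] M ⊗[k] N}

omit [DirectSum.Decomposition ℳ] [DirectSum.Decomposition 𝒩] [SetLike.GradedSMul 𝒜 ℳ]
  [SetLike.GradedSMul ℬ 𝒩] in
theorem phi_mem_piece (hP : GrSeg.IsSegreMod ψ ℳ 𝒩 𝒬 φ) {n : ℤ} {p : P} (hp : p ∈ 𝒬 n) :
    φ p ∈ GrSeg.segrePiece k ℳ 𝒩 n := by
  rw [← SetLike.mem_coe, ← hP.image_piece n]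
  exact ⟨p, hp, rfl⟩

omit [DirectSum.Decomposition ℳ] [DirectSum.Decomposition 𝒩] [SetLike.GradedSMul 𝒜 ℳ]
  [SetLike.GradedSMul ℬ 𝒩] in
theorem exists_phi_eq (hP : GrSeg.IsSegreMod ψ ℳ 𝒩 𝒬 φ) {n : ℤ} {w : M ⊗[k] N}
    (hw : w ∈ GrSeg.segrePiece k ℳ 𝒩 n) : ∃ p ∈ 𝒬 n, φ p = w := by
  rw [← SetLike.mem_coe, ← hP.image_piece n] at hw
  exact hw

theorem exists_phi_dg (hP : GrSeg.IsSegreMod ψ ℳ 𝒩 𝒬 φ) {π : M ⊗[k] N →ₗ[k] M ⊗[k] N}
    (hπ : IsDg ℳ 𝒩 π) (u : M ⊗[k] N) : ∃ p : P, φ p = π u := by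
  induction u using tmul_induction ℳ 𝒩 with
  | h0 => exact ⟨0, by simp⟩
  | hadd u v hu hv =>
    obtain ⟨s, hs⟩ := hu
    obtain ⟨t, ht⟩ := hv
    exact ⟨s + t, by simp [hs, ht]⟩
  | h i j a b ha hb =>
    rcases eq_or_ne i j with rfl | hij
    · obtain ⟨t, -, ht⟩ := exists_phi_eq hP (tmul_mem_piece ℳ 𝒩 ha hb)
      exact ⟨t, by rw [hπ.same i a b ha hb, ht]⟩
    · exact ⟨0, by rw [hπ.ne i j a b ha hb hij, map_zero]⟩

omit [SetLike.GradedSMul 𝒜 ℳ] [SetLike.GradedSMul ℬ 𝒩] in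
theorem dg_phi (hP : GrSeg.IsSegreMod ψ ℳ 𝒩 𝒬 φ) {π : M ⊗[k] N →ₗ[k] M ⊗[k] N}
    (hπ : IsDg ℳ 𝒩 π) (p : P) : π (φ p) = φ p := by
  induction p using DirectSum.Decomposition.inductionOn 𝒬 with
  | zero => simp
  | @homogeneous n q => exact hπ.fix (phi_mem_piece hP q.2)
  | add a b ha hb => simp [map_add, ha, hb]

theorem dg_act_phi (hP : GrSeg.IsSegreMod ψ ℳ 𝒩 𝒬 φ) {π0 : R ⊗[k] S →ₗ[k] R ⊗[k] S}
    (hπ0 : IsDg 𝒜 ℬ π0) {π : M ⊗[k] N →ₗ[k] M ⊗[k] N} (hπ : IsDg ℳ 𝒩 π) (u : R ⊗[k] S) (p : P) :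
    π (GrSeg.act k R S M N u (φ p)) = GrSeg.act k R S M N (π0 u) (φ p) := by
  induction p using DirectSum.Decomposition.inductionOn 𝒬 with
  | zero => simp
  | @homogeneous n q => exact act_piece_left hπ0 hπ u (phi_mem_piece hP q.2)
  | add a b ha hb => simp [map_add, ha, hb]

theorem dg_act_psi (hT : GrSeg.IsSegreRing 𝒜 ℬ 𝒯 ψ) {π : M ⊗[k] N →ₗ[k] M ⊗[k] N}
    (hπ : IsDg ℳ 𝒩 π) (t : T) (w : M ⊗[k] N) :
    π (GrSeg.act k R S M N (ψ t) w) = GrSeg.act k R S M N (ψ t) (π w) := by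
  induction t using DirectSum.Decomposition.inductionOn 𝒯 with
  | zero => simp
  | @homogeneous n q => exact act_piece_right hπ (psi_mem_piece hT q.2) w
  | add a b ha hb => simp [map_add, LinearMap.add_apply, ha, hb]

/-- The general finiteness statement: if `M ⊗ N` is finite over a Noetherian ring `E` acting through
`e : E → R ⊗ S` and the diagonal part of the image of `e` comes from `T₀ ⊆ T`, then every
`T₀`-submodule of `P = M # N` is finitely generated. -/
theorem fg_submodule (hP : GrSeg.IsSegreMod ψ ℳ 𝒩 𝒬 φ) {E : Type u} [CommRing E] [Algebra k E]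
    [IsNoetherianRing E] (e : E →ₐ[k] R ⊗[k] S) (T₀ : Subalgebra k T)
    {π0 : R ⊗[k] S →ₗ[k] R ⊗[k] S} (hπ0 : IsDg 𝒜 ℬ π0) (he : ∀ c, ∃ t ∈ T₀, ψ t = π0 (e c))
    {π : M ⊗[k] N →ₗ[k] M ⊗[k] N} (hπ : IsDg ℳ 𝒩 π)
    (hfin : ∃ G : Finset (M ⊗[k] N), Submodule.span k
      {z | ∃ c : E, ∃ g ∈ G, z = GrSeg.act k R S M N (e c) g} = ⊤)
    (Q : Submodule T₀ P) : Q.FG := by
  classical
  letI : Module E (M ⊗[k] N) :=
    Module.compHom (M ⊗[k] N) ((actHom k R S M N).comp e.toRingHom)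
  have hsm : ∀ (c : E) (z : M ⊗[k] N), c • z = GrSeg.act k R S M N (e c) z := fun c z => rfl
  have : Module.Finite E (M ⊗[k] N) := by
    obtain ⟨G, hG⟩ := hfin
    refine ⟨⟨G, ?_⟩⟩
    rw [eq_top_iff]
    intro z _
    have hz : z ∈ Submodule.span k {z | ∃ c : E, ∃ g ∈ G, z = GrSeg.act k R S M N (e c) g} := by
      rw [hG]; trivial
    induction hz using Submodule.span_induction with
    | mem x hx =>
      obtain ⟨c, g, hg, rfl⟩ := hx
      rw [← hsm]
      exact Submodule.smul_mem _ _ (Submodule.subset_span hg)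
    | zero => exact zero_mem _
    | add x y _ _ hx hy => exact add_mem (hx trivial) (hy trivial)
    | smul a x _ hx =>
      have : a • x = (algebraMap k E a) • x := by
        rw [hsm, AlgHom.commutes, Algebra.algebraMap_eq_smul_one, map_smul, LinearMap.smul_apply, act_one]
      rw [this]
      exact Submodule.smul_mem _ _ (hx trivial)
  obtain ⟨F, hFsub, hF⟩ := (Submodule.fg_span_iff_fg_span_finset_subset (φ '' (Q : Set P))).1
    (IsNoetherian.noetherian (Submodule.span E (φ '' (Q : Set P))))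
  have hex : ∀ f ∈ F, ∃ q ∈ Q, φ q = f := fun f hf => hFsub hf
  choose! q hqQ hqf using hex
  refine ⟨F.image q, le_antisymm (Submodule.span_le.2 ?_) fun p hp => ?_⟩
  · intro x hx
    simp only [Finset.coe_image, Set.mem_image, Finset.mem_coe] at hx
    obtain ⟨f, hf, rfl⟩ := hx
    exact hqQ f hf
  · have hmem : φ p ∈ Submodule.span E (F : Set (M ⊗[k] N)) := by
      rw [← hF]
      exact Submodule.subset_span ⟨p, hp, rfl⟩
    obtain ⟨c, -, hc⟩ := Submodule.mem_span_finset.1 hmem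
    choose t htT ht using fun f => he (c f)
    have key : p = ∑ f ∈ F, (⟨t f, htT f⟩ : T₀) • q f := by
      refine hP.injective ?_
      rw [← dg_phi hP hπ p, ← hc, map_sum, map_sum]
      refine Finset.sum_congr rfl fun f hf => ?_
      have h1 := dg_act_phi hP hπ0 hπ (e (c f)) (q f)
      rw [← ht f, ← hP.map_smul, hqf f hf] at h1
      rw [hsm, h1]
      rfl
    rw [key]
    refine Submodule.sum_mem _ fun f hf => Submodule.smul_mem _ _ (Submodule.subset_span ?_)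
    exact Finset.mem_coe.2 (Finset.mem_image_of_mem q hf)

/-- `T` is a Segre module over itself -/
theorem isSegreMod_self (hT : GrSeg.IsSegreRing 𝒜 ℬ 𝒯 ψ) :
    GrSeg.IsSegreMod ψ 𝒜 ℬ 𝒯 ψ.toLinearMap where
  injective := hT.1
  image_piece n := by rw [← hT.2 n, Submodule.map_coe]
  map_smul t p := by simp [act_self]

end Seg

section Tensor

variable {k : Type u} [CommRing k] {R S : Type u} [CommRing R] [CommRing S] [Algebra k R] [Algebra k S]
  {M N : Type u} [AddCommGroup M] [Module R M] [Module k M] [IsScalarTower k R M]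
  [AddCommGroup N] [Module S N] [Module k N] [IsScalarTower k S N]

/-- products of finite generating systems generate the tensor product -/
theorem hfin_of_gen {ER ES E : Type u} [CommRing ER] [CommRing ES] [CommRing E] [Algebra k ER]
    [Algebra k ES] [Algebra k E] (eR : ER →ₐ[k] R) (eS : ES →ₐ[k] S) (e : E →ₐ[k] R ⊗[k] S)
    (hprod : ∀ a b, ∃ c, e c = eR a ⊗ₜ[k] eS b) (GM : Finset M) (GN : Finset N)
    (hM : Submodule.span k {z : M | ∃ a : ER, ∃ g ∈ GM, z = eR a • g} = ⊤)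
    (hN : Submodule.span k {z : N | ∃ b : ES, ∃ g ∈ GN, z = eS b • g} = ⊤) :
    ∃ G : Finset (M ⊗[k] N), Submodule.span k
      {z | ∃ c : E, ∃ g ∈ G, z = GrSeg.act k R S M N (e c) g} = ⊤ := by
  classical
  refine ⟨(GM ×ˢ GN).image fun gh => gh.1 ⊗ₜ[k] gh.2, ?_⟩
  rw [eq_top_iff, ← TensorProduct.map₂_mk_top_top_eq_top, ← hM, ← hN, Submodule.map₂_span_span]
  refine Submodule.span_mono ?_
  rintro _ ⟨_, ⟨a, g, hg, rfl⟩, _, ⟨b, h, hh, rfl⟩, rfl⟩
  obtain ⟨c, hc⟩ := hprod a b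
  refine ⟨c, g ⊗ₜ[k] h, Finset.mem_image.2 ⟨(g, h), Finset.mem_product.2 ⟨hg, hh⟩, rfl⟩, ?_⟩
  rw [hc, GrSeg.act_tmul]
  rfl

theorem gen_of_finite [Module.Finite R M] :
    ∃ GM : Finset M, Submodule.span k {z : M | ∃ a : R, ∃ g ∈ GM, z = AlgHom.id k R a • g} = ⊤ := by
  obtain ⟨GM, hGM⟩ := (Module.finite_def.1 (inferInstance : Module.Finite R M))
  refine ⟨GM, eq_top_iff.2 fun x _ => ?_⟩
  have hx : x ∈ Submodule.span R (GM : Set M) := hGM ▸ trivial
  induction hx using Submodule.span_induction with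
  | mem y hy => exact Submodule.subset_span ⟨1, y, hy, by simp⟩
  | zero => exact zero_mem _
  | add y z _ _ hy hz => exact add_mem (hy trivial) (hz trivial)
  | smul r y _ hy =>
    refine smulMem r y (hy trivial)
where
  smulMem {GM : Finset M} (r : R) (y : M)
      (hy : y ∈ Submodule.span k {z : M | ∃ a : R, ∃ g ∈ GM, z = AlgHom.id k R a • g}) :
      r • y ∈ Submodule.span k {z : M | ∃ a : R, ∃ g ∈ GM, z = AlgHom.id k R a • g} := by
    induction hy using Submodule.span_induction with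
    | mem w hw =>
      obtain ⟨a, g, hg, rfl⟩ := hw
      exact Submodule.subset_span ⟨r * a, g, hg, by simp [mul_smul]⟩
    | zero => rw [smul_zero]; exact zero_mem _
    | add w v _ _ hw hv => rw [smul_add]; exact add_mem hw hv
    | smul c w _ hw => rw [smul_comm]; exact Submodule.smul_mem _ _ hw

end Tensor

section TopFG

variable {k : Type u} [CommRing k] [IsNoetherianRing k] {R S T : Type u} [CommRing R] [CommRing S] [CommRing T]
  [Algebra k R] [Algebra k S] [Algebra k T] [Algebra.FiniteType k R] [Algebra.FiniteType k S]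
  {𝒜 : ℤ → Submodule k R} [GradedAlgebra 𝒜] {ℬ : ℤ → Submodule k S} [GradedAlgebra ℬ]
  {𝒯 : ℤ → Submodule k T} [GradedAlgebra 𝒯] {ψ : T →ₐ[k] R ⊗[k] S}
  {M N P : Type u} [AddCommGroup M] [Module R M] [Module k M] [IsScalarTower k R M] [Module.Finite R M]
  [AddCommGroup N] [Module S N] [Module k N] [IsScalarTower k S N] [Module.Finite S N]
  [AddCommGroup P] [Module T P] [Module k P] [IsScalarTower k T P]
  {σM σN σQ : Type u} [SetLike σM M] [AddSubgroupClass σM M] [SetLike σN N] [AddSubgroupClass σN N]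
  [SetLike σQ P] [AddSubgroupClass σQ P]
  {ℳ : ℤ → σM} [DirectSum.Decomposition ℳ] [SetLike.GradedSMul 𝒜 ℳ]
  {𝒩 : ℤ → σN} [DirectSum.Decomposition 𝒩] [SetLike.GradedSMul ℬ 𝒩]
  {𝒬 : ℤ → σQ} [DirectSum.Decomposition 𝒬] {φ : P →ₗ[k] M ⊗[k] N}

theorem isNoetherian_segre (hT : GrSeg.IsSegreRing 𝒜 ℬ 𝒯 ψ) (hP : GrSeg.IsSegreMod ψ ℳ 𝒩 𝒬 φ) :
    IsNoetherian T P := by
  have : Algebra.FiniteType k (R ⊗[k] S) := Algebra.FiniteType.trans (inferInstance : Algebra.FiniteType k R) inferInstance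
  haveI : IsNoetherianRing (R ⊗[k] S) := Algebra.FiniteType.isNoetherianRing k _
  obtain ⟨π0, hπ0⟩ := exists_dg 𝒜 ℬ 𝒜 ℬ
  obtain ⟨π, hπ⟩ := exists_dg 𝒜 ℬ ℳ 𝒩
  obtain ⟨GM, hGM⟩ := gen_of_finite (k := k) (R := R) (M := M)
  obtain ⟨GN, hGN⟩ := gen_of_finite (k := k) (R := S) (M := N)
  refine ⟨fun Q => Submodule.FG.of_restrictScalars (⊤ : Subalgebra k T) ?_⟩
  exact fg_submodule hP (AlgHom.id k (R ⊗[k] S)) ⊤ hπ0
    (fun c => let ⟨t, ht⟩ := exists_psi_dg hT hπ0 c; ⟨t, Algebra.mem_top, ht⟩) hπ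
    (hfin_of_gen (AlgHom.id k R) (AlgHom.id k S) _ (fun a b => ⟨a ⊗ₜ[k] b, rfl⟩) GM GN hGM hGN) _

end TopFG

end Groth.Agent.CAlg6.Seg
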