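import Groth.Agent.CAlg6.SegNorm
import Groth.Agent.E4O.DimField

/-!
Dimension of Segre products: the Segre product of polynomial rings has dimension `r + s - 1`, and
so does every Segre product of graded modules finite over polynomial rings and containing a
torsion-free bihomogeneous tensor.
-/

set_option autoImplicit false
universe u

open scoped TensorProduct

namespace Groth.Agent.CAlg6.Seg

section Poly

variable (k : Type u) [Field k] (r s : ℕ)

open MvPolynomial in
/-- the Segre subalgebra of `k[X_0..X_r, Y_0..Y_s]` -/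
noncomputable def segPoly : Subalgebra k (MvPolynomial (Fin (r + 1) ⊕ Fin (s + 1)) k) :=
  Algebra.adjoin k (Set.range fun ij : Fin (r + 1) × Fin (s + 1) =>
    (X (Sum.inl ij.1) * X (Sum.inr ij.2) : MvPolynomial (Fin (r + 1) ⊕ Fin (s + 1)) k))

open MvPolynomial in
theorem ringKrullDim_segPoly : ringKrullDim (segPoly k r s) = ((r + 1 + s : ℕ) : WithBot ℕ∞) := by
  classical
  let w : Fin (r + 1) × Fin (s + 1) → segPoly k r s := fun ij =>
    ⟨X (Sum.inl ij.1) * X (Sum.inr ij.2), Algebra.subset_adjoin ⟨ij, rfl⟩⟩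
  let z : Fin (r + 1) ⊕ Fin s → segPoly k r s := Sum.elim (fun i => w (i, 0)) (fun j => w (0, j.succ))
  let L := FractionRing (MvPolynomial (Fin (r + 1) ⊕ Fin s) k)
  let v : Fin (r + 1) ⊕ Fin s → L := fun o => algebraMap (MvPolynomial (Fin (r + 1) ⊕ Fin s) k) L (X o)
  let θ : segPoly k r s →ₐ[k] L := (aeval (Sum.elim (fun i => v (Sum.inl i))
    (Fin.cons 1 fun j => v (Sum.inr j) / v (Sum.inl 0)))).comp (segPoly k r s).val
  have hv0 : v (Sum.inl 0) ≠ 0 := by
    simp only [v, ne_eq, IsFractionRing.to_map_eq_zero_iff]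
    exact X_ne_zero _
  have hθ : ∀ o, θ (z o) = v o := by
    rintro (i | j)
    · simp [θ, z, w]
    · simp [θ, z, w, mul_div_cancel₀ _ hv0]
  have hind : AlgebraicIndependent k z := by
    rw [algebraicIndependent_iff_injective_aeval]
    have hcomp : θ.comp (aeval z) = IsScalarTower.toAlgHom k (MvPolynomial (Fin (r + 1) ⊕ Fin s) k) L := by
      refine MvPolynomial.algHom_ext fun o => ?_
      simp [hθ, v]
    have hinj : Function.Injective (θ.comp (aeval z)) := by
      rw [hcomp]
      exact IsFractionRing.injective (MvPolynomial (Fin (r + 1) ⊕ Fin s) k) L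
    exact (show Function.Injective (θ ∘ aeval z) from hinj).of_comp
  have hgen : Algebra.adjoin k (Set.range w) = ⊤ := by
    refine Subalgebra.map_injective (f := (segPoly k r s).val) Subtype.val_injective ?_
    rw [AlgHom.map_adjoin, Algebra.map_top, Subalgebra.range_val, ← Set.range_comp]
    rfl
  have htb : IsTranscendenceBasis k z := by
    rw [hind.isTranscendenceBasis_iff_isAlgebraic]
    refine ⟨fun a => ?_⟩
    have hle : Algebra.adjoin k (Set.range w) ≤
        (Subalgebra.algebraicClosure (Algebra.adjoin k (Set.range z)) (segPoly k r s)).restrictScalars k := by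
      refine Algebra.adjoin_le ?_
      rintro _ ⟨⟨i, j⟩, rfl⟩
      show IsAlgebraic (Algebra.adjoin k (Set.range z)) (w (i, j))
      have h1 : w (i, 0) ∈ Algebra.adjoin k (Set.range z) := Algebra.subset_adjoin ⟨Sum.inl i, rfl⟩
      have h00 : w (0, 0) ∈ Algebra.adjoin k (Set.range z) := Algebra.subset_adjoin ⟨Sum.inl 0, rfl⟩
      have h2 : w (0, j) ∈ Algebra.adjoin k (Set.range z) := by
        cases j using Fin.cases with
        | zero => exact h00
        | succ j => exact Algebra.subset_adjoin ⟨Sum.inr j, rfl⟩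
      refine ⟨Polynomial.C ⟨_, h00⟩ * Polynomial.X - Polynomial.C (⟨_, h1⟩ * ⟨_, h2⟩), fun h => ?_, ?_⟩
      · have hc := congrArg (fun p : Polynomial (Algebra.adjoin k (Set.range z)) => ((p.coeff 1 : segPoly k r s) :
          MvPolynomial (Fin (r + 1) ⊕ Fin (s + 1)) k)) h
        simp [w, Polynomial.coeff_C, X_ne_zero] at hc
      · simp only [map_sub, map_mul, Polynomial.aeval_C, Polynomial.aeval_X]
        apply Subtype.ext
        simp [w]
        ring
    exact hle (hgen ▸ Algebra.mem_top)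
  have : Algebra.FiniteType k (segPoly k r s) :=
    (segPoly k r s).fg_iff_finiteType.1 (Subalgebra.fg_def.2 ⟨_, Set.finite_range _, rfl⟩)
  rw [E4O.ringKrullDim_eq_trdeg k]
  have hcard := htb.lift_cardinalMk_eq_trdeg
  have : Cardinal.toNat (Algebra.trdeg k (segPoly k r s)) = r + 1 + s := by
    have := congrArg Cardinal.toNat hcard
    rw [Cardinal.toNat_lift, Cardinal.toNat_lift, Cardinal.mk_fintype, Cardinal.toNat_natCast, Fintype.card_sum,
      Fintype.card_fin, Fintype.card_fin] at this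
    exact this.symm
  rw [this]

end Poly

section Main

variable {k : Type u} [Field k] {R S T : Type u} [CommRing R] [CommRing S] [CommRing T]
  [Algebra k R] [Algebra k S] [Algebra k T]
  {𝒜 : ℤ → Submodule k R} [GradedAlgebra 𝒜] {ℬ : ℤ → Submodule k S} [GradedAlgebra ℬ]
  {𝒯 : ℤ → Submodule k T} [GradedAlgebra 𝒯] {ψ : T →ₐ[k] R ⊗[k] S}
  {M N P : Type u} [AddCommGroup M] [Module R M] [Module k M] [IsScalarTower k R M]
  [AddCommGroup N] [Module S N] [Module k N] [IsScalarTower k S N]
  [AddCommGroup P] [Module T P] [Module k P] [IsScalarTower k T P]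
  {σM σN σQ : Type u} [SetLike σM M] [AddSubgroupClass σM M] [SetLike σN N] [AddSubgroupClass σN N]
  [SetLike σQ P] [AddSubgroupClass σQ P]
  {ℳ : ℤ → σM} [DirectSum.Decomposition ℳ] [SetLike.GradedSMul 𝒜 ℳ]
  {𝒩 : ℤ → σN} [DirectSum.Decomposition 𝒩] [SetLike.GradedSMul ℬ 𝒩]
  {𝒬 : ℤ → σQ} [DirectSum.Decomposition 𝒬] {φ : P →ₗ[k] M ⊗[k] N}

theorem aeval_mem_span_prod {l : ℕ} (x : Fin l → R) (p : MvPolynomial (Fin l) k) :
    MvPolynomial.aeval x p ∈ Submodule.span k (Set.range fun L : List (Fin l) => (L.map x).prod) := by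
  induction p using MvPolynomial.induction_on with
  | C c =>
    rw [MvPolynomial.aeval_C, Algebra.algebraMap_eq_smul_one]
    exact Submodule.smul_mem _ _ (Submodule.subset_span ⟨[], rfl⟩)
  | add p q hp hq => rw [map_add]; exact add_mem hp hq
  | mul_X p i hp =>
    rw [map_mul, MvPolynomial.aeval_X]
    generalize MvPolynomial.aeval x p = q at hp ⊢
    induction hp using Submodule.span_induction with
    | zero => rw [zero_mul]; exact zero_mem _
    | add a b _ _ ha hb => rw [add_mul]; exact add_mem ha hb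
    | smul c a _ ha => rw [smul_mul_assoc]; exact Submodule.smul_mem _ _ ha
    | mem a ha =>
      obtain ⟨L, rfl⟩ := ha
      exact Submodule.subset_span ⟨L ++ [i], by simp⟩

theorem prod_mem_deg {l D : ℕ} {x : Fin l → R} (hx : ∀ i, x i ∈ 𝒜 (D : ℤ)) (L : List (Fin l)) :
    (L.map x).prod ∈ 𝒜 (((D * L.length : ℕ)) : ℤ) := by
  induction L with
  | nil => simpa using SetLike.GradedOne.one_mem
  | cons i L ih =>
    have := SetLike.GradedMul.mul_mem (hx i) ih
    rw [List.map_cons, List.prod_cons]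
    convert this using 2
    simp [mul_add, add_comm]

theorem supportDim_segre (hT : GrSeg.IsSegreRing 𝒜 ℬ 𝒯 ψ) (hP : GrSeg.IsSegreMod ψ ℳ 𝒩 𝒬 φ)
    {r s : ℕ} (x : Fin (r + 1) → R) (y : Fin (s + 1) → S) {D : ℕ} (hD : 0 < D)
    (hx : ∀ i, x i ∈ 𝒜 (D : ℤ)) (hy : ∀ j, y j ∈ ℬ (D : ℤ))
    (GM : Finset M) (hGM : Submodule.span k
      {z : M | ∃ a : MvPolynomial (Fin (r + 1)) k, ∃ g ∈ GM, z = MvPolynomial.aeval x a • g} = ⊤)
    (GN : Finset N) (hGN : Submodule.span k
      {z : N | ∃ a : MvPolynomial (Fin (s + 1)) k, ∃ g ∈ GN, z = MvPolynomial.aeval y a • g} = ⊤)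
    {n : ℤ} {m : M} (hm : m ∈ ℳ n) {m' : N} (hm' : m' ∈ 𝒩 n)
    (hmx : ∀ p : MvPolynomial (Fin (r + 1)) k, MvPolynomial.aeval x p • m = 0 → p = 0)
    (hmy : ∀ p : MvPolynomial (Fin (s + 1)) k, MvPolynomial.aeval y p • m' = 0 → p = 0) :
    Module.supportDim T P = ((r + 1 + s : ℕ) : WithBot ℕ∞) := by
  classical
  choose t htmem ht using fun ij : Fin (r + 1) × Fin (s + 1) => exists_psi_eq_tmul hT (hx ij.1) (hy ij.2)
  let T₀ : Subalgebra k T := Algebra.adjoin k (Set.range t)
  let e : (MvPolynomial (Fin (r + 1)) k ⊗[k] MvPolynomial (Fin (s + 1)) k) →ₐ[k] R ⊗[k] S := Algebra.TensorProduct.map (MvPolynomial.aeval x) (MvPolynomial.aeval y)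
  let A : Subalgebra k (MvPolynomial (Fin (r + 1)) k ⊗[k] MvPolynomial (Fin (s + 1)) k) := Algebra.adjoin k (Set.range fun ij : Fin (r + 1) × Fin (s + 1) =>
    MvPolynomial.X ij.1 ⊗ₜ[k] MvPolynomial.X ij.2)
  have hmap : T₀.map ψ = A.map e := by
    rw [AlgHom.map_adjoin, AlgHom.map_adjoin, ← Set.range_comp, ← Set.range_comp]
    exact congrArg (fun f : Fin (r + 1) × Fin (s + 1) → R ⊗[k] S => Algebra.adjoin k (Set.range f)) (funext fun ij => by simp [e, ht])
  obtain ⟨π0, hπ0⟩ := exists_dg 𝒜 ℬ 𝒜 ℬ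
  obtain ⟨π, hπ⟩ := exists_dg 𝒜 ℬ ℳ 𝒩
  have hprod : ∀ (L1 : List (Fin (r + 1))) (L2 : List (Fin (s + 1))), L1.length = L2.length →
      (L1.map x).prod ⊗ₜ[k] (L2.map y).prod ∈ T₀.map ψ := by
    intro L1
    induction L1 with
    | nil =>
      intro L2 h
      rw [List.length_nil] at h
      rw [List.length_eq_zero_iff.1 h.symm]
      exact one_mem _
    | cons i L1 ih =>
      intro L2 h
      cases L2 with
      | nil => simp at h
      | cons j L2 =>
        rw [List.map_cons, List.map_cons, List.prod_cons, List.prod_cons, ← Algebra.TensorProduct.tmul_mul_tmul,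
          ← ht (i, j)]
        exact mul_mem ⟨_, Algebra.subset_adjoin ⟨(i, j), rfl⟩, rfl⟩ (ih L2 (by simpa using h))
  have he : ∀ c : (MvPolynomial (Fin (r + 1)) k ⊗[k] MvPolynomial (Fin (s + 1)) k), ∃ q ∈ T₀, ψ q = π0 (e c) := by
    intro c
    suffices π0 (e c) ∈ T₀.map ψ from this
    induction c using TensorProduct.induction_on with
    | zero => simp [zero_mem]
    | add a b ha hb => rw [map_add, map_add]; exact add_mem ha hb
    | tmul a b =>
      have h : e (a ⊗ₜ[k] b) ∈ Submodule.map₂ (TensorProduct.mk k R S)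
          (Submodule.span k (Set.range fun L : List (Fin (r + 1)) => (L.map x).prod))
          (Submodule.span k (Set.range fun L : List (Fin (s + 1)) => (L.map y).prod)) :=
        Submodule.apply_mem_map₂ _ (aeval_mem_span_prod x a) (aeval_mem_span_prod y b)
      rw [Submodule.map₂_span_span] at h
      generalize e (a ⊗ₜ[k] b) = u at h ⊢
      induction h using Submodule.span_induction with
      | zero => rw [map_zero]; exact zero_mem _
      | add a b _ _ ha hb => rw [map_add]; exact add_mem ha hb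
      | smul c a _ ha => rw [map_smul]; exact Subalgebra.smul_mem _ ha c
      | mem v hv =>
        obtain ⟨_, ⟨L1, rfl⟩, _, ⟨L2, rfl⟩, rfl⟩ := hv
        simp only [TensorProduct.mk_apply]
        rcases eq_or_ne L1.length L2.length with hL | hL
        · rw [hπ0.same _ _ _ (prod_mem_deg hx L1) (by rw [hL]; exact prod_mem_deg hy L2)]
          exact hprod L1 L2 hL
        · rw [hπ0.ne _ _ _ _ (prod_mem_deg hx L1) (prod_mem_deg hy L2)
            (fun h => hL (Nat.eq_of_mul_eq_mul_left hD (by exact_mod_cast h)))]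
          exact zero_mem _
  haveI : Algebra.FiniteType k (MvPolynomial (Fin (r + 1)) k ⊗[k] MvPolynomial (Fin (s + 1)) k) :=
    Algebra.FiniteType.trans (inferInstance : Algebra.FiniteType k (MvPolynomial (Fin (r + 1)) k)) inferInstance
  haveI : IsNoetherianRing (MvPolynomial (Fin (r + 1)) k ⊗[k] MvPolynomial (Fin (s + 1)) k) := Algebra.FiniteType.isNoetherianRing k _
  have hfinP : Module.Finite T₀ P := ⟨fg_submodule hP e T₀ hπ0 he hπ
    (hfin_of_gen (MvPolynomial.aeval x) (MvPolynomial.aeval y) e (fun a b => ⟨a ⊗ₜ[k] b, rfl⟩) GM GN hGM hGN) ⊤⟩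
  -- the injective orbit map of `m ⊗ m'`
  let Φ : (MvPolynomial (Fin (r + 1)) k ⊗[k] MvPolynomial (Fin (s + 1)) k) →ₗ[k] M ⊗[k] N := TensorProduct.map
    ((LinearMap.toSpanSingleton R M m).restrictScalars k ∘ₗ (MvPolynomial.aeval x).toLinearMap)
    ((LinearMap.toSpanSingleton S N m').restrictScalars k ∘ₗ (MvPolynomial.aeval y).toLinearMap)
  have hΦinj : Function.Injective Φ := by
    refine TensorProduct.map_injective_of_flat_flat _ _ ?_ ?_
    · rw [← LinearMap.ker_eq_bot, LinearMap.ker_eq_bot']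
      exact fun p hp => hmx p hp
    · rw [← LinearMap.ker_eq_bot, LinearMap.ker_eq_bot']
      exact fun p hp => hmy p hp
  have hΦ : ∀ c : (MvPolynomial (Fin (r + 1)) k ⊗[k] MvPolynomial (Fin (s + 1)) k), GrSeg.act k R S M N (e c) (m ⊗ₜ[k] m') = Φ c := by
    intro c
    induction c using TensorProduct.induction_on with
    | zero => simp
    | add a b ha hb => simp [map_add, LinearMap.add_apply, ha, hb]
    | tmul a b => simp [e, Φ, GrSeg.act_tmul]
  have heinj : Function.Injective e := (injective_iff_map_eq_zero e).2 fun c hc =>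
    hΦinj (by rw [← hΦ, hc, map_zero, LinearMap.zero_apply, map_zero])
  obtain ⟨p, -, hp⟩ := exists_phi_eq hP (tmul_mem_piece ℳ 𝒩 hm hm' (k := k))
  have hann : Module.annihilator T₀ P = ⊥ := by
    rw [eq_bot_iff]
    intro q hq
    have h1 : φ ((q : T) • p) = 0 := by
      rw [show (q : T) • p = (q : T₀) • p from rfl, Module.mem_annihilator.1 hq p, map_zero]
    rw [hP.map_smul, hp] at h1
    obtain ⟨c, -, hc⟩ : ψ (q : T) ∈ A.map e := hmap ▸ ⟨_, q.2, rfl⟩
    have hc' : e c = ψ q := hc
    rw [← hc', hΦ] at h1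
    have : c = 0 := hΦinj (by rw [h1, map_zero])
    rw [Ideal.mem_bot]
    refine Subtype.ext (hT.1 ?_)
    rw [← hc', this, map_zero]
    simp
  rw [← EGA4Alg4.supportDim_eq_of_finite_restrictScalars T₀ T P,
    Module.supportDim_eq_ringKrullDim_quotient_annihilator,
    ringKrullDim_eq_of_ringEquiv ((Ideal.quotEquivOfEq hann).trans (RingEquiv.quotientBot T₀))]
  let ε : (MvPolynomial (Fin (r + 1)) k ⊗[k] MvPolynomial (Fin (s + 1)) k) ≃ₐ[k] MvPolynomial (Fin (r + 1) ⊕ Fin (s + 1)) k := MvPolynomial.tensorEquivSum k _ _ k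
  have hA : A.map ε.toAlgHom = segPoly k r s := by
    rw [AlgHom.map_adjoin, segPoly, ← Set.range_comp]
    exact congrArg (fun f : Fin (r + 1) × Fin (s + 1) → MvPolynomial (Fin (r + 1) ⊕ Fin (s + 1)) k => Algebra.adjoin k (Set.range f)) (funext fun ij => by simp [ε])
  rw [ringKrullDim_eq_of_ringEquiv
    (((T₀.equivMapOfInjective ψ hT.1).trans (Subalgebra.equivOfEq _ _ hmap)).trans
      ((A.equivMapOfInjective e heinj).symm.trans
        ((A.equivMapOfInjective ε.toAlgHom ε.injective).trans (Subalgebra.equivOfEq _ _ hA)))).toRingEquiv]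
  exact ringKrullDim_segPoly k r s

end Main

end Groth.Agent.CAlg6.Seg
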