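import Groth.Agent.CAlg6.SegNorm

/-! Torsion free homogeneous elements in all large degrees of a faithful graded module. -/

set_option autoImplicit false
universe u

namespace Groth.Agent.CAlg6.Seg

variable {k : Type u} [Field k] {R : Type u} [CommRing R] [Algebra k R]
  {𝒜 : ℤ → Submodule k R} [GradedAlgebra 𝒜]
  {M : Type u} [AddCommGroup M] [Module R M] [Module k M] [IsScalarTower k R M]
  {σM : Type u} [SetLike σM M] [AddSubgroupClass σM M]
  {ℳ : ℤ → σM} [DirectSum.Decomposition ℳ] [SetLike.GradedSMul 𝒜 ℳ]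

include ℳ in
theorem annihilator_homogeneous : (Module.annihilator R M).IsHomogeneous 𝒜 := by
  intro i a ha
  rw [Module.mem_annihilator] at ha ⊢
  intro m
  induction m using DirectSum.Decomposition.inductionOn ℳ with
  | zero => exact smul_zero _
  | add u v hu hv => rw [smul_add, hu, hv, add_zero]
  | @homogeneous j m =>
    -- the `i + j` component of `a • m`
    have key : ∀ b : R, prj 𝒜 ℳ (i + j) (b • (m : M)) = (DirectSum.decompose 𝒜 b i : R) • (m : M) := by
      intro b
      induction b using DirectSum.Decomposition.inductionOn 𝒜 with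
      | zero => simp
      | add u v hu hv => rw [add_smul, map_add, hu, hv, DirectSum.decompose_add]; simp [add_smul]
      | @homogeneous l b =>
        rw [prj_smul b.2]
        rcases eq_or_ne l i with rfl | hl
        · rw [DirectSum.decompose_of_mem_same 𝒜 b.2, show l + j - l = j by ring, prj_of_mem 𝒜 ℳ m.2]
        · rw [DirectSum.decompose_of_mem_ne 𝒜 b.2 hl, zero_smul, prj_of_ne 𝒜 ℳ m.2 (by omega), smul_zero]
    rw [← key a, ha, map_zero]

theorem exists_torsionfree [Module.Finite R M]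
    (hstd : Ideal.span (⋃ n ∈ Set.Ioi (0 : ℤ), (𝒜 n : Set R)) = Ideal.span ((𝒜 1 : Submodule k R) : Set R))
    {r : ℕ} (x : Fin (r + 1) → R) {D : ℕ} (hD : 0 < D) (hx : ∀ i, x i ∈ 𝒜 (D : ℤ))
    (hinj : ∀ p : MvPolynomial (Fin (r + 1)) k, MvPolynomial.aeval x p ∈ Module.annihilator R M → p = 0) :
    ∃ e : ℤ, ∀ j, e ≤ j → ∃ m ∈ ℳ j, ∀ p : MvPolynomial (Fin (r + 1)) k, MvPolynomial.aeval x p • m = 0 → p = 0 := by
  classical
  let Tm : Submodule R M :=
    { carrier := {m | ∃ p : MvPolynomial (Fin (r + 1)) k, p ≠ 0 ∧ MvPolynomial.aeval x p • m = 0}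
      zero_mem' := ⟨1, one_ne_zero, smul_zero _⟩
      add_mem' := by
        rintro a b ⟨p, hp, hpa⟩ ⟨q, hq, hqb⟩
        refine ⟨p * q, mul_ne_zero hp hq, ?_⟩
        rw [map_mul, smul_add, mul_smul, mul_smul, hqb, smul_zero, add_zero,
          smul_comm (MvPolynomial.aeval x p), hpa, smul_zero]
      smul_mem' := by
        rintro c a ⟨p, hp, hpa⟩
        exact ⟨p, hp, by rw [smul_comm, hpa, smul_zero]⟩ }
  have hTm : ∀ m, m ∈ Tm ↔ ∃ p : MvPolynomial (Fin (r + 1)) k, p ≠ 0 ∧ MvPolynomial.aeval x p • m = 0 :=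
    fun m => Iff.rfl
  obtain ⟨G, hG⟩ := Module.finite_def.1 (inferInstance : Module.Finite R M)
  have hne : Tm ≠ ⊤ := by
    intro htop
    choose p hp hpm using fun m : M => (hTm m).1 (htop ▸ trivial)
    refine (Finset.prod_ne_zero_iff.2 fun g _ => hp g : ∏ g ∈ G, p g ≠ 0) (hinj _ ?_)
    rw [Module.mem_annihilator]
    intro m
    have hm : m ∈ Submodule.span R (G : Set M) := hG ▸ trivial
    induction hm using Submodule.span_induction with
    | zero => exact smul_zero _
    | add u v _ _ hu hv => rw [smul_add, hu, hv, add_zero]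
    | smul c u _ hu => rw [smul_comm, hu, smul_zero]
    | mem g hg => rw [← Finset.prod_erase_mul G p hg, map_mul, mul_smul, hpm, smul_zero]
  obtain ⟨z, hz, i, g, hg, hzg⟩ : ∃ z ∈ 𝒜 1, ∃ (i : ℤ) (g : M), g ∈ ℳ i ∧ ∀ l : ℕ, z ^ l • g ∉ Tm := by
    by_contra hcon
    have hnil : ∀ z ∈ 𝒜 1, z ∈ (Tm.colon (Set.univ : Set M)).radical := by
      intro z hz
      have hall : ∀ m : M, ∃ l : ℕ, z ^ l • m ∈ Tm := by
        intro m
        induction m using DirectSum.Decomposition.inductionOn ℳ with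
        | zero => exact ⟨0, by simp⟩
        | @homogeneous i m =>
          by_contra h
          exact hcon ⟨z, hz, i, m, m.2, fun l hl => h ⟨l, hl⟩⟩
        | add u v hu hv =>
          obtain ⟨a, ha⟩ := hu
          obtain ⟨b, hb⟩ := hv
          refine ⟨a + b, ?_⟩
          rw [smul_add]
          refine add_mem ?_ ?_
          · rw [pow_add, mul_comm, mul_smul]; exact Tm.smul_mem _ ha
          · rw [pow_add, mul_smul]; exact Tm.smul_mem _ hb
      choose l hl using hall
      refine ⟨G.sup l, Submodule.mem_colon.2 fun m _ => ?_⟩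
      have hm : m ∈ Submodule.span R (G : Set M) := hG ▸ trivial
      induction hm using Submodule.span_induction with
      | zero => rw [smul_zero]; exact zero_mem _
      | add u v _ _ hu hv => rw [smul_add]; exact add_mem (hu trivial) (hv trivial)
      | smul c u _ hu => rw [smul_comm]; exact Tm.smul_mem c (hu trivial)
      | mem g hg =>
        obtain ⟨c, hc⟩ := Nat.exists_eq_add_of_le (Finset.le_sup (f := l) hg)
        rw [hc, pow_add, mul_comm, mul_smul]
        exact Tm.smul_mem _ (hl g)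
    obtain ⟨L, hL⟩ : x 0 ∈ (Tm.colon (Set.univ : Set M)).radical := by
      have h1 : x 0 ∈ Ideal.span ((𝒜 1 : Submodule k R) : Set R) :=
        hstd ▸ Ideal.subset_span (Set.mem_biUnion (Set.mem_Ioi.2 (by exact_mod_cast hD)) (hx 0))
      exact Ideal.span_le.2 hnil h1
    refine hne (eq_top_iff.2 fun m _ => ?_)
    obtain ⟨p, hp, hpm⟩ := (hTm _).1 (Submodule.mem_colon.1 hL m (Set.mem_univ m))
    exact ⟨p * MvPolynomial.X 0 ^ L, mul_ne_zero hp (pow_ne_zero _ (MvPolynomial.X_ne_zero _)),
      by rw [map_mul, map_pow, MvPolynomial.aeval_X, mul_smul, hpm]⟩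
  refine ⟨i, fun j hj => ⟨z ^ (j - i).toNat • g, ?_, fun p hp => by_contra fun hp0 => hzg _ ⟨p, hp0, hp⟩⟩⟩
  have h := SetLike.GradedSMul.smul_mem (SetLike.pow_mem_graded (j - i).toNat hz) hg
  rwa [show (j - i).toNat • (1 : ℤ) +ᵥ i = j by simp [nsmul_eq_mul]; omega] at h

end Groth.Agent.CAlg6.Seg
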