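import Groth.Agent.CAlg6.SegCore
import Groth.Agent.GrMod19.Positive
import Groth.Agent.EGA4Alg4.IntegralDim

/-!
Homogeneous Noether normalization of a connected graded algebra over a field, relative to a
homogeneous ideal, with all the parameters in one degree.
-/

set_option autoImplicit false
universe u

open scoped TensorProduct

namespace Groth.Agent.CAlg6.Seg

variable {k : Type u} [Field k] {R : Type u} [CommRing R] [Algebra k R]
  (𝒜 : ℤ → Submodule k R) [GradedAlgebra 𝒜]

/-- the irrelevant ideal -/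
def plus : Ideal R := Ideal.span (⋃ n ∈ Set.Ioi (0 : ℤ), (𝒜 n : Set R))

theorem plus_homogeneous : (plus 𝒜).IsHomogeneous 𝒜 :=
  Ideal.homogeneous_span _ _ fun x hx => by
    obtain ⟨n, -, hx⟩ := Set.mem_iUnion₂.1 hx
    exact ⟨n, hx⟩

theorem isHomogeneous_of_mem_minimalPrimes {I q : Ideal R} (hI : I.IsHomogeneous 𝒜)
    (hq : q ∈ I.minimalPrimes) : q.IsHomogeneous 𝒜 := by
  have h1 : (q.homogeneousCore 𝒜).toIdeal.IsPrime := Ideal.IsPrime.homogeneousCore hq.1.1
  have h2 : I ≤ (q.homogeneousCore 𝒜).toIdeal := by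
    conv_lhs => rw [← hI.toIdeal_homogeneousCore_eq_self]
    exact fun x hx => Ideal.homogeneousCore_mono 𝒜 hq.1.2 hx
  rw [Ideal.IsHomogeneous.iff_eq]
  exact le_antisymm (Ideal.toIdeal_homogeneousCore_le 𝒜 q) (hq.2 ⟨h1, h2⟩ (Ideal.toIdeal_homogeneousCore_le 𝒜 q))

variable {𝒜} (hpos : ∀ n : ℤ, n < 0 → 𝒜 n = ⊥) (h0 : 𝒜 0 = Submodule.span k {(1 : R)})

include hpos in
theorem nonnegGr : GrMod19.NonnegGr 𝒜 := fun n hn x hx => (Submodule.eq_bot_iff _).1 (hpos n hn) x hx

theorem mem_plus {x : R} (h : prj 𝒜 𝒜 0 x = 0) (hpos : ∀ n : ℤ, n < 0 → 𝒜 n = ⊥) : x ∈ plus 𝒜 := by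
  exact (GrMod19.mem_plus_iff (nonnegGr hpos) (a := ⟨plus 𝒜, plus_homogeneous 𝒜⟩) rfl x).2 h

include hpos in
theorem plus_ne_top [Nontrivial R] : plus 𝒜 ≠ ⊤ := by
  intro h
  have h1 : (1 : R) ∈ plus 𝒜 := h ▸ trivial
  have h2 := (GrMod19.mem_plus_iff (nonnegGr hpos) (a := ⟨plus 𝒜, plus_homogeneous 𝒜⟩) rfl 1).1 h1
  rw [GrMod19.cmp_of_mem 𝒜 SetLike.GradedOne.one_mem] at h2
  exact one_ne_zero h2

include hpos h0 in
theorem exists_algebraMap_sub_mem (x : R) : ∃ c : k, x - algebraMap k R c ∈ plus 𝒜 := by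
  have h := prj_mem 𝒜 𝒜 0 x
  rw [h0, Submodule.mem_span_singleton] at h
  obtain ⟨c, hc⟩ := h
  refine ⟨c, mem_plus ?_ hpos⟩
  rw [map_sub, prj_of_mem 𝒜 𝒜 (SetLike.algebraMap_mem_graded 𝒜 c), ← hc, Algebra.algebraMap_eq_smul_one,
    sub_self]

include hpos h0 in
theorem plus_isMaximal [Nontrivial R] : (plus 𝒜).IsMaximal := by
  refine Ideal.isMaximal_def.2 ⟨plus_ne_top hpos, fun J hJ => ?_⟩
  obtain ⟨x, hxJ, hx⟩ := SetLike.exists_of_lt hJ
  obtain ⟨c, hc⟩ := exists_algebraMap_sub_mem hpos h0 x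
  have hc0 : c ≠ 0 := by
    rintro rfl
    simp only [map_zero, sub_zero] at hc
    exact hx hc
  refine Ideal.eq_top_of_isUnit_mem _ ?_ ((isUnit_iff_ne_zero.2 hc0).map (algebraMap k R))
  simpa using J.sub_mem hxJ (hJ.le hc)

include hpos h0 in
theorem le_plus {I : Ideal R} (hI : I.IsHomogeneous 𝒜) (hne : I ≠ ⊤) : I ≤ plus 𝒜 := by
  intro x hx
  refine mem_plus ?_ hpos
  have hmem : prj 𝒜 𝒜 0 x ∈ I := hI 0 hx
  have h := prj_mem 𝒜 𝒜 0 x
  rw [h0, Submodule.mem_span_singleton] at h
  obtain ⟨c, hc⟩ := h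
  by_contra hne0
  have hc0 : c ≠ 0 := by
    rintro rfl
    exact hne0 (by rw [← hc, zero_smul])
  rw [← hc, ← Algebra.algebraMap_eq_smul_one] at hmem
  exact hne (Ideal.eq_top_of_isUnit_mem _ hmem ((isUnit_iff_ne_zero.2 hc0).map (algebraMap k R)))

include hpos h0 in
/-- homogeneous elements cutting the dimension of `R/J` down to the irrelevant ideal -/
theorem exists_seq [IsNoetherianRing R] (m : ℕ) : ∀ J : Ideal R, J.IsHomogeneous 𝒜 → ringKrullDim (R ⧸ J) ≤ m →
    ∃ (l : ℕ) (x : Fin l → R) (d : Fin l → ℕ), l ≤ m ∧ (∀ i, 0 < d i ∧ x i ∈ 𝒜 (d i)) ∧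
      ∀ q : Ideal R, q.IsPrime → J ⊔ Ideal.span (Set.range x) ≤ q → plus 𝒜 ≤ q := by
  induction m with
  | zero =>
    intro J hJ hdim
    refine ⟨0, Fin.elim0, Fin.elim0, le_rfl, fun i => i.elim0, fun q hq hle => ?_⟩
    have : Nontrivial R := ⟨⟨0, 1, fun h => hq.ne_top ((Ideal.eq_top_iff_one _).2 (h ▸ zero_mem q))⟩⟩
    obtain ⟨p, hp, hpq⟩ := Ideal.exists_minimalPrimes_le (le_sup_left.trans hle)
    refine le_trans ?_ hpq
    have hpp : p ≤ plus 𝒜 := le_plus hpos h0 (isHomogeneous_of_mem_minimalPrimes 𝒜 hJ hp) hp.1.1.ne_top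
    by_contra hnot
    have hlt : p < plus 𝒜 := lt_of_le_of_ne hpp fun h => hnot h.ge
    let a : PrimeSpectrum.zeroLocus (R := R) J := ⟨⟨p, hp.1.1⟩, hp.1.2⟩
    let b : PrimeSpectrum.zeroLocus (R := R) J :=
      ⟨⟨plus 𝒜, (plus_isMaximal hpos h0).isPrime⟩, hp.1.2.trans hpp⟩
    let s : LTSeries (PrimeSpectrum.zeroLocus (R := R) J) :=
      (RelSeries.singleton _ b).cons a (show a < b from hlt)
    have h := (Order.LTSeries.length_le_krullDim s).trans ((ringKrullDim_quotient J).symm.le.trans hdim)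
    rw [RelSeries.cons_length, RelSeries.singleton_length] at h
    norm_cast at h
  | succ m ih =>
    intro J hJ hdim
    classical
    have hfin : {p ∈ J.minimalPrimes | ¬ plus 𝒜 ≤ p}.Finite :=
      J.finite_minimalPrimes_of_isNoetherianRing.subset fun p hp => hp.1
    obtain ⟨n, x, hn, hx, hxs⟩ := GrMod19.exists_homog_avoid (⟨plus 𝒜, plus_homogeneous 𝒜⟩ : HomogeneousIdeal 𝒜)
      rfl _ hfin.toFinset rfl fun P hP => ⟨(hfin.mem_toFinset.1 hP).1.1.1, (hfin.mem_toFinset.1 hP).2⟩
    have hJx : (J ⊔ Ideal.span {x}).IsHomogeneous 𝒜 :=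
      hJ.sup (Ideal.homogeneous_span _ _ fun y hy => ⟨n, Set.mem_singleton_iff.1 hy ▸ hx⟩)
    have hdim' : ringKrullDim (R ⧸ (J ⊔ Ideal.span {x})) ≤ m := by
      rw [ringKrullDim_quotient]
      refine iSup_le fun l => ?_
      obtain ⟨p, hp, hpq⟩ := Ideal.exists_minimalPrimes_le
        (le_sup_left.trans (show J ⊔ Ideal.span {x} ≤ l.head.1.asIdeal from l.head.2))
      by_cases hplus : plus 𝒜 ≤ p
      · have hq0 : l.head.1.asIdeal = plus 𝒜 := by
          have : Nontrivial R :=
            ⟨⟨0, 1, fun h => hp.1.1.ne_top ((Ideal.eq_top_iff_one _).2 (h ▸ zero_mem p))⟩⟩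
          exact ((plus_isMaximal hpos h0).eq_of_le l.head.1.isPrime.ne_top (hplus.trans hpq)).symm
        have hl : l.length = 0 := by
          by_contra hl
          have hlt : l.head < l.last := by
            apply LTSeries.strictMono
            exact Fin.lt_def.2 (by simpa using Nat.pos_of_ne_zero hl)
          have : Nontrivial R :=
            ⟨⟨0, 1, fun h => hp.1.1.ne_top ((Ideal.eq_top_iff_one _).2 (h ▸ zero_mem p))⟩⟩
          have hlt' : l.head.1.asIdeal < l.last.1.asIdeal := hlt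
          rw [hq0] at hlt'
          exact l.last.1.isPrime.ne_top ((plus_isMaximal hpos h0).out.2 _ hlt')
        rw [hl]
        exact_mod_cast Nat.zero_le m
      · have hxp : x ∉ p := hxs p (hfin.mem_toFinset.2 ⟨hp, hplus⟩)
        have hlt : p < l.head.1.asIdeal := lt_of_le_of_ne hpq fun h =>
          hxp (h ▸ (le_sup_right.trans (show J ⊔ Ideal.span {x} ≤ l.head.1.asIdeal from l.head.2))
            (Ideal.mem_span_singleton_self x))
        let a : PrimeSpectrum.zeroLocus (R := R) J := ⟨⟨p, hp.1.1⟩, hp.1.2⟩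
        let f : PrimeSpectrum.zeroLocus (R := R) (J ⊔ Ideal.span {x} : Ideal R) →
            PrimeSpectrum.zeroLocus (R := R) J := fun q => ⟨q.1, le_sup_left.trans (show J ⊔ Ideal.span {x} ≤ q.1.asIdeal from q.2)⟩
        let s : LTSeries (PrimeSpectrum.zeroLocus (R := R) J) :=
          (l.map f (fun _ _ h => h)).cons a (show a < (l.map f (fun _ _ h => h)).head from hlt)
        have h := (Order.LTSeries.length_le_krullDim s).trans ((ringKrullDim_quotient J).symm.le.trans hdim)
        rw [RelSeries.cons_length] at h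
        have h' : (l.map f (fun _ _ h => h)).length + 1 ≤ m + 1 := by exact_mod_cast h
        exact_mod_cast Nat.le_of_succ_le_succ h'
    obtain ⟨l, y, d, hl, hy, hq⟩ := ih _ hJx hdim'
    refine ⟨l + 1, Fin.cons x y, Fin.cons n.toNat d, by omega, fun i => ?_, fun q hqp hle => hq q hqp ?_⟩
    · cases i using Fin.cases with
      | zero => exact ⟨by simp; omega, by simpa [Int.toNat_of_nonneg hn.le] using hx⟩
      | succ i => simpa using hy i
    · rw [Fin.range_cons, Ideal.span_insert] at hle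
      exact le_trans (le_of_eq (sup_assoc _ _ _)) hle

section Gen

variable {M : Type u} [AddCommGroup M] [Module R M] [Module k M] [IsScalarTower k R M]
  {σM : Type u} [SetLike σM M] [AddSubgroupClass σM M]
  {ℳ : ℤ → σM} [DirectSum.Decomposition ℳ] [SetLike.GradedSMul 𝒜 ℳ]

theorem prj_smul {d n : ℤ} {a : R} (ha : a ∈ 𝒜 d) (m : M) :
    prj 𝒜 ℳ n (a • m) = a • prj 𝒜 ℳ (n - d) m := by
  induction m using DirectSum.Decomposition.inductionOn ℳ with
  | zero => simp
  | add x y hx hy => simp only [smul_add, map_add, hx, hy]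
  | @homogeneous i m =>
    have h : a • (m : M) ∈ ℳ (d + i) := SetLike.GradedSMul.smul_mem ha m.2
    rcases eq_or_ne (d + i) n with rfl | hne
    · rw [prj_of_mem 𝒜 ℳ h, prj_of_mem 𝒜 ℳ (by simpa using m.2)]
    · rw [prj_of_ne 𝒜 ℳ h hne, prj_of_ne 𝒜 ℳ m.2 (by omega), smul_zero]

include hpos in
theorem exists_bound [Module.Finite R M] : ∃ B : ℤ, ∀ n < B, ∀ z ∈ ℳ n, z = 0 := by
  classical
  obtain ⟨G, hG⟩ := Module.finite_def.1 (inferInstance : Module.Finite R M)
  obtain ⟨B, hB⟩ := (G.biUnion fun g => (DirectSum.decompose ℳ g).support).bddBelow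
  refine ⟨B, fun n hn z hz => ?_⟩
  rw [← prj_of_mem 𝒜 ℳ hz]
  have key : ∀ y ∈ Submodule.span R (G : Set M), ∀ i < B, prj 𝒜 ℳ i y = 0 := by
    intro y hy
    induction hy using Submodule.span_induction with
    | zero => intros; simp
    | add u v _ _ hu hv => intro i hi; rw [map_add, hu i hi, hv i hi, add_zero]
    | mem g hg =>
      intro i hi
      by_contra hne
      have : i ∈ (DirectSum.decompose ℳ g).support := by
        rw [DFinsupp.mem_support_toFun]
        exact fun h => hne (show ((DirectSum.decompose ℳ g i : ℳ i) : M) = 0 by rw [h]; rfl)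
      exact absurd (hB (Finset.mem_biUnion.2 ⟨g, hg, this⟩)) (not_le.2 hi)
    | smul r u _ hu =>
      induction r using DirectSum.Decomposition.inductionOn 𝒜 with
      | zero => intros; simp
      | add a b ha hb => intro i hi; rw [add_smul, map_add, ha i hi, hb i hi, add_zero]
      | @homogeneous j a =>
        intro i hi
        rw [prj_smul a.2]
        rcases lt_or_ge j 0 with hj | hj
        · rw [(Submodule.eq_bot_iff _).1 (hpos j hj) _ a.2, zero_smul]
        · rw [hu _ (by omega), smul_zero]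
  exact key z (hG ▸ trivial) n hn

include hpos in
/-- graded Nakayama: generators over `k[x]` from generators of `M/(x)M` -/
theorem exists_gen [Module.Finite R M] {l : ℕ} (x : Fin l → R) {D : ℕ} (hD : 0 < D)
    (hx : ∀ i, x i ∈ 𝒜 (D : ℤ)) (I : Ideal R)
    (hfin : Module.Finite k (R ⧸ (I ⊔ Ideal.span (Set.range x))))
    (W : Submodule R M) (hW : ∀ n, ∀ z ∈ W, prj 𝒜 ℳ n z ∈ W) (hIW : I • (⊤ : Submodule R M) ≤ W) :
    ∃ GM : Finset M, Submodule.span k
      {z : M | ∃ a : MvPolynomial (Fin l) k, ∃ g ∈ GM, z = MvPolynomial.aeval x a • g} ⊔ W.restrictScalars k = ⊤ := by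
  classical
  set J : Ideal R := I ⊔ Ideal.span (Set.range x) with hJ
  obtain ⟨F₀, hF₀⟩ := Module.finite_def.1 hfin
  choose lift hlift using Ideal.Quotient.mk_surjective (I := J)
  obtain ⟨G, hG⟩ := Module.finite_def.1 (inferInstance : Module.Finite R M)
  let GM : Finset M := ((F₀.image lift) ×ˢ G).biUnion fun fg =>
    (DirectSum.decompose ℳ (fg.1 • fg.2)).support.image fun n => prj 𝒜 ℳ n (fg.1 • fg.2)
  refine ⟨GM, eq_top_iff.2 fun z _ => ?_⟩
  set U : Submodule k M := Submodule.span k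
      {z : M | ∃ a : MvPolynomial (Fin l) k, ∃ g ∈ GM, z = MvPolynomial.aeval x a • g} ⊔ W.restrictScalars k
    with hU
  have hUx : ∀ i, ∀ u ∈ U, x i • u ∈ U := by
    intro i u hu
    obtain ⟨v, hv, w, hw, rfl⟩ := Submodule.mem_sup.1 hu
    rw [smul_add]
    refine add_mem (Submodule.mem_sup_left ?_) (Submodule.mem_sup_right (W.smul_mem _ hw))
    clear hu
    induction hv using Submodule.span_induction with
    | mem y hy =>
      obtain ⟨a, g, hg, rfl⟩ := hy
      exact Submodule.subset_span ⟨MvPolynomial.X i * a, g, hg, by simp [mul_smul]⟩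
    | zero => rw [smul_zero]; exact zero_mem _
    | add a b _ _ ha hb => rw [smul_add]; exact add_mem ha hb
    | smul c a _ ha => rw [smul_comm]; exact Submodule.smul_mem _ _ ha
  -- `M = span(f • g) + J M`
  let V : Submodule k M := Submodule.span k ((fun fg : R × M => fg.1 • fg.2) '' (((F₀.image lift) ×ˢ G : Finset (R × M)) : Set (R × M)))
  have hmod : ∀ m : M, ∃ v ∈ V, m - v ∈ J • (⊤ : Submodule R M) := by
    intro m
    have hm : m ∈ Submodule.span R (G : Set M) := hG ▸ trivial
    induction hm using Submodule.span_induction with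
    | zero => exact ⟨0, zero_mem _, by simp⟩
    | add a b _ _ ha hb =>
      obtain ⟨v, hv, hv'⟩ := ha
      obtain ⟨w, hw, hw'⟩ := hb
      exact ⟨v + w, add_mem hv hw, by rw [add_sub_add_comm]; exact add_mem hv' hw'⟩
    | mem g hg =>
      have h1 : Ideal.Quotient.mk J 1 ∈ Submodule.span k (F₀ : Set (R ⧸ J)) := hF₀ ▸ trivial
      obtain ⟨c, -, hc⟩ := Submodule.mem_span_finset.1 h1
      refine ⟨∑ f ∈ F₀, c f • (lift f • g), Submodule.sum_mem _ fun f hf => Submodule.smul_mem _ _
        (Submodule.subset_span ⟨(lift f, g), by simp [hg]; exact ⟨f, hf, rfl⟩, rfl⟩), ?_⟩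
      have : (1 - ∑ f ∈ F₀, c f • lift f) ∈ J := by
        rw [← Ideal.Quotient.eq_zero_iff_mem, map_sub, map_sum]
        simp only [← hc]
        rw [sub_eq_zero]
        exact Finset.sum_congr rfl fun f _ => by
          rw [← Ideal.Quotient.mkₐ_eq_mk k, map_smul, Ideal.Quotient.mkₐ_eq_mk, hlift]
      have := Submodule.smul_mem_smul this (Submodule.mem_top (x := g) (R := R))
      rwa [sub_smul, one_smul, Finset.sum_smul, Finset.sum_congr rfl fun f _ => smul_assoc (c f) (lift f) g] at this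
    | smul r a _ ha =>
      obtain ⟨v, hv, hv'⟩ := ha
      have key : ∀ v ∈ V, ∃ w ∈ V, r • v - w ∈ J • (⊤ : Submodule R M) := by
        intro v hv
        induction hv using Submodule.span_induction with
        | zero => exact ⟨0, zero_mem _, by simp⟩
        | add a b _ _ ha hb =>
          obtain ⟨p, hp, hp'⟩ := ha
          obtain ⟨q, hq, hq'⟩ := hb
          exact ⟨p + q, add_mem hp hq, by rw [smul_add, add_sub_add_comm]; exact add_mem hp' hq'⟩
        | smul c a _ ha =>
          obtain ⟨p, hp, hp'⟩ := ha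
          refine ⟨c • p, Submodule.smul_mem _ _ hp, ?_⟩
          rw [smul_comm, ← smul_sub]
          exact Submodule.smul_of_tower_mem _ c hp'
        | mem a ha =>
          obtain ⟨⟨f, g⟩, hfg, rfl⟩ := ha
          simp only [Finset.mem_coe, Finset.mem_product] at hfg
          have h1 : Ideal.Quotient.mk J (r * f) ∈ Submodule.span k (F₀ : Set (R ⧸ J)) := hF₀ ▸ trivial
          obtain ⟨c, -, hc⟩ := Submodule.mem_span_finset.1 h1
          refine ⟨∑ f' ∈ F₀, c f' • (lift f' • g), Submodule.sum_mem _ fun f' hf' => Submodule.smul_mem _ _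
            (Submodule.subset_span ⟨(lift f', g), by simp [hfg.2]; exact ⟨f', hf', rfl⟩, rfl⟩), ?_⟩
          have : (r * f - ∑ f' ∈ F₀, c f' • lift f') ∈ J := by
            rw [← Ideal.Quotient.eq_zero_iff_mem, map_sub, map_sum, sub_eq_zero, ← hc]
            exact Finset.sum_congr rfl fun f' _ => by
              rw [← Ideal.Quotient.mkₐ_eq_mk k, map_smul, Ideal.Quotient.mkₐ_eq_mk, hlift]
          have := Submodule.smul_mem_smul this (Submodule.mem_top (x := g) (R := R))
          rw [sub_smul, Finset.sum_smul, Finset.sum_congr rfl fun f' _ => smul_assoc (c f') (lift f') g,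
            mul_smul] at this
          exact this
      obtain ⟨w, hw, hw'⟩ := key v hv
      exact ⟨w, hw, by rw [← sub_add_sub_cancel (r • a) (r • v) w, ← smul_sub]; exact add_mem (Submodule.smul_mem _ r hv') hw'⟩
  have hV : ∀ n, ∀ v ∈ V, prj 𝒜 ℳ n v ∈ U := by
    intro n v hv
    induction hv using Submodule.span_induction with
    | zero => simp
    | add a b _ _ ha hb => rw [map_add]; exact add_mem ha hb
    | smul c a _ ha => rw [map_smul]; exact Submodule.smul_mem _ _ ha
    | mem a ha =>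
      obtain ⟨fg, hfg, rfl⟩ := ha
      rcases eq_or_ne (prj 𝒜 ℳ n (fg.1 • fg.2)) 0 with h | h
      · rw [h]; exact zero_mem _
      refine Submodule.mem_sup_left (Submodule.subset_span ⟨1, _, ?_, by simp; rfl⟩)
      refine Finset.mem_biUnion.2 ⟨fg, hfg, Finset.mem_image.2 ⟨n, ?_, rfl⟩⟩
      rw [DFinsupp.mem_support_toFun]
      exact fun h' => h (show ((DirectSum.decompose ℳ (fg.1 • fg.2) n : ℳ n) : M) = 0 by rw [h']; rfl)
  obtain ⟨B, hB⟩ := exists_bound (ℳ := ℳ) hpos
  have hmain : ∀ j : ℕ, ∀ n < B + j, ∀ m ∈ ℳ n, m ∈ U := by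
    intro j
    induction j with
    | zero => intro n hn m hm; rw [hB n (by simpa using hn) m hm]; exact zero_mem _
    | succ j ih =>
      intro n hn m hm
      obtain ⟨v, hv, hv'⟩ := hmod m
      rw [← prj_of_mem 𝒜 ℳ hm, ← sub_add_cancel m v, map_add]
      refine add_mem ?_ (hV n v hv)
      rw [hJ, Submodule.sup_smul] at hv'
      obtain ⟨a, ha, b, hb, hab⟩ := Submodule.mem_sup.1 hv'
      rw [← hab, map_add]
      refine add_mem (Submodule.mem_sup_right (hW n a (hIW ha))) ?_
      clear hab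
      refine Submodule.smul_induction_on (p := fun b => prj 𝒜 ℳ n b ∈ U) hb ?_
        fun p q hp hq => by rw [map_add]; exact add_mem hp hq
      intro r hr w _
      induction hr using Submodule.span_induction generalizing w with
      | zero => simp
      | add p q _ _ hp hq => rw [add_smul, map_add]; exact add_mem (hp w trivial) (hq w trivial)
      | smul c p _ hp => rw [smul_eq_mul, mul_comm, mul_smul]; exact hp _ trivial
      | mem r hr =>
        obtain ⟨i, rfl⟩ := hr
        rw [prj_smul (hx i)]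
        exact hUx i _ (ih _ (by push_cast at hn; omega) _ (prj_mem 𝒜 ℳ _ w))
  induction z using DirectSum.Decomposition.inductionOn ℳ with
  | zero => exact zero_mem _
  | add a b ha hb => exact add_mem (ha trivial) (hb trivial)
  | @homogeneous n m => exact hmain ((n - B).toNat + 1) n (by push_cast; omega) _ m.2

end Gen

include hpos h0 in
/-- Homogeneous Noether normalization of `R/I`, all parameters in a prescribed degree. -/
theorem exists_normalization [IsNoetherianRing R] [Algebra.FiniteType k R] (I : Ideal R) (hI : I.IsHomogeneous 𝒜)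
    (r : ℕ) (hr : ringKrullDim (R ⧸ I) = r) :
    ∃ D₀ : ℕ, 0 < D₀ ∧ ∀ D : ℕ, 0 < D → D₀ ∣ D → ∃ x : Fin r → R, (∀ i, x i ∈ 𝒜 (D : ℤ)) ∧
      Module.Finite k (R ⧸ (I ⊔ Ideal.span (Set.range x))) ∧
      ∀ p : MvPolynomial (Fin r) k, MvPolynomial.aeval x p ∈ I → p = 0 := by
  classical
  obtain ⟨l, y, d, hl, hy, hq⟩ := exists_seq hpos h0 r I hI hr.le
  refine ⟨∏ i, d i, Finset.prod_pos fun i _ => (hy i).1, fun D hD hdvd => ?_⟩
  have hdi : ∀ i, d i ∣ D := fun i => (Finset.dvd_prod_of_mem d (Finset.mem_univ i)).trans hdvd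
  let x : Fin l → R := fun i => y i ^ (D / d i)
  have hx : ∀ i, x i ∈ 𝒜 (D : ℤ) := fun i => by
    have := SetLike.pow_mem_graded (D / d i) (hy i).2
    rwa [nsmul_eq_mul, ← Nat.cast_mul, Nat.div_mul_cancel (hdi i)] at this
  have hfin : Module.Finite k (R ⧸ (I ⊔ Ideal.span (Set.range x))) := by
    rw [Module.finite_iff_isArtinianRing, isArtinianRing_iff_krullDimLE_zero, Ring.KrullDimLE,
      Order.krullDimLE_iff, Nat.cast_zero, ← ringKrullDim, ringKrullDim_quotient]
    refine iSup_le fun s => ?_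
    rcases Nat.eq_zero_or_pos s.length with hs | hs
    · rw [hs]; exact le_rfl
    exfalso
    have hle : ∀ q : PrimeSpectrum.zeroLocus (R := R) (I ⊔ Ideal.span (Set.range x) : Ideal R),
        plus 𝒜 ≤ q.1.asIdeal := fun q => by
      have hq2 : I ⊔ Ideal.span (Set.range x) ≤ q.1.asIdeal := q.2
      refine hq _ q.1.isPrime (sup_le (le_sup_left.trans hq2) (Ideal.span_le.2 ?_))
      rintro _ ⟨i, rfl⟩
      exact q.1.isPrime.mem_of_pow_mem _ (hq2 (Submodule.mem_sup_right (Ideal.subset_span ⟨i, rfl⟩)))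
    have : Nontrivial R :=
      ⟨⟨0, 1, fun h => s.head.1.isPrime.ne_top ((Ideal.eq_top_iff_one _).2 (h ▸ zero_mem _))⟩⟩
    have hmax := plus_isMaximal hpos h0
    have heq : ∀ q : PrimeSpectrum.zeroLocus (R := R) (I ⊔ Ideal.span (Set.range x) : Ideal R), plus 𝒜 = q.1.asIdeal := fun q =>
      hmax.eq_of_le q.1.isPrime.ne_top (hle q)
    have hlt : s.head < s.last := by
      apply LTSeries.strictMono
      exact Fin.lt_def.2 (by simpa using hs)
    exact hlt.ne (Subtype.ext (PrimeSpectrum.ext ((heq s.head).symm.trans (heq s.last))))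
  obtain ⟨GM, hGM⟩ := exists_gen (ℳ := 𝒜) hpos x hD hx I hfin I (fun n z hz => hI n hz)
    (by rw [Ideal.smul_top_eq_map]; simp)
  let f : MvPolynomial (Fin l) k →ₐ[k] R ⧸ I := (Ideal.Quotient.mkₐ k I).comp (MvPolynomial.aeval x)
  have hf : f.toRingHom.Finite := by
    letI := f.toRingHom.toAlgebra
    refine ⟨⟨GM.image (Ideal.Quotient.mk I), eq_top_iff.2 fun z _ => ?_⟩⟩
    obtain ⟨z, rfl⟩ := Ideal.Quotient.mk_surjective z
    have hz : z ∈ Submodule.span k {z : R | ∃ a : MvPolynomial (Fin l) k, ∃ g ∈ GM,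
        z = MvPolynomial.aeval x a • g} ⊔ (I : Submodule R R).restrictScalars k := hGM ▸ trivial
    obtain ⟨v, hv, w, hw, rfl⟩ := Submodule.mem_sup.1 hz
    rw [map_add, Ideal.Quotient.eq_zero_iff_mem.2 (show w ∈ I from hw), add_zero]
    clear hz
    induction hv using Submodule.span_induction with
    | zero => rw [map_zero]; exact zero_mem _
    | add a b _ _ ha hb => rw [map_add]; exact add_mem (ha trivial) (hb trivial)
    | mem a ha =>
      obtain ⟨p, g, hg, rfl⟩ := ha
      rw [smul_eq_mul, map_mul]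
      exact Submodule.smul_mem _ p (Submodule.subset_span (Finset.mem_coe.2 (Finset.mem_image_of_mem _ hg)))
    | smul c a _ ha =>
      rw [Algebra.smul_def, map_mul]
      have := Submodule.smul_mem _ (MvPolynomial.C c) (ha trivial)
      rwa [Algebra.smul_def, RingHom.algebraMap_toAlgebra,
        show (f.toRingHom (MvPolynomial.C c)) = Ideal.Quotient.mk I (algebraMap k R c) by simp [f]] at this
  have hle : ringKrullDim (R ⧸ I) ≤ ringKrullDim (MvPolynomial (Fin l) k ⧸ RingHom.ker f.toRingHom) := by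
    have hint : f.toRingHom.IsIntegral := hf.to_isIntegral
    letI := f.toRingHom.kerLift.toAlgebra
    have : Algebra.IsIntegral (MvPolynomial (Fin l) k ⧸ RingHom.ker f.toRingHom) (R ⧸ I) := ⟨fun z => by
      obtain ⟨q, hq, hq'⟩ := hint z
      refine ⟨q.map (Ideal.Quotient.mk _), hq.map _, ?_⟩
      rw [Polynomial.eval₂_map]
      exact hq'⟩
    exact EGA4Alg4.ringKrullDim_le_of_integral _ _
  have hlr : l = r := by
    refine le_antisymm hl ?_
    have h := hle.trans (ringKrullDim_quotient_le _)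
    rw [hr, MvPolynomial.ringKrullDim_of_isNoetherianRing, ringKrullDim_eq_zero_of_field, zero_add,
      Nat.card_fin] at h
    exact_mod_cast h
  subst hlr
  refine ⟨x, hx, hfin, fun p hp => ?_⟩
  by_contra hp0
  have hker : p ∈ RingHom.ker f.toRingHom := by
    rw [RingHom.mem_ker]
    exact Ideal.Quotient.eq_zero_iff_mem.2 hp
  have h1 := ringKrullDim_succ_le_of_surjective (Ideal.Quotient.mk (RingHom.ker f.toRingHom))
    Ideal.Quotient.mk_surjective (mem_nonZeroDivisors_of_ne_zero hp0) (Ideal.Quotient.eq_zero_iff_mem.2 hker)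
  have h2 : (l : WithBot ℕ∞) + 1 ≤ l := by
    refine le_trans ?_ (h1.trans_eq ?_)
    · gcongr; exact hr ▸ hle
    · rw [MvPolynomial.ringKrullDim_of_isNoetherianRing, ringKrullDim_eq_zero_of_field, zero_add, Nat.card_fin]
  exact absurd (show l + 1 ≤ l by exact_mod_cast h2) (by omega)

end Groth.Agent.CAlg6.Seg
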