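import Groth.Agent.CAlg6.SegCore

/-! Standard graded algebras (irrelevant ideal generated in degree one). -/

set_option autoImplicit false
universe u

open scoped TensorProduct

namespace Groth.Agent.CAlg6.Seg

variable {k : Type u} [CommRing k] {R : Type u} [CommRing R] [Algebra k R]
  {𝒜 : ℤ → Submodule k R} [GradedAlgebra 𝒜]

/-- in a standard graded algebra `R_{n+1} = R_1 R_n` for `n ≥ 0` -/
theorem std_mem (hstd : Ideal.span (⋃ n ∈ Set.Ioi (0 : ℤ), (𝒜 n : Set R)) = Ideal.span ((𝒜 1 : Submodule k R) : Set R))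
    {n : ℤ} (hn : 0 ≤ n) {x : R} (hx : x ∈ 𝒜 (n + 1)) : x ∈ 𝒜 1 * 𝒜 n := by
  have hI : x ∈ Ideal.span ((𝒜 1 : Submodule k R) : Set R) := by
    rw [← hstd]
    exact Ideal.subset_span (Set.mem_biUnion (Set.mem_Ioi.2 (by omega)) hx)
  have key : ∀ z ∈ Ideal.span ((𝒜 1 : Submodule k R) : Set R), ∀ c : R,
      prj 𝒜 𝒜 (n + 1) (c * z) ∈ 𝒜 1 * 𝒜 n := by
    intro z hz
    induction hz using Submodule.span_induction with
    | zero => intro c; simp
    | add u v _ _ hu hv => intro c; rw [mul_add, map_add]; exact add_mem (hu c) (hv c)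
    | smul a u _ hu => intro c; rw [smul_eq_mul, ← mul_assoc]; exact hu _
    | mem u hu =>
      intro c
      induction c using DirectSum.Decomposition.inductionOn 𝒜 with
      | zero => simp
      | add a b ha hb => rw [add_mul, map_add]; exact add_mem ha hb
      | @homogeneous i a =>
        have h : (a : R) * u ∈ 𝒜 (i + 1) := SetLike.GradedMul.mul_mem a.2 hu
        rcases eq_or_ne i n with rfl | hi
        · rw [prj_of_mem 𝒜 𝒜 h, mul_comm (a : R) u]
          exact Submodule.mul_mem_mul hu a.2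
        · rw [prj_of_ne 𝒜 𝒜 h (by omega)]
          exact zero_mem _
  have := key x hI 1
  rwa [one_mul, prj_of_mem 𝒜 𝒜 hx] at this

theorem tmul_mul_mem {S : Type u} [CommRing S] [Algebra k S] {ℬ : ℤ → Submodule k S} [GradedAlgebra ℬ]
    {A A' : Submodule k R} {B B' : Submodule k S} {x : R} {y : S} (hx : x ∈ A * A') (hy : y ∈ B * B') :
    x ⊗ₜ[k] y ∈ (Submodule.map₂ (TensorProduct.mk k R S) A B) * (Submodule.map₂ (TensorProduct.mk k R S) A' B') := by
  induction hx using Submodule.mul_induction_on' with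
  | add u _ v _ hu hv => rw [TensorProduct.add_tmul]; exact add_mem hu hv
  | mem_mul_mem a ha a' ha' =>
    induction hy using Submodule.mul_induction_on' with
    | add u _ v _ hu hv => rw [TensorProduct.tmul_add]; exact add_mem hu hv
    | mem_mul_mem b hb b' hb' =>
      rw [← Algebra.TensorProduct.tmul_mul_tmul]
      exact Submodule.mul_mem_mul (Submodule.apply_mem_map₂ _ ha hb) (Submodule.apply_mem_map₂ _ ha' hb')

end Groth.Agent.CAlg6.Seg
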