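import Mathlib

/-!
Separating transcendence bases and Kähler differentials of field extensions.
-/

set_option autoImplicit false

universe u v w

open TensorProduct IntermediateField

namespace Groth.Agent.CAlg6

variable {k : Type u} {F : Type v} [Field k] [Field F] [Algebra k F] {ι : Type w} {x : ι → F}

/-- The differentials of a separating transcendence basis form a basis. -/
theorem exists_basis_kaehler (hx : AlgebraicIndependent k x)
    [Algebra.IsSeparable (IntermediateField.adjoin k (Set.range x)) F] :
    ∃ b : Module.Basis ι F (Ω[F⁄k]), ∀ i, b i = KaehlerDifferential.D k F (x i) := by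
  let E := IntermediateField.adjoin k (Set.range x)
  let P := MvPolynomial ι k
  let ψ : P →+* E := (hx.aevalEquivField.toRingEquiv.toRingHom).comp (algebraMap P (FractionRing P))
  let : Algebra P E := ψ.toAlgebra
  let : Algebra P F := ((algebraMap E F).comp ψ).toAlgebra
  have : IsScalarTower P E F := IsScalarTower.of_algebraMap_eq fun _ => rfl
  have : IsScalarTower k P E := IsScalarTower.of_algebraMap_eq fun c => by
    show algebraMap k E c = hx.aevalEquivField (algebraMap P (FractionRing P) (algebraMap k P c))
    rw [← IsScalarTower.algebraMap_apply, AlgEquiv.commutes]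
  have : IsScalarTower k P F := IsScalarTower.of_algebraMap_eq fun c => by
    show algebraMap k F c = algebraMap E F (algebraMap P E (algebraMap k P c))
    rw [← IsScalarTower.algebraMap_apply k P E, ← IsScalarTower.algebraMap_apply]
  have hloc : IsFractionRing P E := by
    let e : FractionRing P ≃ₐ[P] E :=
      AlgEquiv.ofRingEquiv (f := hx.aevalEquivField.toRingEquiv) fun _ => rfl
    exact IsLocalization.isLocalization_of_algEquiv (nonZeroDivisors P) e
  have : Algebra.FormallyEtale P E := Algebra.FormallyEtale.of_isLocalization (nonZeroDivisors P)
  have : Algebra.FormallyEtale E F := Algebra.FormallyEtale.of_isSeparable E F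
  have : Algebra.FormallyEtale P F := Algebra.FormallyEtale.comp P E F
  refine ⟨((KaehlerDifferential.mvPolynomialBasis k ι).baseChange F).map
    (KaehlerDifferential.tensorKaehlerEquivOfFormallyEtale k P F), fun i => ?_⟩
  have hX : algebraMap P F (MvPolynomial.X i) = x i := by
    show algebraMap E F (hx.aevalEquivField (algebraMap P (FractionRing P) (MvPolynomial.X i))) = x i
    exact (hx.aevalEquivField_algebraMap_apply_coe _).trans (MvPolynomial.aeval_X _ _)
  rw [Module.Basis.map_apply, Module.Basis.baseChange_apply,
    KaehlerDifferential.tensorKaehlerEquivOfFormallyEtale_apply,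
    KaehlerDifferential.mvPolynomialBasis_apply, KaehlerDifferential.mapBaseChange_tmul, one_smul,
    KaehlerDifferential.map_D, hX]

/-- If the differentials of a transcendence basis span, the basis is separating. -/
theorem isSeparable_of_span_eq_top [Algebra.EssFiniteType k F]
    (h : Submodule.span F (Set.range fun i => KaehlerDifferential.D k F (x i)) = ⊤) :
    Algebra.IsSeparable (IntermediateField.adjoin k (Set.range x)) F := by
  let E := IntermediateField.adjoin k (Set.range x)
  have : Algebra.EssFiniteType E F := Algebra.EssFiniteType.of_comp k E F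
  have : Algebra.FormallyUnramified E F := by
    refine ⟨?_⟩
    have hsurj := KaehlerDifferential.map_surjective_of_surjective k E F F Function.surjective_id
    rw [subsingleton_iff_forall_eq 0]
    intro ω
    obtain ⟨η, rfl⟩ := hsurj ω
    have : LinearMap.ker (KaehlerDifferential.map k E F F) = ⊤ := by
      rw [eq_top_iff, ← h, Submodule.span_le]
      rintro _ ⟨i, rfl⟩
      show KaehlerDifferential.map k E F F (KaehlerDifferential.D k F (x i)) = 0
      rw [KaehlerDifferential.map_D]
      have : algebraMap F F (x i) = algebraMap E F ⟨x i, subset_adjoin _ _ ⟨i, rfl⟩⟩ := rfl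
      rw [this, Derivation.map_algebraMap]
    exact LinearMap.mem_ker.1 (this ▸ Submodule.mem_top)
  exact Algebra.FormallyUnramified.isSeparable E F

/-- Over a perfect field, `rank Ω = trdeg` for finitely generated extensions. -/
theorem rank_kaehler_eq_trdeg [PerfectField k] [Algebra.EssFiniteType k F] :
    Module.rank F (Ω[F⁄k]) = Algebra.trdeg k F := by
  obtain ⟨s, hs, hsep⟩ := exists_isTranscendenceBasis_and_isSeparable_of_perfectField k F
  have : Algebra.IsSeparable (IntermediateField.adjoin k (Set.range ((↑) : s → F))) F := by
    rwa [show Set.range ((↑) : s → F) = (s : Set F) from Subtype.range_coe]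
  obtain ⟨b, -⟩ := exists_basis_kaehler hs.1
  rw [← b.mk_eq_rank'', hs.cardinalMk_eq_trdeg]

end Groth.Agent.CAlg6
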