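import Groth.Agent.CAlg6.TaylorDescent
import Groth.Agent.SchBasics.DerivRegular
import Mathlib.RingTheory.Smooth.Fiber
import Mathlib.RingTheory.Kaehler.TensorProduct
import Mathlib.RingTheory.Ideal.Cotangent

/-!
Smoothness along a retraction in residue characteristic zero: a finitely presented algebra with a
retraction and projective module of differentials is smooth at every prime containing the kernel.
-/

set_option autoImplicit false
universe u
open TensorProduct KaehlerDifferential IsLocalRing

namespace Groth.Agent.CAlg6.SmoothRetract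

variable {A B : Type u} [CommRing A] [CommRing B] [Algebra A B]

theorem smul_cotangent (ε : B →ₐ[A] A) (b : B) (z : (RingHom.ker ε).Cotangent) :
    algebraMap A B (ε b) • z = b • z := by
  obtain ⟨⟨z, hz⟩, rfl⟩ := (RingHom.ker ε).toCotangent_surjective z
  rw [← map_smul, ← map_smul, Ideal.toCotangent_eq]
  show algebraMap A B (ε b) * z - b * z ∈ RingHom.ker ε ^ 2
  rw [← sub_mul, pow_two]
  refine Ideal.mul_mem_mul ?_ hz
  show ε (algebraMap A B (ε b) - b) = 0
  simp

/-- the derivation `b ↦ b - ε b` to the conormal module -/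
noncomputable def conormalDer (ε : B →ₐ[A] A) : Derivation A B (RingHom.ker ε).Cotangent :=
  Derivation.mk'
    { toFun := fun b => (RingHom.ker ε).toCotangent
        ⟨b - algebraMap A B (ε b), by show ε (b - algebraMap A B (ε b)) = 0; simp⟩
      map_add' := fun b c => by
        rw [← map_add]
        congr 1
        ext
        show b + c - algebraMap A B (ε (b + c)) = _
        rw [map_add, map_add]
        show _ = (b - algebraMap A B (ε b)) + (c - algebraMap A B (ε c))
        abel
      map_smul' := fun a b => by
        rw [RingHom.id_apply,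
          ← IsScalarTower.algebraMap_smul B a ((RingHom.ker ε).toCotangent _), ← map_smul]
        congr 1
        ext
        show a • b - algebraMap A B (ε (a • b)) = algebraMap A B a * (b - algebraMap A B (ε b))
        rw [map_smul, Algebra.smul_def, Algebra.smul_def, map_mul, Algebra.algebraMap_self,
          RingHom.id_apply]
        ring }
    fun b c => by
      show (RingHom.ker ε).toCotangent ⟨_, _⟩ =
        b • (RingHom.ker ε).toCotangent ⟨_, _⟩ + c • (RingHom.ker ε).toCotangent ⟨_, _⟩
      rw [← map_smul, ← map_smul, ← map_add, Ideal.toCotangent_eq]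
      show b * c - algebraMap A B (ε (b * c)) -
        (b * (c - algebraMap A B (ε c)) + c * (b - algebraMap A B (ε b))) ∈ _
      rw [map_mul, map_mul, show b * c - algebraMap A B (ε b) * algebraMap A B (ε c) -
        (b * (c - algebraMap A B (ε c)) + c * (b - algebraMap A B (ε b))) =
        -((b - algebraMap A B (ε b)) * (c - algebraMap A B (ε c))) by ring, pow_two]
      refine neg_mem (Ideal.mul_mem_mul ?_ ?_)
      · show ε (b - algebraMap A B (ε b)) = 0
        simp
      · show ε (c - algebraMap A B (ε c)) = 0
        simp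

theorem conormalDer_apply_of_mem (ε : B →ₐ[A] A) {x : B} (hx : x ∈ RingHom.ker ε) :
    conormalDer ε x = (RingHom.ker ε).toCotangent ⟨x, hx⟩ := by
  show (RingHom.ker ε).toCotangent ⟨_, _⟩ = _
  congr 1
  ext
  show x - algebraMap A B (ε x) = x
  rw [RingHom.mem_ker.1 hx, map_zero, sub_zero]

/-- generators of the conormal module and dual derivations -/
theorem exists_duals [IsLocalRing A] [Algebra.FinitePresentation A B] [Module.Projective B Ω[B⁄A]]
    (ε : B →ₐ[A] A) :
    ∃ (m : ℕ) (t : Fin m → B) (D : Fin m → Derivation A B B), (∀ i, ε (t i) = 0) ∧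
      RingHom.ker ε ≤ Ideal.span (Set.range t) ⊔ RingHom.ker ε ^ 2 ∧
      ∀ i j, ε (D i (t j)) = if j = i then 1 else 0 := by
  classical
  letI : Algebra B A := ε.toRingHom.toAlgebra
  have hsmul : ∀ (b : B) (a : A), b • a = ε b * a := fun _ _ => rfl
  haveI : Module.Finite B Ω[B⁄A] := inferInstance
  haveI : Module.Projective A (A ⊗[B] Ω[B⁄A]) := inferInstance
  haveI : Module.Finite A (A ⊗[B] Ω[B⁄A]) := inferInstance
  haveI : Module.Flat A (A ⊗[B] Ω[B⁄A]) := inferInstance
  haveI : Module.FinitePresentation A (A ⊗[B] Ω[B⁄A]) := Module.finitePresentation_of_projective _ _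
  let v : ↥(RingHom.ker ε) → A ⊗[B] Ω[B⁄A] := fun x => (1 : A) ⊗ₜ D A B (x : B)
  have hv : Submodule.span A (Set.range v) = ⊤ := by
    rw [eq_top_iff]
    intro z hz'
    clear hz'
    induction z using TensorProduct.induction_on with
    | zero => exact zero_mem _
    | add z w hz hw => exact add_mem hz hw
    | tmul a w =>
      have hw : w ∈ Submodule.span B (Set.range (D A B)) := by
        rw [KaehlerDifferential.span_range_derivation]; trivial
      induction hw using Submodule.span_induction generalizing a with
      | zero => rw [tmul_zero]; exact zero_mem _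
      | add x y _ _ hx hy => rw [tmul_add]; exact add_mem (hx a) (hy a)
      | smul b x _ hx => rw [← smul_tmul]; exact hx _
      | mem x hx =>
        obtain ⟨c, rfl⟩ := hx
        have hc : c - algebraMap A B (ε c) ∈ RingHom.ker ε := by
          show ε (c - algebraMap A B (ε c)) = 0
          simp
        have h1 : a • v ⟨_, hc⟩ = a ⊗ₜ D A B c := by
          show a • ((1 : A) ⊗ₜ D A B (c - algebraMap A B (ε c))) = _
          rw [map_sub, Derivation.map_algebraMap, sub_zero, smul_tmul', smul_eq_mul, mul_one]
        rw [← h1]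
        exact Submodule.smul_mem _ a (Submodule.subset_span ⟨_, rfl⟩)
  obtain ⟨κ, sel, bas, hbas⟩ := Module.exists_basis_of_span_of_flat v hv
  haveI : Finite κ := Module.Finite.finite_basis bas
  let e := Finite.equivFin κ
  let bas' := bas.reindex e
  let t : Fin (Nat.card κ) → B := fun i => (sel (e.symm i) : B)
  have hbt : ∀ i, bas' i = (1 : A) ⊗ₜ D A B (t i) := fun i => by
    rw [Module.Basis.reindex_apply, hbas]
  have ht : ∀ i, ε (t i) = 0 := fun i => (sel (e.symm i)).2
  let φ : Fin (Nat.card κ) → Ω[B⁄A] →ₗ[B] A := fun i =>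
    ((bas'.coord i).restrictScalars B).comp (TensorProduct.mk B A Ω[B⁄A] 1)
  have hsurj : Function.Surjective (Algebra.linearMap B A) := fun a => ⟨algebraMap A B a, ε.commutes a⟩
  choose f hf using fun i => Module.projective_lifting_property (Algebra.linearMap B A) (φ i) hsurj
  refine ⟨_, t, fun i => (f i).compDer (D A B), ht, ?_, fun i j => ?_⟩
  · intro x hx
    let c := bas'.repr ((1 : A) ⊗ₜ D A B x)
    let y := x - ∑ j, algebraMap A B (c j) * t j
    have hy : y ∈ RingHom.ker ε := by
      show ε y = 0
      simp only [y, map_sub, map_sum, map_mul, ht, mul_zero, Finset.sum_const_zero,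
        RingHom.mem_ker.1 hx, sub_zero]
    have h0 : (1 : A) ⊗ₜ[B] D A B y = 0 := by
      have hd : ∀ j, D A B (algebraMap A B (c j) * t j) = algebraMap A B (c j) • D A B (t j) :=
        fun j => by rw [Derivation.leibniz, Derivation.map_algebraMap, smul_zero, add_zero]
      have hsum : ∑ j, (c j) • bas' j = (1 : A) ⊗ₜ D A B x := bas'.sum_repr _
      rw [show y = x - ∑ j, algebraMap A B (c j) * t j from rfl, map_sub, map_sum,
        tmul_sub, tmul_sum, ← hsum, sub_eq_zero]
      refine Finset.sum_congr rfl fun j _ => ?_
      rw [hd, tmul_smul, hbt, smul_tmul', smul_tmul', smul_eq_mul, mul_one, hsmul, mul_one,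
        ε.commutes, Algebra.algebraMap_self, RingHom.id_apply]
    let L := (conormalDer ε).liftKaehlerDifferential
    let Ψ : A ⊗[B] Ω[B⁄A] →ₗ[B] (RingHom.ker ε).Cotangent := TensorProduct.lift
      (LinearMap.mk₂ B (fun a w => algebraMap A B a • L w)
        (fun a₁ a₂ w => by rw [map_add, add_smul])
        (fun b a w => by rw [hsmul, map_mul, mul_smul, smul_cotangent])
        (fun a w₁ w₂ => by rw [map_add, smul_add])
        (fun b a w => by rw [map_smul, smul_comm]))
    have h1 := congrArg Ψ h0
    simp only [Ψ, map_zero, TensorProduct.lift.tmul, LinearMap.mk₂_apply, map_one, one_smul, L,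
      Derivation.liftKaehlerDifferential_comp_D, conormalDer_apply_of_mem ε hy,
      Ideal.toCotangent_eq_zero] at h1
    have hxy : x = (∑ j, algebraMap A B (c j) * t j) + y := by simp [y]
    rw [hxy]
    refine add_mem (Submodule.mem_sup_left ?_) (Submodule.mem_sup_right h1)
    exact Ideal.sum_mem _ fun j _ => Ideal.mul_mem_left _ _ (Ideal.subset_span ⟨j, rfl⟩)
  · show ε (f i (D A B (t j))) = _
    have h1 := LinearMap.congr_fun (hf i) (D A B (t j))
    simp only [φ, LinearMap.comp_apply, LinearMap.coe_restrictScalars, TensorProduct.mk_apply] at h1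
    rw [← hbt] at h1
    refine h1.trans ?_
    rw [Module.Basis.coord_apply, Module.Basis.repr_self, Finsupp.single_apply]

theorem formallySmooth_of_projective (k T : Type u) [Field k] [CharZero k] [CommRing T] [Algebra k T]
    [Algebra.FinitePresentation k T] [Module.Projective T Ω[T⁄k]] : Algebra.FormallySmooth k T := by
  refine Algebra.smoothLocus_eq_univ_iff.mp (Set.eq_univ_iff_forall.mpr fun Q => ?_)
  refine (SchBasics.isSmoothAt_iff_free_kaehler k T Q.asIdeal).2 ?_
  haveI : Module.Free (Localization.AtPrime Q.asIdeal)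
      (Localization.AtPrime Q.asIdeal ⊗[T] Ω[T⁄k]) :=
    Module.free_of_flat_of_isLocalRing
  exact .of_equiv
    (KaehlerDifferential.tensorKaehlerEquivOfFormallyEtale k T (Localization.AtPrime Q.asIdeal))

attribute [local instance] Algebra.TensorProduct.rightAlgebra in
/-- over a field of characteristic zero the fibre is smooth -/
theorem formallySmooth_fibre (k : Type u) [Field k] [CharZero k] [Algebra A k]
    [Algebra.FinitePresentation A B] [Module.Projective B Ω[B⁄A]] :
    Algebra.FormallySmooth k (k ⊗[A] B) := by
  haveI : Module.Projective (k ⊗[A] B) Ω[k ⊗[A] B⁄k] :=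
    Module.Projective.of_equiv (KaehlerDifferential.tensorKaehlerEquiv A k B (k ⊗[A] B))
  exact formallySmooth_of_projective k _

theorem smoothAt_local [IsLocalRing A] [CharZero (ResidueField A)] [Algebra.FinitePresentation A B]
    [Module.Projective B Ω[B⁄A]] (ε : B →ₐ[A] A) (q : Ideal B) [q.IsPrime]
    (hq : RingHom.ker ε ≤ q) (hqA : q.comap (algebraMap A B) = maximalIdeal A) :
    Algebra.IsSmoothAt A q := by
  obtain ⟨m, t, D, ht, hspan, hD⟩ := exists_duals ε
  have hunit : ∀ k : ℕ, k ≠ 0 → IsUnit (k : A) := fun k hk => by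
    refine IsLocalRing.notMem_maximalIdeal.1 fun hmem => ?_
    exact Nat.cast_ne_zero.2 hk
      ((map_natCast (residue A) k).symm.trans ((residue_eq_zero_iff _).2 hmem))
  have hker : ∀ x : nonZeroDivisors ℤ, IsUnit (algebraMap ℤ A x) := fun x => by
    obtain ⟨k, hk⟩ := Int.eq_nat_or_neg (x : ℤ)
    have hx := nonZeroDivisors.ne_zero x.2
    rcases hk with hk | hk
    · rw [hk, map_natCast]; exact hunit k (by rintro rfl; exact hx hk)
    · rw [hk, map_neg, map_natCast, IsUnit.neg_iff]
      exact hunit k (by rintro rfl; exact hx (by rw [hk]; rfl))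
  letI : Algebra ℚ A := (IsLocalization.lift (M := nonZeroDivisors ℤ) (S := ℚ) hker).toAlgebra
  haveI hflat : Module.Flat A (Localization.AtPrime q) :=
    TaylorFlat.flat_localization_of_finitePresentation ε t ht hspan
      (D := D) (fun i j => by rw [hD]; congr) q hq
  haveI : IsLocalHom (algebraMap A (Localization.AtPrime q)) := ⟨fun a ha => by
    refine IsLocalRing.notMem_maximalIdeal.1 fun hmem => ?_
    have h1 : algebraMap A B a ∈ q := (SetLike.ext_iff.1 hqA a).2 hmem
    rw [IsScalarTower.algebraMap_apply A B (Localization.AtPrime q),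
      IsLocalization.AtPrime.isUnit_to_map_iff (Localization.AtPrime q) q] at ha
    exact ha h1⟩
  haveI : Algebra.FormallySmooth (ResidueField A) (ResidueField A ⊗[A] B) := formallySmooth_fibre _
  haveI : Algebra.FormallySmooth (ResidueField A) (ResidueField A ⊗[A] Localization.AtPrime q) := by
    letI : Algebra B (ResidueField A ⊗[A] B) := Algebra.TensorProduct.rightAlgebra
    have : Algebra.FormallySmooth (ResidueField A)
        ((ResidueField A ⊗[A] B) ⊗[B] Localization.AtPrime q) :=
      .comp _ (ResidueField A ⊗[A] B) _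
    let e : ResidueField A ⊗[A] B ≃ₐ[B] B ⊗[A] ResidueField A :=
      { __ := Algebra.TensorProduct.comm _ _ _, commutes' _ := rfl }
    let e' : (ResidueField A ⊗[A] B) ⊗[B] Localization.AtPrime q ≃ₐ[A]
        ResidueField A ⊗[A] Localization.AtPrime q :=
      ((Algebra.TensorProduct.comm _ _ _).restrictScalars A).trans <|
      ((Algebra.TensorProduct.congr (.refl (R := B)) e).restrictScalars A).trans <|
      ((Algebra.TensorProduct.cancelBaseChange _ _ B _ _).restrictScalars A).trans <|
      Algebra.TensorProduct.comm _ _ _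
    have he : e'.toAlgHom.comp (IsScalarTower.toAlgHom A (ResidueField A) _) =
        IsScalarTower.toAlgHom _ _ _ := AlgHom.ext fun x => by
      obtain ⟨a, rfl⟩ := residue_surjective x
      exact (AlgHom.commutes _ a).trans (AlgHom.commutes _ a).symm
    let e'' : (ResidueField A ⊗[A] B) ⊗[B] Localization.AtPrime q ≃ₐ[ResidueField A]
        ResidueField A ⊗[A] Localization.AtPrime q :=
      { __ := e', commutes' r := congr($he r) }
    exact .of_equiv e''
  exact Algebra.FormallySmooth.of_formallySmooth_residueField_tensor (R := A)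
    (S := Localization.AtPrime q) (P := B) q.primeCompl

/-- Smoothness at the primes above a section. -/
theorem smoothAt_of_retraction [Algebra.FinitePresentation A B] [Module.Projective B Ω[B⁄A]]
    (ε : B →ₐ[A] A) (q : Ideal B) [q.IsPrime] (hq : RingHom.ker ε ≤ q)
    [CharZero (q.comap (algebraMap A B)).ResidueField] : Algebra.IsSmoothAt A q := by
  let p := q.comap (algebraMap A B)
  let Ap := Localization.AtPrime p
  let B' := Ap ⊗[A] B
  letI : Algebra B B' := Algebra.TensorProduct.rightAlgebra
  let ε' : B' →ₐ[Ap] Ap := Algebra.TensorProduct.lift (AlgHom.id Ap Ap)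
    ((Algebra.ofId A Ap).comp ε) fun _ _ => Commute.all _ _
  let q' : Ideal B' := (maximalIdeal Ap).comap ε'
  haveI : q'.IsPrime := Ideal.IsPrime.comap _
  have hmem : ∀ b : B, ε b ∈ p ↔ b ∈ q := fun b => by
    have hb : b - algebraMap A B (ε b) ∈ q := hq (by show ε (b - algebraMap A B (ε b)) = 0; simp)
    show algebraMap A B (ε b) ∈ q ↔ b ∈ q
    constructor
    · intro h; simpa using add_mem hb h
    · intro h; simpa using sub_mem h hb
  have hcomap : q'.comap (algebraMap B B') = q := by
    ext b
    show ε' ((1 : Ap) ⊗ₜ[A] b) ∈ maximalIdeal Ap ↔ b ∈ q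
    rw [Algebra.TensorProduct.lift_tmul, map_one, one_mul]
    show algebraMap A Ap (ε b) ∈ maximalIdeal Ap ↔ _
    rw [IsLocalization.AtPrime.to_map_mem_maximal_iff Ap p]
    exact hmem b
  have hq'A : q'.comap (algebraMap Ap B') = maximalIdeal Ap := by
    ext a
    show ε' (algebraMap Ap B' a) ∈ maximalIdeal Ap ↔ _
    rw [ε'.commutes]
    rfl
  haveI : Module.Projective B' Ω[B'⁄Ap] :=
    Module.Projective.of_equiv (KaehlerDifferential.tensorKaehlerEquiv A Ap B B')
  haveI : CharZero (ResidueField Ap) :=
    show CharZero p.ResidueField from inferInstance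
  have hs : Algebra.FormallySmooth Ap (Localization.AtPrime q') :=
    smoothAt_local ε' q' (fun x hx => by
      show ε' x ∈ maximalIdeal Ap
      rw [RingHom.mem_ker.1 hx]
      exact zero_mem _) hq'A
  haveI : Algebra.FormallySmooth A (Localization.AtPrime q') := .comp A Ap _
  haveI : IsLocalization (Algebra.algebraMapSubmonoid B p.primeCompl) B' :=
    (Algebra.isLocalization_iff_isPushout p.primeCompl Ap).mpr inferInstance
  haveI : IsLocalization.AtPrime (Localization.AtPrime q') q := by
    have h := IsLocalization.isLocalization_isLocalization_atPrime_isLocalization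
      (M := Algebra.algebraMapSubmonoid B p.primeCompl) (S := B') (Localization.AtPrime q') q'
    have e1 : (q'.comap (algebraMap B B')).primeCompl = q.primeCompl :=
      SetLike.ext fun x => not_congr (SetLike.ext_iff.1 hcomap x)
    change IsLocalization (q'.comap (algebraMap B B')).primeCompl _ at h
    rw [e1] at h
    exact h
  let e : Localization.AtPrime q' ≃ₐ[A] Localization.AtPrime q :=
    (IsLocalization.algEquiv q.primeCompl (Localization.AtPrime q')
      (Localization.AtPrime q)).restrictScalars A
  exact Algebra.FormallySmooth.of_equiv (A := Localization.AtPrime q') e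

end Groth.Agent.CAlg6.SmoothRetract
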