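import Groth.Agent.CAlg6.SmoothRetract
import Groth.Agent.AbSch7.OmegaInv
import Groth.Agent.Props58.LocFree.Affine
import Groth.Agent.Strict99.Basic
import Mathlib.AlgebraicGeometry.Morphisms.Smooth

/-!
Smoothness along the unit section of a group scheme in residue characteristic zero, read off the
conormal module.
-/

set_option autoImplicit false
set_option backward.isDefEq.respectTransparency.types false
universe u
open CategoryTheory CategoryTheory.Limits AlgebraicGeometry MonObj MonoidalCategory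
  CartesianMonoidalCategory

namespace Groth.Agent.CAlg6.SmoothUnit

variable {X Y S : Scheme.{u}}

theorem ringHom_appLE (P : MorphismProperty Scheme.{u})
    {Q : ∀ {R S : Type u} [CommRing R] [CommRing S], (R →+* S) → Prop} [HasRingHomProperty P Q]
    [P.HasOfPostcompProperty @IsOpenImmersion] (f : X ⟶ S) {U : X.Opens} (hU : IsAffineOpen U)
    {V : S.Opens} (hV : IsAffineOpen V) (h : U ≤ f ⁻¹ᵁ V) (H : P (U.ι ≫ f)) :
    Q (f.appLE V U h).hom := by
  have : IsAffine _ := hU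
  have : IsAffine _ := hV
  have h1 : P (f.resLE V U h) :=
    MorphismProperty.of_postcomp (W := P) (W' := @IsOpenImmersion) _ V.ι inferInstance
      (by rw [Scheme.Hom.resLE_comp_ι]; exact H)
  rw [HasRingHomProperty.iff_of_isAffine (P := P)] at h1
  exact ((HasRingHomProperty.isLocal_ringHomProperty P).respectsIso.arrow_mk_iso_iff
    (arrowResLEAppIso f V U h)).mp h1

theorem charZero_residueField_prime {V : S.Opens} (hV : IsAffineOpen V) {s : S} (hs : s ∈ V)
    [CharZero (S.residueField s)] : CharZero (hV.primeIdealOf ⟨s, hs⟩).asIdeal.ResidueField := by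
  let p := (hV.primeIdealOf ⟨s, hs⟩).asIdeal
  letI : Algebra Γ(S, V) (S.presheaf.stalk s) := (S.presheaf.germ V s hs).hom.toAlgebra
  haveI : IsLocalization.AtPrime (S.presheaf.stalk s) p := hV.isLocalization_stalk ⟨s, hs⟩
  have key : ∀ n : ℕ, n ≠ 0 → (n : Γ(S, V)) ∉ p := fun n hn => by
    show (n : Γ(S, V)) ∈ p.primeCompl
    refine (IsLocalization.AtPrime.isUnit_to_map_iff (S.presheaf.stalk s) p (n : Γ(S, V))).1 ?_
    refine IsLocalRing.notMem_maximalIdeal.1 fun hmem => ?_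
    rw [map_natCast] at hmem
    exact (Nat.cast_ne_zero (R := S.residueField s)).2 hn
      ((map_natCast (IsLocalRing.residue (S.presheaf.stalk s)) n).symm.trans
        ((IsLocalRing.residue_eq_zero_iff _).2 hmem))
  refine charZero_of_inj_zero fun n hn => ?_
  by_contra h
  apply key n h
  rw [← Ideal.algebraMap_residueField_eq_zero, map_natCast]
  exact hn

/-- chart data at a point of a section: smoothness there from finite local freeness of the differentials -/
theorem formallySmooth_stalkMap_section (f : X ⟶ S) [QuasiSeparated f] (e : S ⟶ X) (he : e ≫ f = 𝟙 S)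
    (W : X.Opens) (hW : LocallyOfFinitePresentation (W.ι ≫ f)) (hΩ : FlatMod.IsFinLocFree (Omega.sheaf f))
    (s : S) [CharZero (S.residueField s)] (hsW : e.base s ∈ W) :
    (f.stalkMap (e.base s)).hom.FormallySmooth := by
  have hfe : ∀ p : S, f.base (e.base p) = p := fun p =>
    (Scheme.Hom.comp_apply e f p).symm.trans (by rw [he]; rfl)
  obtain ⟨V₀, hV₀, hsV₀, -⟩ := exists_isAffineOpen_mem_and_subset (U := (⊤ : S.Opens)) (x := s) trivial
  obtain ⟨U₀, hU₀, hxU₀, hU₀le⟩ := exists_isAffineOpen_mem_and_subset (U := f ⁻¹ᵁ V₀ ⊓ W)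
    (x := e.base s) ⟨(show f.base (e.base s) ∈ V₀ by rw [hfe]; exact hsV₀), hsW⟩
  have hU₀le' : U₀ ≤ f ⁻¹ᵁ V₀ ⊓ W := hU₀le
  obtain ⟨r, hr, hsr⟩ := hV₀.exists_basicOpen_le (V := V₀ ⊓ e ⁻¹ᵁ U₀) ⟨s, ⟨hsV₀, hxU₀⟩⟩ hsV₀
  let V := S.basicOpen r
  have hV : IsAffineOpen V := hV₀.basicOpen r
  let U := X.basicOpen ((f.appLE V₀ U₀ (hU₀le'.trans inf_le_left)).hom r)
  have hU : IsAffineOpen U := hU₀.basicOpen _
  have hUeq : U = U₀ ⊓ f ⁻¹ᵁ V := Scheme.basicOpen_appLE f U₀ V₀ _ r
  have hUV : U ≤ f ⁻¹ᵁ V := hUeq.le.trans inf_le_right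
  have hVU : V ≤ e ⁻¹ᵁ U := by
    intro p hp
    show e.base p ∈ U
    rw [hUeq]
    exact ⟨(hr hp).2, show f.base (e.base p) ∈ V by rw [hfe]; exact hp⟩
  have hxU : e.base s ∈ U := hVU hsr
  have hUW : U ≤ W := (hUeq.le.trans inf_le_left).trans (hU₀le'.trans inf_le_right)
  rw [formallySmooth_stalkMap_iff V hV U hU hUV hxU]
  let := (f.appLE V U hUV).hom.toAlgebra
  haveI : Algebra.FinitePresentation Γ(S, V) Γ(X, U) :=
    ringHom_appLE @LocallyOfFinitePresentation f hU hV hUV (by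
      rw [← Scheme.homOfLE_ι X hUW, Category.assoc]
      exact MorphismProperty.comp_mem _ _ _ (inferInstanceAs (LocallyOfFinitePresentation _)) hW)
  haveI : Module.Projective Γ(X, U) Ω[Γ(X, U)⁄Γ(S, V)] := by
    obtain ⟨i⟩ := Var76.OmegaSmooth.exists_equiv f hU hV hUV
    have := Props58.LocFree.projective_sections hΩ hU
    exact Module.Projective.of_equiv i.symm
  have hcomp : (f.appLE V U hUV ≫ e.appLE U V hVU) = 𝟙 _ := by
    have : ∀ (g : S ⟶ S) (_ : g = 𝟙 S) (h : V ≤ g ⁻¹ᵁ V), g.appLE V V h = 𝟙 _ := by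
      rintro _ rfl h
      simp only [Scheme.Hom.appLE, Scheme.Hom.id_app, Category.id_comp]
      exact S.presheaf.map_id _
    rw [Scheme.Hom.appLE_comp_appLE]
    exact this _ he _
  let ε : Γ(X, U) →ₐ[Γ(S, V)] Γ(S, V) :=
    { (e.appLE U V hVU).hom with
      commutes' := fun a => congr($(hcomp).hom a) }
  let q := (hU.primeIdealOf ⟨e.base s, hxU⟩).asIdeal
  have hq : RingHom.ker ε ≤ q := fun b hb => by
    have h := IsAffineOpen.comap_primeIdealOf_appLE (f := e) (x := s) U hU V hV hVU hsr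
    show b ∈ q
    rw [show q = _ from congrArg PrimeSpectrum.asIdeal h.symm]
    refine Ideal.mem_comap.2 ?_
    rw [show (e.appLE U V hVU).hom b = 0 from hb]
    exact zero_mem _
  haveI : CharZero (q.comap (algebraMap Γ(S, V) Γ(X, U))).ResidueField := by
    have h := IsAffineOpen.comap_primeIdealOf_appLE (f := f) (x := e.base s) V hV U hU hUV hxU
    have h2 : q.comap (algebraMap Γ(S, V) Γ(X, U)) = (hV.primeIdealOf ⟨s, hsr⟩).asIdeal :=
      (congrArg PrimeSpectrum.asIdeal h).trans (by congr 3; exact hfe s)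
    have h3 := charZero_residueField_prime hV hsr
    refine charZero_of_inj_zero fun n hn => ?_
    by_contra hne
    rw [← map_natCast (algebraMap Γ(S, V) _), Ideal.algebraMap_residueField_eq_zero, h2,
      ← Ideal.algebraMap_residueField_eq_zero, map_natCast] at hn
    exact Nat.cast_ne_zero.2 hne hn
  exact SmoothRetract.smoothAt_of_retraction ε q hq

theorem formallySmooth_stalkMap_comp (j : Y ⟶ X) [IsOpenImmersion j] (f : X ⟶ S) (y : Y)
    (h : (f.stalkMap (j.base y)).hom.FormallySmooth) : ((j ≫ f).stalkMap y).hom.FormallySmooth := by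
  rw [Scheme.Hom.stalkMap_comp]
  exact (RingHom.FormallySmooth.respectsIso.cancel_right_isIso _ (j.stalkMap y)).2 h

theorem exists_smooth_open (f : X ⟶ S) (W : X.Opens) [LocallyOfFinitePresentation (W.ι ≫ f)] (T : Set X)
    (hT : ∀ x ∈ T, x ∈ W ∧ (f.stalkMap x).hom.FormallySmooth) :
    ∃ W' : X.Opens, T ⊆ W' ∧ Smooth (W'.ι ≫ f) := by
  let g := W.ι ≫ f
  let L := g.smoothLocus
  have hL : Smooth (L.ι ≫ g) := Scheme.Hom.smoothLocus_eq_top_iff.1 (by
    rw [← Scheme.Hom.preimage_smoothLocus_eq]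
    exact Scheme.Opens.ι_preimage_self L)
  refine ⟨W.ι ''ᵁ L, fun x hx => ⟨⟨x, (hT x hx).1⟩, ?_, rfl⟩, ?_⟩
  · show (g.stalkMap ⟨x, (hT x hx).1⟩).hom.FormallySmooth
    exact formallySmooth_stalkMap_comp W.ι f ⟨x, (hT x hx).1⟩ (hT x hx).2
  · rw [← MorphismProperty.cancel_left_of_respectsIso @Smooth (Scheme.Hom.isoImage W.ι L).hom,
      ← Category.assoc, Scheme.Hom.isoImage_hom_ι, Category.assoc]
    exact hL

theorem exists_restrict_free (M : X.Modules) [M.IsQuasicoherent] {U : X.Opens} (hU : IsAffineOpen U)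
    {x : X} (hx : x ∈ U) [Module.Projective Γ(X, U) Γ(M, U)] [Module.Finite Γ(X, U) Γ(M, U)] :
    ∃ (V : X.Opens) (n : ℕ), x ∈ V ∧ Nonempty (M.restrict V.ι ≅ FlatMod.freeMod (↑V : Scheme.{u}) n) := by
  let R := Γ(X, U)
  let p := (hU.primeIdealOf ⟨x, hx⟩).asIdeal
  haveI : Module.FinitePresentation R Γ(M, U) := Module.finitePresentation_of_projective R Γ(M, U)
  haveI : Module.Free (Localization.AtPrime p) (LocalizedModule p.primeCompl Γ(M, U)) :=
    Module.free_of_flat_of_isLocalRing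
  obtain ⟨r, hr, hfree, -⟩ := Module.FinitePresentation.exists_free_localizedModule_powers
    p.primeCompl (LocalizedModule.mkLinearMap p.primeCompl Γ(M, U)) (Localization.AtPrime p)
  haveI := hfree
  obtain ⟨h1, h2⟩ := FlatMor68.LocFree.free_basicOpen M hU r
  have hxr : x ∈ X.basicOpen r := (QC70.mem_basicOpen_iff_primeCompl hU hx r).mpr hr
  haveI := h1; haveI := h2
  haveI : Nontrivial Γ(X, X.basicOpen r) := (X.presheaf.germ _ x hxr).hom.domain_nontrivial
  exact ⟨_, _, hxr, FlatMor68.LocFree.restrict_iso_free M (hU.basicOpen r) _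
    (Module.finBasis Γ(X, X.basicOpen r) Γ(M, X.basicOpen r)).equivFun⟩

theorem isFinLocFree_pullback_of_locally (φ : Y ⟶ X) (M : X.Modules)
    (h : ∀ y : Y, ∃ (V : X.Opens) (n : ℕ), φ.base y ∈ V ∧
      Nonempty (M.restrict V.ι ≅ FlatMod.freeMod (↑V : Scheme.{u}) n)) :
    FlatMod.IsFinLocFree ((Scheme.Modules.pullback φ).obj M) := fun y => by
  obtain ⟨V, n, hyV, ⟨i⟩⟩ := h y
  exact ⟨φ ⁻¹ᵁ V, n, hyV, ⟨((Amp73.pullRestrictIso φ V).app M).symm ≪≫
    (Scheme.Modules.pullback (φ ∣_ V)).mapIso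
      (((Scheme.Modules.restrictFunctorIsoPullback V.ι).app M).symm ≪≫ i) ≪≫
    FrB.pullbackFreeIso (φ ∣_ V) n⟩⟩

theorem isFinLocFree_pullback_omega (f : X ⟶ S) [QuasiSeparated f] (φ : Y ⟶ X) (W : X.Opens)
    (hW : Smooth (W.ι ≫ f)) (hφ : ∀ y, φ.base y ∈ W) :
    FlatMod.IsFinLocFree ((Scheme.Modules.pullback φ).obj (Omega.sheaf f)) := by
  have := Omega57.isQuasicoherent_omega f
  refine isFinLocFree_pullback_of_locally φ _ fun y => ?_
  obtain ⟨V, hV, hxV, -⟩ := exists_isAffineOpen_mem_and_subset (U := (⊤ : S.Opens))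
    (x := f.base (φ.base y)) trivial
  obtain ⟨U, hU, hxU, hUle⟩ := exists_isAffineOpen_mem_and_subset (U := f ⁻¹ᵁ V ⊓ W) (x := φ.base y)
    ⟨hxV, hφ y⟩
  have hUle' : U ≤ f ⁻¹ᵁ V ⊓ W := hUle
  have hUV : U ≤ f ⁻¹ᵁ V := hUle'.trans inf_le_left
  have hUW : U ≤ W := hUle'.trans inf_le_right
  let := (f.appLE V U hUV).hom.toAlgebra
  haveI : Algebra.Smooth Γ(S, V) Γ(X, U) :=
    ringHom_appLE @Smooth f hU hV hUV (by
      rw [← Scheme.homOfLE_ι X hUW, Category.assoc]
      exact MorphismProperty.comp_mem _ _ _ (inferInstanceAs (Smooth _)) hW)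
  obtain ⟨i⟩ := Var76.OmegaSmooth.exists_equiv f hU hV hUV
  haveI := Module.Projective.of_equiv i
  haveI := Module.Finite.equiv i
  exact exists_restrict_free _ hU hxU

theorem smooth_at_unit_iff (hS : ∀ x : S, CharZero (S.residueField x)) (G : Over S) [GrpObj G]
    [QuasiSeparated G.hom]
    (hfp : ∃ W : G.left.Opens, (∀ p : ↥(𝟙_ (Over S)).left, η[G].left.base p ∈ W) ∧
      LocallyOfFinitePresentation (W.ι ≫ G.hom)) :
    (∃ W : G.left.Opens, (∀ p : ↥(𝟙_ (Over S)).left, η[G].left.base p ∈ W) ∧ Smooth (W.ι ≫ G.hom)) ↔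
      FlatMod.IsFinLocFree ((Scheme.Modules.pullback η[G].left).obj (Omega.sheaf G.hom)) := by
  constructor
  · rintro ⟨W, hW, hsm⟩
    exact isFinLocFree_pullback_omega G.hom η[G].left W hsm hW
  · intro hω
    obtain ⟨W, hW, hlfp⟩ := hfp
    have he : η[G].left ≫ G.hom = 𝟙 S := Over.w η[G]
    obtain ⟨i⟩ := Omega57.exists_omega_iso G
    have hΩ : FlatMod.IsFinLocFree (Omega.sheaf G.hom) :=
      Var76.OmegaRegular.isFinLocFree_of_iso i.symm
        (Strict99.isFinLocFree_pullback G.hom (Var76.OmegaRegular.isFinLocFree_of_iso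
          ((Scheme.Modules.pullback η[G].left).mapIso i ≪≫
            AbSch7.pullSectionIso G.hom η[G].left he _) hω))
    obtain ⟨W', hW', hsm⟩ := exists_smooth_open G.hom W (Set.range η[G].left.base)
      (by
        rintro _ ⟨p, rfl⟩
        haveI := hS p
        exact ⟨hW p, formallySmooth_stalkMap_section G.hom η[G].left he W hlfp hΩ p (hW p)⟩)
    exact ⟨W', fun p => hW' ⟨p, rfl⟩, hsm⟩

end Groth.Agent.CAlg6.SmoothUnit
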