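import Mathlib
import Groth.Agent.CAlg6.GrpSolv

/-! Derived and lower central series through products of boundedly many commutators. -/

set_option autoImplicit false
universe u v
open scoped commutatorElement

namespace Groth.Agent.CAlg6.SolvPure

variable {M : Type u} [Group M]

/-- products of at most `N` quotients of commutators -/
def cprod (A B : Set M) : ℕ → Set M
  | 0 => {1}
  | N + 1 => {z | ∃ a ∈ A, ∃ b ∈ B, ∃ a' ∈ A, ∃ b' ∈ B, ∃ v ∈ cprod A B N, ⁅a, b⁆ * ⁅a', b'⁆⁻¹ * v = z}

variable (M) in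
/-- the series: derived (`l = false`) or lower central (`l = true`) -/
def ser (l : Bool) (N : ℕ) : ℕ → Set M
  | 0 => Set.univ
  | n + 1 => cprod (ser l N n) (if l then Set.univ else ser l N n) N

variable (M) in
/-- the abstract series -/
def series (l : Bool) (n : ℕ) : Subgroup M :=
  if l then Subgroup.lowerCentralSeries (⊤ : Subgroup M) n else derivedSeries M n

variable (M) in
lemma series_zero (l : Bool) : series M l 0 = ⊤ := by cases l <;> simp [series]

variable (M) in
lemma series_succ (l : Bool) (n : ℕ) :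
    series M l (n + 1) = ⁅series M l n, if l then ⊤ else series M l n⁆ := by
  cases l <;> simp [series, Subgroup.lowerCentralSeries_succ]

variable (M) in
instance series_normal (l : Bool) (n : ℕ) : (series M l n).Normal := by
  cases l <;> simp only [series, Bool.false_eq_true, if_false, if_true] <;> infer_instance

variable (M) in
lemma series_antitone (l : Bool) : Antitone (series M l) := by
  refine antitone_nat_of_succ_le fun n => ?_
  rw [series_succ]
  exact Subgroup.commutator_le_left _ _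

lemma one_mem_cprod {A B : Set M} (hA : (1 : M) ∈ A) (hB : (1 : M) ∈ B) : ∀ N, (1 : M) ∈ cprod A B N
  | 0 => rfl
  | N + 1 => ⟨1, hA, 1, hB, 1, hA, 1, hB, 1, one_mem_cprod hA hB N, by simp⟩

lemma cprod_mono {A B : Set M} (hA : (1 : M) ∈ A) (hB : (1 : M) ∈ B) : Monotone (cprod A B) := by
  refine monotone_nat_of_le_succ fun N => ?_
  intro z hz
  exact ⟨1, hA, 1, hB, 1, hA, 1, hB, z, hz, by simp⟩

lemma list_mem_cprod {A B : Set M} (hA : (1 : M) ∈ A) (hB : (1 : M) ∈ B) : ∀ L : List M,
    (∀ z ∈ L, ∃ a ∈ A, ∃ b ∈ B, z = ⁅a, b⁆ ∨ z = ⁅a, b⁆⁻¹) → L.prod ∈ cprod A B L.length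
  | [], _ => rfl
  | z :: L, h => by
    have hL := list_mem_cprod hA hB L fun w hw => h w (List.mem_cons_of_mem _ hw)
    obtain ⟨a, ha, b, hb, rfl | rfl⟩ := h z List.mem_cons_self
    · exact ⟨a, ha, b, hb, 1, hA, 1, hB, L.prod, hL, by simp⟩
    · exact ⟨1, hA, 1, hB, a, ha, b, hb, L.prod, hL, by simp⟩

lemma cprod_subset {A B : Set M} (H K : Subgroup M) (hA : A ⊆ H) (hB : B ⊆ K) :
    ∀ N, cprod A B N ⊆ (⁅H, K⁆ : Subgroup M)
  | 0 => by rintro _ rfl; exact one_mem _
  | N + 1 => by
    rintro _ ⟨a, ha, b, hb, a', ha', b', hb', v, hv, rfl⟩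
    exact mul_mem (mul_mem (Subgroup.commutator_mem_commutator (hA ha) (hB hb))
      (inv_mem (Subgroup.commutator_mem_commutator (hA ha') (hB hb')))) (cprod_subset H K hA hB N hv)

lemma ser_subset (l : Bool) (N : ℕ) : ∀ n, ser M l N n ⊆ series M l n
  | 0 => by rw [series_zero]; simp
  | n + 1 => by
    rw [series_succ]
    refine cprod_subset _ _ (ser_subset l N n) ?_ N
    cases l
    · simpa using ser_subset false N n
    · simp

lemma one_mem_ser (l : Bool) (N : ℕ) : ∀ n, (1 : M) ∈ ser M l N n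
  | 0 => trivial
  | n + 1 => one_mem_cprod (one_mem_ser l N n) (by cases l <;> simp [one_mem_ser]) N

variable (M) in
/-- the word sets -/
def wordSet (l : Bool) (n : ℕ) : Set M := if l then GrpSolv.lcsWord M n else GrpSolv.derWord M n

lemma wordSet_subset_ser (l : Bool) (N : ℕ) : ∀ n, wordSet M l n ⊆ ser M l (N + 1) n
  | 0 => fun _ _ => trivial
  | n + 1 => by
    have ih := wordSet_subset_ser l N n
    have h1 := one_mem_ser (M := M) l (N + 1) n
    cases l
    · intro z hz
      obtain ⟨a, ha, b, hb, rfl⟩ := hz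
      exact ⟨a, ih ha, b, ih hb, 1, h1, 1, h1, 1, one_mem_cprod h1 h1 N, by simp⟩
    · intro z hz
      obtain ⟨a, ha, b, rfl⟩ := hz
      exact ⟨a, ih ha, b, Set.mem_univ _, 1, h1, 1, Set.mem_univ _, 1, one_mem_cprod h1 (Set.mem_univ _) N, by simp⟩

lemma series_le_of_wordSet (l : Bool) (n : ℕ) (H : Subgroup M) (h : wordSet M l n ⊆ H) : series M l n ≤ H := by
  cases l
  · rw [series, if_neg Bool.false_ne_true, GrpSolv.derivedSeries_eq, Subgroup.closure_le]; exact h
  · rw [series, if_pos rfl, GrpSolv.lowerCentralSeries_eq, Subgroup.closure_le]; exact h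

/-- a stabilised step -/
lemma series_eq_of_subset {l : Bool} {N n : ℕ} (h : ser M l (N + 1) n ⊆ ser M l (N + 1) (n + 1)) :
    ∀ m, n ≤ m → series M l m = series M l n := by
  have e : series M l (n + 1) = series M l n := le_antisymm (series_antitone M l n.le_succ)
    (series_le_of_wordSet l n _ fun z hz => ser_subset l _ _ (h (wordSet_subset_ser l N n hz)))
  intro m hm
  induction hm with
  | refl => rfl
  | @step m hm ih => rw [series_succ, ih, ← series_succ, e]

/-- triviality of the series is decided at a stabilised step -/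
lemma exists_bot_iff {l : Bool} {N n : ℕ} (h : ser M l (N + 1) n ⊆ ser M l (N + 1) (n + 1)) :
    (∃ m, series M l m = ⊥) ↔ ser M l (N + 1) n ⊆ {1} := by
  constructor
  · rintro ⟨m, hm⟩
    have : series M l n = ⊥ := by
      rw [← series_eq_of_subset h (max n m) (le_max_left _ _)]
      exact le_bot_iff.1 (hm ▸ series_antitone M l (le_max_right n m))
    intro z hz
    have hz' : z ∈ series M l n := ser_subset l _ _ hz
    rw [this] at hz'
    exact hz'
  · exact fun h1 => ⟨n, le_bot_iff.1 (series_le_of_wordSet l n ⊥ fun z hz => h1 (wordSet_subset_ser l N n hz))⟩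

variable {M' : Type v} [Group M'] (φ : M →* M')

lemma image_cprod (A B : Set M) : ∀ N, φ '' cprod A B N = cprod (φ '' A) (φ '' B) N
  | 0 => by simp [cprod]
  | N + 1 => by
    have ih := image_cprod A B N
    ext z
    constructor
    · rintro ⟨_, ⟨a, ha, b, hb, a', ha', b', hb', v, hv, rfl⟩, rfl⟩
      exact ⟨φ a, ⟨a, ha, rfl⟩, φ b, ⟨b, hb, rfl⟩, φ a', ⟨a', ha', rfl⟩, φ b', ⟨b', hb', rfl⟩, φ v,
        ih ▸ ⟨v, hv, rfl⟩, by simp [map_commutatorElement]⟩
    · rintro ⟨_, ⟨a, ha, rfl⟩, _, ⟨b, hb, rfl⟩, _, ⟨a', ha', rfl⟩, _, ⟨b', hb', rfl⟩, w, hw, rfl⟩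
      obtain ⟨v, hv, rfl⟩ := ih.symm ▸ hw
      exact ⟨_, ⟨a, ha, b, hb, a', ha', b', hb', v, hv, rfl⟩, by simp [map_commutatorElement]⟩

lemma image_ser (hφ : Function.Surjective φ) (l : Bool) (N : ℕ) : ∀ n, φ '' ser M l N n = ser M' l N n
  | 0 => Set.image_univ_of_surjective hφ
  | n + 1 => by
    cases l
    · simpa [ser, image_cprod] using congrArg (fun A => cprod A A N) (image_ser hφ false N n)
    · simpa [ser, image_cprod, Set.image_univ_of_surjective hφ] using
        congrArg (fun A => cprod A Set.univ N) (image_ser hφ true N n)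

end Groth.Agent.CAlg6.SolvPure
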