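import Mathlib
import Groth.Agent.CAlg6.SolvPure
import Groth.Agent.CAlg6.GrpWordField
import Groth.Agent.CAlg6.GrpWordSub
import Groth.Agent.S5364

/-! The derived and lower central series of an algebraic group over an algebraically closed field stabilise
and are reached by products of boundedly many commutators. -/

set_option autoImplicit false
universe u
open CategoryTheory CategoryTheory.Limits MonoidalCategory CartesianMonoidalCategory MonObj AlgebraicGeometry
open Groth.Agent.AlgGrp79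
open scoped commutatorElement

namespace Groth.Agent.CAlg6.SolvField

open GrpWord SolvPure

variable {k : Type u} [Field k] [IsAlgClosed k] {G : Over (Spec (CommRingCat.of k))} [GrpObj G]

/-- the points of a reduced closed normal subgroup -/
def IsAlg (H : Subgroup (GrpWord.Pt G)) : Prop :=
  ∃ (K : Over (Spec (CommRingCat.of k))) (_ : GrpObj K) (j : K ⟶ G), IsMonHom j ∧ IsClosedImmersion j.left ∧
    QuasiCompact K.hom ∧ GeometricallyReduced K.hom ∧ AlgGrp.IsNormalHom j ∧
    Set.range (fun z : GrpWord.Pt K => z ≫ j) = (H : Set (GrpWord.Pt G))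

variable [LocallyOfFiniteType G.hom]

lemma IsAlg.top [QuasiCompact G.hom] [GeometricallyReduced G.hom] : IsAlg (⊤ : Subgroup (GrpWord.Pt G)) :=
  ⟨G, ‹_›, 𝟙 G, inferInstance, inferInstanceAs (IsClosedImmersion (𝟙 G.left)), ‹_›, ‹_›,
    fun T g n => ⟨g * n * g⁻¹, by simp⟩,
    Set.eq_univ_iff_forall.2 fun z => ⟨z, Category.comp_id z⟩⟩

/-- a commutator step -/
lemma IsAlg.comm [QuasiCompact G.hom] {H H' : Subgroup (GrpWord.Pt G)} (hH : IsAlg H) (hH' : IsAlg H') :
    IsAlg ⁅H, H'⁆ ∧ ∃ N, ∀ N', N ≤ N' →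
      ((⁅H, H'⁆ : Subgroup (GrpWord.Pt G)) : Set (GrpWord.Pt G)) ⊆ cprod (H : Set (GrpWord.Pt G)) H' N' := by
  obtain ⟨A, gA, a, ha, haci, haqc, hagr, han, har⟩ := hH
  obtain ⟨B, gB, b, hb, hbci, hbqc, hbgr, hbn, hbr⟩ := hH'
  haveI := ha; haveI := hb; haveI := haci; haveI := hbci; haveI := haqc; haveI := hbqc; haveI := hagr; haveI := hbgr
  haveI : LocallyOfFiniteType A.hom := by rw [← Over.w a]; infer_instance
  haveI : LocallyOfFiniteType B.hom := by rw [← Over.w b]; infer_instance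
  obtain ⟨N, hcl, hmax, hpts, -⟩ := exists_bound_comm a b (Or.inl ⟨han, hbn, haqc⟩)
  haveI : LocallyOfFiniteType (A ⊗ B).hom := lft_tensor A B
  haveI : QuasiCompact (A ⊗ B).hom := GrpWord.qc_tensor A B
  haveI : GeometricallyReduced (A ⊗ B).hom := geomRed_tensor A B
  obtain ⟨K, gK, j, hjm, hj, -, hjr, hKgr, hf, hmin⟩ :=
    exists_generated_field (cmap a b) (unitWord_cmap a b) N hcl hmax
  haveI := hjm; haveI := hj
  have hgen : genPts (cmap a b) = ⁅H, H'⁆ := by
    rw [Subgroup.commutator_def]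
    refine congrArg Subgroup.closure (Set.ext fun z => ?_)
    constructor
    · rintro ⟨x, rfl⟩
      refine ⟨x ≫ fst A B ≫ a, har.le ⟨_, Category.assoc _ _ _⟩, x ≫ snd A B ≫ b, hbr.le ⟨_, Category.assoc _ _ _⟩, ?_⟩
      simp only [cmap, MonObj.comp_mul, GrpObj.comp_inv, commutatorElement_def]
    · rintro ⟨p, hp, q, hq, rfl⟩
      obtain ⟨x, rfl⟩ := har.ge hp
      obtain ⟨y, rfl⟩ := hbr.ge hq
      exact ⟨lift x y, lift_cmap a b x y⟩
  haveI : LocallyOfFiniteType K.hom := by rw [← Over.w j]; infer_instance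
  refine ⟨⟨K, gK, j, hjm, hj, by rw [← Over.w j]; infer_instance, hKgr,
    Groth.Agent.S5364.result k G A B a b han hbn K j hf hmin, ?_⟩, N, fun N' hN' z hz => ?_⟩
  · ext z
    rw [SetLike.mem_coe, ← hgen, ← hpts, ← hjr]
    exact ⟨fun ⟨w, hw⟩ => hw ▸ ⟨pv w, (pv_comp w j).symm⟩, exists_lift_pv j z⟩
  · have hz' := (hpts z).2 (hgen ▸ hz)
    rw [wset_eq_iUnion, Set.mem_iUnion] at hz'
    obtain ⟨ε, hε⟩ := hz'
    haveI := lft_pow (A ⊗ B) N
    obtain ⟨s, rfl⟩ := exists_lift_pv _ z hε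
    rw [comp_word]
    refine cprod_mono (one_mem H) (one_mem H') hN' ?_
    have h := list_mem_cprod (A := (H : Set (GrpWord.Pt G))) (B := H') (one_mem H) (one_mem H')
      (List.ofFn fun i : Fin N => if ε i then (s ≫ proj (A ⊗ B) N i) ≫ cmap a b
        else ((s ≫ proj (A ⊗ B) N i) ≫ cmap a b)⁻¹) ?_
    · rwa [List.length_ofFn] at h
    · intro w hw
      obtain ⟨i, rfl⟩ := List.mem_ofFn.1 hw
      refine ⟨(s ≫ proj (A ⊗ B) N i ≫ fst A B) ≫ a, har.le ⟨_, rfl⟩,
        (s ≫ proj (A ⊗ B) N i ≫ snd A B) ≫ b, hbr.le ⟨_, rfl⟩, ?_⟩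
      have e : (s ≫ proj (A ⊗ B) N i) ≫ cmap a b =
          ⁅(s ≫ proj (A ⊗ B) N i ≫ fst A B) ≫ a, (s ≫ proj (A ⊗ B) N i ≫ snd A B) ≫ b⁆ := by
        simp only [cmap, MonObj.comp_mul, GrpObj.comp_inv, commutatorElement_def, Category.assoc]
      by_cases h : ε i = true
      · left; rw [if_pos h, e]
      · right; rw [if_neg h, e]

/-- the members of the series -/
lemma isAlg_series [QuasiCompact G.hom] [GeometricallyReduced G.hom] (l : Bool) :
    ∀ n, IsAlg (series (GrpWord.Pt G) l n)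
  | 0 => by rw [series_zero]; exact IsAlg.top
  | n + 1 => by
    rw [series_succ]
    refine ((isAlg_series l n).comm ?_).1
    cases l
    · simpa using isAlg_series false n
    · simpa using IsAlg.top

theorem exists_stable [QuasiCompact G.hom] [GeometricallyReduced G.hom] (l : Bool) :
    ∃ N n, ser (GrpWord.Pt G) l (N + 1) n ⊆ ser (GrpWord.Pt G) l (N + 1) (n + 1) := by
  classical
  haveI : TopologicalSpace.NoetherianSpace G.left := Var76.FibreBound.noetherianSpace G.hom
  let C : ℕ → TopologicalSpace.Closeds G.left := fun n =>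
    ⟨closure (pv '' (series (GrpWord.Pt G) l n : Set (GrpWord.Pt G))), isClosed_closure⟩
  obtain ⟨_, ⟨n, rfl⟩, hn⟩ := (wellFounded_lt (α := TopologicalSpace.Closeds G.left)).has_min
    (Set.range C) ⟨_, 0, rfl⟩
  have hle : series (GrpWord.Pt G) l n ≤ series (GrpWord.Pt G) l (n + 1) := by
    obtain ⟨K, gK, j, hjm, hj, hKqc, -, -, hr⟩ := isAlg_series (G := G) l (n + 1)
    haveI := hj
    haveI : LocallyOfFiniteType K.hom := by rw [← Over.w j]; infer_instance
    have h1 : C (n + 1) ≤ C n := closure_mono (Set.image_mono (series_antitone _ l n.le_succ))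
    have h2 : C (n + 1) = C n := by
      by_contra h
      exact hn _ ⟨n + 1, rfl⟩ (lt_of_le_of_ne h1 h)
    have h3 : (C (n + 1) : Set G.left) ⊆ Set.range j.left := by
      refine closure_minimal ?_ j.left.isClosedEmbedding.isClosed_range
      rintro _ ⟨z, hz, rfl⟩
      obtain ⟨w, rfl⟩ := hr.ge hz
      exact ⟨pv w, (pv_comp w j).symm⟩
    intro z hz
    obtain ⟨w, rfl⟩ := exists_lift_pv j z (h3 (h2.symm ▸ subset_closure ⟨z, hz, rfl⟩))
    exact hr.le ⟨w, rfl⟩
  have hB : ∀ i, IsAlg (if l then (⊤ : Subgroup (GrpWord.Pt G)) else series (GrpWord.Pt G) l i) := fun i => by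
    cases l
    · simpa using isAlg_series false i
    · simpa using IsAlg.top
  choose N hN using fun i => ((isAlg_series (G := G) l i).comm (hB i)).2
  let M := (Finset.range (n + 1)).sup N
  have key : ∀ i, i ≤ n + 1 → (series (GrpWord.Pt G) l i : Set (GrpWord.Pt G)) ⊆ ser (GrpWord.Pt G) l (M + 1) i := by
    intro i hi
    induction i with
    | zero => exact fun _ _ => trivial
    | succ i ih =>
      rw [series_succ]
      have ih' := ih (Nat.le_of_succ_le hi)
      refine (hN i (M + 1) ((Finset.le_sup (f := N) (Finset.mem_range.2 hi)).trans M.le_succ)).trans ?_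
      have e : ser (GrpWord.Pt G) l (M + 1) i = series (GrpWord.Pt G) l i :=
        Set.Subset.antisymm (ser_subset l _ i) ih'
      show _ ⊆ cprod (ser (GrpWord.Pt G) l (M + 1) i) (if l then Set.univ else ser (GrpWord.Pt G) l (M + 1) i) (M + 1)
      rw [e]
      cases l <;> simp
  exact ⟨M, n, fun z hz => key (n + 1) le_rfl (hle (ser_subset l _ n hz))⟩

end Groth.Agent.CAlg6.SolvField
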