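import Mathlib
import Groth.Prelude.Def_Red
import Groth.Agent.CAlg6.SolvField
import Groth.Agent.CAlg6.GenDerived

/-! The loci where bounded commutator products of the geometric fibres are trivial or stabilised. -/

set_option autoImplicit false
universe u
open CategoryTheory CategoryTheory.Limits MonoidalCategory CartesianMonoidalCategory MonObj AlgebraicGeometry Topology
open scoped commutatorElement

namespace Groth.Agent.CAlg6.SolvFam

open GrpWord SolvPure

attribute [local instance] GrpWord.bcGrp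

variable {S : Scheme.{u}}

/-- a finitely presented family of sections of `G` -/
structure Fam (G : Over S) where
  P : Over S
  qc : QuasiCompact P.hom
  lfp : LocallyOfFinitePresentation P.hom
  f : P ⟶ G

variable {G : Over S} [GrpObj G]

/-- the values of a family -/
def Fam.vals (F : Fam G) (T : Over S) : Set (T ⟶ G) := Set.range fun x : T ⟶ F.P => x ≫ F.f

/-- the unit family -/
noncomputable def one (G : Over S) [GrpObj G] : Fam G :=
  ⟨𝟙_ (Over S), inferInstanceAs (QuasiCompact (𝟙 S)), inferInstanceAs (LocallyOfFinitePresentation (𝟙 S)), 1⟩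

lemma vals_one (T : Over S) : (one G).vals T = {1} :=
  Set.eq_singleton_iff_unique_mem.2 ⟨⟨toUnit T, MonObj.comp_one _⟩, by rintro _ ⟨x, rfl⟩; exact MonObj.comp_one _⟩

/-- one factor of a commutator product -/
noncomputable def step (A B C : Fam G) : Fam G :=
  haveI := A.qc; haveI := B.qc; haveI := C.qc; haveI := A.lfp; haveI := B.lfp; haveI := C.lfp
  haveI := GrpWord.qc_tensorS A.P B.P
  haveI := GrpWord.lfp_tensor A.P B.P
  haveI := GrpWord.qc_tensorS (A.P ⊗ B.P) C.P
  haveI := GrpWord.lfp_tensor (A.P ⊗ B.P) C.P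
  ⟨(A.P ⊗ B.P) ⊗ ((A.P ⊗ B.P) ⊗ C.P), GrpWord.qc_tensorS _ _, GrpWord.lfp_tensor _ _,
    (fst _ _ ≫ cmap A.f B.f) * (snd _ _ ≫ fst _ _ ≫ cmap A.f B.f)⁻¹ * (snd _ _ ≫ snd _ _ ≫ C.f)⟩

lemma vals_step (A B C : Fam G) (T : Over S) : (step A B C).vals T =
    {z | ∃ a ∈ A.vals T, ∃ b ∈ B.vals T, ∃ a' ∈ A.vals T, ∃ b' ∈ B.vals T, ∃ v ∈ C.vals T,
      ⁅a, b⁆ * ⁅a', b'⁆⁻¹ * v = z} := by
  ext z
  constructor
  · rintro ⟨x, rfl⟩
    refine ⟨_, ⟨x ≫ fst _ _ ≫ fst _ _, rfl⟩, _, ⟨x ≫ fst _ _ ≫ snd _ _, rfl⟩,
      _, ⟨x ≫ snd _ _ ≫ fst _ _ ≫ fst _ _, rfl⟩, _, ⟨x ≫ snd _ _ ≫ fst _ _ ≫ snd _ _, rfl⟩,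
      _, ⟨x ≫ snd _ _ ≫ snd _ _, rfl⟩, ?_⟩
    simp only [step, cmap, MonObj.comp_mul, GrpObj.comp_inv, commutatorElement_def, Category.assoc]
  · rintro ⟨_, ⟨a, rfl⟩, _, ⟨b, rfl⟩, _, ⟨a', rfl⟩, _, ⟨b', rfl⟩, _, ⟨v, rfl⟩, rfl⟩
    refine ⟨lift (lift a b) (lift (lift a' b') v), ?_⟩
    simp only [step, MonObj.comp_mul, GrpObj.comp_inv, lift_fst_assoc, lift_snd_assoc, lift_cmap]

/-- products of at most `N` quotients of commutators -/
noncomputable def cprodFam (A B : Fam G) : ℕ → Fam G
  | 0 => one G
  | N + 1 => step A B (cprodFam A B N)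

lemma vals_cprod (A B : Fam G) (T : Over S) : ∀ N, (cprodFam A B N).vals T = cprod (A.vals T) (B.vals T) N
  | 0 => vals_one T
  | N + 1 => by
    show (step A B (cprodFam A B N)).vals T = _
    rw [vals_step, vals_cprod A B T N]
    rfl

variable [LocallyOfFinitePresentation G.hom] [QuasiCompact G.hom]

variable (G) in
/-- everything -/
def all : Fam G := ⟨G, ‹_›, ‹_›, 𝟙 G⟩

lemma vals_all (T : Over S) : (all G).vals T = Set.univ :=
  Set.range_eq_univ.2 fun z => ⟨z, Category.comp_id z⟩

variable (G) in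
/-- the series -/
noncomputable def serFam (l : Bool) (N : ℕ) : ℕ → Fam G
  | 0 => all G
  | n + 1 => cprodFam (serFam l N n) (if l then all G else serFam l N n) N

lemma vals_ser (l : Bool) (N : ℕ) (T : Over S) : ∀ n, (serFam G l N n).vals T = ser (T ⟶ G) l N n
  | 0 => vals_all T
  | n + 1 => by
    show (cprodFam (serFam G l N n) (if l then all G else serFam G l N n) N).vals T = _
    rw [vals_cprod, vals_ser l N T n]
    cases l
    · simp [ser, vals_ser false N T n]
    · simp [ser, vals_all]

variable [QuasiSeparated G.hom]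

lemma Fam.isLocallyConstructible_range (F : Fam G) : IsLocallyConstructible (Set.range F.f.left) := by
  have := F.qc; have := F.lfp
  have h1 : QuasiCompact (F.f.left ≫ G.hom) := by rw [Over.w]; infer_instance
  have : QuasiCompact F.f.left := QuasiCompact.of_comp F.f.left G.hom
  have h2 : LocallyOfFinitePresentation (F.f.left ≫ G.hom) := by rw [Over.w]; infer_instance
  have : LocallyOfFinitePresentation F.f.left := LimTop61.locallyOfFinitePresentation_of_comp _ G.hom
  rw [← Set.image_univ]
  exact F.f.left.isLocallyConstructible_image IsLocallyConstructible.univ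

/-- the base change of a family -/
noncomputable def Fam.bc {S' : Scheme.{u}} (σ : S' ⟶ S) (F : Fam G) : Fam ((Over.pullback σ).obj G) :=
  haveI := F.qc; haveI := F.lfp
  ⟨(Over.pullback σ).obj F.P, MorphismProperty.pullback_snd (P := @QuasiCompact) _ _ F.qc,
    MorphismProperty.pullback_snd (P := @LocallyOfFinitePresentation) _ _ F.lfp, (Over.pullback σ).map F.f⟩

variable {Ω : Type u} [Field Ω] [IsAlgClosed Ω] (t : Spec (CommRingCat.of Ω) ⟶ S)

/-- the geometric point as an object over `S` -/
noncomputable abbrev T₀ : Over S := (Over.map t).obj (𝟙_ (Over (Spec (CommRingCat.of Ω))))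

omit [GrpObj G] in
lemma mem_vals_iff (F : Fam G) (z : T₀ t ⟶ G) (p : (T₀ t).left) :
    z.left.base p ∈ Set.range F.f.left ↔ z ∈ F.vals (T₀ t) := by
  refine ⟨fun ⟨q, hq⟩ => ?_, fun ⟨x, hx⟩ => hx ▸ ⟨x.left.base p, rfl⟩⟩
  have := F.lfp
  have h2 : LocallyOfFinitePresentation (F.f.left ≫ G.hom) := by rw [Over.w]; infer_instance
  have : LocallyOfFinitePresentation F.f.left := LimTop61.locallyOfFinitePresentation_of_comp _ G.hom
  let zl : Spec (CommRingCat.of Ω) ⟶ G.left := z.left
  let r := pullback.snd F.f.left zl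
  have : LocallyOfFiniteType r := MorphismProperty.pullback_snd (P := @LocallyOfFiniteType) _ _ inferInstance
  have : JacobsonSpace ↥(pullback F.f.left zl) := LocallyOfFiniteType.jacobsonSpace r
  obtain ⟨y, -, -⟩ := Scheme.Pullback.exists_preimage_pullback (f := F.f.left) (g := zl) q p hq
  obtain ⟨y', -, hy'⟩ := nonempty_inter_closedPoints (Z := Set.univ) ⟨y, trivial⟩ isOpen_univ.isLocallyClosed
  have hc := pointOfClosedPoint_comp r y' hy'
  let c := pointOfClosedPoint r y' hy'
  refine ⟨Over.homMk (c ≫ pullback.fst F.f.left zl) ?_, ?_⟩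
  · rw [Category.assoc, ← Over.w F.f, pullback.condition_assoc]
    show c ≫ r ≫ zl ≫ G.hom = _
    rw [← Category.assoc c r, hc, Category.id_comp]
    exact Over.w z
  · ext1
    show (c ≫ pullback.fst F.f.left zl) ≫ F.f.left = zl
    rw [Category.assoc, pullback.condition]
    show c ≫ r ≫ zl = zl
    rw [← Category.assoc, hc, Category.id_comp]

lemma vals_subset_iff (F H : Fam G) (s : S) (hs : ∀ p, t p = s) :
    F.vals (T₀ t) ⊆ H.vals (T₀ t) ↔
      ∀ x : G.left, G.hom x = s → x ∈ Set.range F.f.left → x ∈ Set.range H.f.left := by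
  constructor
  · intro h x hx hF
    by_contra hH
    let F' := F.bc t
    let H' := H.bc t
    let GT := (Over.pullback t).obj G
    have : LocallyOfFinitePresentation GT.hom := MorphismProperty.pullback_snd (P := @LocallyOfFinitePresentation) _ _ ‹_›
    have : QuasiCompact GT.hom := MorphismProperty.pullback_snd (P := @QuasiCompact) _ _ ‹_›
    have : QuasiSeparated GT.hom := MorphismProperty.pullback_snd (P := @QuasiSeparated) _ _ ‹_›
    have : CompactSpace GT.left := (quasiCompact_iff_compactSpace GT.hom).1 ‹_›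
    have : QuasiSeparatedSpace GT.left := quasiSeparatedSpace_of_quasiSeparated GT.hom
    have : JacobsonSpace GT.left := LocallyOfFiniteType.jacobsonSpace GT.hom
    have hE : IsConstructible (Set.range F'.f.left ∩ (Set.range H'.f.left)ᶜ) :=
      (F'.isLocallyConstructible_range.inter
        (GenSpread.isLocallyConstructible_compl H'.isLocallyConstructible_range)).isConstructible
    obtain ⟨x', hx', -⟩ := Scheme.Pullback.exists_preimage_pullback (f := G.hom) (g := t) x
      (IsLocalRing.closedPoint Ω) (hx.trans (hs _).symm)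
    obtain ⟨e, ⟨heF, heH⟩, hec⟩ := PtTop50.exists_closedPoint_of_isConstructible hE
      ⟨x', (GenDerived.mem_range_bc_iff t F.f x').2 (hx'.symm ▸ hF),
        fun h' => hH (hx' ▸ (GenDerived.mem_range_bc_iff t H.f x').1 h')⟩
    let c := pointOfClosedPoint GT.hom e hec
    have hc : c ≫ GT.hom = 𝟙 _ := pointOfClosedPoint_comp GT.hom e hec
    let z : T₀ t ⟶ G := Over.homMk (c ≫ pullback.fst G.hom t) (by
      show (c ≫ pullback.fst G.hom t) ≫ G.hom = 𝟙 _ ≫ t
      rw [Category.assoc, pullback.condition, ← Category.assoc]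
      exact congrArg (· ≫ t) hc)
    have hz : z.left.base (IsLocalRing.closedPoint Ω) = pullback.fst G.hom t e := by
      show (pullback.fst G.hom t).base (c.base (IsLocalRing.closedPoint Ω)) = _
      rw [show c.base (IsLocalRing.closedPoint Ω) = e from pointOfClosedPoint_apply GT.hom e hec _]
    refine heH ((GenDerived.mem_range_bc_iff t H.f e).2 (hz ▸ (mem_vals_iff t H z _).2 (h ?_)))
    exact (mem_vals_iff t F z (IsLocalRing.closedPoint Ω)).1
      (hz.symm ▸ (GenDerived.mem_range_bc_iff t F.f e).1 heF)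
  · intro h z hz
    refine (mem_vals_iff t H z (IsLocalRing.closedPoint Ω)).1 (h _ ?_ ((mem_vals_iff t F z _).2 hz))
    show (z.left ≫ G.hom) (IsLocalRing.closedPoint Ω) = s
    rw [Over.w z]
    exact hs _

/-- the locus where one family of values lies in the other on the geometric fibres -/
def incl (F H : Fam G) : Set S :=
  {s | ∀ x : G.left, G.hom x = s → x ∈ Set.range F.f.left → x ∈ Set.range H.f.left}

lemma isLocallyConstructible_incl (F H : Fam G) : IsLocallyConstructible (incl F H) := by
  have e : incl F H = (G.hom '' (Set.range F.f.left ∩ (Set.range H.f.left)ᶜ))ᶜ := by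
    ext s
    simp only [incl, Set.mem_setOf_eq, Set.mem_compl_iff, Set.mem_image, Set.mem_inter_iff]
    grind
  rw [e]
  exact GenSpread.isLocallyConstructible_compl (G.hom.isLocallyConstructible_image
    (F.isLocallyConstructible_range.inter (GenSpread.isLocallyConstructible_compl H.isLocallyConstructible_range)))

lemma mem_incl_iff (F H : Fam G) (s : S) :
    s ∈ incl F H ↔ F.vals (T₀ (Red.geomPt s)) ⊆ H.vals (T₀ (Red.geomPt s)) :=
  (vals_subset_iff (Red.geomPt s) F H s fun p => by
    show (S.fromSpecResidueField s) _ = s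
    exact Scheme.fromSpecResidueField_apply s _).symm

end Groth.Agent.CAlg6.SolvFam
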