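import Mathlib
import Groth.Prelude.Def_Red2
import Groth.Prelude.Def_AGF
import Groth.Agent.CAlg6.SolvFam
import Groth.Agent.ConsPts12.Cons

/-! Solvable and nilpotent loci. -/

set_option autoImplicit false
universe u
open CategoryTheory CategoryTheory.Limits MonoidalCategory CartesianMonoidalCategory MonObj AlgebraicGeometry Topology
open scoped commutatorElement

namespace Groth.Agent.CAlg6.SolvLocus

open GrpWord SolvPure SolvFam

variable {S : Scheme.{u}} {G : Over S} [GrpObj G]

/-- solvability (`l = false`) or nilpotency (`l = true`) of the geometric fibre -/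
def Prop' (l : Bool) {T : Scheme.{u}} (H : Over T) [GrpObj H] : Prop :=
  if l then AGF.IsNilpotentGrp H else Red.IsSolvableGrp H

lemma prop'_iff (l : Bool) {T : Scheme.{u}} (H : Over T) [GrpObj H] :
    Prop' l H ↔ ∃ n, ∀ X : Over T, series (X ⟶ H) l n = ⊥ := by
  cases l
  · simp [Prop', Red.IsSolvableGrp, series]
  · simp [Prop', AGF.IsNilpotentGrp, series, Subgroup.lowerCentralSeries_eq_bot_iff_upperCentralSeries_eq_top]

lemma series_bot_iff_word {M : Type*} [Group M] (l : Bool) (n : ℕ) :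
    series M l n = ⊥ ↔ wordSet M l n ⊆ {1} := by
  cases l <;> simp [series, wordSet, GrpSolv.derivedSeries_eq_bot_iff, GrpSolv.lowerCentralSeries_eq_bot_iff]

lemma prop'_iff_pts {k : Type u} [Field k] [IsAlgClosed k] (l : Bool) (H : Over (Spec (CommRingCat.of k))) [GrpObj H]
    [Smooth H.hom] : Prop' l H ↔ ∃ n, series (GrpWord.Pt H) l n = ⊥ := by
  rw [prop'_iff]
  refine ⟨fun ⟨n, hn⟩ => ⟨n, hn _⟩, fun ⟨n, hn⟩ => ⟨n, fun X => ?_⟩⟩
  have hw : GrpSolv.IsWord (G := H) fun T => wordSet (T ⟶ H) l n := by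
    cases l
    · exact GrpSolv.isWord_derWord n
    · exact GrpSolv.isWord_lcsWord n
  rw [series_bot_iff_word]
  refine (hw.trivial_iff k).2 ?_ X
  intro z hz
  rw [series_bot_iff_word] at hn
  let e : 𝟙_ (Over (Spec (CommRingCat.of k))) ≅ AlgGrp79.Pt k k := Over.isoMk (Iso.refl _) (by
    show 𝟙 _ ≫ Spec.map (CommRingCat.ofHom (algebraMap k k)) = 𝟙 _
    rw [Category.id_comp, Algebra.algebraMap_self, CommRingCat.ofHom_id, Spec.map_id])
  obtain ⟨P, hP, δ, hδ⟩ := hw
  beta_reduce at hδ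
  rw [hδ] at hz
  obtain ⟨x, rfl⟩ := hz
  have hh := hn (show e.hom ≫ x ≫ δ ∈ _ by rw [hδ]; exact ⟨e.hom ≫ x, Category.assoc _ _ _⟩)
  rw [Set.mem_singleton_iff] at hh ⊢
  rw [← cancel_epi e.hom, hh, MonObj.comp_one]

attribute [local instance] GrpWord.bcGrp

lemma smooth_geomFibre (hsm : ∀ s : S, Smooth (G.hom.fiberToSpecResidueField s)) (s : S) :
    Smooth (Red.geomFibre s G).hom := by
  let a := Spec.map (CommRingCat.ofHom (algebraMap (S.residueField s) (AlgebraicClosure (S.residueField s))))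
  let m : pullback G.hom (a ≫ S.fromSpecResidueField s) ⟶ pullback G.hom (S.fromSpecResidueField s) :=
    pullback.map _ _ _ _ (𝟙 _) a (𝟙 _) (by simp) (by simp)
  have h : IsPullback m (pullback.snd G.hom (a ≫ S.fromSpecResidueField s))
      (pullback.snd G.hom (S.fromSpecResidueField s)) a := by
    refine IsPullback.of_right ?_ (pullback.lift_snd _ _ _) (IsPullback.of_hasPullback _ _)
    rw [show m ≫ pullback.fst G.hom (S.fromSpecResidueField s) = pullback.fst _ _ from
      (pullback.lift_fst _ _ _).trans (Category.comp_id _)]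
    exact IsPullback.of_hasPullback _ _
  exact MorphismProperty.of_isPullback (P := @Smooth) h (hsm s)

section
variable [LocallyOfFinitePresentation G.hom] [QuasiCompact G.hom]

/-- the points of a geometric fibre -/
noncomputable def ptHom (s : S) : (T₀ (Red.geomPt s) ⟶ G) →* GrpWord.Pt (Red.geomFibre s G) :=
  GrpWord.phi (Red.geomPt s) _

lemma ptHom_bij (s : S) : Function.Bijective (ptHom (G := G) s) :=
  (GrpWord.phiE (Red.geomPt s) _ G).bijective

lemma ser_sub_one_iff (l : Bool) (N n : ℕ) (s : S) :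
    ser (T₀ (Red.geomPt s) ⟶ G) l N n ⊆ {1} ↔ ser (GrpWord.Pt (Red.geomFibre s G)) l N n ⊆ {1} := by
  rw [← image_ser (ptHom (G := G) s) (ptHom_bij s).2 l N n]
  constructor
  · rintro h _ ⟨z, hz, rfl⟩; simp [Set.mem_singleton_iff.1 (h hz)]
  · intro h z hz
    exact (ptHom_bij s).1 ((h ⟨z, hz, rfl⟩).trans (map_one (ptHom (G := G) s)).symm)

lemma ser_sub_ser_iff (l : Bool) (N n : ℕ) (s : S) :
    ser (T₀ (Red.geomPt s) ⟶ G) l N n ⊆ ser (T₀ (Red.geomPt s) ⟶ G) l N (n + 1) ↔
      ser (GrpWord.Pt (Red.geomFibre s G)) l N n ⊆ ser (GrpWord.Pt (Red.geomFibre s G)) l N (n + 1) := by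
  rw [← image_ser (ptHom (G := G) s) (ptHom_bij s).2 l N n, ← image_ser (ptHom (G := G) s) (ptHom_bij s).2 l N (n + 1),
    Set.image_subset_image_iff (ptHom_bij s).1]

variable [QuasiSeparated G.hom]

variable (G) in
/-- stabilised at step `p` -/
def stab (l : Bool) (p : ℕ × ℕ) : Set S := incl (serFam G l (p.1 + 1) p.2) (serFam G l (p.1 + 1) (p.2 + 1))

variable (G) in
/-- trivial at step `p` -/
def triv (l : Bool) (p : ℕ × ℕ) : Set S := incl (serFam G l (p.1 + 1) p.2) (SolvFam.one G)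

lemma mem_triv (l : Bool) (p : ℕ × ℕ) (s : S) :
    s ∈ triv G l p ↔ ser (GrpWord.Pt (Red.geomFibre s G)) l (p.1 + 1) p.2 ⊆ {1} := by
  rw [triv, mem_incl_iff, vals_ser, vals_one, ser_sub_one_iff]

lemma mem_stab (l : Bool) (p : ℕ × ℕ) (s : S) :
    s ∈ stab G l p ↔ ser (GrpWord.Pt (Red.geomFibre s G)) l (p.1 + 1) p.2 ⊆
      ser (GrpWord.Pt (Red.geomFibre s G)) l (p.1 + 1) (p.2 + 1) := by
  rw [stab, mem_incl_iff, vals_ser, vals_ser, ser_sub_ser_iff]

lemma triv_subset (hsm : ∀ s : S, Smooth (G.hom.fiberToSpecResidueField s)) (l : Bool) (p : ℕ × ℕ) :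
    triv G l p ⊆ {s | Prop' l (Red.geomFibre s G)} := fun s hs => by
  have := smooth_geomFibre hsm s
  rw [Set.mem_setOf_eq, prop'_iff_pts]
  exact ⟨p.2, le_bot_iff.1 (series_le_of_wordSet l _ ⊥ fun z hz =>
    ((mem_triv l p s).1 hs) (wordSet_subset_ser l p.1 p.2 hz))⟩

theorem mem_iff (hsm : ∀ s : S, Smooth (G.hom.fiberToSpecResidueField s)) (l : Bool) (p : ℕ × ℕ) {s : S}
    (hs : s ∈ stab G l p) : Prop' l (Red.geomFibre s G) ↔ s ∈ triv G l p := by
  have := smooth_geomFibre hsm s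
  rw [prop'_iff_pts, exists_bot_iff ((mem_stab l p s).1 hs), mem_triv]

theorem exists_mem_stab (hsm : ∀ s : S, Smooth (G.hom.fiberToSpecResidueField s)) (l : Bool) (s : S) :
    ∃ p, s ∈ stab G l p := by
  have := smooth_geomFibre hsm s
  have : LocallyOfFiniteType (Red.geomFibre s G).hom := inferInstance
  have : QuasiCompact (Red.geomFibre s G).hom := MorphismProperty.pullback_snd (P := @QuasiCompact) _ _ ‹_›
  have := GenDerived.geometricallyReduced_of_smooth (Red.geomFibre s G)
  obtain ⟨N, n, h⟩ := SolvField.exists_stable (G := Red.geomFibre s G) l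
  exact ⟨(N, n), (mem_stab l _ s).2 h⟩

lemma isIndConstructible_iUnion {X : Type u} [TopologicalSpace X] {J : Type*} (F : J → Set X)
    (hF : ∀ i, IsLocallyConstructible (F i)) : ProCons.IsIndConstructible (⋃ i, F i) := by
  intro x
  refine ⟨Set.univ, isOpen_univ, trivial, Set.range fun i => Subtype.val ⁻¹' F i, ?_, ?_⟩
  · rintro _ ⟨i, rfl⟩
    exact (hF i).preimage_of_isOpenEmbedding isOpen_univ.isOpenEmbedding_subtypeVal
  · rw [Set.preimage_iUnion, Set.sUnion_range]

theorem isLocallyConstructible_locus (hsm : ∀ s : S, Smooth (G.hom.fiberToSpecResidueField s)) (l : Bool) :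
    IsLocallyConstructible {s : S | Prop' l (Red.geomFibre s G)} := by
  let E := {s : S | Prop' l (Red.geomFibre s G)}
  have h1 : E = ⋃ p, stab G l p ∩ triv G l p := Set.ext fun s => by
    refine ⟨fun h => ?_, fun h => ?_⟩
    · obtain ⟨p, hp⟩ := exists_mem_stab hsm l s
      exact Set.mem_iUnion.2 ⟨p, hp, (mem_iff hsm l p hp).1 h⟩
    · obtain ⟨p, -, hp⟩ := Set.mem_iUnion.1 h
      exact triv_subset hsm l p hp
  have h2 : Eᶜ = ⋃ p, stab G l p ∩ (triv G l p)ᶜ := Set.ext fun s => by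
    refine ⟨fun h => ?_, fun h => ?_⟩
    · obtain ⟨p, hp⟩ := exists_mem_stab hsm l s
      exact Set.mem_iUnion.2 ⟨p, hp, fun h' => h ((mem_iff hsm l p hp).2 h')⟩
    · obtain ⟨p, hp, hp'⟩ := Set.mem_iUnion.1 h
      exact fun h' => hp' ((mem_iff hsm l p hp).1 h')
  refine ConsPts12.isLocallyConstructible_iff.2 ⟨?_, ConsPts12.isProConstructible_iff.2 ?_⟩
  · show ProCons.IsIndConstructible E
    rw [h1]
    exact isIndConstructible_iUnion _ fun p => (isLocallyConstructible_incl _ _).inter (isLocallyConstructible_incl _ _)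
  · have h := ConsPts12.isIndConstructible_iff.1 (h2.symm ▸ isIndConstructible_iUnion _ fun p =>
      (isLocallyConstructible_incl _ _).inter (GenSpread.isLocallyConstructible_compl (isLocallyConstructible_incl _ _)) :
        ProCons.IsIndConstructible Eᶜ)
    rwa [compl_compl] at h

lemma smooth_cprodFam (A B : Fam G) (hA : Smooth A.P.hom) (hB : Smooth B.P.hom) :
    ∀ N, Smooth (cprodFam A B N).P.hom
  | 0 => inferInstanceAs (Smooth (𝟙 S))
  | N + 1 => by
    have := smooth_cprodFam A B hA hB N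
    have key : ∀ X Y : Over S, Smooth X.hom → Smooth Y.hom → Smooth (X ⊗ Y).hom := fun X Y hX hY => by
      show Smooth (pullback.fst X.hom Y.hom ≫ X.hom)
      exact MorphismProperty.comp_mem _ _ _ (MorphismProperty.pullback_fst _ _ hY) hX
    exact key _ _ (key _ _ hA hB) (key _ _ (key _ _ hA hB) this)

lemma smooth_serFam [hG : Smooth G.hom] (l : Bool) (N : ℕ) : ∀ n, Smooth (serFam G l N n).P.hom
  | 0 => hG
  | n + 1 => smooth_cprodFam _ _ (smooth_serFam l N n) (by
      cases l
      · exact smooth_serFam false N n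
      · exact hG) N

theorem triv_specializes [Smooth G.hom] [IsSeparated G.hom] (l : Bool) (p : ℕ × ℕ) {s s' : S} (h : s' ⤳ s)
    (hs : s' ∈ triv G l p) : s ∈ triv G l p := by
  let F := serFam G l (p.1 + 1) p.2
  have : Smooth F.P.hom := smooth_serFam l _ _
  intro x hx hxF
  obtain ⟨q, rfl⟩ := hxF
  have hq : F.P.hom q = s := by rw [← Over.w F.f]; exact hx
  obtain ⟨q', hq', hq'0⟩ := Flat.generalizingMap F.P.hom (hq.symm ▸ h)
  have h1 := hs (F.f.left q') (by rw [← Scheme.Hom.comp_apply, Over.w]; exact hq'0) ⟨q', rfl⟩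
  let o : S ⟶ G.left := (1 : 𝟙_ (Over S) ⟶ G).left
  have ho : o ≫ G.hom = 𝟙 S := Over.w (1 : 𝟙_ (Over S) ⟶ G)
  have : IsClosedImmersion (o ≫ G.hom) := by rw [ho]; infer_instance
  have : IsClosedImmersion o := IsClosedImmersion.of_comp o G.hom
  exact (hq'.map F.f.left.continuous).mem_closed o.isClosedEmbedding.isClosed_range h1

theorem isClosed_locus [Smooth G.hom] [IsSeparated G.hom] (hsm : ∀ s : S, Smooth (G.hom.fiberToSpecResidueField s))
    (l : Bool) : IsClosed {s : S | Prop' l (Red.geomFibre s G)} := by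
  let E := {s : S | Prop' l (Red.geomFibre s G)}
  have hc : ProCons.IsIndConstructible Eᶜ :=
    (ConsPts12.isLocallyConstructible_iff.1
      (GenSpread.isLocallyConstructible_compl (isLocallyConstructible_locus hsm l))).1
  refine isOpen_compl_iff.1 (isOpen_iff_forall_mem_open.2 fun x hx => ⟨interior Eᶜ, interior_subset, isOpen_interior, ?_⟩)
  rw [ConsPts12.mem_interior_iff hc]
  intro x' hx' hE
  obtain ⟨p, hp⟩ := exists_mem_stab hsm l x'
  exact hx (triv_subset hsm l p (triv_specializes l p hx' ((mem_iff hsm l p hp).1 hE)))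

end

end Groth.Agent.CAlg6.SolvLocus
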