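import Mathlib
import Groth.Agent.CAlg7.ArtinFlat
import Groth.Agent.LC16.SopRegular
import Groth.Agent.CAlg4.CMFibreRegular

/-! Finite free quasi-sections over an Artinian local ring and rationalisation of their points. -/

set_option autoImplicit false
universe u
open IsLocalRing TensorProduct

namespace Groth.Agent.CAlg6.StrictRat

variable {A : Type u} [CommRing A] [IsArtinianRing A] [IsLocalRing A]

theorem comap_algebraMap_eq {S : Type u} [CommRing S] [Algebra A S] (P : Ideal S) [P.IsPrime] :
    P.comap (algebraMap A S) = maximalIdeal A :=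
  eq_maximalIdeal (IsArtinianRing.isMaximal_of_isPrime _)

theorem exists_cut (S : Type u) [CommRing S] [Algebra A S] [Algebra.FiniteType A S] [Module.Flat A S]
    (P : Ideal S) [P.IsMaximal] [LocCoh.IsCohenMacaulayLocalRing (EGA4.FibLocRing A S P)] :
    ∃ (B : Type u) (_ : CommRing B) (_ : IsLocalRing B) (_ : Algebra A B) (_ : Module.Finite A B)
      (_ : Module.Free A B) (φ : S →ₐ[A] B), (maximalIdeal B).comap φ.toRingHom = P ∧ Function.Surjective φ := by
  haveI : IsNoetherianRing S := Algebra.FiniteType.isNoetherianRing A S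
  let R := Localization.AtPrime P
  haveI : Module.Flat A R := Module.Flat.trans A S R
  let π : R →+* EGA4.FibLocRing A S P := Ideal.Quotient.mk _
  have hπ : Function.Surjective π := Ideal.Quotient.mk_surjective
  obtain ⟨d, hd⟩ : ∃ d : ℕ, ringKrullDim (EGA4.FibLocRing A S P) = d := by
    have h1 := ringKrullDim_ne_bot (R := EGA4.FibLocRing A S P)
    have h2 := ringKrullDim_ne_top (R := EGA4.FibLocRing A S P)
    obtain ⟨a, ha⟩ := WithBot.ne_bot_iff_exists.1 h1
    obtain ⟨d, rfl⟩ := WithTop.ne_top_iff_exists.1 (show a ≠ ⊤ by rintro rfl; exact h2 ha.symm)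
    exact ⟨d, ha.symm⟩
  obtain ⟨rs, hlen, hrm, hrs⟩ := Groth.Agent.LC16.exists_isRegular_of_CM hd
  obtain ⟨rs', rfl⟩ : ∃ l : List R, l.map π = rs := List.map_surjective_iff.2 hπ rs
  have hkm : RingHom.ker π = (maximalIdeal A).map (algebraMap A R) := by
    rw [Ideal.mk_ker, comap_algebraMap_eq]
  have hwr : RingTheory.Sequence.IsWeaklyRegular R rs' := by
    refine (CAlg7.ArtinFlat.isWeaklyRegular_iff (A := A) (M := R) (maximalIdeal.isMaximal A).ne_top rs').1 ?_
    exact (CAlg7.ArtinFlat.isWeaklyRegular_quot π hπ hkm rs').2 hrs.toIsWeaklyRegular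
  haveI := CAlg7.ArtinFlat.flat_of_isWeaklyRegular (A := A) rs' hwr
  let J : Ideal R := Ideal.ofList rs'
  let B := R ⧸ J
  have hJm : J ≤ maximalIdeal R := by
    refine Ideal.span_le.2 fun r hr => ?_
    have h1 : π r ∈ maximalIdeal _ := hrm _ (List.mem_map_of_mem hr)
    exact fun hu => h1 (hu.map π)
  haveI : Nontrivial B := Ideal.Quotient.nontrivial_iff.2
    (ne_top_of_le_ne_top (maximalIdeal.isMaximal R).ne_top hJm)
  haveI : IsLocalRing B := IsLocalRing.of_surjective' _ (Ideal.Quotient.mk_surjective (I := J))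
  haveI : Module.Flat A B := Module.Flat.of_linearEquiv
    ((Submodule.quotEquivOfEq _ _ (by rw [smul_eq_mul, Ideal.mul_top])).restrictScalars A :
      B ≃ₗ[A] R ⧸ (J • (⊤ : Submodule R R)))
  -- dimension zero
  have hdim0 : ringKrullDim (EGA4.FibLocRing A S P ⧸ Ideal.ofList (rs'.map π)) = 0 := by
    haveI : Nontrivial (EGA4.FibLocRing A S P ⧸ Ideal.ofList (rs'.map π)) :=
      Ideal.Quotient.nontrivial_iff.2 (ne_top_of_le_ne_top (maximalIdeal.isMaximal _).ne_top (Ideal.span_le.2 hrm))
    haveI : IsLocalRing (EGA4.FibLocRing A S P ⧸ Ideal.ofList (rs'.map π)) :=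
      IsLocalRing.of_surjective' _ Ideal.Quotient.mk_surjective
    haveI : IsNoetherianRing (EGA4.FibLocRing A S P ⧸ Ideal.ofList (rs'.map π)) :=
      isNoetherianRing_of_surjective _ _ _ (Ideal.Quotient.mk_surjective (I := Ideal.ofList (rs'.map π)))
    have h := ringKrullDim_add_length_eq_ringKrullDim_of_isRegular (rs'.map π) hrs
    rw [hlen, hd] at h
    obtain ⟨a, ha⟩ := (WithBot.ne_bot_iff_exists (x := ringKrullDim (EGA4.FibLocRing A S P ⧸ Ideal.ofList (rs'.map π)))).1
      (fun hb => by
        have := ringKrullDim_nonneg_of_nontrivial (R := EGA4.FibLocRing A S P ⧸ Ideal.ofList (rs'.map π))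
        rw [hb] at this
        simp at this)
    rw [← ha] at h ⊢
    have h' : a + (d : ℕ∞) = (d : ℕ∞) := by exact_mod_cast h
    have h'' : a + (d : ℕ∞) = 0 + (d : ℕ∞) := by rw [zero_add]; exact h'
    rw [WithTop.add_right_cancel (ENat.coe_ne_top d) h'']
    rfl
  haveI : Ring.KrullDimLE 0 (EGA4.FibLocRing A S P ⧸ Ideal.ofList (rs'.map π)) :=
    (Order.krullDimLE_iff _ _).2 (le_of_eq hdim0)
  haveI : Ring.KrullDimLE 0 B := by
    refine Ring.krullDimLE_zero_iff.2 fun q hq => ?_
    let q' := q.comap (Ideal.Quotient.mk J)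
    have hqJ : J ≤ q' := fun r hr => by
      rw [Ideal.mem_comap, Ideal.Quotient.eq_zero_iff_mem.2 hr]; exact zero_mem q
    have hqk : RingHom.ker π ≤ q' := by
      rw [hkm, Ideal.map_le_iff_le_comap, ← comap_algebraMap_eq (A := A) (S := R) q']
    let q₁ := q'.map π
    haveI : q₁.IsPrime := Ideal.map_isPrime_of_surjective hπ hqk
    have hJq : Ideal.ofList (rs'.map π) ≤ q₁ := by
      rw [← Ideal.map_ofList]; exact Ideal.map_mono hqJ
    let q₂ := q₁.map (Ideal.Quotient.mk (Ideal.ofList (rs'.map π)))
    haveI : q₂.IsPrime := Ideal.map_isPrime_of_surjective Ideal.Quotient.mk_surjective (by rwa [Ideal.mk_ker])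
    have hmax : q₁.IsMaximal := by
      haveI : q₂.IsMaximal := Ideal.IsPrime.isMaximal' (R := EGA4.FibLocRing A S P ⧸ Ideal.ofList (rs'.map π)) (I := q₂) inferInstance
      have : q₁ = q₂.comap (Ideal.Quotient.mk _) := by
        rw [Ideal.comap_map_of_surjective' _ Ideal.Quotient.mk_surjective, Ideal.mk_ker, sup_eq_left.2 hJq]
      rw [this]
      exact Ideal.comap_isMaximal_of_surjective _ Ideal.Quotient.mk_surjective
    have hq' : q' = q₁.comap π := by
      rw [Ideal.comap_map_of_surjective' _ hπ, sup_eq_left.2 hqk]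
    haveI : q'.IsMaximal := hq' ▸ Ideal.comap_isMaximal_of_surjective _ hπ
    have : q = q'.map (Ideal.Quotient.mk J) := (Ideal.map_comap_of_surjective _ Ideal.Quotient.mk_surjective q).symm
    rw [this]
    refine (Ideal.map_eq_top_or_isMaximal_of_surjective _ Ideal.Quotient.mk_surjective ‹q'.IsMaximal›).resolve_left ?_
    rw [← this]; exact hq.ne_top
  haveI : IsArtinianRing B := isArtinianRing_iff_isNoetherianRing_krullDimLE_zero.2 ⟨inferInstance, inferInstance⟩
  let φ : S →ₐ[A] B := (Ideal.Quotient.mkₐ A J).comp (IsScalarTower.toAlgHom A S R)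
  have hP : (maximalIdeal B).comap φ.toRingHom = P := by
    show (maximalIdeal B).comap ((Ideal.Quotient.mk J).comp (algebraMap S R)) = P
    rw [← Ideal.comap_comap, IsLocalRing.eq_maximalIdeal
      (Ideal.comap_isMaximal_of_surjective (K := maximalIdeal B) _ (Ideal.Quotient.mk_surjective (I := J)))]
    exact IsLocalization.AtPrime.comap_maximalIdeal _ P
  obtain ⟨n, hn⟩ := IsArtinianRing.isNilpotent_jacobson_bot (R := B)
  rw [IsLocalRing.jacobson_eq_maximalIdeal _ bot_ne_top, Ideal.zero_eq_bot] at hn
  have hsurj : Function.Surjective φ := by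
    intro b
    obtain ⟨r, rfl⟩ := Ideal.Quotient.mk_surjective b
    obtain ⟨s, t, rfl⟩ := IsLocalization.exists_mk'_eq P.primeCompl r
    have htP : (t : S) ∉ P := t.2
    have htop : P ^ n ⊔ Ideal.span {(t : S)} = ⊤ := by
      refine Ideal.pow_sup_eq_top ?_
      by_contra hne
      have := Ideal.IsMaximal.eq_of_le ‹P.IsMaximal› hne le_sup_left
      exact htP (this.ge (Ideal.mem_sup_right (Ideal.mem_span_singleton_self _)))
    obtain ⟨p, hp, v, hv, hpv⟩ := Submodule.mem_sup.1 ((Ideal.eq_top_iff_one _).1 htop)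
    obtain ⟨c, rfl⟩ := Ideal.mem_span_singleton'.1 hv
    have hpB : φ p = 0 := by
      have h1 : φ.toRingHom p ∈ (P ^ n).map φ.toRingHom := Ideal.mem_map_of_mem _ hp
      rw [Ideal.map_pow] at h1
      have h2 : φ.toRingHom p ∈ maximalIdeal B ^ n :=
        Ideal.pow_right_mono (Ideal.map_le_iff_le_comap.2 hP.ge) n h1
      rw [hn, Ideal.mem_bot] at h2
      exact h2
    refine ⟨c * s, ?_⟩
    have h1 : φ c * φ t = 1 := by
      rw [← map_mul, ← map_one φ, ← hpv, map_add, hpB, zero_add]
    have h2 : Ideal.Quotient.mk J (IsLocalization.mk' R s t) * φ t = φ s := by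
      show _ * Ideal.Quotient.mk J (algebraMap S R t) = Ideal.Quotient.mk J (algebraMap S R s)
      rw [← map_mul, IsLocalization.mk'_spec]
    rw [map_mul, ← h2, mul_comm (Ideal.Quotient.mk J _), ← mul_assoc, h1, one_mul]
  haveI : Algebra.FiniteType A B := Algebra.FiniteType.of_surjective φ hsurj
  haveI : Module.Finite A B := (Module.finite_iff_isArtinianRing A B).2 inferInstance
  haveI : Module.Free A B := Module.free_of_flat_of_isLocalRing
  exact ⟨B, inferInstance, inferInstance, inferInstance, inferInstance, inferInstance, φ, hP, hsurj⟩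

section Rationalise

variable (B : Type u) [CommRing B] [Algebra A B] [Module.Finite A B] [Module.Free A B]

/-- a point of `B ⊗ A'` over the closed point of `A'` gives one more residual homomorphism -/
theorem exists_step (A' : Type u) [CommRing A'] [IsLocalRing A'] [Algebra A A'] [Module.Finite A A'] [Module.Free A A']
    {Ω : Type u} [Field Ω] [Algebra A Ω] (a : B →ₐ[A] Ω) (b : A' →ₐ[A] Ω) :
    ∃ (A'' : Type u) (_ : CommRing A'') (_ : IsLocalRing A'') (_ : Algebra A A'') (_ : Module.Finite A A'')
      (_ : Module.Free A A'') (i : A' →ₐ[A] A'') (ψ : B →ₐ[A] A'') (c : A'' →ₐ[A] Ω),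
      c.comp i = b ∧ c.comp ψ = a := by
  let C := B ⊗[A] A'
  let ab : C →ₐ[A] Ω := Algebra.TensorProduct.productMap a b
  let q : Ideal C := RingHom.ker ab
  haveI hq : q.IsPrime := RingHom.ker_isPrime _
  haveI : IsArtinianRing C := IsArtinianRing.of_finite A C
  let A'' := Localization.AtPrime q
  haveI : Module.Finite A A'' := Module.Finite.of_surjective (IsScalarTower.toAlgHom A C A'').toLinearMap
    (IsArtinianRing.localization_surjective q.primeCompl A'')
  haveI : Module.Flat A A'' := Module.Flat.trans A C A''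
  haveI : Module.Free A A'' := Module.free_of_flat_of_isLocalRing
  have hu : ∀ y : q.primeCompl, IsUnit (ab y) := fun y => isUnit_iff_ne_zero.2 y.2
  let c : A'' →ₐ[A] Ω := IsLocalization.liftAlgHom (M := q.primeCompl) (f := ab) hu
  have hc : ∀ x, c (algebraMap C A'' x) = ab x := fun x => IsLocalization.lift_eq _ x
  refine ⟨A'', inferInstance, inferInstance, inferInstance, inferInstance, inferInstance,
    (IsScalarTower.toAlgHom A C A'').comp Algebra.TensorProduct.includeRight,
    (IsScalarTower.toAlgHom A C A'').comp Algebra.TensorProduct.includeLeft, c, ?_, ?_⟩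
  · ext x; exact (hc _).trans (by show Algebra.TensorProduct.productMap a b (_ ⊗ₜ _) = _; simp)
  · ext x; exact (hc _).trans (by show Algebra.TensorProduct.productMap a b (_ ⊗ₜ _) = _; simp)

/-- a finite free local algebra over which all points with values in fields lift -/
theorem exists_rationalising :
    ∃ (A' : Type u) (_ : CommRing A') (_ : IsLocalRing A') (_ : Algebra A A') (_ : Module.Finite A A')
      (_ : Module.Free A A'), ∀ (Ω : Type u) [Field Ω] [Algebra A Ω] (a : B →ₐ[A] Ω) (b : A' →ₐ[A] Ω),
        ∃ ψ : B →ₐ[A] A', b.comp ψ = a := by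
  classical
  by_contra H
  push_neg at H
  have key : ∀ n : ℕ, ∃ (A' : Type u) (_ : CommRing A') (_ : IsLocalRing A') (_ : Algebra A A') (_ : Module.Finite A A')
      (_ : Module.Free A A') (f : Fin n → (B →ₐ[A] A')), Function.Injective fun j => (residue A').comp (f j).toRingHom := by
    intro n
    induction n with
    | zero => exact ⟨A, inferInstance, inferInstance, inferInstance, inferInstance, inferInstance, Fin.elim0,
        fun j => j.elim0⟩
    | succ n ih =>
      obtain ⟨A', i₁, i₂, i₃, i₄, i₅, f, hf⟩ := ih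
      obtain ⟨Ω, _, _, a, b, hab⟩ := H A' i₁ i₂ i₃ i₄ i₅
      obtain ⟨A'', j₁, j₂, j₃, j₄, j₅, i, ψ, c, hci, hcψ⟩ := exists_step B A' a b
      refine ⟨A'', j₁, j₂, j₃, j₄, j₅, Fin.cons ψ fun j => i.comp (f j), ?_⟩
      haveI : IsArtinianRing A' := IsArtinianRing.of_finite A A'
      haveI : IsArtinianRing A'' := IsArtinianRing.of_finite A A''
      haveI := RingHom.ker_isPrime c.toRingHom
      haveI := RingHom.ker_isPrime b.toRingHom
      have hker : RingHom.ker c.toRingHom = maximalIdeal A'' :=
        eq_maximalIdeal (IsArtinianRing.isMaximal_of_isPrime _)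
      have hkb : RingHom.ker b.toRingHom = maximalIdeal A' :=
        eq_maximalIdeal (IsArtinianRing.isMaximal_of_isPrime _)
      have res_eq : ∀ x y : A'', residue A'' x = residue A'' y → c x = c y := fun x y h => by
        rw [← sub_eq_zero, ← map_sub]
        show x - y ∈ RingHom.ker c.toRingHom
        rw [hker]
        exact Ideal.Quotient.eq.1 h
      have res_eq' : ∀ x y : A', b x = b y → residue A' x = residue A' y := fun x y h => by
        refine Ideal.Quotient.eq.2 ?_
        rw [← hkb, RingHom.mem_ker, map_sub]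
        exact sub_eq_zero.2 h
      intro p p' hpp
      have hp : ∀ x, c ((Fin.cons ψ fun j => i.comp (f j) : Fin (n + 1) → (B →ₐ[A] A'')) p x) =
          c ((Fin.cons ψ fun j => i.comp (f j) : Fin (n + 1) → (B →ₐ[A] A'')) p' x) :=
        fun x => res_eq _ _ (RingHom.congr_fun hpp x)
      refine Fin.cases (fun hp => ?_) (fun j hp => ?_) p hp <;> refine Fin.cases (fun hp => ?_) (fun j' hp => ?_) p' hp
      · rfl
      · refine absurd ?_ (hab (f j'))
        ext x
        have := hp x
        simp only [Fin.cons_zero, Fin.cons_succ, AlgHom.comp_apply] at this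
        rw [← hcψ, ← hci, AlgHom.comp_apply, AlgHom.comp_apply, AlgHom.comp_apply]
        exact this.symm
      · refine absurd ?_ (hab (f j))
        ext x
        have := hp x
        simp only [Fin.cons_zero, Fin.cons_succ, AlgHom.comp_apply] at this
        rw [← hcψ, ← hci, AlgHom.comp_apply, AlgHom.comp_apply, AlgHom.comp_apply]
        exact this
      · refine congrArg Fin.succ (hf (RingHom.ext fun x => res_eq' _ _ ?_))
        have := hp x
        simp only [Fin.cons_succ, AlgHom.comp_apply] at this
        rw [← hci, AlgHom.comp_apply, AlgHom.comp_apply]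
        exact this
  let ι := Module.Free.ChooseBasisIndex A B
  let β : Module.Basis ι A B := Module.Free.chooseBasis A B
  obtain ⟨A', _, _, _, _, _, f, hf⟩ := key (Fintype.card ι + 1)
  let g : Fin (Fintype.card ι + 1) → (B →ₐ[A] ResidueField A') :=
    fun j => (IsScalarTower.toAlgHom A A' (ResidueField A')).comp (f j)
  have hg : Function.Injective g := fun p p' h =>
    hf (RingHom.ext fun x => AlgHom.congr_fun h x)
  have hli := (linearIndependent_algHom_toLinearMap A B (ResidueField A')).comp g hg
  let e : (ι → ResidueField A') ≃ₗ[ResidueField A'] (B →ₗ[A] ResidueField A') := β.constr (ResidueField A')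
  have h2 := (hli.map' e.symm.toLinearMap e.symm.ker).fintype_card_le_finrank
  rw [Module.finrank_pi, Fintype.card_fin] at h2
  omega

end Rationalise

end Groth.Agent.CAlg6.StrictRat
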