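import Groth.Agent.CAlg6.StrictRat
import Groth.Agent.SGA3a.GrpStalk
import Groth.Agent.CAlg1.CMPoly

/-! Strictly rational points of flat groups over Artinian local rings. -/

set_option autoImplicit false
universe u
open CategoryTheory CategoryTheory.Limits MonoidalCategory CartesianMonoidalCategory MonObj GrpObj AlgebraicGeometry
open scoped TensorProduct

noncomputable section

namespace Groth.Agent.CAlg6.StrictRatScheme

theorem cm_fibLocRing {A S : Type u} [CommRing A] [IsArtinianRing A] [IsLocalRing A] [CommRing S] [Algebra A S]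
    (G : Over (Spec (CommRingCat.of A))) [GrpObj G] [LocallyOfFiniteType G.hom]
    (i : Spec (CommRingCat.of S) ⟶ G.left) [IsOpenImmersion i]
    (hi : i ≫ G.hom = Spec.map (CommRingCat.ofHom (algebraMap A S))) (P : Ideal S) [P.IsPrime] :
    LocCoh.IsCohenMacaulayLocalRing (EGA4.FibLocRing A S P) := by
  let p : Ideal A := IsLocalRing.maximalIdeal A
  haveI : P.LiesOver p := ⟨(StrictRat.comap_algebraMap_eq P).symm⟩
  let k := p.ResidueField
  let σ := Spec.map (CommRingCat.ofHom (algebraMap A k))
  let Q : Ideal (p.Fiber S) := (PrimeSpectrum.preimageEquivFiber A S ⟨p, inferInstance⟩ ⟨⟨P, inferInstance⟩, PrimeSpectrum.ext (StrictRat.comap_algebraMap_eq P)⟩).asIdeal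
  haveI : Q.IsPrime := PrimeSpectrum.isPrime _
  have hQ : Q.comap (Algebra.TensorProduct.includeRight.toRingHom) = P :=
    congrArg (fun z : {q : PrimeSpectrum S // _} => z.1.asIdeal)
      ((PrimeSpectrum.preimageEquivFiber A S ⟨p, inferInstance⟩).symm_apply_apply
        ⟨⟨P, inferInstance⟩, PrimeSpectrum.ext (StrictRat.comap_algebraMap_eq P)⟩)
  obtain ⟨e, -⟩ := CAlg4.CMFibreRegular.exists_fibLocEquiv p P Q hQ
  let Gk : Over (Spec (CommRingCat.of k)) := (Over.pullback σ).obj G
  letI : GrpObj Gk := Functor.grpObjObj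
  haveI : LocallyOfFiniteType Gk.hom := inferInstanceAs (LocallyOfFiniteType (pullback.snd G.hom σ))
  let m : pullback (Spec.map (CommRingCat.ofHom (algebraMap A S))) σ ⟶ pullback G.hom σ :=
    pullback.map _ _ _ _ i (𝟙 _) (𝟙 _) (by rw [Category.comp_id, hi]) (by simp)
  haveI : IsOpenImmersion m :=
    MorphismProperty.pullbackMap (P := @IsOpenImmersion) ‹IsOpenImmersion i› (inferInstanceAs (IsOpenImmersion (𝟙 _)))
      hi.symm (Category.id_comp σ).symm
  let j : Spec (CommRingCat.of (p.Fiber S)) ⟶ Gk.left :=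
    (pullbackSpecIso A k S).inv ≫ (pullbackSymmetry _ _).hom ≫ m
  haveI : IsOpenImmersion j := inferInstanceAs (IsOpenImmersion (_ ≫ _ ≫ m))
  let z : Spec (CommRingCat.of (p.Fiber S)) := ⟨Q, inferInstance⟩
  have h0 := Groth.Agent.SGA3a.cm_stalk_grp Gk (j z)
  have h1 := Groth.Agent.CAlg1.cm_of_ringEquiv (asIso (j.stalkMap z)).commRingCatIsoToRingEquiv h0
  let ε : Localization.AtPrime Q ≃ₐ[p.Fiber S] (Spec.structureSheaf (p.Fiber S)).presheaf.stalk z :=
    IsLocalization.algEquiv Q.primeCompl _ _
  let er : ↑((Spec (CommRingCat.of (p.Fiber S))).presheaf.stalk z) ≃+* Localization.AtPrime Q :=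
    { toFun := fun v => ε.symm v
      invFun := fun v => ε v
      left_inv := fun v => ε.apply_symm_apply v
      right_inv := fun v => ε.symm_apply_apply v
      map_mul' := fun v w => map_mul ε.symm v w
      map_add' := fun v w => map_add ε.symm v w }
  exact Groth.Agent.CAlg1.cm_of_ringEquiv e.symm (Groth.Agent.CAlg1.cm_of_ringEquiv (B := Localization.AtPrime Q) er h1)

theorem main (A : Type u) [CommRing A] [IsArtinianRing A] [IsLocalRing A] (G : Over (Spec (CommRingCat.of A))) [GrpObj G] [Flat G.hom]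
    [LocallyOfFiniteType G.hom] (x : G.left) (hx : IsClosed ({x} : Set G.left)) :
    ∃ (A' : Type u) (_ : CommRing A') (_ : IsLocalRing A') (_ : Algebra A A') (_ : Module.Finite A A') (_ : Module.Free A A'),
      ∀ x' : ↥(pullback G.hom (Spec.map (CommRingCat.ofHom (algebraMap A A')))),
        (pullback.fst G.hom (Spec.map (CommRingCat.ofHom (algebraMap A A')))).base x' = x →
        ∃ s : Spec (CommRingCat.of A') ⟶ pullback G.hom (Spec.map (CommRingCat.ofHom (algebraMap A A'))),
          s ≫ pullback.snd G.hom (Spec.map (CommRingCat.ofHom (algebraMap A A'))) = 𝟙 _ ∧ x' ∈ Set.range s.base := by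
  obtain ⟨_, ⟨U, hU, rfl⟩, hxU, -⟩ :=
    G.left.isBasis_affineOpens.exists_subset_of_mem_open (Set.mem_univ x) isOpen_univ
  let U' : G.left.Opens := U
  replace hU : IsAffineOpen U' := hU
  let S : Type u := Γ(G.left, U')
  let φA := Spec.preimage (hU.fromSpec ≫ G.hom)
  have hi : hU.fromSpec ≫ G.hom = Spec.map φA := (Spec.map_preimage _).symm
  letI : Algebra A S := φA.hom.toAlgebra
  have hflat : Flat (Spec.map φA) := by rw [← hi]; infer_instance
  have hft : LocallyOfFiniteType (Spec.map φA) := by rw [← hi]; infer_instance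
  haveI : Module.Flat A S := (HasRingHomProperty.Spec_iff (P := @Flat)).1 hflat
  haveI : Algebra.FiniteType A S := (HasRingHomProperty.Spec_iff (P := @LocallyOfFiniteType)).1 hft
  obtain ⟨y, hy⟩ : x ∈ Set.range hU.fromSpec := by rw [hU.range_fromSpec]; exact hxU
  haveI : y.asIdeal.IsMaximal := by
    rw [← PrimeSpectrum.isClosed_singleton_iff_isMaximal]
    have : ({y} : Set _) = hU.fromSpec ⁻¹' {x} := by
      ext w
      exact ⟨fun h => h ▸ hy, fun h => hU.fromSpec.isOpenEmbedding.injective (h.trans hy.symm)⟩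
    exact this ▸ hx.preimage hU.fromSpec.continuous
  haveI : LocCoh.IsCohenMacaulayLocalRing (EGA4.FibLocRing A S y.asIdeal : Type u) :=
    cm_fibLocRing G hU.fromSpec hi y.asIdeal
  obtain ⟨B, _, _, _, _, _, φ, hφ, hsurj⟩ := StrictRat.exists_cut (A := A) S y.asIdeal
  obtain ⟨A', _, hloc, _, _, _, H⟩ := StrictRat.exists_rationalising (A := A) B
  refine ⟨A', inferInstance, hloc, inferInstance, inferInstance, inferInstance, fun x' hx' => ?_⟩
  let σ := Spec.map (CommRingCat.ofHom (algebraMap A A'))
  let X' : Scheme.{u} := pullback G.hom σ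
  let t : Spec (X'.residueField x') ⟶ X' := X'.fromSpecResidueField x'
  let u₁ := t ≫ pullback.fst G.hom σ
  have hr : Set.range u₁ ⊆ Set.range hU.fromSpec := by
    rintro _ ⟨w, rfl⟩
    refine ⟨y, hy.trans ?_⟩
    rw [Scheme.Hom.comp_apply, Scheme.fromSpecResidueField_apply]
    exact hx'.symm
  let l := IsOpenImmersion.lift hU.fromSpec u₁ hr
  have hl : l ≫ hU.fromSpec = u₁ := IsOpenImmersion.lift_fac _ _ _
  let θ := Spec.preimage l
  have hθ : RingHom.ker θ.hom = y.asIdeal := by
    have h1 : l (IsLocalRing.closedPoint _) = y := by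
      refine hU.fromSpec.isOpenEmbedding.injective ?_
      rw [← Scheme.Hom.comp_apply, hl, Scheme.Hom.comp_apply, Scheme.fromSpecResidueField_apply]
      exact hx'.trans hy.symm
    rw [← h1, ← Spec.map_preimage l]
    show RingHom.ker θ.hom = Ideal.comap θ.hom (IsLocalRing.maximalIdeal (X'.residueField x'))
    rw [IsLocalRing.maximalIdeal_eq_bot]
    rfl
  let bR := Spec.preimage (t ≫ pullback.snd G.hom σ)
  letI : Algebra A (X'.residueField x') := (bR.hom.comp (algebraMap A A')).toAlgebra
  let b : A' →ₐ[A] X'.residueField x' := ⟨bR.hom, fun r => rfl⟩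
  have hθA : θ.hom.comp (algebraMap A S) = bR.hom.comp (algebraMap A A') := by
    have h : φA ≫ θ = CommRingCat.ofHom (algebraMap A A') ≫ bR := by
      apply Spec.map_injective
      rw [Spec.map_comp, Spec.map_comp, Spec.map_preimage, Spec.map_preimage, Spec.map_preimage, ← Category.assoc, hl,
        Category.assoc, Category.assoc, pullback.condition]
    exact congrArg CommRingCat.Hom.hom h
  let θa : S →ₐ[A] X'.residueField x' := ⟨θ.hom, fun r => RingHom.congr_fun hθA r⟩
  have hker : RingHom.ker φ.toRingHom ≤ RingHom.ker θa.toRingHom := by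
    intro r hr'
    have : r ∈ y.asIdeal := by
      rw [← hφ, Ideal.mem_comap, RingHom.mem_ker.1 hr']; exact zero_mem _
    rw [← hθ] at this
    exact this
  let eφ := Ideal.quotientKerAlgEquivOfSurjective hsurj
  let a : B →ₐ[A] X'.residueField x' := (Ideal.Quotient.liftₐ _ θa fun r hr' => hker hr').comp eφ.symm.toAlgHom
  have ha : ∀ r, a (φ r) = θa r := by
    intro r
    have h1 : eφ.symm (φ r) = Ideal.Quotient.mk (RingHom.ker φ) r := by
      rw [AlgEquiv.symm_apply_eq]; rfl
    show Ideal.Quotient.liftₐ _ θa (fun r hr' => hker hr') (eφ.symm (φ r)) = θa r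
    rw [h1]; rfl
  obtain ⟨ψ, hψ⟩ := H (X'.residueField x') a b
  let q : Spec (CommRingCat.of A') ⟶ G.left :=
    Spec.map (CommRingCat.ofHom (ψ.comp φ).toRingHom) ≫ hU.fromSpec
  have hq : q ≫ G.hom = 𝟙 _ ≫ σ := by
    rw [Category.assoc, hi, ← Spec.map_comp, Category.id_comp]
    congr 1
    ext r
    exact (ψ.comp φ).commutes r
  refine ⟨pullback.lift q (𝟙 _) hq, pullback.lift_snd _ _ _, ?_⟩
  have key : Spec.map bR ≫ pullback.lift q (𝟙 _) hq = t := by
    apply pullback.hom_ext
    · rw [Category.assoc, pullback.lift_fst, ← Category.assoc, ← Spec.map_comp]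
      refine Eq.trans ?_ hl
      congr 1
      rw [← Spec.map_preimage l]
      congr 1
      ext r
      show bR.hom (ψ (φ r)) = θa r
      rw [← ha]
      exact AlgHom.congr_fun hψ (φ r)
    · rw [Category.assoc, pullback.lift_snd, Category.comp_id, Spec.map_preimage]
  refine ⟨Spec.map bR (IsLocalRing.closedPoint _), ?_⟩
  rw [← Scheme.Hom.comp_apply, key, Scheme.fromSpecResidueField_apply]

end Groth.Agent.CAlg6.StrictRatScheme
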