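import Mathlib

/-!
Traces on symmetric tensors: `det(1 - u t) * ∑ tr(Γⁿ u) tⁿ = 1`.
-/

set_option autoImplicit false

universe u

namespace Groth.Agent.CAlg6.SymTrace

open Module PiTensorProduct Matrix
open scoped TensorProduct

variable {A : Type u} [CommRing A] {r n : ℕ}

/-- The multiset of values. -/
def ms (f : Fin n → Fin r) : Sym (Fin r) n := ⟨Finset.univ.val.map f, by simp⟩

theorem ms_surjective : Function.Surjective (ms (r := r) (n := n)) := by
  intro m
  obtain ⟨s, hs⟩ := m
  induction s using Quotient.inductionOn with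
  | h l =>
    subst hs
    refine ⟨l.get, Subtype.ext ?_⟩
    change Multiset.map l.get Finset.univ.val = _
    rw [Fin.univ_val_map, List.ofFn_get]
    rfl

/-- A section of `ms`. -/
noncomputable def rep (m : Sym (Fin r) n) : Fin n → Fin r := (ms_surjective m).choose

theorem ms_rep (m : Sym (Fin r) n) : ms (rep m) = m := (ms_surjective m).choose_spec

theorem ms_comp_perm (f : Fin n → Fin r) (σ : Equiv.Perm (Fin n)) : ms (f ∘ σ) = ms f := by
  refine Subtype.ext ?_
  change Finset.univ.val.map (f ∘ σ) = Finset.univ.val.map f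
  rw [← Multiset.map_map]
  congr 1
  have := congrArg Finset.val (Finset.map_univ_equiv σ)
  simpa using this

theorem exists_perm {f g : Fin n → Fin r} (h : ms f = ms g) : ∃ σ : Equiv.Perm (Fin n), g ∘ σ = f := by
  have hc : ∀ v, Fintype.card {i // f i = v} = Fintype.card {i // g i = v} := by
    intro v
    have := congrArg (fun s : Sym (Fin r) n => Multiset.count v s.1) h
    simp only [ms, Multiset.count_map] at this
    rw [Fintype.card_subtype, Fintype.card_subtype, Finset.card_def, Finset.card_def, Finset.filter_val,
      Finset.filter_val]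
    simpa only [eq_comm] using this
  exact ⟨Equiv.ofFiberEquiv fun v => Fintype.equivOfCardEq (hc v),
    funext fun i => Equiv.ofFiberEquiv_map _ i⟩

/-- The sum over the tensors with given content. -/
noncomputable def hn (n : ℕ) (U : Matrix (Fin r) (Fin r) A) : A :=
  ∑ m : Sym (Fin r) n, ∑ g ∈ Finset.univ.filter (fun g : Fin n → Fin r => ms g = m),
    ∏ i, U (rep m i) (g i)

theorem hn_map {B : Type u} [CommRing B] (φ : A →+* B) (U : Matrix (Fin r) (Fin r) A) :
    hn n (U.map φ) = φ (hn n U) := by
  simp [hn, map_sum, map_prod]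

section Trace

variable {M : Type u} [AddCommGroup M] [Module A M]

variable (A M) in
/-- Symmetric tensors. -/
abbrev sym (n : ℕ) : Submodule A (⨂[A] _i : Fin n, M) :=
  ⨅ σ : Equiv.Perm (Fin n),
    LinearMap.eqLocus ((PiTensorProduct.reindex A (fun _ : Fin n => M) σ).toLinearMap) LinearMap.id

theorem trace_eq_hn (b : Basis (Fin r) A M) (u : M →ₗ[A] M) (γ : sym A M n →ₗ[A] sym A M n)
    (hγ : ∀ x : sym A M n, (γ x : ⨂[A] _i : Fin n, M) =
      PiTensorProduct.map (fun _ : Fin n => u) (x : ⨂[A] _i : Fin n, M)) :
    LinearMap.trace A _ γ = hn n (LinearMap.toMatrix b b u) := by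
  classical
  let B := Basis.piTensorProduct (fun _ : Fin n => b)
  have hreindex : ∀ (σ : Equiv.Perm (Fin n)) (x : ⨂[A] _i : Fin n, M) (f : Fin n → Fin r),
      B.repr (PiTensorProduct.reindex A (fun _ : Fin n => M) σ x) f = B.repr x (f ∘ σ) := by
    intro σ x f
    induction x using PiTensorProduct.induction_on with
    | smul_tprod a x =>
      simp only [map_smul, PiTensorProduct.reindex_tprod, Finsupp.smul_apply, B,
        Basis.piTensorProduct_repr_tprod_apply, Function.comp]
      congr 1
      exact Fintype.prod_equiv σ.symm _ _ fun i => by simp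
    | add x y hx hy => simp [map_add, hx, hy]
  have hinv : ∀ (x : sym A M n) (f g : Fin n → Fin r), ms f = ms g →
      B.repr (x : ⨂[A] _i : Fin n, M) f = B.repr (x : ⨂[A] _i : Fin n, M) g := by
    intro x f g h
    obtain ⟨σ, rfl⟩ := exists_perm h
    rw [← hreindex]
    exact congrArg (fun t => B.repr t g) ((Submodule.mem_iInf _).1 x.2 σ)
  let mk : (Sym (Fin r) n → A) →ₗ[A] ⨂[A] _i : Fin n, M :=
    Fintype.linearCombination A (fun f => B f) ∘ₗ LinearMap.funLeft A A ms
  have hmk : ∀ c f, B.repr (mk c) f = c (ms f) := fun c f => by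
    simp [mk, Fintype.linearCombination_apply, map_sum, Finsupp.finset_sum_apply, Finsupp.single_apply]
  have hmem : ∀ c, mk c ∈ sym A M n := fun c => (Submodule.mem_iInf _).2 fun σ => by
    refine B.ext_elem fun f => ?_
    change B.repr (PiTensorProduct.reindex A (fun _ : Fin n => M) σ (mk c)) f = B.repr (mk c) f
    rw [hreindex, hmk, hmk, ms_comp_perm]
  let e : sym A M n ≃ₗ[A] (Sym (Fin r) n → A) :=
    { toFun := fun x m => B.repr (x : ⨂[A] _i : Fin n, M) (rep m)
      map_add' := fun x y => funext fun m => by simp
      map_smul' := fun a x => funext fun m => by simp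
      invFun := fun c => ⟨mk c, hmem c⟩
      left_inv := fun x => Subtype.ext (B.ext_elem fun f => by
        rw [hmk]
        exact hinv x _ _ (ms_rep _))
      right_inv := fun c => funext fun m => by
        change B.repr (mk c) (rep m) = c m
        rw [hmk, ms_rep] }
  let bb := Basis.ofEquivFun e
  rw [LinearMap.trace_eq_matrix_trace A bb, Matrix.trace]
  refine Finset.sum_congr rfl fun m _ => ?_
  rw [Matrix.diag_apply, LinearMap.toMatrix_apply, Basis.coe_ofEquivFun, Basis.ofEquivFun_repr_apply]
  change B.repr ((γ (e.symm (Pi.single m 1)) : sym A M n) : ⨂[A] _i : Fin n, M) (rep m) = _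
  rw [hγ]
  change B.repr (PiTensorProduct.map (fun _ : Fin n => u) (mk (Pi.single m 1))) (rep m) = _
  simp only [mk, LinearMap.comp_apply, Fintype.linearCombination_apply, map_sum, map_smul,
    Finsupp.finset_sum_apply, Finsupp.smul_apply, LinearMap.funLeft_apply, smul_eq_mul,
    Pi.single_apply, ite_mul, one_mul, zero_mul]
  rw [← Finset.sum_filter]
  refine Finset.sum_congr rfl fun g _ => ?_
  simp [B, PiTensorProduct.map_tprod, LinearMap.toMatrix_apply]

end Trace

section Lower

theorem hn_lower (U : Matrix (Fin r) (Fin r) A) (hU : ∀ i j, i < j → U i j = 0) :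
    hn n U = ∑ m : Sym (Fin r) n, (m.1.map fun i => U i i).prod := by
  classical
  refine Finset.sum_congr rfl fun m _ => ?_
  rw [Finset.sum_eq_single (rep m)]
  · conv_rhs => rw [← ms_rep m]
    simp only [ms, Multiset.map_map]
    rfl
  · intro g hg hne
    rw [Finset.mem_filter] at hg
    by_contra h0
    have hle : ∀ i, (g i : ℕ) ≤ (rep m i : ℕ) := fun i => by
      by_contra hc
      push Not at hc
      exact h0 (Finset.prod_eq_zero (Finset.mem_univ i) (hU _ _ hc))
    have hsum : ∑ i, (g i : ℕ) = ∑ i, (rep m i : ℕ) := by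
      have := congrArg (fun s : Sym (Fin r) n => (s.1.map fun v : Fin r => (v : ℕ)).sum)
        (hg.2.trans (ms_rep m).symm)
      simp only [ms, Multiset.map_map] at this
      exact this
    exact hne (funext fun i => Fin.ext
      ((Finset.sum_eq_sum_iff_of_le fun i _ => hle i).1 hsum i (Finset.mem_univ i)))
  · intro h
    exact absurd (Finset.mem_filter.2 ⟨Finset.mem_univ (rep m), ms_rep m⟩) h

theorem prod_geom (lam : Fin r → A) :
    (∏ i, (1 - PowerSeries.C (lam i) * PowerSeries.X)) *
      PowerSeries.mk (fun n => ∑ m : Sym (Fin r) n, (m.1.map lam).prod) = 1 := by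
  classical
  have h1 : PowerSeries.mk (fun n => ∑ m : Sym (Fin r) n, (m.1.map lam).prod) =
      ∏ i, PowerSeries.mk (fun k => lam i ^ k) := by
    ext n
    rw [PowerSeries.coeff_mk, PowerSeries.coeff_prod]
    refine Finset.sum_bij' (fun m _ => Multiset.toFinsupp m.1)
      (fun l hl => (⟨Finsupp.toMultiset l, ?_⟩ : Sym (Fin r) n)) ?_ ?_ ?_ ?_ ?_
    · rw [Finset.mem_finsuppAntidiag] at hl
      rw [Finsupp.card_toMultiset, Finsupp.sum_fintype _ _ (fun _ => rfl)]
      exact hl.1
    · intro m _
      rw [Finset.mem_finsuppAntidiag]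
      refine ⟨?_, Finset.subset_univ _⟩
      simp only [Multiset.toFinsupp_apply]
      rw [Multiset.sum_count_eq_card (by simp)]
      exact m.2
    · intro l _; exact Finset.mem_univ _
    · intro m _; exact Subtype.ext (by simp)
    · intro l _; simp
    · intro m _
      simp only [PowerSeries.coeff_mk, Multiset.toFinsupp_apply]
      exact Finset.prod_multiset_map_count _ _ |>.trans
        (Finset.prod_subset (Finset.subset_univ _) fun i _ hi => by
          rw [Multiset.count_eq_zero.2 (by simpa using hi), pow_zero])
  rw [h1, ← Finset.prod_mul_distrib]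
  refine Finset.prod_eq_one fun i _ => ?_
  ext k
  cases k with
  | zero => simp
  | succ k => simp [sub_mul, mul_assoc, pow_succ']

theorem identity_lower (U : Matrix (Fin r) (Fin r) A) (hU : ∀ i j, i < j → U i j = 0) :
    (U.charpolyRev : PowerSeries A) * PowerSeries.mk (fun n => hn n U) = 1 := by
  have h1 : U.charpolyRev = ∏ i, (1 - Polynomial.C (U i i) * Polynomial.X) := by
    rw [Matrix.charpolyRev, Matrix.det_of_lowerTriangular]
    · refine Finset.prod_congr rfl fun i _ => ?_
      simp [Polynomial.X_mul_C]
    · intro i j hij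
      have hij' : i < j := hij
      simp [hij'.ne, hU i j hij']
  have h2 : (U.charpolyRev : PowerSeries A) = ∏ i, (1 - PowerSeries.C (U i i) * PowerSeries.X) := by
    rw [h1, ← Polynomial.coeToPowerSeries.ringHom_apply, map_prod]
    exact Finset.prod_congr rfl fun i _ => by simp
  rw [h2, show (fun n => hn n U) = fun n => ∑ m : Sym (Fin r) n, (m.1.map fun i => U i i).prod from
    funext fun n => hn_lower U hU]
  exact prod_geom _

end Lower

section Field

variable {K : Type u} [Field K] [IsAlgClosed K]

theorem exists_lower_basis : ∀ (r : ℕ) (M : Type u) [AddCommGroup M] [Module K M]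
    [FiniteDimensional K M], finrank K M = r → ∀ u : M →ₗ[K] M,
      ∃ b : Basis (Fin r) K M, ∀ i j, i < j → LinearMap.toMatrix b b u i j = 0 := by
  intro r
  induction r with
  | zero =>
    intro M _ _ _ hM u
    exact ⟨(finBasis K M).reindex (finCongr hM), fun i => i.elim0⟩
  | succ r ih =>
    intro M _ _ _ hM u
    have : Nontrivial M := Module.nontrivial_of_finrank_eq_succ hM
    obtain ⟨c, hc⟩ := Module.End.exists_eigenvalue (K := K) (V := Module.Dual K M) u.dualMap
    obtain ⟨φ, hφ, hφ0⟩ := hc.exists_hasEigenvector
    rw [Module.End.mem_eigenspace_iff] at hφ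
    let N := LinearMap.ker φ
    have hN : finrank K N = r := by
      have h1 := φ.finrank_range_add_finrank_ker
      rw [LinearMap.range_eq_top.2 (LinearMap.surjective hφ0), finrank_top, Module.finrank_self, hM] at h1
      change finrank K (LinearMap.ker φ) = r
      omega
    have huN : ∀ x ∈ N, u x ∈ N := fun x hx => by
      change φ (u x) = 0
      have := LinearMap.congr_fun hφ x
      rw [LinearMap.dualMap_apply, LinearMap.smul_apply, LinearMap.mem_ker.1 hx, smul_zero] at this
      exact this
    obtain ⟨b, hb⟩ := ih N hN (u.restrict huN)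
    obtain ⟨y, hy⟩ : ∃ y, φ y = 1 := LinearMap.surjective hφ0 1
    let b' := Basis.mkFinCons y b
      (fun a x hx h => by
        have := congrArg φ h
        rw [map_add, map_smul, hy, LinearMap.mem_ker.1 hx, map_zero, smul_eq_mul, mul_one, add_zero] at this
        exact this)
      (fun z => ⟨-φ z, by rw [LinearMap.mem_ker, map_add, map_smul, hy]; simp⟩)
    refine ⟨b', fun i j hij => ?_⟩
    cases j using Fin.cases with
    | zero => exact absurd hij (Fin.not_lt_zero i)
    | succ j =>
      rw [LinearMap.toMatrix_apply]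
      have h1 : b' j.succ = (b j : M) := by simp [b']
      have h2 : u (b j : M) = ∑ l, LinearMap.toMatrix b b (u.restrict huN) l j • b' l.succ := by
        have h3 := congrArg Subtype.val (b.sum_repr (u.restrict huN (b j))).symm
        simp only [LinearMap.restrict_apply, Submodule.coe_sum, Submodule.coe_smul] at h3
        refine h3.trans ?_
        simp [b', LinearMap.toMatrix_apply, LinearMap.restrict_apply]
      rw [h1, h2, map_sum]
      simp only [map_smul, Basis.repr_self, Finsupp.finset_sum_apply, Finsupp.smul_apply,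
        Finsupp.single_apply, smul_eq_mul, mul_ite, mul_one, mul_zero]
      cases i using Fin.cases with
      | zero => simp
      | succ i => simp [hb i j (Fin.succ_lt_succ_iff.1 hij)]

theorem identity_field {r : ℕ} (U : Matrix (Fin r) (Fin r) K) :
    (U.charpolyRev : PowerSeries K) * PowerSeries.mk (fun n => hn n U) = 1 := by
  classical
  obtain ⟨b, hb⟩ := exists_lower_basis r (Fin r → K) (Module.finrank_fin_fun K) (Matrix.toLin' U)
  let L := LinearMap.toMatrix b b (Matrix.toLin' U)
  have hU : LinearMap.toMatrix (Pi.basisFun K (Fin r)) (Pi.basisFun K (Fin r)) (Matrix.toLin' U) = U := by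
    rw [LinearMap.toMatrix_eq_toMatrix', LinearMap.toMatrix'_toLin']
  have hhn : ∀ n, hn n U = hn n L := fun n => by
    let γ : sym K (Fin r → K) n →ₗ[K] sym K (Fin r → K) n :=
      (PiTensorProduct.map fun _ : Fin n => Matrix.toLin' U).restrict (fun x hx =>
        (Submodule.mem_iInf _).2 fun σ => by
          have h := (Submodule.mem_iInf _).1 hx σ
          change PiTensorProduct.reindex K (fun _ : Fin n => Fin r → K) σ
            (PiTensorProduct.map (fun _ : Fin n => Matrix.toLin' U) x) = _
          rw [← PiTensorProduct.map_reindex]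
          exact congrArg (PiTensorProduct.map fun _ : Fin n => Matrix.toLin' U) h)
    rw [← congrArg (hn n) hU, ← trace_eq_hn (Pi.basisFun K (Fin r)) (Matrix.toLin' U) γ (fun x => rfl),
      trace_eq_hn b (Matrix.toLin' U) γ (fun x => rfl)]
  have hcp : U.charpolyRev = L.charpolyRev := by
    rw [← Matrix.reverse_charpoly, ← Matrix.reverse_charpoly, LinearMap.charpoly_toMatrix,
      ← congrArg Matrix.charpoly hU, LinearMap.charpoly_toMatrix]
  rw [hcp, funext hhn]
  exact identity_lower L hb

end Field

theorem identity {r : ℕ} (U : Matrix (Fin r) (Fin r) A) :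
    (U.charpolyRev : PowerSeries A) * PowerSeries.mk (fun n => hn n U) = 1 := by
  classical
  haveI : IsDomain (ULift.{u} ℤ) := (ULift.ringEquiv : ULift.{u} ℤ ≃+* ℤ).toMulEquiv.isDomain ℤ
  let P := MvPolynomial (Fin r × Fin r) (ULift.{u} ℤ)
  let X : Matrix (Fin r) (Fin r) P := fun i j => MvPolynomial.X (i, j)
  have key : ∀ {B C : Type u} [CommRing B] [CommRing C] (φ : B →+* C) (W : Matrix (Fin r) (Fin r) B),
      PowerSeries.map φ ((W.charpolyRev : PowerSeries B) * PowerSeries.mk (fun n => hn n W)) =
        ((W.map φ).charpolyRev : PowerSeries C) * PowerSeries.mk (fun n => hn n (W.map φ)) := by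
    intro B C _ _ φ W
    have h1 : (W.map φ).charpolyRev = W.charpolyRev.map φ := by
      rw [Matrix.charpolyRev, Matrix.charpolyRev, ← Polynomial.coe_mapRingHom, RingHom.map_det]
      congr 1
      ext i j : 2
      by_cases h : i = j <;> simp [h]
    rw [map_mul, h1, Polynomial.polynomial_map_coe]
    congr 1
    ext n
    simp [hn_map]
  have hP : (X.charpolyRev : PowerSeries P) * PowerSeries.mk (fun n => hn n X) = 1 := by
    let φ : P →+* AlgebraicClosure (FractionRing P) := algebraMap P _
    have hφ : Function.Injective φ := by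
      rw [show φ = (algebraMap (FractionRing P) (AlgebraicClosure (FractionRing P))).comp
        (algebraMap P (FractionRing P)) from IsScalarTower.algebraMap_eq _ _ _]
      rw [RingHom.coe_comp]
      exact (algebraMap (FractionRing P) (AlgebraicClosure (FractionRing P))).injective.comp
        (IsFractionRing.injective P (FractionRing P))
    refine PowerSeries.map_injective φ hφ ?_
    rw [key, map_one]
    exact identity_field _
  let ψ : P →+* A := MvPolynomial.eval₂Hom ((Int.castRingHom A).comp ULift.ringEquiv.toRingHom)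
    fun ij => U ij.1 ij.2
  have hψ : X.map ψ = U := by
    ext i j
    exact MvPolynomial.eval₂Hom_X' _ _ (i, j)
  rw [← hψ, ← key ψ X, hP, map_one]

end Groth.Agent.CAlg6.SymTrace
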