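import Mathlib
import Groth.Agent.S0505
import Groth.Agent.E4O.LocalFinite

/-!
Tame Kummer extensions of henselian discrete valuation rings.
-/

set_option autoImplicit false
set_option linter.unusedSectionVars false

universe u

open Polynomial
open scoped IntermediateField

namespace Groth.Agent.CAlg6.TameKummer

/-- A simple root of `X ^ n - v` lifts. -/
theorem exists_pow_eq {B : Type u} [CommRing B] [HenselianLocalRing B] {n : ℕ} (hn : IsUnit (n : B)) (hn0 : n ≠ 0)
    {v c : B} (hv : IsUnit v) (hc : c ^ n - v ∈ IsLocalRing.maximalIdeal B) :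
    ∃ w : B, w ^ n = v ∧ w - c ∈ IsLocalRing.maximalIdeal B := by
  have hcu : IsUnit c := by
    by_contra h
    have h' := Ideal.pow_mem_of_mem _ ((IsLocalRing.mem_maximalIdeal c).2 h) n (Nat.pos_of_ne_zero hn0)
    exact (IsLocalRing.mem_maximalIdeal v).1 (by simpa using sub_mem h' hc) hv
  obtain ⟨w, hw, hwc⟩ := HenselianLocalRing.is_henselian (X ^ n - C v) (monic_X_pow_sub_C v hn0) c
    (by simpa using hc) (by simpa [derivative_X_pow] using hn.mul (hcu.pow (n - 1)))
  exact ⟨w, by simpa [IsRoot, sub_eq_zero] using hw, hwc⟩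

variable {O : Type u} [CommRing O] [IsDomain O] [HenselianLocalRing O] [IsAlgClosed (IsLocalRing.ResidueField O)]
variable {p : ℕ} [CharP (IsLocalRing.ResidueField O) p]

include p in
theorem isUnit_natCast {n : ℕ} (hn : ¬ p ∣ n) : IsUnit (n : O) := by
  by_contra h
  have h' := (IsLocalRing.residue_eq_zero_iff _).2 ((IsLocalRing.mem_maximalIdeal _).2 h)
  rw [map_natCast, CharP.cast_eq_zero_iff (IsLocalRing.ResidueField O) p] at h'
  exact hn h'

omit [IsDomain O] in
theorem exists_pow_eq_unit {n : ℕ} (hn : IsUnit (n : O)) (hn0 : n ≠ 0) (v : Oˣ) : ∃ w : Oˣ, w ^ n = v := by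
  obtain ⟨c, hc⟩ := IsAlgClosed.exists_pow_nat_eq (IsLocalRing.residue O v) (Nat.pos_of_ne_zero hn0)
  obtain ⟨c, rfl⟩ := IsLocalRing.residue_surjective c
  obtain ⟨w, hw, -⟩ := exists_pow_eq hn hn0 v.isUnit ((IsLocalRing.residue_eq_zero_iff _).1 (by
    rw [map_sub, map_pow, hc, sub_self]))
  refine ⟨((isUnit_pow_iff hn0).1 (hw ▸ v.isUnit)).unit, Units.ext ?_⟩
  simpa using hw

include p in
theorem exists_primitiveRoot {n : ℕ} (hn : ¬ p ∣ n) : ∃ ζ : O, IsPrimitiveRoot ζ n := by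
  have hn0 : n ≠ 0 := fun h => hn (h ▸ dvd_zero p)
  have : NeZero (n : IsLocalRing.ResidueField O) :=
    ⟨fun h => hn ((CharP.cast_eq_zero_iff (IsLocalRing.ResidueField O) p n).1 h)⟩
  obtain ⟨z, hz⟩ := HasEnoughRootsOfUnity.exists_primitiveRoot (IsLocalRing.ResidueField O) n
  obtain ⟨c, rfl⟩ := IsLocalRing.residue_surjective z
  obtain ⟨w, hw, hwc⟩ := exists_pow_eq (B := O) (v := 1) (c := c) (isUnit_natCast hn) hn0 isUnit_one
    ((IsLocalRing.residue_eq_zero_iff _).1 (by rw [map_sub, map_pow, hz.pow_eq_one, map_one, sub_self]))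
  refine ⟨w, hw, fun d hd => hz.dvd_of_pow_eq_one d ?_⟩
  rw [← map_pow, ← map_one (IsLocalRing.residue O), ← hd, map_pow, map_pow]
  congr 1
  rw [← sub_eq_zero, ← map_sub, IsLocalRing.residue_eq_zero_iff, ← neg_sub]
  exact neg_mem hwc

include p in
theorem exists_primitiveRoot_field (K : Type u) [Field K] [Algebra O K] [IsFractionRing O K] {n : ℕ}
    (hn : ¬ p ∣ n) : ∃ ζ : K, IsPrimitiveRoot ζ n := by
  obtain ⟨ζ, hζ⟩ := exists_primitiveRoot (O := O) hn
  exact ⟨_, hζ.map_of_injective (IsFractionRing.injective O K)⟩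

variable [IsDiscreteValuationRing O]

omit [HenselianLocalRing O] [IsAlgClosed (IsLocalRing.ResidueField O)] [IsDiscreteValuationRing O] in
/-- `X ^ n - ϖ` is irreducible over the fraction field. -/
theorem irreducible_X_pow_sub_uniformizer [UniqueFactorizationMonoid O] {ϖ : O} (hϖ : Irreducible ϖ) {n : ℕ}
    (hn : n ≠ 0) (K : Type u) [Field K] [Algebra O K] [IsFractionRing O K] :
    Irreducible (X ^ n - C (algebraMap O K ϖ)) := by
  have hmon := monic_X_pow_sub_C ϖ hn
  have hP : (Ideal.span {ϖ}).IsPrime := (Ideal.span_singleton_prime hϖ.ne_zero).2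
    (UniqueFactorizationMonoid.irreducible_iff_prime.1 hϖ)
  have heis : (X ^ n - C ϖ).IsEisensteinAt (Ideal.span {ϖ}) := by
    refine ⟨?_, fun {i} hi => ?_, ?_⟩
    · rw [hmon.leadingCoeff]
      exact fun h => hP.ne_top ((Ideal.eq_top_iff_one _).2 h)
    · rw [natDegree_X_pow_sub_C] at hi
      rw [coeff_sub, coeff_X_pow, if_neg hi.ne, zero_sub, coeff_C]
      split_ifs
      · exact neg_mem (Ideal.mem_span_singleton_self _)
      · simp
    · rw [coeff_sub, coeff_X_pow, if_neg hn.symm, zero_sub, coeff_C, if_pos rfl,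
        Ideal.span_singleton_pow, neg_mem_iff, Ideal.mem_span_singleton, pow_two]
      exact fun h => hϖ.not_isUnit (isUnit_of_dvd_one ((mul_dvd_mul_iff_left hϖ.ne_zero).1 (by simpa using h)))
  have h := (hmon.irreducible_iff_irreducible_map_fraction_map (K := K)).1
    (heis.irreducible hP hmon.isPrimitive (by rw [natDegree_X_pow_sub_C]; exact Nat.pos_of_ne_zero hn))
  simpa using h

/-- From `s ^ r = a ^ b` with `r`, `b` coprime, an `r`-th root of `a`. -/
theorem exists_root_of_coprime {L : Type u} [Field L] {a s : L} (ha : a ≠ 0) {r b : ℕ} (h : Nat.Coprime r b)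
    (hs : s ^ r = a ^ b) : ∃ t : L, t ^ r = a := by
  refine ⟨s ^ Nat.gcdB r b * a ^ Nat.gcdA r b, ?_⟩
  have hb : (1 : ℤ) = r * Nat.gcdA r b + b * Nat.gcdB r b := by
    rw [← Nat.gcd_eq_gcd_ab, h.gcd_eq_one, Nat.cast_one]
  calc (s ^ Nat.gcdB r b * a ^ Nat.gcdA r b) ^ r
      = (s ^ r) ^ Nat.gcdB r b * (a ^ Nat.gcdA r b) ^ r := by
        rw [mul_pow, ← zpow_natCast (s ^ Nat.gcdB r b) r, ← zpow_mul, ← zpow_natCast s r, ← zpow_mul, mul_comm]
        rw [mul_comm (Nat.gcdB r b)]; ring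
    _ = a ^ ((r : ℤ) * Nat.gcdA r b + b * Nat.gcdB r b) := by
        rw [hs, zpow_add₀ ha, ← zpow_natCast a b, ← zpow_mul, ← zpow_natCast (a ^ _) r, ← zpow_mul,
          mul_comm (Nat.gcdA r b), mul_comm]
    _ = a := by rw [← hb, zpow_one]

/-- Roots of `a` of orders `r i` give a root of order their lcm. -/
theorem exists_root_lcm {L : Type u} [Field L] {a : L} (ha : a ≠ 0) {ι : Type*} (s : Finset ι) (r : ι → ℕ)
    (hr : ∀ i ∈ s, r i ≠ 0) (h : ∀ i ∈ s, ∃ t : L, t ^ r i = a) : ∃ t : L, t ^ s.lcm r = a := by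
  classical
  induction s using Finset.induction with
  | empty => exact ⟨a, by simp⟩
  | insert i s _ ih =>
    obtain ⟨t, ht⟩ := h i (Finset.mem_insert_self _ _)
    obtain ⟨u, hu⟩ := ih (fun j hj => hr j (Finset.mem_insert_of_mem hj)) fun j hj => h j (Finset.mem_insert_of_mem hj)
    rw [Finset.lcm_insert]
    set m := r i
    set n := s.lcm r
    have hg : Nat.gcd m n ≠ 0 := Nat.gcd_ne_zero_left (hr i (Finset.mem_insert_self _ _))
    obtain ⟨m', hm'⟩ := Nat.gcd_dvd_left m n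
    obtain ⟨n', hn'⟩ := Nat.gcd_dvd_right m n
    have hl : lcm m n = m * n' := by
      show Nat.lcm m n = _
      rw [Nat.lcm, Nat.mul_div_assoc _ (Nat.gcd_dvd_right m n)]
      congr 1
      exact Nat.div_eq_of_eq_mul_right (Nat.pos_of_ne_zero hg) hn'
    have hl2 : m * n' = n * m' := by
      apply mul_left_cancel₀ hg
      calc m.gcd n * (m * n') = m * (m.gcd n * n') := by ring
        _ = (m.gcd n * m') * n := by rw [← hn', ← hm']
        _ = m.gcd n * (n * m') := by ring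
    refine ⟨t ^ Nat.gcdB m n * u ^ Nat.gcdA m n, ?_⟩
    rw [hl]
    have hb : (1 : ℤ) = m' * Nat.gcdA m n + n' * Nat.gcdB m n := by
      have h1 := Nat.gcd_eq_gcd_ab m n
      apply mul_left_cancel₀ (Int.natCast_ne_zero.2 hg)
      calc (m.gcd n : ℤ) * 1 = m * Nat.gcdA m n + n * Nat.gcdB m n := by rw [mul_one]; exact h1
        _ = ((m.gcd n * m' : ℕ) : ℤ) * Nat.gcdA m n + ((m.gcd n * n' : ℕ) : ℤ) * Nat.gcdB m n := by rw [← hm', ← hn']
        _ = _ := by push_cast; ring
    calc (t ^ Nat.gcdB m n * u ^ Nat.gcdA m n) ^ (m * n')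
        = ((t ^ m) ^ n') ^ Nat.gcdB m n * ((u ^ n) ^ m') ^ Nat.gcdA m n := by
          rw [mul_pow, ← pow_mul, ← pow_mul, ← hl2, ← zpow_natCast, ← zpow_natCast, ← zpow_natCast t,
            ← zpow_natCast u, ← zpow_mul, ← zpow_mul, ← zpow_mul, ← zpow_mul, mul_comm (Nat.gcdB m n),
            mul_comm (Nat.gcdA m n)]
      _ = a ^ ((m' : ℤ) * Nat.gcdA m n + n' * Nat.gcdB m n) := by
          rw [ht, hu, zpow_add₀ ha, ← zpow_natCast, ← zpow_natCast, ← zpow_mul, ← zpow_mul, mul_comm]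
      _ = a := by rw [← hb, zpow_one]

/-- All roots of `X ^ n - c ^ n` lie in the field generated by `c` if it has the `n`-th roots of unity. -/
theorem mem_adjoin_of_pow_eq {K L : Type u} [Field K] [Field L] [Algebra K L] {n : ℕ} (hn : n ≠ 0) {ζ : K}
    (hζ : IsPrimitiveRoot ζ n) (E : IntermediateField K L) {x c : L} (hc : c ∈ E) (h : x ^ n = c ^ n) : x ∈ E := by
  by_cases hc0 : c = 0
  · subst hc0
    rw [zero_pow hn, pow_eq_zero_iff hn] at h
    exact h ▸ zero_mem E
  have : NeZero n := ⟨hn⟩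
  obtain ⟨i, -, hi⟩ := (hζ.map_of_injective (algebraMap K L).injective).eq_pow_of_pow_eq_one
    (ξ := x / c) (by rw [div_pow, h, div_self (pow_ne_zero n hc0)])
  rw [eq_div_iff hc0] at hi
  rw [← hi]
  exact E.mul_mem (E.toSubalgebra.pow_mem (E.algebraMap_mem ζ) i) hc

end Groth.Agent.CAlg6.TameKummer
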