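import Groth.Agent.CAlg6.TaylorFlat
import Mathlib.RingTheory.FinitePresentation
import Mathlib.RingTheory.Flat.Stability
import Mathlib.RingTheory.Localization.BaseChange
import Mathlib.RingTheory.Localization.LocalizationLocalization
import Mathlib.Algebra.MvPolynomial.Eval

/-!
Flatness along a retraction in characteristic zero, without Noetherian hypothesis: descent to a finitely
generated `ℚ`-subalgebra.
-/

set_option autoImplicit false
universe u
open MvPolynomial TensorProduct

namespace Groth.Agent.CAlg6.TaylorFlat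

/-- a polynomial is congruent to its value modulo the ideal of the point -/
theorem sub_C_aeval_mem {A : Type u} [CommRing A] {σ : Type} (a : σ → A) (p : MvPolynomial σ A) :
    p - C (aeval a p) ∈ Ideal.span (Set.range fun l => X l - C (a l)) := by
  induction p using MvPolynomial.induction_on with
  | C c => simp
  | add p q hp hq =>
    rw [map_add, map_add, add_sub_add_comm]
    exact add_mem hp hq
  | mul_X p l hp =>
    rw [map_mul, aeval_X, map_mul,
      show p * X l - C (aeval a p) * C (a l) = p * (X l - C (a l)) + C (a l) * (p - C (aeval a p)) by ring]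
    exact add_mem (Ideal.mul_mem_left _ _ (Ideal.subset_span ⟨l, rfl⟩)) (Ideal.mul_mem_left _ _ hp)

theorem pderiv_sum_map {A₀ A : Type u} [CommRing A₀] [CommRing A] (φ : A₀ →+* A) {σ : Type} [Fintype σ]
    (p : MvPolynomial σ A₀) (v : σ → MvPolynomial σ A₀) :
    MvPolynomial.map φ (∑ l, pderiv l p * v l) = ∑ l, pderiv l (MvPolynomial.map φ p) * MvPolynomial.map φ (v l) := by
  rw [map_sum]
  exact Finset.sum_congr rfl fun l _ => by rw [map_mul, pderiv_map]

/-- coefficients of finitely many polynomials lie in a finitely generated subalgebra -/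
theorem exists_fg_subalgebra {k : Type} {A : Type u} [CommRing k] [CommRing A] [Algebra k A] {σ : Type} (s : Set A)
    (hs : s.Finite) (F : Set (MvPolynomial σ A)) (hF : F.Finite) :
    ∃ A₀ : Subalgebra k A, A₀.FG ∧ s ⊆ A₀ ∧ ∀ p ∈ F, p ∈ Set.range (MvPolynomial.map (algebraMap A₀ A)) := by
  classical
  let T : Set A := s ∪ ⋃ p ∈ F, (p.coeffs : Set A)
  have hT : T.Finite := hs.union (hF.biUnion fun p _ => p.coeffs.finite_toSet)
  refine ⟨Algebra.adjoin k T, Subalgebra.fg_def.2 ⟨T, hT, rfl⟩, fun x hx => Algebra.subset_adjoin (Or.inl hx),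
    fun p hp => ?_⟩
  show p ∈ Set.range (MvPolynomial.map (algebraMap (Algebra.adjoin k T) A))
  rw [mem_range_map_iff_coeffs_subset]
  intro c hc
  exact ⟨⟨c, Algebra.subset_adjoin (Or.inr (Set.mem_biUnion hp hc))⟩, rfl⟩

theorem exists_quotient_derivation {A : Type u} [CommRing A] {σ : Type} [Fintype σ] {r : ℕ}
    (g : Fin r → MvPolynomial σ A) (v : σ → MvPolynomial σ A)
    (h : ∀ s, ∑ l, pderiv l (g s) * v l ∈ Ideal.span (Set.range g)) :
    ∃ D : Derivation A (MvPolynomial σ A ⧸ Ideal.span (Set.range g)) (MvPolynomial σ A ⧸ Ideal.span (Set.range g)),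
      ∀ p, D (Ideal.Quotient.mk _ p) = Ideal.Quotient.mk _ (∑ l, pderiv l p * v l) := by
  classical
  let J := Ideal.span (Set.range g)
  let E : Derivation A (MvPolynomial σ A) (MvPolynomial σ A ⧸ J) :=
    mkDerivation A fun l => Ideal.Quotient.mk J (v l)
  have hE : ∀ p, E p = Ideal.Quotient.mk J (∑ l, pderiv l p * v l) := by
    intro p
    induction p using MvPolynomial.induction_on with
    | C c => simp
    | add p q hp hq => simp only [map_add, hp, hq, add_mul, Finset.sum_add_distrib]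
    | mul_X p j hp =>
      rw [Derivation.leibniz, hp, mkDerivation_X]
      have e : ∑ l, pderiv l (p * X j) * v l = p * v j + X j * ∑ l, pderiv l p * v l := by
        simp only [Derivation.leibniz, smul_eq_mul, pderiv_X, Pi.single_apply, mul_ite, mul_one, mul_zero, add_mul,
          ite_mul, zero_mul, Finset.sum_add_distrib, Finset.sum_ite_eq, Finset.mem_univ, if_true, Finset.mul_sum,
          mul_assoc]
      rw [e, map_add, map_mul, map_mul]
      rfl
  have hJ : ∀ p ∈ J, E p = 0 := by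
    intro p hp
    induction hp using Submodule.span_induction with
    | mem x hx =>
      obtain ⟨s, rfl⟩ := hx
      rw [hE]
      exact Ideal.Quotient.eq_zero_iff_mem.2 (h s)
    | zero => simp
    | add x y _ _ hx hy => rw [map_add, hx, hy, add_zero]
    | smul c x hx hxi =>
      rw [smul_eq_mul, Derivation.leibniz, hxi, smul_zero, zero_add]
      show Ideal.Quotient.mk J x * E c = 0
      rw [Ideal.Quotient.eq_zero_iff_mem.2 hx, zero_mul]
  let L : (MvPolynomial σ A ⧸ J) →ₗ[A] (MvPolynomial σ A ⧸ J) :=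
    Submodule.liftQ (J.restrictScalars A) E.toLinearMap (fun p hp => hJ p hp)
  refine ⟨Derivation.mk' L ?_, fun p => hE p⟩
  intro b b'
  obtain ⟨p, rfl⟩ := Ideal.Quotient.mk_surjective b
  obtain ⟨p', rfl⟩ := Ideal.Quotient.mk_surjective b'
  exact E.leibniz p p'

theorem exists_pushout {A₀ A B : Type u} [CommRing A₀] [CommRing A] [CommRing B] [Algebra A₀ A] [Algebra A B]
    [Algebra A₀ B] [IsScalarTower A₀ A B] {σ : Type} (π : MvPolynomial σ A →ₐ[A] B) (hπ : Function.Surjective π)
    {r : ℕ} (g0 : Fin r → MvPolynomial σ A₀)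
    (hker : RingHom.ker π = Ideal.span (Set.range fun s => MvPolynomial.map (algebraMap A₀ A) (g0 s))) :
    ∃ (φ : (MvPolynomial σ A₀ ⧸ Ideal.span (Set.range g0)) →ₐ[A₀] B),
      (∀ p, φ (Ideal.Quotient.mk _ p) = π (MvPolynomial.map (algebraMap A₀ A) p)) ∧
      (letI := φ.toRingHom.toAlgebra
       haveI : IsScalarTower A₀ (MvPolynomial σ A₀ ⧸ Ideal.span (Set.range g0)) B :=
         IsScalarTower.of_algebraMap_eq' φ.comp_algebraMap.symm
       Algebra.IsPushout A₀ A (MvPolynomial σ A₀ ⧸ Ideal.span (Set.range g0)) B) := by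
  let J0 : Ideal (MvPolynomial σ A₀) := Ideal.span (Set.range g0)
  let π0 := Ideal.Quotient.mkₐ A₀ J0
  have hπ0 : Function.Surjective π0 := Ideal.Quotient.mk_surjective
  have hg0 : ∀ s, π (MvPolynomial.map (algebraMap A₀ A) (g0 s)) = 0 := fun s =>
    RingHom.mem_ker.1 (hker.ge (Ideal.subset_span ⟨s, rfl⟩))
  let φ : (MvPolynomial σ A₀ ⧸ J0) →ₐ[A₀] B := Ideal.Quotient.liftₐ J0
    ((π.restrictScalars A₀).comp (mapAlgHom (Algebra.ofId A₀ A)))
    (fun p hp => (Ideal.span_le.2 (by rintro _ ⟨s, rfl⟩; exact hg0 s) :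
      J0 ≤ RingHom.ker ((π.restrictScalars A₀).comp (mapAlgHom (Algebra.ofId A₀ A)))) hp)
  have hφ : ∀ p, φ (π0 p) = π (MvPolynomial.map (algebraMap A₀ A) p) := fun p => rfl
  refine ⟨φ, hφ, ?_⟩
  letI := φ.toRingHom.toAlgebra
  haveI : IsScalarTower A₀ (MvPolynomial σ A₀ ⧸ J0) B := IsScalarTower.of_algebraMap_eq' φ.comp_algebraMap.symm
  let fwd : A ⊗[A₀] (MvPolynomial σ A₀ ⧸ J0) →ₐ[A] B :=
    Algebra.TensorProduct.lift (Algebra.ofId A B) φ fun _ _ => Commute.all _ _
  let img : σ → A ⊗[A₀] (MvPolynomial σ A₀ ⧸ J0) := fun l => 1 ⊗ₜ π0 (X l)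
  have himg : ∀ p, aeval img (MvPolynomial.map (algebraMap A₀ A) p) = (1 : A) ⊗ₜ[A₀] π0 p := fun p => by
    rw [aeval_map_algebraMap]
    induction p using MvPolynomial.induction_on with
    | C c =>
      rw [aeval_C, ← algebraMap_eq, AlgHom.commutes, Algebra.algebraMap_eq_smul_one,
        Algebra.algebraMap_eq_smul_one (R := A₀) (A := MvPolynomial σ A₀ ⧸ J0), TensorProduct.tmul_smul]
      rfl
    | add p q hp hq => simp only [map_add, hp, hq, TensorProduct.tmul_add]
    | mul_X p l hp =>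
      simp only [map_mul, aeval_X] at hp ⊢
      rw [hp, Algebra.TensorProduct.tmul_mul_tmul, one_mul]
  let bwd : B →ₐ[A] A ⊗[A₀] (MvPolynomial σ A₀ ⧸ J0) := AlgHom.liftOfSurjective π hπ (aeval img) (by
    refine hker.le.trans (Ideal.span_le.2 ?_)
    rintro _ ⟨s, rfl⟩
    show aeval img (MvPolynomial.map (algebraMap A₀ A) (g0 s)) = 0
    rw [himg, show π0 (g0 s) = 0 from Ideal.Quotient.eq_zero_iff_mem.2 (Ideal.subset_span ⟨s, rfl⟩),
      TensorProduct.tmul_zero])
  have hbwd : ∀ p, bwd (π p) = aeval img p := fun p => AlgHom.liftOfSurjective_apply π hπ _ _ p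
  have h12 : fwd.comp bwd = AlgHom.id A B := by
    refine AlgHom.ext fun b => ?_
    obtain ⟨p, rfl⟩ := hπ b
    show fwd (bwd (π p)) = π p
    rw [hbwd]
    induction p using MvPolynomial.induction_on with
    | C c => rw [aeval_C, AlgHom.commutes, ← algebraMap_eq, AlgHom.commutes]
    | add p q hp hq => simp only [map_add, hp, hq]
    | mul_X p l hp =>
      rw [map_mul, map_mul, map_mul, hp, aeval_X]
      show _ * fwd ((1 : A) ⊗ₜ[A₀] π0 (X l)) = _
      rw [Algebra.TensorProduct.lift_tmul, map_one, one_mul, hφ, map_X]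
  have h21 : bwd.comp fwd = AlgHom.id A _ := by
    refine Algebra.TensorProduct.ext (by ext) (AlgHom.ext fun b => ?_)
    obtain ⟨p, rfl⟩ := hπ0 b
    show bwd (fwd ((1 : A) ⊗ₜ[A₀] π0 p)) = (1 : A) ⊗ₜ[A₀] π0 p
    rw [Algebra.TensorProduct.lift_tmul, map_one, one_mul, hφ, hbwd, himg]
  exact ⟨IsBaseChange.of_equiv (AlgEquiv.ofAlgHom fwd bwd h12 h21).toLinearEquiv fun x => by
    show fwd (1 ⊗ₜ x) = φ x
    rw [Algebra.TensorProduct.lift_tmul, map_one, one_mul]⟩

theorem flat_of_pushout (A₀ A B₀ B : Type u) [CommRing A₀] [CommRing A] [CommRing B₀] [CommRing B] [Algebra A₀ A]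
    [Algebra A₀ B₀] [Algebra A B] [Algebra A₀ B] [Algebra B₀ B] [IsScalarTower A₀ A B] [IsScalarTower A₀ B₀ B]
    [Algebra.IsPushout A₀ A B₀ B] (q : Ideal B) [q.IsPrime]
    (h : Module.Flat A₀ (Localization.AtPrime (q.comap (algebraMap B₀ B)))) :
    Module.Flat A (Localization.AtPrime q) := by
  let q0 := q.comap (algebraMap B₀ B)
  let M : Submonoid B := Algebra.algebraMapSubmonoid B q0.primeCompl
  have hB : Algebra.IsPushout B₀ (Localization.AtPrime q0) B (Localization M) :=
    .symm <| Algebra.isPushout_of_isLocalization q0.primeCompl _ _ _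
  haveI : IsScalarTower A₀ B (Localization M) := IsScalarTower.of_algebraMap_eq fun x => by
    rw [IsScalarTower.algebraMap_apply A₀ A (Localization M), IsScalarTower.algebraMap_apply A B (Localization M),
      ← IsScalarTower.algebraMap_apply A₀ A B]
  haveI : IsScalarTower A₀ B₀ (Localization M) := IsScalarTower.to₁₂₄ A₀ B₀ B (Localization M)
  haveI : IsScalarTower A₀ (Localization.AtPrime q0) (Localization M) := IsScalarTower.to₁₃₄ A₀ B₀ _ _
  haveI : Algebra.IsPushout A₀ B₀ A B := Algebra.IsPushout.symm ‹Algebra.IsPushout A₀ A B₀ B›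
  have hC : Algebra.IsPushout A₀ A (Localization.AtPrime q0) (Localization M) :=
    Algebra.IsPushout.symm ((Algebra.IsPushout.comp_iff (R := A₀) (S := B₀) (R' := A) (S' := B)).2 hB)
  have hflatC : Module.Flat A (Localization M) := Module.Flat.isBaseChange A₀ A (Localization.AtPrime q0) (Localization M) hC.out
  have hle : M ≤ q.primeCompl := by
    rintro _ ⟨x, hx, rfl⟩
    exact hx
  let f : Localization M →ₐ[B] Localization.AtPrime q :=
    IsLocalization.liftAlgHom (M := M) (f := Algebra.ofId _ _) fun x =>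
      IsLocalization.map_units (M := q.primeCompl) _ ⟨x.1, hle x.2⟩
  letI := f.toRingHom.toAlgebra
  haveI : IsScalarTower B (Localization M) (Localization.AtPrime q) :=
    IsScalarTower.of_algebraMap_eq' f.comp_algebraMap.symm
  haveI : IsScalarTower A (Localization M) (Localization.AtPrime q) := .to₁₃₄ _ B _ _
  have : IsLocalization (Algebra.algebraMapSubmonoid (Localization M) q.primeCompl) (Localization.AtPrime q) :=
    IsLocalization.isLocalization_of_submonoid_le _ _ M _ hle
  have : Module.Flat (Localization M) (Localization.AtPrime q) :=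
    IsLocalization.flat _ (Algebra.algebraMapSubmonoid (Localization M) q.primeCompl)
  exact Module.Flat.trans A (Localization M) (Localization.AtPrime q)

theorem flat_presented {A : Type u} [CommRing A] [Algebra ℚ A] [IsNoetherianRing A] {n σ : Type} [Finite n]
    [Fintype σ] [DecidableEq n] {r : ℕ} (a : σ → A) (g : Fin r → MvPolynomial σ A) (hg : ∀ s, aeval a (g s) = 0)
    (T : n → MvPolynomial σ A) (hT : ∀ i, aeval a (T i) = 0) (v : n → σ → MvPolynomial σ A)
    (h1 : ∀ i s, ∑ l, pderiv l (g s) * v i l ∈ Ideal.span (Set.range g))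
    (h2 : ∀ l, X l - C (a l) ∈ Ideal.span (Set.range (Sum.elim T
      (Sum.elim (fun ll : σ × σ => (X ll.1 - C (a ll.1)) * (X ll.2 - C (a ll.2))) g))))
    (h3 : ∀ i j, aeval a (∑ l, pderiv l (T j) * v i l) = if j = i then 1 else 0)
    (q : Ideal (MvPolynomial σ A ⧸ Ideal.span (Set.range g))) [q.IsPrime]
    (hq : ∀ p, aeval a p = 0 → Ideal.Quotient.mk _ p ∈ q) :
    Module.Flat A (Localization.AtPrime q) := by
  let J := Ideal.span (Set.range g)
  have hεJ : ∀ p ∈ J, aeval a p = 0 := fun p hp =>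
    (Ideal.span_le.2 (by rintro _ ⟨s, rfl⟩; exact hg s) : J ≤ RingHom.ker (aeval a)) hp
  let ε : (MvPolynomial σ A ⧸ J) →ₐ[A] A := Ideal.Quotient.liftₐ J (aeval a) hεJ
  have hε : ∀ p, ε (Ideal.Quotient.mk J p) = aeval a p := fun p => rfl
  choose D hD using fun i => exists_quotient_derivation g (v i) (h1 i)
  let π := Ideal.Quotient.mk J
  refine flat_localization ε (fun i => π (T i)) hT ?_ D (fun i j => ?_) q ?_
  · intro b hb
    obtain ⟨p, rfl⟩ := Ideal.Quotient.mk_surjective b
    have h := Ideal.mem_map_of_mem π (sub_C_aeval_mem a p)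
    rw [show aeval a p = 0 from hb, map_zero, sub_zero] at h
    have hle : Ideal.map π (Ideal.span (Set.range fun l => X l - C (a l))) ≤
        Ideal.map π (Ideal.span (Set.range (Sum.elim T
          (Sum.elim (fun ll : σ × σ => (X ll.1 - C (a ll.1)) * (X ll.2 - C (a ll.2))) g)))) :=
      Ideal.map_mono (Ideal.span_le.2 (by rintro _ ⟨l, rfl⟩; exact h2 l))
    refine (hle.trans ?_) h
    rw [Ideal.map_span, Ideal.span_le]
    rintro _ ⟨_, ⟨x, rfl⟩, rfl⟩
    rcases x with i | ll | s
    · exact Ideal.mem_sup_left (Ideal.subset_span ⟨i, rfl⟩)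
    · refine Ideal.mem_sup_right ?_
      have hl : ∀ l, π (X l - C (a l)) ∈ RingHom.ker ε := fun l => by
        rw [RingHom.mem_ker, hε, map_sub, aeval_X, aeval_C]; simp
      rw [Sum.elim_inr, Sum.elim_inl, map_mul, pow_two]
      exact Ideal.mul_mem_mul (hl ll.1) (hl ll.2)
    · show π (g s) ∈ _
      rw [show π (g s) = 0 from Ideal.Quotient.eq_zero_iff_mem.2 (Ideal.subset_span ⟨s, rfl⟩)]
      exact zero_mem _
  · show ε (D i (π (T j))) = _
    rw [hD, hε]
    convert h3 i j using 2
  · intro b hb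
    obtain ⟨p, rfl⟩ := Ideal.Quotient.mk_surjective b
    exact hq p hb

variable {A B : Type u} [CommRing A] [CommRing B] [Algebra A B] {n : Type} [Finite n]

/-- **Flatness along a retraction**, any base. -/
theorem flat_localization_of_finitePresentation [Algebra ℚ A] [Algebra.FinitePresentation A B] (ε : B →ₐ[A] A)
    (t : n → B) (ht : ∀ i, ε (t i) = 0)
    (hspan : RingHom.ker ε ≤ Ideal.span (Set.range t) ⊔ RingHom.ker ε ^ 2)
    (D : n → Derivation A B B) (hD : ∀ i j, ε (D i (t j)) = open Classical in if j = i then 1 else 0)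
    (q : Ideal B) [q.IsPrime] (hq : RingHom.ker ε ≤ q) : Module.Flat A (Localization.AtPrime q) := by
  classical
  have := Fintype.ofFinite n
  obtain ⟨N, π, hπ, hker⟩ := Algebra.FinitePresentation.out (R := A) (A := B)
  obtain ⟨r, g, hg⟩ := Submodule.fg_iff_exists_fin_generating_family.1 hker
  let a : Fin N → A := fun l => ε (π (X l))
  have hεπ : ∀ p, ε (π p) = aeval a p := fun p => by
    rw [← AlgHom.comp_apply]
    exact congr($(aeval_unique (ε.comp π)) p)
  choose T hT using fun i => hπ (t i)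
  choose v hv using fun (i : n) (l : Fin N) => hπ (D i (π (X l)))
  let δ : n → MvPolynomial (Fin N) A → MvPolynomial (Fin N) A := fun i p => ∑ l, pderiv l p * v i l
  have hδ : ∀ i p, π (δ i p) = D i (π p) := fun i p => by
    have e : π = aeval fun l => π (X l) := aeval_unique π
    rw [show D i (π p) = D i (aeval (fun l => π (X l)) p) by rw [← e], chain, map_sum]
    refine Finset.sum_congr rfl fun l _ => ?_
    rw [map_mul, hv, ← e]
  have hgker : ∀ s, π (g s) = 0 := fun s =>
    RingHom.mem_ker.1 (hg ▸ Submodule.subset_span ⟨s, rfl⟩ : g s ∈ RingHom.ker π)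
  have hmemJ : ∀ p, π p = 0 → ∃ c : Fin r → MvPolynomial (Fin N) A, ∑ s, c s * g s = p := fun p hp =>
    Ideal.mem_span_range_iff_exists_fun.1 (show p ∈ Submodule.span _ (Set.range g) from hg ▸ hp)
  choose h1 hh1 using fun (i : n) (s : Fin r) => hmemJ (δ i (g s)) (by rw [hδ, hgker, map_zero])
  let κ := n ⊕ (Fin N × Fin N) ⊕ Fin r
  let w : κ → MvPolynomial (Fin N) A :=
    Sum.elim T (Sum.elim (fun ll => (X ll.1 - C (a ll.1)) * (X ll.2 - C (a ll.2))) g)
  have hX : ∀ l, ∃ c : κ → MvPolynomial (Fin N) A, ∑ x, c x * w x = X l - C (a l) := by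
    intro l
    let K : Ideal (MvPolynomial (Fin N) A) := Ideal.span (Set.range fun l => X l - C (a l))
    have hK2 : K ^ 2 ≤ Ideal.span (Set.range w) := by
      rw [pow_two, Ideal.span_mul_span']
      refine Ideal.span_le.2 ?_
      rintro _ ⟨_, ⟨l₁, rfl⟩, _, ⟨l₂, rfl⟩, rfl⟩
      exact Ideal.subset_span ⟨.inr (.inl (l₁, l₂)), rfl⟩
    have hcomap : ∀ p, π p ∈ Ideal.span (Set.range t) ⊔ RingHom.ker ε ^ 2 → p ∈ Ideal.span (Set.range w) := by
      intro p hp
      have hmap : Ideal.span (Set.range t) ⊔ RingHom.ker ε ^ 2 ≤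
          Ideal.map π (Ideal.span (Set.range T) ⊔ K ^ 2) := by
        rw [Ideal.map_sup, Ideal.map_pow, Ideal.map_span, ← Set.range_comp]
        refine sup_le_sup (le_of_eq (by congr 2; funext i; exact (hT i).symm)) (Ideal.pow_right_mono ?_ 2)
        intro b hb
        obtain ⟨p, rfl⟩ := hπ b
        have h := Ideal.mem_map_of_mem π (sub_C_aeval_mem a p)
        rwa [← hεπ, RingHom.mem_ker.1 hb, map_zero, sub_zero] at h
      obtain ⟨p', hp', hpp⟩ := (Ideal.mem_map_iff_of_surjective π hπ).1 (hmap hp)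
      have : p - p' ∈ RingHom.ker π := by rw [RingHom.mem_ker, map_sub, hpp, sub_self]
      rw [← sub_add_cancel p p']
      refine add_mem ?_ ((sup_le (Ideal.span_le.2 ?_) hK2) hp')
      · refine Submodule.span_le.2 ?_ (show p - p' ∈ Submodule.span _ (Set.range g) from hg ▸ this)
        rintro _ ⟨s, rfl⟩
        exact Ideal.subset_span ⟨.inr (.inr s), rfl⟩
      · rintro _ ⟨i, rfl⟩
        exact Ideal.subset_span ⟨.inl i, rfl⟩
    exact Ideal.mem_span_range_iff_exists_fun.1
      (hcomap _ (hspan (by rw [RingHom.mem_ker, hεπ, map_sub, aeval_X, aeval_C]; simp)))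
  choose h2 hh2 using hX
  -- the finitely generated base
  let F : Set (MvPolynomial (Fin N) A) :=
    Set.range g ∪ Set.range T ∪ Set.range (fun x : n × Fin N => v x.1 x.2) ∪
      Set.range (fun x : n × Fin r × Fin r => h1 x.1 x.2.1 x.2.2) ∪ Set.range (fun x : Fin N × κ => h2 x.1 x.2)
  have hFfin : F.Finite :=
    (((((Set.finite_range g).union (Set.finite_range T)).union (Set.finite_range _)).union (Set.finite_range _)).union
      (Set.finite_range _))
  obtain ⟨A₀, hA₀, haA, hFA⟩ := exists_fg_subalgebra (k := ℚ) (Set.range a) (Set.finite_range a) F hFfin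
  have : Algebra.FiniteType ℚ A₀ := A₀.fg_iff_finiteType.1 hA₀
  have : IsNoetherianRing A₀ := Algebra.FiniteType.isNoetherianRing ℚ A₀
  let m := MvPolynomial.map (σ := Fin N) (algebraMap A₀ A)
  have hminj : Function.Injective m := map_injective _ Subtype.val_injective
  choose g0 hg0 using fun s => hFA (g s) (Or.inl (Or.inl (Or.inl (Or.inl ⟨s, rfl⟩))))
  choose T0 hT0 using fun i => hFA (T i) (Or.inl (Or.inl (Or.inl (Or.inr ⟨i, rfl⟩))))
  choose v0 hv0 using fun i l => hFA (v i l) (Or.inl (Or.inl (Or.inr ⟨(i, l), rfl⟩)))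
  choose h10 hh10 using fun i s s' => hFA (h1 i s s') (Or.inl (Or.inr ⟨(i, s, s'), rfl⟩))
  choose h20 hh20 using fun l x => hFA (h2 l x) (Or.inr ⟨(l, x), rfl⟩)
  let a0 : Fin N → A₀ := fun l => ⟨a l, haA ⟨l, rfl⟩⟩
  have haev : ∀ p, (aeval a0 p : A) = aeval a (m p) := fun p => by
    show _ = aeval a (MvPolynomial.map (algebraMap A₀ A) p)
    rw [aeval_map_algebraMap]
    exact congr($(comp_aeval a0 (Algebra.ofId A₀ A)) p)
  have hmΔ : ∀ i p, m (∑ l, pderiv l p * v0 i l) = δ i (m p) := fun i p =>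
    (pderiv_sum_map _ p (v0 i)).trans (Finset.sum_congr rfl fun l _ => by rw [hv0])
  have hg00 : ∀ s, aeval a0 (g0 s) = 0 := fun s => Subtype.ext (by
    rw [haev, hg0, ← hεπ, hgker, map_zero]; rfl)
  have hE1 : ∀ i s, ∑ l, pderiv l (g0 s) * v0 i l ∈ Ideal.span (Set.range g0) := fun i s => by
    have e : ∑ l, pderiv l (g0 s) * v0 i l = ∑ s', h10 i s s' * g0 s' := hminj (by
      rw [hmΔ, hg0, ← hh1, map_sum]
      exact Finset.sum_congr rfl fun s' _ => by rw [map_mul, hh10, hg0])
    rw [e]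
    exact Ideal.sum_mem _ fun s' _ => Ideal.mul_mem_left _ _ (Ideal.subset_span ⟨s', rfl⟩)
  have hE2 : ∀ l, X l - C (a0 l) ∈ Ideal.span (Set.range (Sum.elim T0
      (Sum.elim (fun ll : Fin N × Fin N => (X ll.1 - C (a0 ll.1)) * (X ll.2 - C (a0 ll.2))) g0))) := fun l => by
    refine Ideal.mem_span_range_iff_exists_fun.2 ⟨h20 l, hminj ?_⟩
    rw [map_sum, map_sub, map_X, map_C]
    refine Eq.trans (Finset.sum_congr rfl fun x _ => ?_) (hh2 l)
    rw [map_mul, hh20]
    congr 1
    rcases x with i | ll | s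
    · exact hT0 i
    · simp [w, m, a0]
    · exact hg0 s
  have hT00 : ∀ i, aeval a0 (T0 i) = 0 := fun i => Subtype.ext (by
    rw [haev, hT0, ← hεπ, hT, ht]; rfl)
  have hE3 : ∀ i j, aeval a0 (∑ l, pderiv l (T0 j) * v0 i l) = if j = i then 1 else 0 := fun i j => by
    refine Subtype.ext ?_
    rw [haev, hmΔ, hT0, ← hεπ, hδ, hT, hD]
    split <;> rfl
  obtain ⟨φ0, hφ0, hpush⟩ := exists_pushout π hπ g0 (by
    rw [show (fun s => MvPolynomial.map (algebraMap A₀ A) (g0 s)) = g from funext hg0]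
    exact hg.symm)
  letI := φ0.toRingHom.toAlgebra
  haveI : IsScalarTower A₀ (MvPolynomial (Fin N) A₀ ⧸ Ideal.span (Set.range g0)) B :=
    IsScalarTower.of_algebraMap_eq' φ0.comp_algebraMap.symm
  haveI := hpush
  refine flat_of_pushout A₀ A (MvPolynomial (Fin N) A₀ ⧸ Ideal.span (Set.range g0)) B q
    (flat_presented a0 g0 hg00 T0 hT00 v0 hE1 hE2 hE3 _ fun p hp => hq ?_)
  show ε (φ0 (Ideal.Quotient.mk _ p)) = 0
  rw [hφ0, hεπ, ← haev, hp, ZeroMemClass.coe_zero]

end Groth.Agent.CAlg6.TaylorFlat
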