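import Mathlib.RingTheory.Filtration
import Mathlib.RingTheory.Derivation.Basic
import Mathlib.Algebra.MvPolynomial.PDeriv
import Mathlib.RingTheory.Flat.Basic
import Mathlib.RingTheory.Flat.Localization
import Mathlib.RingTheory.Flat.Tensor
import Mathlib.RingTheory.FiniteType
import Mathlib.RingTheory.MvPolynomial.Ideal
import Mathlib.RingTheory.Localization.AtPrime.Basic

/-!
Taylor expansion along a retraction in characteristic zero: an algebra with a retraction, generators of
the conormal module and dual derivations is flat along the retraction.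
-/

set_option autoImplicit false
universe u
open MvPolynomial TensorProduct

namespace Groth.Agent.CAlg6.TaylorFlat

variable {A B : Type u} [CommRing A] [CommRing B] [Algebra A B] {n : Type} [Finite n]

theorem exists_approx (ε : B →ₐ[A] A) (t : n → B) (ht : ∀ i, ε (t i) = 0)
    (hspan : RingHom.ker ε ≤ Ideal.span (Set.range t) ⊔ RingHom.ker ε ^ 2) (m : ℕ) (b : B) :
    ∃ p : MvPolynomial n A, b - aeval t p ∈ RingHom.ker ε ^ m := by
  classical
  let I := RingHom.ker ε
  let T := Ideal.span (Set.range t)
  let M : Ideal (MvPolynomial n A) := Ideal.span (Set.range X)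
  have htI : T ≤ I := Ideal.span_le.2 (by rintro _ ⟨i, rfl⟩; exact ht i)
  have hpow : ∀ j, I ^ j ≤ T ^ j ⊔ I ^ (j + 1) := by
    intro j
    induction j with
    | zero => simp
    | succ j ih =>
      rw [pow_succ]
      refine (Ideal.mul_mono ih hspan).trans ?_
      rw [Ideal.sup_mul, Ideal.mul_sup, Ideal.mul_sup]
      have e1 : T ^ j * T = T ^ (j + 1) := (pow_succ T j).symm
      have e2 : T ^ j * I ^ 2 ≤ I ^ (j + 1 + 1) :=
        (Ideal.mul_mono (Ideal.pow_right_mono htI j) (le_refl (I ^ 2))).trans (pow_add I j 2).ge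
      have e3 : I ^ (j + 1) * T ≤ I ^ (j + 1 + 1) :=
        (Ideal.mul_mono (le_refl (I ^ (j + 1))) htI).trans (pow_succ I (j + 1)).ge
      have e4 : I ^ (j + 1) * I ^ 2 ≤ I ^ (j + 1 + 1) :=
        (pow_add I (j + 1) 2).ge.trans (Ideal.pow_le_pow_right (Nat.le_succ _))
      exact sup_le (sup_le (e1.le.trans le_sup_left) (e2.trans le_sup_right))
        (sup_le (e3.trans le_sup_right) (e4.trans le_sup_right))
  have hTM : ∀ j, T ^ j = Ideal.map (aeval t) (M ^ j) := by
    intro j
    rw [Ideal.map_pow]
    congr 1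
    rw [Ideal.map_span, ← Set.range_comp]
    show Ideal.span (Set.range t) = _
    congr 2
    funext i
    simp
  have hlift : ∀ j, ∀ x ∈ T ^ j, ∃ p ∈ M ^ j, x - aeval t p ∈ I ^ (j + 1) := by
    intro j x hx
    rw [hTM, Ideal.map] at hx
    induction hx using Submodule.span_induction with
    | mem x hx =>
      obtain ⟨p, hp, rfl⟩ := hx
      exact ⟨p, hp, by simp⟩
    | zero => exact ⟨0, zero_mem _, by simp⟩
    | add x y _ _ hx hy =>
      obtain ⟨p, hp, hpx⟩ := hx
      obtain ⟨q, hq, hqy⟩ := hy
      exact ⟨p + q, add_mem hp hq, by rw [map_add, add_sub_add_comm]; exact add_mem hpx hqy⟩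
    | smul c x _ hx =>
      obtain ⟨p, hp, hpx⟩ := hx
      refine ⟨C (ε c) * p, Ideal.mul_mem_left _ _ hp, ?_⟩
      have hpI : aeval t p ∈ I ^ j :=
        Ideal.pow_right_mono htI j ((hTM j).ge (Ideal.mem_map_of_mem (aeval t) hp))
      have hcI : c - algebraMap A B (ε c) ∈ I := by
        show ε (c - algebraMap A B (ε c)) = 0
        simp
      rw [map_mul, aeval_C, smul_eq_mul,
        show c * x - algebraMap A B (ε c) * aeval t p =
          c * (x - aeval t p) + (c - algebraMap A B (ε c)) * aeval t p by ring]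
      refine add_mem (Ideal.mul_mem_left _ _ hpx) ?_
      rw [pow_succ']
      exact Ideal.mul_mem_mul hcI hpI
  induction m with
  | zero => exact ⟨0, by simp⟩
  | succ m ih =>
    obtain ⟨p, hp⟩ := ih
    obtain ⟨x, hx, y, hy, hxy⟩ := Submodule.mem_sup.1 (hpow m hp)
    obtain ⟨q, -, hq⟩ := hlift m x hx
    refine ⟨p + q, ?_⟩
    rw [map_add, show b - (aeval t p + aeval t q) = (x - aeval t q) + y by rw [← sub_sub, ← hxy]; ring]
    exact add_mem hq hy

theorem derivation_pow_le {I : Ideal B} (D : Derivation A B B) (m : ℕ) {x : B} (hx : x ∈ I ^ (m + 1)) :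
    D x ∈ I ^ m := by
  induction m generalizing x with
  | zero => simp
  | succ m ih =>
    rw [pow_succ] at hx
    induction hx using Submodule.smul_induction_on' with
    | smul r hr s hs =>
      rw [smul_eq_mul, Derivation.leibniz, smul_eq_mul, smul_eq_mul]
      refine add_mem (Ideal.mul_mem_right _ _ hr) ?_
      rw [pow_succ, mul_comm s]
      exact Ideal.mul_mem_mul (ih hr) hs
    | add a _ b _ ha hb => rw [map_add]; exact add_mem ha hb

theorem chain [Fintype n] (t : n → B) (D : Derivation A B B) (p : MvPolynomial n A) :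
    D (aeval t p) = ∑ j, aeval t (pderiv j p) * D (t j) := by
  classical
  induction p using MvPolynomial.induction_on with
  | C a => simp
  | add p q hp hq => simp only [map_add, hp, hq, add_mul, Finset.sum_add_distrib]
  | mul_X p j hp =>
    simp only [map_mul, aeval_X, Derivation.leibniz, smul_eq_mul, hp, pderiv_X, map_add, Pi.single_apply,
      apply_ite (aeval t), map_one, map_zero, add_mul, mul_ite, mul_one, mul_zero, ite_mul, zero_mul,
      Finset.sum_add_distrib, Finset.sum_ite_eq, Finset.mem_univ, if_true, Finset.mul_sum, mul_assoc]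

theorem coeff_eq_zero [Algebra ℚ A] (ε : B →ₐ[A] A) (t : n → B) (ht : ∀ i, ε (t i) = 0)
    (D : n → Derivation A B B) (hD : ∀ i j, ε (D i (t j)) = open Classical in if j = i then 1 else 0)
    (m : ℕ) (p : MvPolynomial n A) (hp : aeval t p ∈ RingHom.ker ε ^ m) :
    ∀ α : n →₀ ℕ, α.degree < m → coeff α p = 0 := by
  classical
  have := Fintype.ofFinite n
  let I := RingHom.ker ε
  induction m generalizing p with
  | zero => intro α h; omega
  | succ m ih =>
    have hlow : ∀ α : n →₀ ℕ, α.degree < m → coeff α p = 0 := ih p (Ideal.pow_le_pow_right (Nat.le_succ m) hp)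
    have hI : ∀ q : MvPolynomial n A, (∀ α : n →₀ ℕ, α.degree < m → coeff α q = 0) → aeval t q ∈ I ^ m := by
      intro q hq
      rw [q.as_sum, map_sum]
      refine Ideal.sum_mem _ fun α hα => ?_
      rw [aeval_monomial]
      refine Ideal.mul_mem_left _ _ ?_
      have hα' : m ≤ α.degree := le_of_not_gt fun h => (mem_support_iff.1 hα) (hq α h)
      refine Ideal.pow_le_pow_right hα' ?_
      rw [Finsupp.prod, Finsupp.degree_apply, ← Finset.prod_pow_eq_pow_sum]
      exact Ideal.prod_mem_prod fun i _ => Ideal.pow_mem_pow (ht i) _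
    intro α hα
    rcases eq_or_ne α 0 with rfl | hα0
    · have h1 : ε (aeval t p) = 0 := Ideal.pow_le_self (Nat.succ_ne_zero m) hp
      rw [← AlgHom.comp_apply, comp_aeval, show (fun i => ε (t i)) = 0 from funext ht, aeval_zero,
        constantCoeff_eq] at h1
      simpa using h1
    obtain ⟨i, hi⟩ : ∃ i, α i ≠ 0 := by
      by_contra h
      exact hα0 (Finsupp.ext fun i => by_contra fun hne => h ⟨i, hne⟩)
    have hm : 0 < m := by
      have := Finsupp.le_degree i α
      omega
    -- the derivative
    have hchain := chain t (D i) p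
    have hd : ∀ j, aeval t (pderiv j p) ∈ I ^ (m - 1) := by
      intro j
      rw [p.as_sum, map_sum, map_sum]
      refine Ideal.sum_mem _ fun β hβ => ?_
      rw [pderiv_monomial, aeval_monomial]
      refine Ideal.mul_mem_left _ _ ?_
      have hβ' : m ≤ β.degree := le_of_not_gt fun h => (mem_support_iff.1 hβ) (hlow β h)
      have hdeg : m - 1 ≤ (β - Finsupp.single j 1).degree := by
        have h1 : β.degree ≤ (β - Finsupp.single j 1).degree + 1 := by
          calc β.degree ≤ ((β - Finsupp.single j 1) + Finsupp.single j 1).degree :=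
                Finsupp.degree_mono le_tsub_add
            _ = _ := by rw [map_add, Finsupp.degree_single]
        omega
      refine Ideal.pow_le_pow_right hdeg ?_
      rw [Finsupp.prod, Finsupp.degree_apply, ← Finset.prod_pow_eq_pow_sum]
      exact Ideal.prod_mem_prod fun l _ => Ideal.pow_mem_pow (ht l) _
    have hkey : aeval t (pderiv i p) ∈ I ^ m := by
      have h2 : ∀ j, aeval t (pderiv j p) * (D i (t j) - if j = i then 1 else 0) ∈ I ^ m := fun j => by
        rw [show m = (m - 1) + 1 by omega, pow_succ]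
        refine Ideal.mul_mem_mul (hd j) ?_
        show ε (_ - _) = 0
        rw [map_sub, hD, apply_ite ε, map_one, map_zero, sub_self]
      have h3 := Ideal.sum_mem _ fun j (_ : j ∈ Finset.univ) => h2 j
      simp only [mul_sub, Finset.sum_sub_distrib, mul_ite, mul_one, mul_zero, Finset.sum_ite_eq', Finset.mem_univ,
        if_true, ← hchain] at h3
      have h4 := sub_mem (derivation_pow_le (D i) m hp) h3
      rwa [sub_sub_cancel] at h4
    have h5 := ih _ hkey (α - Finsupp.single i 1) (by
      have h1 : (α - Finsupp.single i 1).degree + 1 = α.degree := by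
        conv_rhs => rw [← tsub_add_cancel_of_le (Finsupp.single_le_iff.2 (Nat.one_le_iff_ne_zero.2 hi))]
        rw [map_add, Finsupp.degree_single]
      omega)
    rw [coeff_pderiv, tsub_add_cancel_of_le (Finsupp.single_le_iff.2 (Nat.one_le_iff_ne_zero.2 hi))] at h5
    have hu : IsUnit ((((α - Finsupp.single i 1 : n →₀ ℕ) i : ℕ) : A) + 1) := by
      rw [← Nat.cast_succ, ← map_natCast (algebraMap ℚ A)]
      exact (IsUnit.mk0 _ (Nat.cast_ne_zero.2 (Nat.succ_ne_zero _))).map _
    exact hu.mul_left_eq_zero.1 h5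

theorem flat_quotient_pow [Algebra ℚ A] (ε : B →ₐ[A] A) (t : n → B) (ht : ∀ i, ε (t i) = 0)
    (hspan : RingHom.ker ε ≤ Ideal.span (Set.range t) ⊔ RingHom.ker ε ^ 2)
    (D : n → Derivation A B B) (hD : ∀ i j, ε (D i (t j)) = open Classical in if j = i then 1 else 0)
    (m : ℕ) : Module.Flat A (B ⧸ RingHom.ker ε ^ m) := by
  classical
  let φ : MvPolynomial n A →ₗ[A] B ⧸ RingHom.ker ε ^ m :=
    ((Ideal.Quotient.mkₐ A (RingHom.ker ε ^ m)).comp (aeval t)).toLinearMap
  let V : Submodule A (MvPolynomial n A) := restrictSupport A {α : n →₀ ℕ | α.degree < m}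
  let W : Submodule A (MvPolynomial n A) := restrictSupport A {α : n →₀ ℕ | m ≤ α.degree}
  have hW : ∀ q ∈ W, φ q = 0 := by
    intro q hq
    refine Ideal.Quotient.eq_zero_iff_mem.2 ?_
    show aeval t q ∈ _
    rw [q.as_sum, map_sum]
    refine Ideal.sum_mem _ fun α hα => ?_
    rw [aeval_monomial]
    refine Ideal.mul_mem_left _ _ ?_
    refine Ideal.pow_le_pow_right (((mem_restrictSupport_iff A).1 hq) hα) ?_
    rw [Finsupp.prod, Finsupp.degree_apply, ← Finset.prod_pow_eq_pow_sum]
    exact Ideal.prod_mem_prod fun i _ => Ideal.pow_mem_pow (ht i) _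
  have hbij : Function.Bijective (φ.comp V.subtype) := by
    refine ⟨(injective_iff_map_eq_zero _).2 fun ⟨p, hp⟩ hp0 => ?_, fun b => ?_⟩
    · refine Subtype.ext (MvPolynomial.ext _ _ fun α => ?_)
      rw [Submodule.coe_zero, coeff_zero]
      by_cases hα : α ∈ p.support
      · exact coeff_eq_zero ε t ht D hD m p (Ideal.Quotient.eq_zero_iff_mem.1 hp0) α (((mem_restrictSupport_iff A).1 hp) hα)
      · exact notMem_support_iff.1 hα
    · obtain ⟨b, rfl⟩ := Ideal.Quotient.mk_surjective b
      obtain ⟨p, hp⟩ := exists_approx ε t ht hspan m b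
      let p1 := ∑ α ∈ p.support.filter (fun α => α.degree < m), monomial α (coeff α p)
      let p2 := ∑ α ∈ p.support.filter (fun α => ¬ α.degree < m), monomial α (coeff α p)
      have hp12 : p1 + p2 = p := (Finset.sum_filter_add_sum_filter_not _ _ _).trans p.as_sum.symm
      have h1 : p1 ∈ V := Submodule.sum_mem _ fun α hα =>
        (mem_restrictSupport_iff A).2 (Set.Subset.trans support_monomial_subset
          (by simpa using (Finset.mem_filter.1 hα).2))
      have h2 : p2 ∈ W := Submodule.sum_mem _ fun α hα =>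
        (mem_restrictSupport_iff A).2 (Set.Subset.trans support_monomial_subset
          (by simpa using not_lt.1 (Finset.mem_filter.1 hα).2))
      refine ⟨⟨p1, h1⟩, ?_⟩
      show φ p1 = _
      have e : φ p = φ p1 := by rw [← hp12, map_add, hW p2 h2, add_zero]
      rw [← e]
      exact (Ideal.Quotient.eq.2 hp).symm
  have : Module.Free A V := Module.Free.of_basis (basisRestrictSupport A _)
  exact Module.Flat.of_linearEquiv (LinearEquiv.ofBijective _ hbij).symm

/-- **Flatness along a retraction.** -/
theorem flat_localization [IsNoetherianRing A] [Algebra ℚ A] [Algebra.FiniteType A B] (ε : B →ₐ[A] A) (t : n → B)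
    (ht : ∀ i, ε (t i) = 0) (hspan : RingHom.ker ε ≤ Ideal.span (Set.range t) ⊔ RingHom.ker ε ^ 2)
    (D : n → Derivation A B B) (hD : ∀ i j, ε (D i (t j)) = open Classical in if j = i then 1 else 0)
    (q : Ideal B) [q.IsPrime] (hq : RingHom.ker ε ≤ q) : Module.Flat A (Localization.AtPrime q) := by
  classical
  have : IsNoetherianRing B := Algebra.FiniteType.isNoetherianRing A B
  refine Module.Flat.iff_lTensor_injective'.2 fun 𝔞 => ?_
  let φ : B ⊗[A] 𝔞 →ₗ[B] B ⊗[A] A := TensorProduct.AlgebraTensorModule.lTensor B B 𝔞.subtype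
  have hK : ∀ z, φ z = 0 → ∃ s : B, s ∉ q ∧ s • z = 0 := by
    intro z hz
    have hmem : z ∈ ⨅ i : ℕ, RingHom.ker ε ^ i • (⊤ : Submodule B (B ⊗[A] 𝔞)) := by
      simp only [Submodule.mem_iInf]
      intro m
      have := flat_quotient_pow ε t ht hspan D hD m
      have hinj := Module.Flat.lTensor_preserves_injective_linearMap (M := B ⧸ RingHom.ker ε ^ m) 𝔞.subtype
        Subtype.val_injective
      let π : B →ₗ[A] B ⧸ RingHom.ker ε ^ m := (Ideal.Quotient.mkₐ A (RingHom.ker ε ^ m)).toLinearMap
      have h1 : π.rTensor 𝔞 z = 0 := by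
        apply hinj
        rw [map_zero]
        have hc : ∀ w, 𝔞.subtype.lTensor (B ⧸ RingHom.ker ε ^ m) (π.rTensor 𝔞 w) = π.rTensor A (φ w) := fun w => by
          induction w using TensorProduct.induction_on with
          | zero => rw [map_zero, map_zero, map_zero, map_zero]
          | tmul a b => rfl
          | add a b ha hb => rw [map_add, map_add, map_add, map_add, ha, hb]
        rw [hc, hz, map_zero]
      have h2 : z ∈ LinearMap.range ((Submodule.restrictScalars A (RingHom.ker ε ^ m)).subtype.rTensor 𝔞) := by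
        refine (rTensor_exact (↥𝔞) (f := (Submodule.restrictScalars A (RingHom.ker ε ^ m)).subtype)
          (g := π) ?_ Ideal.Quotient.mk_surjective z).1 h1
        intro w
        simp only [π, AlgHom.toLinearMap_apply, Ideal.Quotient.mkₐ_eq_mk, Ideal.Quotient.eq_zero_iff_mem]
        exact ⟨fun h => ⟨⟨w, h⟩, rfl⟩, fun ⟨⟨v, hv⟩, hvw⟩ => hvw ▸ hv⟩
      obtain ⟨w, rfl⟩ := h2
      clear hz h1
      induction w using TensorProduct.induction_on with
      | zero => simp
      | tmul a b =>
        simp only [LinearMap.rTensor_tmul, Submodule.coe_subtype]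
        have : (a : B) ⊗ₜ[A] b = (a : B) • ((1 : B) ⊗ₜ[A] b) := by rw [TensorProduct.smul_tmul', smul_eq_mul, mul_one]
        rw [this]
        exact Submodule.smul_mem_smul a.2 trivial
      | add a b ha hb => rw [map_add]; exact add_mem ha hb
    obtain ⟨r, hr⟩ := (Ideal.mem_iInf_smul_pow_eq_bot_iff (RingHom.ker ε) z).1 hmem
    refine ⟨1 - (r : B), fun h => ?_, ?_⟩
    swap
    · exact (sub_smul (1 : B) (r : B) z).trans (sub_eq_zero.2 ((one_smul B z).trans hr.symm))
    exact q.ne_top_iff_one.1 (Ideal.IsPrime.ne_top ‹_›) (by simpa using add_mem h (hq r.2))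
  rw [injective_iff_map_eq_zero]
  intro z hz
  let l : B ⊗[A] 𝔞 →ₗ[B] Localization.AtPrime q ⊗[A] 𝔞 :=
    TensorProduct.AlgebraTensorModule.rTensor A 𝔞 (Algebra.linearMap B (Localization.AtPrime q))
  have : IsLocalizedModule q.primeCompl l := by dsimp only [l]; infer_instance
  obtain ⟨⟨w, s⟩, hw⟩ := IsLocalizedModule.surj q.primeCompl l z
  let lA : B ⊗[A] A →ₗ[B] Localization.AtPrime q ⊗[A] A :=
    TensorProduct.AlgebraTensorModule.rTensor A A (Algebra.linearMap B (Localization.AtPrime q))
  have : IsLocalizedModule q.primeCompl lA := by dsimp only [lA]; infer_instance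
  have hc : ∀ w, lA (φ w) = 𝔞.subtype.lTensor (Localization.AtPrime q) (l w) := fun w => by
    induction w using TensorProduct.induction_on with
    | zero => simp
    | tmul a b => simp [φ, l, lA]
    | add a b ha hb => simp only [map_add, ha, hb]
  have hz' : lA (φ w) = 0 := by
    rw [hc, ← hw]
    show 𝔞.subtype.lTensor (Localization.AtPrime q) ((s : B) • z) = 0
    rw [show 𝔞.subtype.lTensor (Localization.AtPrime q) ((s : B) • z) =
      (s : B) • TensorProduct.AlgebraTensorModule.lTensor B (Localization.AtPrime q) 𝔞.subtype z from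
      map_smul (TensorProduct.AlgebraTensorModule.lTensor B (Localization.AtPrime q) 𝔞.subtype) (s : B) z]
    rw [show TensorProduct.AlgebraTensorModule.lTensor B (Localization.AtPrime q) 𝔞.subtype z = 0 from hz, smul_zero]
  obtain ⟨c, hc'⟩ := (IsLocalizedModule.eq_zero_iff q.primeCompl lA).1 hz'
  obtain ⟨s', hs', hs'w⟩ := hK ((c : B) • w) (by rw [map_smul]; exact hc')
  have h0 : l w = 0 := (IsLocalizedModule.eq_zero_iff q.primeCompl l).2
    ⟨⟨s', hs'⟩ * c, by rw [mul_smul]; exact hs'w⟩
  rw [h0] at hw
  exact (IsUnit.smul_eq_zero (IsLocalization.map_units (Localization.AtPrime q) s)).1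
    (by rw [algebraMap_smul]; exact hw)

end Groth.Agent.CAlg6.TaylorFlat
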