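import Groth.Agent.Approx60.Morph
import Groth.Agent.LimTop61.ConsDescent
import Groth.Agent.SpPts86.LocPMore
import Groth.Prelude.Def_ProCons
import Mathlib.AlgebraicGeometry.Morphisms.Etale
import Mathlib.AlgebraicGeometry.Morphisms.FlatMono

/-! If the morphisms landing in an ind-constructible set are represented by a monomorphism, the set is open. -/

set_option autoImplicit false
universe u
open CategoryTheory CategoryTheory.Limits AlgebraicGeometry Opposite

noncomputable section

namespace Groth.Agent.CAlg6.TopFactor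

variable {G G0 : Scheme.{u}} (C : Set G) (i0 : G0 ⟶ G) [Mono i0]

theorem range_eq (h : ∀ (T : Scheme.{u}) (g : T ⟶ G), (∃ z, z ≫ i0 = g) ↔ Set.range g ⊆ C) :
    Set.range i0 = C := by
  refine Set.Subset.antisymm ((h _ i0).1 ⟨𝟙 _, Category.id_comp _⟩) fun x hx => ?_
  obtain ⟨z, hz⟩ := (h _ (G.fromSpecResidueField x)).2 (by
    rw [Scheme.range_fromSpecResidueField]; exact Set.singleton_subset_iff.2 hx)
  exact ⟨z (IsLocalRing.closedPoint _), by
    rw [← Scheme.Hom.comp_apply, hz, Scheme.fromSpecResidueField_apply]⟩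

theorem lfp_local (hC : ProCons.IsIndConstructible C)
    (h : ∀ (T : Scheme.{u}) (g : T ⟶ G), (∃ z, z ≫ i0 = g) ↔ Set.range g ⊆ C)
    (A : G.Opens) (hA : IsAffineOpen A) (U : G0.Opens) (hU : IsAffineOpen U)
    (f : U.toScheme ⟶ A.toScheme) (hf : f ≫ A.ι = U.ι ≫ i0) : LocallyOfFinitePresentation f := by
  haveI : IsAffine U.toScheme := hU
  haveI : IsAffine A.toScheme := hA
  obtain ⟨α, _, _, _, D, π, ⟨hl⟩, hD, haff⟩ := Approx60.exists_fp_limit f
  haveI : IsConnected αᵒᵖ := IsCofiltered.isConnected _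
  let E := D ⋙ Over.forget A.toScheme
  let c : Cone E := (Over.forget A.toScheme).mapCone (Cone.mk (Over.mk f) π)
  have hc : IsLimit c := isLimitOfPreserves (Over.forget A.toScheme) hl
  haveI : ∀ (i j : αᵒᵖ) (m : i ⟶ j), IsAffineHom (E.map m) := haff
  haveI : ∀ i, CompactSpace (E.obj i) := fun i => (hD i).2.2.2.1
  obtain ⟨i₀⟩ := (inferInstance : Nonempty α)
  let t : ∀ i, E.obj i ⟶ G := fun i => (D.obj i).hom ≫ A.ι
  have hπt : ∀ i, c.π.app i ≫ t i = U.ι ≫ i0 := fun i => by
    show (π.app i).left ≫ (D.obj i).hom ≫ A.ι = _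
    rw [← Category.assoc, Over.w (π.app i)]
    exact hf
  obtain ⟨j, φ, hφ⟩ := LimTop61.exists_preimage_subset E c hc (i := op i₀) Set.univ (t (op i₀) ⁻¹' C)
    (LimTop61.isConsClosed_of_isClosed isClosed_univ)
    (by rw [← Set.preimage_compl]; exact (LimTop61.isConsClosed_compl_of_isIndConstructible hC).preimage _)
    (fun s _ => by
      show t (op i₀) (c.π.app (op i₀) s) ∈ C
      exact (congr($(hπt (op i₀)) s)).symm ▸ (range_eq C i0 h).le ⟨_, rfl⟩)
  have htm : E.map φ ≫ t (op i₀) = t j := by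
    show (D.map φ).left ≫ (D.obj (op i₀)).hom ≫ A.ι = _
    rw [← Category.assoc, Over.w (D.map φ)]
    rfl
  obtain ⟨z, hz⟩ := (h _ (t j)).2 (by
    rintro _ ⟨x, rfl⟩
    rw [← htm]
    exact hφ (Set.mem_univ x))
  have hπz : (c.π.app j ≫ z : U.toScheme ⟶ G0) = U.ι := by
    rw [← cancel_mono i0, Category.assoc, hz]
    exact hπt j
  obtain ⟨k, ψ, hψ⟩ := LimTop61.exists_preimage_subset E c hc (i := j) Set.univ (z ⁻¹' (U : Set G0))
    (LimTop61.isConsClosed_of_isClosed isClosed_univ)
    (LimTop61.isConsClosed_of_isClosed (U.isOpen.preimage z.continuous).isClosed_compl)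
    (fun s _ => by
      show z (c.π.app j s) ∈ U
      exact (congr($hπz s)).symm ▸ (s : U.toScheme).2)
  let r : E.obj k ⟶ U.toScheme := IsOpenImmersion.lift U.ι (E.map ψ ≫ z) (by
    rw [Scheme.Opens.range_ι]
    rintro _ ⟨x, rfl⟩
    exact hψ (Set.mem_univ x))
  have hr : r ≫ U.ι = E.map ψ ≫ z := IsOpenImmersion.lift_fac _ _ _
  let p : U.toScheme ⟶ E.obj k := c.π.app k
  let q : E.obj k ⟶ A.toScheme := (D.obj k).hom
  haveI : LocallyOfFinitePresentation q := (hD k).1
  have hpr : p ≫ r = 𝟙 U.toScheme := by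
    rw [← cancel_mono U.ι, Category.assoc, hr, ← Category.assoc,
      show p ≫ E.map ψ = c.π.app j from c.w ψ, Category.id_comp]
    exact hπz
  have hpq : p ≫ q = f := Over.w (π.app k)
  have hrq : r ≫ f = q := by
    rw [← cancel_mono A.ι, Category.assoc, hf, ← Category.assoc, hr, Category.assoc, hz]
    show E.map ψ ≫ (D.obj j).hom ≫ A.ι = _
    rw [← Category.assoc]
    exact congrArg (· ≫ A.ι) (Over.w (D.map ψ))
  have hw : (r ≫ p) ≫ q = 𝟙 _ ≫ q := by rw [Category.assoc, hpq, hrq, Category.id_comp]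
  have hsq : IsPullback p p (pullback.diagonal q) (pullback.lift (r ≫ p) (𝟙 _) hw) := by
    have w : p ≫ pullback.diagonal q = p ≫ pullback.lift (r ≫ p) (𝟙 _) hw := by
      apply pullback.hom_ext
      · rw [Category.assoc, pullback.diagonal_fst, Category.assoc, pullback.lift_fst, ← Category.assoc p r,
          hpr, Category.id_comp, Category.comp_id]
      · rw [Category.assoc, pullback.diagonal_snd, Category.assoc, pullback.lift_snd]
    have key : ∀ s : PullbackCone (pullback.diagonal q) (pullback.lift (r ≫ p) (𝟙 _) hw),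
        s.fst = s.snd ≫ r ≫ p ∧ s.fst = s.snd := by
      intro s
      have h1 := congrArg (· ≫ pullback.fst q q) s.condition
      have h2 := congrArg (· ≫ pullback.snd q q) s.condition
      simp only [Category.assoc, pullback.diagonal_fst, pullback.diagonal_snd, pullback.lift_fst,
        pullback.lift_snd, Category.comp_id] at h1 h2
      exact ⟨h1, h2⟩
    refine ⟨⟨w⟩, ⟨PullbackCone.IsLimit.mk _ (fun s => s.snd ≫ r) (fun s => ?_) (fun s => ?_) (fun s m _ hm => ?_)⟩⟩
    · rw [Category.assoc]; exact (key s).1.symm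
    · rw [Category.assoc]; exact (key s).1.symm.trans (key s).2
    · rw [← hm, Category.assoc, hpr, Category.comp_id]
  haveI : LocallyOfFinitePresentation (pullback.diagonal q ≫ pullback.fst q q) := by
    rw [pullback.diagonal_fst]; infer_instance
  haveI : LocallyOfFinitePresentation (pullback.diagonal q) :=
    SpPts86.lfp_of_comp (pullback.diagonal q) (pullback.fst q q)
  haveI : LocallyOfFinitePresentation p :=
    MorphismProperty.of_isPullback (P := @LocallyOfFinitePresentation) hsq inferInstance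
  rw [← hpq]
  infer_instance

theorem etale (hC : ProCons.IsIndConstructible C)
    (h : ∀ (T : Scheme.{u}) (g : T ⟶ G), (∃ z, z ≫ i0 = g) ↔ Set.range g ⊆ C) : Etale i0 := by
  refine HasRingHomProperty.iff_appLE.2 fun A U e => ?_
  let f : U.1.toScheme ⟶ A.1.toScheme := i0.resLE A.1 U.1 e
  have hf : f ≫ A.1.ι = U.1.ι ≫ i0 := Scheme.Hom.resLE_comp_ι _ _
  haveI : IsAffine U.1.toScheme := U.2
  haveI : IsAffine A.1.toScheme := A.2
  haveI := lfp_local C i0 hC h A.1 A.2 U.1 U.2 f hf
  let φ := i0.appLE A.1 U.1 e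
  letI : Algebra Γ(G, A.1) Γ(G0, U.1) := φ.hom.toAlgebra
  have hfp : Algebra.FinitePresentation Γ(G, A.1) Γ(G0, U.1) := by
    have h1 : U.1.ι ≫ i0 = U.1.ι ≫ i0 := rfl
    have hl : LocallyOfFinitePresentation (Spec.map φ) := by
      have e1 : Spec.map φ ≫ A.2.fromSpec = U.2.fromSpec ≫ i0 := IsAffineOpen.SpecMap_appLE_fromSpec _ _ _ _
      have e2 : Spec.map φ = U.2.isoSpec.inv ≫ f ≫ A.2.isoSpec.hom := by
        rw [← cancel_mono A.2.fromSpec, e1, Category.assoc, Category.assoc, IsAffineOpen.isoSpec_hom,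
          IsAffineOpen.toSpecΓ_fromSpec, hf, IsAffineOpen.isoSpec_inv_ι_assoc]
      rw [e2]; infer_instance
    exact (HasRingHomProperty.Spec_iff (P := @LocallyOfFinitePresentation)).1 hl
  haveI : Algebra.FormallyEtale Γ(G, A.1) Γ(G0, U.1) := by
    rw [Algebra.FormallyEtale.iff_comp_bijective]
    intro B _ _ I hI
    have hsurj : Function.Surjective (Spec.map (CommRingCat.ofHom (Ideal.Quotient.mk I))) := by
      intro p
      have hIp : I ≤ p.asIdeal := fun x hx => p.isPrime.mem_of_pow_mem 2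
        (by have := Ideal.pow_mem_pow hx 2; rw [hI, Ideal.mem_bot] at this; rw [this]; exact zero_mem _)
      have hmem : p ∈ PrimeSpectrum.zeroLocus (RingHom.ker (Ideal.Quotient.mk I) : Set B) := by
        rw [Ideal.mk_ker]; exact hIp
      rw [← range_comap_of_surjective _ _ Ideal.Quotient.mk_surjective] at hmem
      exact hmem
    have hA : ∀ (R : Type u) [CommRing R] [Algebra Γ(G, A.1) R] (χ : Γ(G0, U.1) →ₐ[Γ(G, A.1)] R),
        Spec.map (CommRingCat.ofHom χ.toRingHom) ≫ U.2.fromSpec ≫ i0 =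
          Spec.map (CommRingCat.ofHom (algebraMap Γ(G, A.1) R)) ≫ A.2.fromSpec := by
      intro R _ _ χ
      rw [← IsAffineOpen.SpecMap_appLE_fromSpec i0 A.2 U.2 e, ← Category.assoc, ← Spec.map_comp]
      congr 2
      ext x
      exact χ.commutes x
    refine ⟨fun χ₁ χ₂ _ => ?_, fun χ => ?_⟩
    · have := (hA B χ₁).trans (hA B χ₂).symm
      rw [← Category.assoc, ← Category.assoc, cancel_mono, cancel_mono] at this
      exact AlgHom.ext fun x => congr($(Spec.map_injective this).hom x)
    · let q := Spec.map (CommRingCat.ofHom (Ideal.Quotient.mk I))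
      let g : Spec (CommRingCat.of B) ⟶ G :=
        Spec.map (CommRingCat.ofHom (algebraMap Γ(G, A.1) B)) ≫ A.2.fromSpec
      have hqg : q ≫ g = Spec.map (CommRingCat.ofHom χ.toRingHom) ≫ U.2.fromSpec ≫ i0 := by
        rw [hA (B ⧸ I) χ, ← Category.assoc, ← Spec.map_comp]
        rfl
      obtain ⟨z, hz⟩ := (h _ g).2 (by
        rintro _ ⟨x, rfl⟩
        obtain ⟨y, rfl⟩ := hsurj x
        rw [← Scheme.Hom.comp_apply, hqg, ← Category.assoc, Scheme.Hom.comp_apply]
        exact (range_eq C i0 h).le ⟨_, rfl⟩)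
      have hqz : q ≫ z = Spec.map (CommRingCat.ofHom χ.toRingHom) ≫ U.2.fromSpec := by
        rw [← cancel_mono i0, Category.assoc, hz, hqg, Category.assoc]
      have hr : Set.range z ⊆ Set.range U.2.fromSpec := by
        rintro _ ⟨x, rfl⟩
        obtain ⟨y, rfl⟩ := hsurj x
        rw [← Scheme.Hom.comp_apply, hqz, Scheme.Hom.comp_apply]
        exact ⟨_, rfl⟩
      let l := IsOpenImmersion.lift U.2.fromSpec z hr
      have hl : l ≫ U.2.fromSpec = z := IsOpenImmersion.lift_fac _ _ _
      let θ := Spec.preimage l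
      have hθA : φ ≫ θ = CommRingCat.ofHom (algebraMap Γ(G, A.1) B) := by
        apply Spec.map_injective
        rw [Spec.map_comp, Spec.map_preimage, ← cancel_mono A.2.fromSpec, Category.assoc,
          IsAffineOpen.SpecMap_appLE_fromSpec i0 A.2 U.2 e, ← Category.assoc, hl]
        exact hz
      refine ⟨⟨θ.hom, fun x => congr($hθA |>.hom x)⟩, ?_⟩
      have hq2 : q ≫ l = Spec.map (CommRingCat.ofHom χ.toRingHom) := by
        rw [← cancel_mono U.2.fromSpec, Category.assoc, hl, hqz]
      rw [← Spec.map_preimage l, ← Spec.map_comp] at hq2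
      exact AlgHom.ext fun x => congr($(Spec.map_injective hq2).hom x)
  haveI := hfp
  exact RingHom.etale_algebraMap.2 (⟨inferInstance, inferInstance⟩ : Algebra.Etale Γ(G, A.1) Γ(G0, U.1))

theorem isOpen (hC : ProCons.IsIndConstructible C)
    (h : ∀ (T : Scheme.{u}) (g : T ⟶ G), (∃ z, z ≫ i0 = g) ↔ Set.range g ⊆ C) : IsOpen C := by
  haveI := etale C i0 hC h
  haveI : IsOpenImmersion i0 := IsOpenImmersion.of_flat_of_mono i0
  rw [← range_eq C i0 h]
  exact i0.isOpenEmbedding.isOpen_range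

end Groth.Agent.CAlg6.TopFactor
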