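import Mathlib

/-!
The trace of a finite local algebra is the length times the trace of the residue field.
-/

set_option autoImplicit false
set_option linter.style.haveILetI false

universe u

open IsLocalRing

namespace Groth.Agent.CAlg6

theorem trace_exact_end {k U V W : Type u} [Field k] [AddCommGroup U] [AddCommGroup V] [AddCommGroup W]
    [Module k U] [Module k V] [Module k W] [Module.Finite k U] [Module.Finite k V]
    [Module.Finite k W] (ι : U →ₗ[k] V) (q : V →ₗ[k] W) (hι : Function.Injective ι)
    (hq : Function.Surjective q) (hex : LinearMap.range ι = LinearMap.ker q)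
    (a : U →ₗ[k] U) (b : V →ₗ[k] V) (c : W →ₗ[k] W) (h1 : ∀ u, ι (a u) = b (ι u))
    (h2 : ∀ v, q (b v) = c (q v)) :
    LinearMap.trace k V b = LinearMap.trace k U a + LinearMap.trace k W c := by
  obtain ⟨s, hs⟩ := q.exists_rightInverse_of_surjective (LinearMap.range_eq_top.mpr hq)
  have hmem : ∀ v, v - s (q v) ∈ LinearMap.range ι := by
    intro v
    rw [hex, LinearMap.mem_ker, map_sub]
    have : q (s (q v)) = q v := LinearMap.congr_fun hs (q v)
    rw [this, sub_self]
  let p : V →ₗ[k] U := (LinearEquiv.ofInjective ι hι).symm.toLinearMap ∘ₗ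
    LinearMap.codRestrict (LinearMap.range ι) (LinearMap.id - s ∘ₗ q) hmem
  have hp : ∀ v, ι (p v) = v - s (q v) := by
    intro v
    have := (LinearEquiv.ofInjective ι hι).apply_symm_apply
      (LinearMap.codRestrict (LinearMap.range ι) (LinearMap.id - s ∘ₗ q) hmem v)
    exact congrArg Subtype.val this
  have hpι : p ∘ₗ ι = LinearMap.id := by
    ext u
    apply hι
    have h0 : q (ι u) = 0 := LinearMap.mem_ker.mp (hex ▸ LinearMap.mem_range_self ι u)
    simp [hp, h0]
  have hsplit : b = ι ∘ₗ (a ∘ₗ p) + (b ∘ₗ s) ∘ₗ q := by
    apply LinearMap.ext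
    intro v
    simp [h1, hp]
  have hq2 : q ∘ₗ (b ∘ₗ s) = c := by
    apply LinearMap.ext
    intro w
    have : q (s w) = w := LinearMap.congr_fun hs w
    simp [h2, this]
  rw [hsplit, map_add, LinearMap.trace_comp_comm' (a ∘ₗ p) ι,
    LinearMap.trace_comp_comm' q (b ∘ₗ s), LinearMap.comp_assoc, hpι, LinearMap.comp_id, hq2]

variable (k C : Type u) [Field k] [CommRing C] [Algebra k C] [IsLocalRing C] [Module.Finite k C]

theorem trace_lsmul_eq_length_mul (x : C) :
    ∀ (n : ℕ) (M : Type u) [AddCommGroup M] [Module k M] [Module C M] [IsScalarTower k C M]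
      [Module.Finite C M], Module.finrank k M = n →
      LinearMap.trace k M (Algebra.lsmul k k M x) =
        ((Module.length C M).toNat : k) * Algebra.trace k (ResidueField C) (residue C x) := by
  have hart : IsArtinianRing C := IsArtinianRing.of_finite k C
  intro n
  induction n using Nat.strong_induction_on with
  | _ n ih =>
    intro M _ _ _ _ _ hn
    have : Module.Finite k M := Module.Finite.trans C M
    rcases subsingleton_or_nontrivial M with hM | hM
    · rw [Module.length_eq_zero, Subsingleton.elim (Algebra.lsmul k k M x) 0, map_zero, ENat.toNat_zero,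
        Nat.cast_zero, zero_mul]
    · obtain ⟨N, hN, -⟩ := (eq_bot_or_exists_atom_le (⊤ : Submodule C M)).resolve_left top_ne_bot
      have hsimple : IsSimpleModule C N := isSimpleModule_iff_isAtom.2 hN
      obtain ⟨m, hm, ⟨e⟩⟩ := isSimpleModule_iff_quot_maximal.1 hsimple
      have hm' : m = maximalIdeal C := IsLocalRing.eq_maximalIdeal hm
      subst hm'
      have hfN : Module.Finite k N := Module.Finite.of_injective (N.subtype.restrictScalars k) N.injective_subtype
      let eN : N ≃ₗ[k] ResidueField C := e.restrictScalars k
      have h1 : LinearMap.trace k N (Algebra.lsmul k k N x) = Algebra.trace k (ResidueField C) (residue C x) := by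
        rw [← LinearMap.trace_conj' (Algebra.lsmul k k N x) eN, Algebra.trace_apply]
        congr 1
        refine LinearMap.ext fun z => ?_
        show e (x • e.symm z) = residue C x * z
        rw [map_smul]
        refine (congrArg (x • ·) (e.apply_symm_apply z)).trans ?_
        exact Algebra.smul_def x z
      have hlt : Module.finrank k (M ⧸ N) < n := by
        have hbot : N.restrictScalars k ≠ ⊥ := fun h => hN.1 ((Submodule.restrictScalars_eq_bot_iff k C M).1 h)
        have h0 : 0 < Module.finrank k ↥(N.restrictScalars k) :=
          Nat.pos_of_ne_zero fun h => hbot (Submodule.finrank_eq_zero.1 h)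
        have h3 := Submodule.finrank_quotient_add_finrank (N.restrictScalars k)
        rw [(Submodule.Quotient.restrictScalarsEquiv k N).finrank_eq] at h3
        omega
      have h2 := ih _ hlt (M ⧸ N) rfl
      have hadd := trace_exact_end (N.subtype.restrictScalars k) (N.mkQ.restrictScalars k)
        N.injective_subtype N.mkQ_surjective
        (by rw [LinearMap.range_restrictScalars, LinearMap.ker_restrictScalars, Submodule.range_subtype,
          Submodule.ker_mkQ])
        (Algebra.lsmul k k N x) (Algebra.lsmul k k M x) (Algebra.lsmul k k (M ⧸ N) x) (fun u => rfl) (fun v => rfl)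
      have hlen : Module.length C M = Module.length C N + Module.length C (M ⧸ N) :=
        Module.length_eq_add_of_exact N.subtype N.mkQ N.injective_subtype N.mkQ_surjective
          (LinearMap.exact_subtype_mkQ N)
      have hfin : Module.length C (M ⧸ N) ≠ ⊤ := Module.length_ne_top
      rw [hadd, h1, h2, hlen, Module.length_eq_one C N, ENat.toNat_add (by decide) hfin, ENat.toNat_one,
        Nat.cast_add, Nat.cast_one, add_mul, one_mul]

/-- `Tr_{C/k}(x) = length(C) · Tr_{κ/k}(x̄)`. -/
theorem trace_eq_length_mul (x : C) :
    Algebra.trace k C x = ((Module.length C C).toNat : k) * Algebra.trace k (ResidueField C) (residue C x) :=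
  trace_lsmul_eq_length_mul k C x _ C rfl

theorem trace_surjective_iff :
    Function.Surjective (Algebra.trace k C) ↔
      Algebra.IsSeparable k (ResidueField C) ∧ ((Module.length C C).toNat : k) ≠ 0 := by
  constructor
  · intro h
    obtain ⟨x, hx⟩ := h 1
    rw [trace_eq_length_mul] at hx
    refine ⟨?_, left_ne_zero_of_mul (hx.trans_ne one_ne_zero)⟩
    by_contra hs
    rw [Algebra.trace_eq_zero_of_not_isSeparable hs, LinearMap.zero_apply, mul_zero] at hx
    exact one_ne_zero hx.symm
  · rintro ⟨hs, hn⟩ c
    obtain ⟨z, hz⟩ := Algebra.trace_surjective k (ResidueField C) (c / ((Module.length C C).toNat : k))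
    obtain ⟨x, rfl⟩ := residue_surjective z
    exact ⟨x, by rw [trace_eq_length_mul, hz, mul_div_cancel₀ _ hn]⟩

end Groth.Agent.CAlg6
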