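import Mathlib
import Groth.Agent.CAlg6.TraceLength

/-!
The trace modulo a prime is the ramified sum of the residual traces.
-/

set_option autoImplicit false
set_option linter.style.haveILetI false

universe u

open UniqueFactorizationMonoid

namespace Groth.Agent.CAlg6

theorem trace_quotient_step {k C : Type u} [Field k] [CommRing C] [Algebra k C] [Module.Finite k C]
    (I₁ I₂ m : Ideal C) (hle : I₁ ≤ I₂) [m.IsMaximal] {α : C} (hα₁ : α ∉ I₁)
    (hgen : I₂ = Ideal.span {α} ⊔ I₁) (hm : ∀ c ∈ m, c * α ∈ I₁) (y : C) :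
    Algebra.trace k (C ⧸ I₁) (Ideal.Quotient.mk I₁ y) =
      Algebra.trace k (C ⧸ I₂) (Ideal.Quotient.mk I₂ y) + Algebra.trace k (C ⧸ m) (Ideal.Quotient.mk m y) := by
  have hα₂ : α ∈ I₂ := hgen ▸ Ideal.mem_sup_left (Ideal.mem_span_singleton_self α)
  let ι0 : C →ₗ[C] C ⧸ I₁ := LinearMap.toSpanSingleton C (C ⧸ I₁) (Ideal.Quotient.mk I₁ α)
  have hι0 : ∀ c, ι0 c = Ideal.Quotient.mk I₁ (c * α) := fun c => by
    simp [ι0, Algebra.smul_def]
  have hker : LinearMap.ker ι0 = m := by
    refine (Ideal.IsMaximal.eq_of_le inferInstance (fun h => hα₁ ?_) fun c hc => ?_).symm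
    · have h1 : (1 : C) ∈ LinearMap.ker ι0 := by rw [Ideal.eq_top_iff_one] at h; exact h
      rwa [LinearMap.mem_ker, hι0, one_mul, Ideal.Quotient.eq_zero_iff_mem] at h1
    · rw [LinearMap.mem_ker, hι0, Ideal.Quotient.eq_zero_iff_mem]
      exact hm c hc
  let ι : (C ⧸ m) →ₗ[C] C ⧸ I₁ := Submodule.liftQ m ι0 hker.ge
  let q : (C ⧸ I₁) →ₗ[C] C ⧸ I₂ := (Ideal.Quotient.factorₐ C hle).toLinearMap
  have hι : Function.Injective ι := LinearMap.ker_eq_bot.1 (Submodule.ker_liftQ_eq_bot _ _ hker.ge hker.le)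
  have h := trace_exact_end (ι.restrictScalars k) (q.restrictScalars k) hι
    (Ideal.Quotient.factor_surjective hle) ?_
    (Algebra.lmul k (C ⧸ m) (Ideal.Quotient.mk m y)) (Algebra.lmul k (C ⧸ I₁) (Ideal.Quotient.mk I₁ y))
    (Algebra.lmul k (C ⧸ I₂) (Ideal.Quotient.mk I₂ y)) ?_ ?_
  · rw [Algebra.trace_apply, Algebra.trace_apply, Algebra.trace_apply]
    exact h.trans (add_comm _ _)
  · rw [LinearMap.range_restrictScalars, LinearMap.ker_restrictScalars, Submodule.range_liftQ]
    congr 1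
    refine le_antisymm ?_ fun z hz => ?_
    · rintro _ ⟨c, rfl⟩
      rw [LinearMap.mem_ker, hι0]
      show Ideal.Quotient.mk I₂ (c * α) = 0
      rw [Ideal.Quotient.eq_zero_iff_mem]
      exact I₂.mul_mem_left _ hα₂
    · obtain ⟨w, rfl⟩ := Ideal.Quotient.mk_surjective z
      have hw : w ∈ I₂ := Ideal.Quotient.eq_zero_iff_mem.1 (show Ideal.Quotient.mk I₂ w = 0 from hz)
      rw [hgen, Submodule.mem_sup] at hw
      obtain ⟨u, hu, v, hv, rfl⟩ := hw
      obtain ⟨c, rfl⟩ := Ideal.mem_span_singleton'.1 hu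
      exact ⟨c, by rw [hι0, map_add, Ideal.Quotient.eq_zero_iff_mem.2 hv, add_zero]⟩
  · intro u
    obtain ⟨c, rfl⟩ := Ideal.Quotient.mk_surjective u
    show ι0 (y * c) = Ideal.Quotient.mk I₁ y * ι0 c
    rw [hι0, hι0, ← map_mul, mul_assoc]
  · intro v
    obtain ⟨c, rfl⟩ := Ideal.Quotient.mk_surjective v
    rfl

theorem trace_quotient_map_eq_sum {k B C : Type u} [Field k] [CommRing B] [IsDedekindDomain B] [CommRing C]
    [Algebra k C] [Module.Finite k C] (π : B →+* C) (hπ : Function.Surjective π) (y : B) :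
    ∀ J : Ideal B, J ≠ ⊥ → RingHom.ker π ≤ J →
      Algebra.trace k (C ⧸ J.map π) (Ideal.Quotient.mk _ (π y)) =
        ((normalizedFactors J).map fun Q => Algebra.trace k (C ⧸ Q.map π) (Ideal.Quotient.mk _ (π y))).sum := by
  intro J
  induction J using UniqueFactorizationMonoid.induction_on_prime with
  | h₁ => exact fun h => absurd rfl h
  | h₂ J hJ =>
    intro _ _
    obtain rfl : J = ⊤ := by
      rw [Ideal.isUnit_iff] at hJ; exact hJ
    have : Subsingleton (C ⧸ Ideal.map π ⊤) := by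
      rw [Ideal.Quotient.subsingleton_iff, Ideal.map_top]
    rw [normalizedFactors_of_isUnit (Ideal.isUnit_iff.2 rfl), Multiset.map_zero, Multiset.sum_zero,
      Subsingleton.elim (Ideal.Quotient.mk (Ideal.map π ⊤) (π y)) 0, map_zero]
  | h₃ J Q hJ hQ ih =>
    intro _ hker
    have hkerJ : RingHom.ker π ≤ J := hker.trans Ideal.mul_le_right
    have hkerQ : RingHom.ker π ≤ Q := hker.trans Ideal.mul_le_left
    have hQp : Q.IsPrime := Ideal.isPrime_of_prime hQ
    have hQmax : Q.IsMaximal := hQp.isMaximal hQ.ne_zero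
    have hlt : Q * J < J := by
      refine lt_of_le_of_ne Ideal.mul_le_right fun h => hQp.ne_top ?_
      rw [← Ideal.one_eq_top]
      exact mul_right_cancel₀ hJ (h.trans (one_mul J).symm)
    obtain ⟨α, hα, hαn⟩ := SetLike.exists_of_lt hlt
    have hgen : J = Ideal.span {α} ⊔ Q * J := by
      refine le_antisymm ?_ (sup_le ((Ideal.span_singleton_le_iff_mem _).2 hα) hlt.le)
      obtain ⟨I, hI⟩ : J ∣ Ideal.span {α} ⊔ Q * J :=
        Ideal.dvd_iff_le.2 (sup_le ((Ideal.span_singleton_le_iff_mem _).2 hα) hlt.le)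
      have hQI : Q ≤ I := by
        have h1 : J * I ∣ J * Q := Ideal.dvd_iff_le.2 (by rw [← hI, mul_comm J Q]; exact le_sup_right)
        exact Ideal.dvd_iff_le.1 ((mul_dvd_mul_iff_left hJ).1 h1)
      have hItop : I = ⊤ := by
        by_contra hIt
        have : Q = I := hQmax.eq_of_le hIt hQI
        subst this
        exact hαn (by
          rw [mul_comm, ← hI]
          exact Ideal.mem_sup_left (Ideal.mem_span_singleton_self α))
      rw [hI, hItop, Ideal.mul_top]
    have hmem : ∀ (I : Ideal B), RingHom.ker π ≤ I → ∀ b, π b ∈ I.map π → b ∈ I := by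
      intro I hI b hb
      have hc : b ∈ (I.map π).comap π := hb
      rwa [Ideal.comap_map_of_surjective π hπ, sup_eq_left.2 (by rwa [← RingHom.ker_eq_comap_bot])] at hc
    have hQm : (Q.map π).IsMaximal := Ideal.IsMaximal.map_of_surjective_of_ker_le hπ hkerQ
    have hstep := trace_quotient_step (k := k) ((Q * J).map π) (J.map π) (Q.map π) (Ideal.map_mono hlt.le)
      (α := π α) (fun h => hαn (hmem _ hker α h))
      (by conv_lhs => rw [hgen]
          rw [Ideal.map_sup, Ideal.map_span, Set.image_singleton])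
      (fun c hc => by
        rw [Ideal.map_mul]
        exact Ideal.mul_mem_mul hc (Ideal.mem_map_of_mem _ hα)) (π y)
    rw [hstep, ih hJ hkerJ, normalizedFactors_mul hQ.ne_zero hJ, normalizedFactors_irreducible hQ.irreducible,
      normalize_eq, Multiset.map_add, Multiset.sum_add, Multiset.map_singleton, Multiset.sum_singleton, add_comm]

end Groth.Agent.CAlg6
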