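import Groth.Agent.SGA3a.OrbitPts
import Groth.Agent.SGA3a.GrpDim
import Groth.Agent.CAlg6.QuasiSec
import Groth.Agent.Count62.QFCount
import Mathlib.Topology.JacobsonSpace

/-!
Quasi-sections translating a finite set of points into an open subset (SGA 3 VI_B 5.x).
-/

set_option autoImplicit false
universe u
open CategoryTheory CategoryTheory.Limits MonoidalCategory CartesianMonoidalCategory MonObj GrpObj AlgebraicGeometry
open Groth.Agent.SGA3a

noncomputable section

namespace Groth.Agent.CAlg6.TransOpen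

section Fibre

variable {Z S : Scheme.{u}} (f : Z ⟶ S) {s : S} {K : Type u} [Field K] (σ : S.residueField s ⟶ CommRingCat.of K)

abbrev ptMap : Spec (CommRingCat.of K) ⟶ S := Spec.map σ ≫ S.fromSpecResidueField s

def toFib : pullback f (ptMap σ) ⟶ f.fiber s :=
  pullback.lift (pullback.fst f (ptMap σ)) (pullback.snd f (ptMap σ) ≫ Spec.map σ)
    (by rw [Category.assoc]; exact pullback.condition)

theorem toFib_ι : toFib f σ ≫ f.fiberι s = pullback.fst f (ptMap σ) := pullback.lift_fst _ _ _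

theorem isPullback_toFib :
    IsPullback (toFib f σ) (pullback.snd f (ptMap σ)) (f.fiberToSpecResidueField s) (Spec.map σ) := by
  refine IsPullback.of_right (h₁₂ := f.fiberι s) ?_ (pullback.lift_snd _ _ _) (IsPullback.of_hasPullback _ _)
  rw [toFib_ι]
  exact IsPullback.of_hasPullback _ _

theorem flat_toFib : Flat (toFib f σ) := by
  have : Flat (Spec.map σ) := by
    refine HasRingHomProperty.Spec_iff.2 ?_
    let _ := σ.hom.toAlgebra
    exact (inferInstance : Module.Flat (S.residueField s) K)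
  exact MorphismProperty.of_isPullback (P := @Flat) (isPullback_toFib f σ).flip this

theorem isFinite_toFib (hσ : σ.hom.Finite) : IsFinite (toFib f σ) :=
  MorphismProperty.of_isPullback (P := @IsFinite) (isPullback_toFib f σ).flip ((IsFinite.SpecMap_iff _).2 hσ)

theorem mem_range_fst {w : Z} (hw : f w = s) : w ∈ Set.range (pullback.fst f (ptMap σ)) := by
  rw [Scheme.Pullback.range_fst]
  exact ⟨IsLocalRing.closedPoint K, by rw [hw, Scheme.Hom.comp_apply]; exact S.fromSpecResidueField_apply s _⟩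

theorem apply_fst (gam : ↥(pullback f (ptMap σ))) : f (pullback.fst f (ptMap σ) gam) = s := by
  rw [← Scheme.Hom.comp_apply, pullback.condition, Scheme.Hom.comp_apply, Scheme.Hom.comp_apply]
  exact S.fromSpecResidueField_apply s _

theorem mem_image_fst_of_closure (hσ : σ.hom.Finite) {C : Set ↥(pullback f (ptMap σ))} (hC : IsClosed C) {w : Z}
    (hw : f w = s) (h : w ∈ closure (pullback.fst f (ptMap σ) '' C)) : w ∈ pullback.fst f (ptMap σ) '' C := by
  have := isFinite_toFib f σ hσ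
  obtain ⟨p, rfl⟩ : w ∈ Set.range (f.fiberι s) := by rw [Scheme.Hom.range_fiberι]; exact hw
  have he : (pullback.fst f (ptMap σ) '' C) = f.fiberι s '' (toFib f σ '' C) := by
    rw [← toFib_ι f σ, Set.image_image]
    rfl
  rw [he] at h ⊢
  have hp : p ∈ closure (toFib f σ '' C) := by
    rw [(f.fiberι s).isEmbedding.isInducing.closure_eq_preimage_closure_image]
    exact h
  rw [((toFib f σ).isClosedMap C hC).closure_eq] at hp
  exact ⟨p, hp, rfl⟩

theorem maximal_of_fst (hσ : σ.hom.Finite) {gam : ↥(pullback f (ptMap σ))}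
    (h : ∀ z, z ⤳ pullback.fst f (ptMap σ) gam → f z = s → z = pullback.fst f (ptMap σ) gam) :
    ∀ z, z ⤳ gam → z = gam := by
  intro z hz
  have := isFinite_toFib f σ hσ
  have he : pullback.fst f (ptMap σ) z = pullback.fst f (ptMap σ) gam :=
    h _ (hz.map (pullback.fst f (ptMap σ)).continuous) (apply_fst f σ z)
  have hq : toFib f σ z = toFib f σ gam := (f.fiberι s).isEmbedding.injective (by
    rw [← Scheme.Hom.comp_apply, ← Scheme.Hom.comp_apply, toFib_ι]; exact he)
  obtain ⟨O, hO, hOgam⟩ := isDiscrete_iff_forall_mem_exists_isOpen.1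
    ((toFib f σ).isDiscrete_preimage_singleton (toFib f σ gam)) gam rfl
  have : z ∈ O ∩ toFib f σ ⁻¹' {toFib f σ gam} :=
    ⟨hz.mem_open hO ((show gam ∈ O ∩ toFib f σ ⁻¹' {toFib f σ gam} by rw [hOgam]; rfl).1), hq⟩
  rw [hOgam] at this
  exact this

theorem mem_of_maximal (hft : LocallyOfFiniteType (f.fiberToSpecResidueField s)) {U : Set Z} (hU : IsOpen U)
    (hd : f ⁻¹' {s} ⊆ closure (U ∩ f ⁻¹' {s})) {w : Z} (hw : f w = s)
    (hmax : ∀ z, z ⤳ w → f z = s → z = w) : w ∈ U := by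
  have : IsLocallyNoetherian (f.fiber s) := LocallyOfFiniteType.isLocallyNoetherian (f.fiberToSpecResidueField s)
  obtain ⟨p, rfl⟩ : w ∈ Set.range (f.fiberι s) := by rw [Scheme.Hom.range_fiberι]; exact hw
  refine maximal_mem_of_dense (Y := f.fiber s) (hU.preimage (f.fiberι s).continuous) ?_ (ζ := p) ?_
  · intro q
    rw [(f.fiberι s).isEmbedding.isInducing.closure_eq_preimage_closure_image, Set.mem_preimage,
      Set.image_preimage_eq_inter_range, Scheme.Hom.range_fiberι]
    refine hd ?_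
    rw [← Scheme.Hom.range_fiberι]
    exact ⟨q, rfl⟩
  · intro z hz
    refine (f.fiberι s).isEmbedding.injective (hmax _ (hz.map (f.fiberι s).continuous) ?_)
    have : f.fiberι s z ∈ Set.range (f.fiberι s) := ⟨z, rfl⟩
    rwa [Scheme.Hom.range_fiberι] at this

theorem maximal_fst {gam : ↥(pullback f (ptMap σ))} (h : ∀ z, z ⤳ gam → z = gam) :
    ∀ z, z ⤳ pullback.fst f (ptMap σ) gam → f z = s → z = pullback.fst f (ptMap σ) gam := by
  intro z hz hfz
  have := flat_toFib f σ
  obtain ⟨q, rfl⟩ : z ∈ Set.range (f.fiberι s) := by rw [Scheme.Hom.range_fiberι]; exact hfz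
  rw [← toFib_ι f σ, Scheme.Hom.comp_apply] at hz ⊢
  rw [maximal_map (toFib f σ) h q ((f.fiberι s).isEmbedding.isInducing.specializes_iff.1 hz)]

/-- A closed point of a fibre locally of finite type comes with a finite field extension. -/
theorem exists_point_of_closed (hft : LocallyOfFiniteType (f.fiberToSpecResidueField s)) (p : f.fiber s)
    (hp : IsClosed ({p} : Set (f.fiber s))) :
    ∃ (K : Type u) (_ : Field K) (σ : S.residueField s ⟶ CommRingCat.of K) (x : Spec (CommRingCat.of K) ⟶ Z),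
      σ.hom.Finite ∧ x ≫ f = ptMap σ ∧ ∀ t, x t = f.fiberι s p := by
  let jp := (f.fiber s).fromSpecResidueField p
  have : IsClosedImmersion jp := .of_isPreimmersion _ (by rwa [Scheme.range_fromSpecResidueField])
  let σ : S.residueField s ⟶ (f.fiber s).residueField p := Spec.preimage (jp ≫ f.fiberToSpecResidueField s)
  have hσ : Spec.map σ = jp ≫ f.fiberToSpecResidueField s := Spec.map_preimage _
  have : LocallyOfFiniteType (Spec.map σ) := by rw [hσ]; infer_instance
  have h2 : σ.hom.FiniteType := HasRingHomProperty.Spec_iff.mp this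
  refine ⟨(f.fiber s).residueField p, inferInstance, σ, jp ≫ f.fiberι s, ?_, ?_, fun t => ?_⟩
  · algebraize [σ.hom]
    exact finite_of_finite_type_of_isJacobsonRing (S.residueField s) ((f.fiber s).residueField p)
  · rw [ptMap, hσ, Category.assoc, Category.assoc]
    exact congrArg (jp ≫ ·) (Scheme.Hom.fiber_fac f s)
  · rw [Scheme.Hom.comp_apply]
    exact congrArg _ ((f.fiber s).fromSpecResidueField_apply p t)

theorem exists_closed_specialization (hft : LocallyOfFiniteType (f.fiberToSpecResidueField s)) {w : Z}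
    (hw : f w = s) : ∃ p : f.fiber s, IsClosed ({p} : Set (f.fiber s)) ∧ w ⤳ f.fiberι s p := by
  have : JacobsonSpace (f.fiber s) := LocallyOfFiniteType.jacobsonSpace (f.fiberToSpecResidueField s)
  obtain ⟨q, rfl⟩ : w ∈ Set.range (f.fiberι s) := by rw [Scheme.Hom.range_fiberι]; exact hw
  obtain ⟨p, hp, hpc⟩ := nonempty_inter_closedPoints (X := f.fiber s) (Z := closure {q})
    ⟨q, subset_closure rfl⟩ isClosed_closure.isLocallyClosed
  exact ⟨p, hpc, (specializes_iff_mem_closure.2 hp).map (f.fiberι s).continuous⟩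

theorem eq_of_specializes_closed {p : f.fiber s} (hp : IsClosed ({p} : Set (f.fiber s))) {w : Z}
    (hw : f w = s) (h : f.fiberι s p ⤳ w) : w = f.fiberι s p := by
  obtain ⟨q, rfl⟩ : w ∈ Set.range (f.fiberι s) := by rw [Scheme.Hom.range_fiberι]; exact hw
  exact congrArg _ ((f.fiberι s).isEmbedding.isInducing.specializes_iff.1 h |>.mem_closed hp rfl)

end Fibre

section Action

variable {S : Scheme.{u}} {G X : Over S} [GrpObj G] (a : AlgGrp.Action G X)
  (hΦ : Surjective (lift a.act (snd G X)).left) {U : X.left.Opens} {s : S}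
  (hft : LocallyOfFiniteType (X.hom.fiberToSpecResidueField s))
  (hdense : X.hom ⁻¹' {s} ⊆ closure ((U : Set X.left) ∩ X.hom ⁻¹' {s}))
  {K : Type u} [Field K] {σ : S.residueField s ⟶ CommRingCat.of K} (hσ : σ.hom.Finite)

/-- `G ×_S Spec K → G ×_S X` -/
def inclX (x : Spec (CommRingCat.of K) ⟶ X.left) (hx : x ≫ X.hom = ptMap σ) :
    pullback G.hom (ptMap σ) ⟶ (G ⊗ X).left :=
  pullback.lift (pullback.fst G.hom (ptMap σ)) (pullback.snd G.hom (ptMap σ) ≫ x)
    (by rw [Category.assoc, hx]; exact pullback.condition)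

theorem mem_range_inclX (x : Spec (CommRingCat.of K) ⟶ X.left) (hx : x ≫ X.hom = ptMap σ) {a' : X.left}
    (hxa : ∀ t, x t = a') {y : (G ⊗ X).left} (hy : (snd G X).left y = a') :
    ∃ gam, inclX x hx gam = y ∧ pullback.fst G.hom (ptMap σ) gam = (fst G X).left y := by
  have hsq : IsPullback (inclX (G := G) x hx) (pullback.snd G.hom (ptMap σ)) (snd G X).left x := by
    refine IsPullback.of_right (h₁₂ := (fst G X).left) (v₁₃ := G.hom) (h₂₂ := X.hom) ?_ (pullback.lift_snd _ _ _) ?_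
    · rw [show inclX (G := G) x hx ≫ (fst G X).left = _ from pullback.lift_fst _ _ _, hx]
      exact IsPullback.of_hasPullback _ _
    · exact IsPullback.of_hasPullback _ _
  obtain ⟨gam, hgam, -⟩ := AlgGrp79.exists_preimage_of_isPullback hsq y (IsLocalRing.closedPoint K)
    (hy.trans (hxa _).symm)
  refine ⟨gam, hgam, ?_⟩
  rw [← hgam, ← Scheme.Hom.comp_apply]
  exact congrArg (fun m : pullback G.hom (ptMap σ) ⟶ G.left => m gam) (pullback.lift_fst _ _ _).symm

include hΦ hft hdense hσ in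
theorem act_mem_of_maximal (x : Spec (CommRingCat.of K) ⟶ X.left) (hx : x ≫ X.hom = ptMap σ) {a' : X.left}
    (hxa : ∀ t, x t = a') {ξ : G.left} (hξ : ∀ z, z ⤳ ξ → G.hom z = s → z = ξ)
    (y : (G ⊗ X).left) (hy1 : (fst G X).left y = ξ) (hy2 : (snd G X).left y = a') : a.act.left y ∈ U := by
  obtain ⟨gam, hgam, hgamξ⟩ := mem_range_inclX x hx hxa hy2
  have hgammax : ∀ z, z ⤳ gam → z = gam := maximal_of_fst G.hom σ hσ (by rw [hgamξ, hy1]; exact hξ)
  let q : 𝟙_ (Over (Spec (CommRingCat.of K))) ⟶ Red.bc (ptMap σ) X :=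
    Over.homMk (pullback.lift x (𝟙 _) (by simp [hx])) (pullback.lift_snd _ _ _)
  have hmax := orbit_maximal (a.bc (ptMap σ)) (surjective_bc_shear a (ptMap σ) hΦ) q hgammax
  have hkey : ((a.bc (ptMap σ)).orbitMap q).left ≫ prO (ptMap σ) X = inclX x hx ≫ a.act.left :=
    orbit_bc_proj a (ptMap σ) x hx
  have h1 := maximal_fst X.hom σ hmax
  have h2 := mem_of_maximal X.hom hft U.2 hdense (apply_fst X.hom σ _) h1
  rw [← hgam, ← Scheme.Hom.comp_apply, ← hkey, Scheme.Hom.comp_apply]
  exact h2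

include hΦ hft hdense hσ in
theorem not_mem_closure_bad (x : Spec (CommRingCat.of K) ⟶ X.left) (hx : x ≫ X.hom = ptMap σ) {a' : X.left}
    (hxa : ∀ t, x t = a') {ξ : G.left} (hξs : G.hom ξ = s) (hξ : ∀ z, z ⤳ ξ → G.hom z = s → z = ξ) :
    ξ ∉ closure ((fst G X).left '' {y | (snd G X).left y = a' ∧ a.act.left y ∉ U}) := by
  intro h
  let C : Set ↥(pullback G.hom (ptMap σ)) := (inclX x hx ≫ a.act.left) ⁻¹' (U : Set X.left)ᶜ
  have hsub : (fst G X).left '' {y | (snd G X).left y = a' ∧ a.act.left y ∉ U} ⊆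
      pullback.fst G.hom (ptMap σ) '' C := by
    rintro _ ⟨y, ⟨hy, hyU⟩, rfl⟩
    obtain ⟨gam, hgam, hgam1⟩ := mem_range_inclX x hx hxa hy
    refine ⟨gam, ?_, hgam1⟩
    show (inclX x hx ≫ a.act.left) gam ∉ U
    rw [Scheme.Hom.comp_apply, hgam]
    exact hyU
  obtain ⟨gam, hgamC, hgamξ⟩ := mem_image_fst_of_closure G.hom σ hσ
    (U.2.isClosed_compl.preimage (inclX x hx ≫ a.act.left).continuous) hξs (closure_mono hsub h)
  refine hgamC (act_mem_of_maximal a hΦ hft hdense hσ x hx hxa hξ (inclX x hx gam) ?_ ?_)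
  · rw [← Scheme.Hom.comp_apply, show inclX x hx ≫ (fst G X).left = _ from pullback.lift_fst _ _ _]
    exact hgamξ
  · rw [← Scheme.Hom.comp_apply, show inclX (G := G) x hx ≫ (snd G X).left = _ from pullback.lift_snd _ _ _,
      Scheme.Hom.comp_apply]
    exact hxa _

include hσ in
omit hΦ hft hdense in
theorem exists_specialization_over (g : Spec (CommRingCat.of K) ⟶ G.left) (hg : g ≫ G.hom = ptMap σ) {x : G.left}
    (hgx : ∀ t, g t = x) {b b' : X.left} (hb' : X.hom b' = s) (hbb : b ⤳ b')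
    {y : (G ⊗ X).left} (hy1 : (fst G X).left y = x) (hy2 : (snd G X).left y = b) :
    ∃ y', y ⤳ y' ∧ (fst G X).left y' = x ∧ (snd G X).left y' = b' := by
  let k : pullback X.hom (ptMap σ) ⟶ (G ⊗ X).left :=
    pullback.lift (pullback.snd X.hom (ptMap σ) ≫ g) (pullback.fst X.hom (ptMap σ))
      (by rw [Category.assoc, hg]; exact pullback.condition.symm)
  have hk1 : k ≫ (fst G X).left = pullback.snd X.hom (ptMap σ) ≫ g := pullback.lift_fst _ _ _
  have hk2 : k ≫ (snd G X).left = pullback.fst X.hom (ptMap σ) := pullback.lift_snd _ _ _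
  have hsq : IsPullback k (pullback.snd X.hom (ptMap σ)) (fst G X).left g := by
    refine IsPullback.of_right (h₁₂ := (snd G X).left) (v₁₃ := X.hom) (h₂₂ := G.hom) ?_ hk1 ?_
    · rw [hk2, hg]
      exact IsPullback.of_hasPullback _ _
    · exact (IsPullback.of_hasPullback _ _).flip
  obtain ⟨gam, hgam, -⟩ := AlgGrp79.exists_preimage_of_isPullback hsq y (IsLocalRing.closedPoint K)
    (hy1.trans (hgx _).symm)
  have hgamb : pullback.fst X.hom (ptMap σ) gam = b := by
    rw [← hk2, Scheme.Hom.comp_apply, hgam, hy2]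
  obtain ⟨gam', hgam', hgamb'⟩ := mem_image_fst_of_closure X.hom σ hσ (C := closure {gam}) isClosed_closure hb'
    (closure_mono (Set.singleton_subset_iff.2 (show b ∈ pullback.fst X.hom (ptMap σ) '' closure {gam} from ⟨gam, subset_closure rfl, hgamb⟩)) hbb.mem_closure)
  refine ⟨k gam', ?_, ?_, ?_⟩
  · rw [← hgam]
    exact (specializes_iff_mem_closure.2 hgam').map k.continuous
  · rw [← Scheme.Hom.comp_apply, hk1, Scheme.Hom.comp_apply]
    exact hgx _
  · rw [← Scheme.Hom.comp_apply, hk2]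
    exact hgamb'

end Action

theorem isUnivOpenAt_of_mem {X Y : Scheme.{u}} (f : X ⟶ Y) (W : X.Opens) [UniversallyOpen (W.ι ≫ f)] {x : X}
    (hx : x ∈ W) : EGA43.IsUnivOpenAt f x := by
  intro T g x' hx'
  let W' : (pullback f g).Opens := pullback.fst f g ⁻¹ᵁ W
  have hsq := (isPullback_morphismRestrict (pullback.fst f g) W).paste_vert (IsPullback.of_hasPullback f g)
  have : UniversallyOpen (W'.ι ≫ pullback.snd f g) :=
    MorphismProperty.of_isPullback (P := @UniversallyOpen) hsq ‹_›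
  intro N hN
  have hxW : x' ∈ W' := show pullback.fst f g x' ∈ W by rw [hx']; exact hx
  obtain ⟨O, hON, hO, hxO⟩ := mem_nhds_iff.1 hN
  refine Filter.mem_of_superset (((W'.ι ≫ pullback.snd f g).isOpenMap _
    (hO.preimage W'.ι.continuous)).mem_nhds ⟨⟨x', hxW⟩, hxO, rfl⟩) ?_
  rintro _ ⟨t, ht, rfl⟩
  exact ⟨W'.ι t, hON ht, rfl⟩

/-- The quasi-section statement. -/
theorem main {S : Scheme.{u}} {G X : Over S} [GrpObj G] [LocallyOfFinitePresentation G.hom]
    (W : G.left.Opens) (hW : ∀ p : ↥(𝟙_ (Over S)).left, η[G].left p ∈ W) [UniversallyOpen (W.ι ≫ G.hom)]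
    (a : AlgGrp.Action G X) (hΦ : Surjective (lift a.act (snd G X)).left) (U : X.left.Opens) (s : S)
    (hft : LocallyOfFiniteType (X.hom.fiberToSpecResidueField s))
    (hdense : X.hom ⁻¹' {s} ⊆ closure ((U : Set X.left) ∩ X.hom ⁻¹' {s}))
    (A : Set X.left) (hA : A.Finite) (hAs : A ⊆ X.hom ⁻¹' {s}) :
    ∃ (S' S'' : Scheme.{u}) (_ : IsAffine S') (w : S' ⟶ S) (π : S'' ⟶ S') (h : S'' ⟶ G.left),
      Etale w ∧ IsFinite π ∧ Surjective π ∧ LocallyOfFinitePresentation π ∧ h ≫ G.hom = π ≫ w ∧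
      ∃ s'' : S'', (π ≫ w).base ⁻¹' {s} = {s''} ∧
        ∀ (y : (G ⊗ X).left), (fst G X).left y = h s'' → (snd G X).left y ∈ A → a.act.left y ∈ U := by
  classical
  have hftG : LocallyOfFiniteType (G.hom.fiberToSpecResidueField s) :=
    MorphismProperty.pullback_snd (P := @LocallyOfFiniteType) _ _ inferInstance
  have : JacobsonSpace (G.hom.fiber s) := LocallyOfFiniteType.jacobsonSpace (G.hom.fiberToSpecResidueField s)
  -- the generic point
  let e : G.left := η[G].left s
  have he : G.hom e = s := by rw [← Scheme.Hom.comp_apply, Over.w η[G]]; rfl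
  obtain ⟨ξ, hξe, hfξ, hdimξ, -, hgenξ⟩ := E4O.exists_fibreDimAt_eq G.hom e
  have hξs : G.hom ξ = s := hfξ.trans he
  have hξ : ∀ z, z ⤳ ξ → G.hom z = s → z = ξ := fun z h1 h2 => hgenξ z h1 (h2.trans he.symm)
  have hξW : ξ ∈ W := hξe.mem_open W.2 (hW s)
  -- closed specialisations of the points of A
  have hcl : ∀ b ∈ A, ∃ p : X.hom.fiber s, IsClosed ({p} : Set _) ∧ b ⤳ X.hom.fiberι s p := fun b hb =>
    exists_closed_specialization X.hom hft (hAs hb)
  choose p hpc hbp using hcl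
  have := hA.to_subtype
  let B : A → Set G.left := fun b =>
    closure ((fst G X).left '' {y | (snd G X).left y = X.hom.fiberι s (p b.1 b.2) ∧ a.act.left y ∉ U})
  have hB : ξ ∉ ⋃ b, B b := by
    simp only [Set.mem_iUnion, not_exists]
    rintro ⟨b, hb⟩
    obtain ⟨K, _, σ, x, hσ, hx, hxp⟩ := exists_point_of_closed X.hom hft (p b hb) (hpc b hb)
    exact not_mem_closure_bad a hΦ hft hdense hσ x hx hxp hξs hξ
  have hBc : IsClosed (⋃ b, B b) := isClosed_iUnion_of_finite fun b => isClosed_closure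
  -- the closed point
  obtain ⟨ξ', hξ'⟩ : ξ ∈ Set.range (G.hom.fiberι s) := by rw [Scheme.Hom.range_fiberι]; exact hξs
  obtain ⟨q, ⟨hq1, hq2⟩, hqc⟩ := nonempty_inter_closedPoints (X := G.hom.fiber s)
    (Z := closure {ξ'} ∩ G.hom.fiberι s ⁻¹' (⋃ b, B b)ᶜ)
    ⟨ξ', subset_closure rfl, Set.mem_preimage.2 (hξ'.symm ▸ hB)⟩
    (isClosed_closure.isLocallyClosed.inter (hBc.isOpen_compl.preimage (G.hom.fiberι s).continuous).isLocallyClosed)
  let x : G.left := G.hom.fiberι s q
  have hx : G.hom x = s := by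
    have : x ∈ Set.range (G.hom.fiberι s) := ⟨q, rfl⟩
    rwa [Scheme.Hom.range_fiberι] at this
  have hξx : ξ ⤳ x := hξ' ▸ (specializes_iff_mem_closure.2 hq1).map (G.hom.fiberι s).continuous
  have hdeg : FlatMor.fibreDimAt G.hom x ≤ (E4O.fdeg G.hom ξ : ℕ) := by
    rw [← dim_fibre_eq_fibreDimAt G x, ← hdimξ, ← dim_fibre_eq_fibreDimAt G e]
    exact (congrArg (fun t => topologicalKrullDim ↥(G.hom ⁻¹' {t})) (hx.trans he.symm)).le
  obtain ⟨S', S'', hS', w, π, h, hw, hπ, hπs, hπf, hh, s'', hs'', hhx, -⟩ :=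
    QuasiSec.main G.hom (x := x) (z := ξ)
      (fun x' h1 h2 => eq_of_specializes_closed G.hom hqc (h1.trans hx) h2)
      hξx (hξs.trans hx.symm) (isUnivOpenAt_of_mem G.hom W hξW) hdeg
  refine ⟨S', S'', hS', w, π, h, hw, hπ, hπs, hπf, hh, s'', hx ▸ hs'', fun y hy1 hy2 => ?_⟩
  obtain ⟨K, _, σ, g, hσ, hg, hgq⟩ := exists_point_of_closed G.hom hftG q hqc
  have hb' : X.hom (X.hom.fiberι s (p ((snd G X).left y) hy2)) = s := by
    have : X.hom.fiberι s (p ((snd G X).left y) hy2) ∈ Set.range (X.hom.fiberι s) := ⟨_, rfl⟩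
    rwa [Scheme.Hom.range_fiberι] at this
  obtain ⟨y', hyy, hy'1, hy'2⟩ := exists_specialization_over hσ g hg hgq hb' (hbp _ hy2) (hy1.trans hhx) rfl
  have hnot : x ∉ B ⟨(snd G X).left y, hy2⟩ := fun hmem => hq2 (Set.mem_iUnion.2 ⟨_, hmem⟩)
  refine (hyy.map a.act.left.continuous).mem_open U.2 ?_
  by_contra hU
  exact hnot (subset_closure ⟨y', ⟨hy'2, hU⟩, hy'1⟩)

end Groth.Agent.CAlg6.TransOpen
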