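import Groth.Agent.CAlg6.TrigSplitExt
import Mathlib.Order.Zorn

/-!
Extensions of diagonalizable groups by unipotent groups split over an algebraically closed field.
-/

universe u

set_option maxHeartbeats 1000000
set_option synthInstance.maxHeartbeats 100000

open TensorProduct Polynomial

noncomputable section

namespace Groth.Agent.CAlg6.TrigSplit

open Groth.Agent.Comod33

variable {k : Type u} [Field k] {A B : Type u} [CommRing A] [HopfAlgebra k A] [CommRing B] [HopfAlgebra k B]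

/-- the first projection of a graph -/
def F1 (Γ : Subalgebra k (A × B)) : Γ →ₐ[k] A := (AlgHom.fst k A B).comp Γ.val

/-- the second projection of a graph -/
def F2 (Γ : Subalgebra k (A × B)) : Γ →ₐ[k] B := (AlgHom.snd k A B).comp Γ.val

/-- both projections of a tensor -/
def pair2 (Γ : Subalgebra k (A × B)) : Γ ⊗[k] Γ →ₐ[k] (A ⊗[k] A) × (B ⊗[k] B) :=
  (Algebra.TensorProduct.map (F1 Γ) (F1 Γ)).prod (Algebra.TensorProduct.map (F2 Γ) (F2 Γ))

variable (k A B) in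
/-- both comultiplications -/
def dd : A × B →ₐ[k] (A ⊗[k] A) × (B ⊗[k] B) :=
  ((Bialgebra.comulAlgHom k A).comp (AlgHom.fst k A B)).prod
    ((Bialgebra.comulAlgHom k B).comp (AlgHom.snd k A B))

/-- graphs of partial retractions of `ψ` -/
structure IsStage (ψ : B →ₐc[k] A) (Γ : Subalgebra k (A × B)) : Prop where
  psi : ∀ b, (ψ b, b) ∈ Γ
  single : Function.Injective (F1 Γ)
  comul : Γ ≤ (pair2 Γ).range.comap (dd k A B)
  counit : ∀ p ∈ Γ, CoalgebraStruct.counit (R := k) p.1 = CoalgebraStruct.counit (R := k) p.2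
  antipode : Γ.map (AlgHom.fst k A B) ≤ (Γ.map (AlgHom.fst k A B)).comap (HopfAlgebra.antipodeAlgHom k A)

theorem pair2_range_mono {Γ Γ' : Subalgebra k (A × B)} (h : Γ ≤ Γ') : (pair2 Γ).range ≤ (pair2 Γ').range := by
  rintro _ ⟨z, rfl⟩
  refine ⟨Algebra.TensorProduct.map (Subalgebra.inclusion h) (Subalgebra.inclusion h) z, ?_⟩
  induction z with
  | zero => simp
  | add p q hp hq => simp only [map_add, hp, hq]
  | tmul p q => rfl

variable {ψ : B →ₐc[k] A}

theorem exists_delta {Γ : Subalgebra k (A × B)} (hΓ : IsStage ψ Γ) : ∃ δ : Γ →ₐ[k] Γ ⊗[k] Γ,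
    (∀ a, Algebra.TensorProduct.map (F1 Γ) (F1 Γ) (δ a) = CoalgebraStruct.comul (R := k) (F1 Γ a)) ∧
    (∀ a, Algebra.TensorProduct.map (F2 Γ) (F2 Γ) (δ a) = CoalgebraStruct.comul (R := k) (F2 Γ a)) := by
  let e := AlgEquiv.ofInjective _ (f11_injective (f1 := F1 Γ) hΓ.single)
  have hmem : ∀ a : Γ, ((Bialgebra.comulAlgHom k A).comp (F1 Γ)) a ∈
      (Algebra.TensorProduct.map (F1 Γ) (F1 Γ)).range := fun a => by
    obtain ⟨z, hz⟩ := hΓ.comul a.2
    exact ⟨z, congrArg Prod.fst hz⟩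
  let δ : Γ →ₐ[k] Γ ⊗[k] Γ := e.symm.toAlgHom.comp (AlgHom.codRestrict _ _ hmem)
  have h1 : ∀ a, Algebra.TensorProduct.map (F1 Γ) (F1 Γ) (δ a) = CoalgebraStruct.comul (R := k) (F1 Γ a) :=
    fun a => congrArg Subtype.val (e.apply_symm_apply (AlgHom.codRestrict _ _ hmem a))
  refine ⟨δ, h1, fun a => ?_⟩
  obtain ⟨z, hz⟩ := hΓ.comul a.2
  rw [show δ a = z from f11_injective (f1 := F1 Γ) hΓ.single ((h1 a).trans (congrArg Prod.fst hz).symm)]
  exact congrArg Prod.snd hz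

/-- adjoining one element to a graph -/
theorem exists_larger [IsAlgClosed k] (hB : HopfRep.IsDiagonalizable k B) {Γ : Subalgebra k (A × B)}
    (hΓ : IsStage ψ Γ) (x : A) {γ : B} (hγ : IsGroupLikeElem k γ) (hx : x ∉ Γ.map (AlgHom.fst k A B))
    (hc : CoalgebraStruct.comul (R := k) x - x ⊗ₜ[k] (1 : A) - ψ γ ⊗ₜ[k] x ∈ LinearMap.range
      (TensorProduct.map (Γ.map (AlgHom.fst k A B)).val.toLinearMap (Γ.map (AlgHom.fst k A B)).val.toLinearMap)) :
    ∃ Γ', IsStage ψ Γ' ∧ Γ < Γ' := by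
  classical
  obtain ⟨δ, hδ1, hδ2⟩ := exists_delta hΓ
  obtain ⟨c, hc⟩ : ∃ c : Γ ⊗[k] Γ, CoalgebraStruct.comul (R := k) x =
      x ⊗ₜ[k] (1 : A) + ψ γ ⊗ₜ[k] x + Algebra.TensorProduct.map (F1 Γ) (F1 Γ) c := by
    obtain ⟨z, hz⟩ := hc
    rw [sub_sub] at hz
    suffices h : ∃ c : Γ ⊗[k] Γ, Algebra.TensorProduct.map (F1 Γ) (F1 Γ) c = TensorProduct.map
        (Γ.map (AlgHom.fst k A B)).val.toLinearMap (Γ.map (AlgHom.fst k A B)).val.toLinearMap z by
      obtain ⟨c, h⟩ := h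
      exact ⟨c, by rw [h, hz, add_sub_cancel]⟩
    clear hz
    induction z with
    | zero => exact ⟨0, by simp⟩
    | add p q hp hq =>
      obtain ⟨a, ha⟩ := hp
      obtain ⟨b, hb⟩ := hq
      exact ⟨a + b, by rw [map_add, map_add, ha, hb]⟩
    | tmul p q =>
      obtain ⟨a, ha, hap⟩ := p.2
      obtain ⟨b, hb, hbq⟩ := q.2
      exact ⟨(⟨a, ha⟩ : Γ) ⊗ₜ[k] (⟨b, hb⟩ : Γ), by
        rw [Algebra.TensorProduct.map_tmul, TensorProduct.map_tmul]
        exact congrArg₂ (fun s t => s ⊗ₜ[k] t) hap hbq⟩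
  let g : Γ := ⟨(ψ γ, γ), hΓ.psi γ⟩
  let gi : Γ := ⟨(ψ (HopfAlgebraStruct.antipode (R := k) γ), HopfAlgebraStruct.antipode (R := k) γ), hΓ.psi _⟩
  have hgi : gi * g = 1 := Subtype.ext (Prod.ext
    (by show ψ (HopfAlgebraStruct.antipode (R := k) γ) * ψ γ = 1
        rw [← map_mul, Diag.grouplike_mul_inv hγ, map_one])
    (by exact Diag.grouplike_mul_inv hγ))
  have hS' : ∀ a : Γ, ∃ p : Γ, F1 Γ p = HopfAlgebraStruct.antipode (R := k) (F1 Γ a) := fun a => by
    obtain ⟨p, hp, h⟩ := hΓ.antipode ⟨(a : A × B), a.2, rfl⟩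
    exact ⟨⟨p, hp⟩, h⟩
  obtain ⟨y, hy, hrel⟩ := exists_value (f1 := F1 Γ) (f2 := F2 Γ) hB hΓ.single hδ1 hδ2 hS'
    (ψ := ψ) (g := g) (gi := gi) (γ := γ) rfl rfl hgi x hγ c hc
  let θ := Polynomial.aevalTower Γ.val ((x, y) : A × B)
  let Γ' := θ.range
  have hle : Γ ≤ Γ' := fun p hp => ⟨Polynomial.C ⟨p, hp⟩, Polynomial.aevalTower_C (g := Γ.val) (y := ((x, y) : A × B)) ⟨p, hp⟩⟩
  have hxy : (x, y) ∈ Γ' := ⟨Polynomial.X, Polynomial.aevalTower_X _ _⟩
  have hgen : ∀ T : Subalgebra k (A × B), Γ ≤ T → (x, y) ∈ T → Γ' ≤ T := by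
    rintro T hT hxyT _ ⟨P, rfl⟩
    show θ P ∈ T
    induction P using Polynomial.induction_on with
    | C a => rw [Polynomial.aevalTower_C]; exact hT a.2
    | add p q hp hq => rw [map_add]; exact add_mem hp hq
    | monomial n a _ =>
      rw [map_mul, map_pow, Polynomial.aevalTower_C, Polynomial.aevalTower_X]
      exact mul_mem (hT a.2) (pow_mem hxyT _)
  have hproj : ∀ P, (θ P).1 = Polynomial.aevalTower (F1 Γ) x P ∧ (θ P).2 = Polynomial.aevalTower (F2 Γ) y P := by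
    intro P
    induction P using Polynomial.induction_on with
    | C a => simp only [θ, Polynomial.aevalTower_C]; exact ⟨rfl, rfl⟩
    | add p q hp hq => simp only [map_add, Prod.fst_add, Prod.snd_add, hp.1, hp.2, hq.1, hq.2, and_self]
    | monomial n a _ =>
      simp only [θ, map_mul, map_pow, Polynomial.aevalTower_C, Polynomial.aevalTower_X, Prod.fst_mul,
        Prod.snd_mul, Prod.pow_fst, Prod.pow_snd]
      exact ⟨rfl, rfl⟩
  refine ⟨Γ', ⟨fun b => hle (hΓ.psi b), ?_, ?_, ?_, ?_⟩, lt_of_le_of_ne hle fun e => hx ?_⟩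
  · rw [injective_iff_map_eq_zero]
    rintro ⟨_, P, rfl⟩ hp
    have h1 : (θ P).1 = 0 := hp
    refine Subtype.ext (Prod.ext h1 ?_)
    show (θ P).2 = 0
    rw [(hproj P).2]
    exact hrel P ((hproj P).1.symm.trans h1)
  · refine hgen _ (fun p hp => pair2_range_mono hle (hΓ.comul hp)) ?_
    refine ⟨(⟨(x, y), hxy⟩ : Γ') ⊗ₜ[k] (1 : Γ') + (⟨(ψ γ, γ), hle (hΓ.psi γ)⟩ : Γ') ⊗ₜ[k] (⟨(x, y), hxy⟩ : Γ') +
      Algebra.TensorProduct.map (Subalgebra.inclusion hle) (Subalgebra.inclusion hle) c, ?_⟩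
    have e : ∀ z : Γ ⊗[k] Γ, pair2 Γ' (Algebra.TensorProduct.map (Subalgebra.inclusion hle)
        (Subalgebra.inclusion hle) z) =
        (Algebra.TensorProduct.map (F1 Γ) (F1 Γ) z, Algebra.TensorProduct.map (F2 Γ) (F2 Γ) z) := by
      intro z
      induction z with
      | zero => simp only [map_zero]; rfl
      | add p q hp hq => simp only [map_add, hp, hq]; rfl
      | tmul p q => rfl
    show pair2 Γ' _ = dd k A B (x, y)
    rw [map_add, map_add, e]
    show _ = (CoalgebraStruct.comul (R := k) x, CoalgebraStruct.comul (R := k) y)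
    rw [hc, hy]
    rfl
  · have hεc : ∀ z : Γ ⊗[k] Γ,
        TensorProduct.lid k k (TensorProduct.map (CoalgebraStruct.counit (R := k)) (CoalgebraStruct.counit (R := k))
          (Algebra.TensorProduct.map (F1 Γ) (F1 Γ) z)) =
        TensorProduct.lid k k (TensorProduct.map (CoalgebraStruct.counit (R := k)) (CoalgebraStruct.counit (R := k))
          (Algebra.TensorProduct.map (F2 Γ) (F2 Γ) z)) := by
      intro z
      induction z with
      | zero => simp
      | add p q hp hq => simp only [map_add, hp, hq]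
      | tmul p q =>
        simp only [Algebra.TensorProduct.map_tmul, TensorProduct.map_tmul, TensorProduct.lid_tmul]
        exact congrArg₂ (fun s t => s • t) (hΓ.counit _ p.2) (hΓ.counit _ q.2)
    have hεε : ∀ (C : Type u) [CommRing C] [HopfAlgebra k C] (a : C),
        TensorProduct.lid k k (TensorProduct.map (CoalgebraStruct.counit (R := k)) (CoalgebraStruct.counit (R := k))
          (CoalgebraStruct.comul (R := k) a)) = CoalgebraStruct.counit (R := k) a := by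
      intro C _ _ a
      rw [← LinearMap.lTensor_comp_rTensor, LinearMap.comp_apply, Coalgebra.rTensor_counit_comul]
      simp
    have hεγ : CoalgebraStruct.counit (R := k) (ψ γ) = 1 := (hγ.map ψ).counit_eq_one
    let T := AlgHom.equalizer ((Bialgebra.counitAlgHom k A).comp (AlgHom.fst k A B))
      ((Bialgebra.counitAlgHom k B).comp (AlgHom.snd k A B))
    refine fun p hp => hgen T (fun q hq => hΓ.counit q hq) ?_ hp
    show CoalgebraStruct.counit (R := k) x = CoalgebraStruct.counit (R := k) y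
    have h1 := hεε A x
    have h2 := hεε B y
    rw [hc] at h1
    rw [hy] at h2
    simp only [map_add, TensorProduct.map_tmul, TensorProduct.lid_tmul, Bialgebra.counit_one, hεγ,
      hγ.counit_eq_one, smul_eq_mul, mul_one, one_mul] at h1 h2
    linear_combination h1 - h2 - hεc c
  · let T := Γ'.map (AlgHom.fst k A B)
    refine Subalgebra.map_le.2 (hgen _ (fun p hp => ?_) ?_)
    · show HopfAlgebraStruct.antipode (R := k) p.1 ∈ T
      obtain ⟨q, hq, h⟩ := hΓ.antipode ⟨p, hp, rfl⟩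
      exact ⟨q, hle hq, h⟩
    · show HopfAlgebraStruct.antipode (R := k) x ∈ T
      have hxT : x ∈ T := ⟨(x, y), hxy, rfl⟩
      have hgiT : ψ (HopfAlgebraStruct.antipode (R := k) γ) ∈ T := ⟨gi, hle gi.2, rfl⟩
      have hcT : ∀ z : Γ ⊗[k] Γ, LinearMap.mul' k A ((HopfAlgebraStruct.antipode (R := k) (A := A)).lTensor A
          (Algebra.TensorProduct.map (F1 Γ) (F1 Γ) z)) ∈ T := by
        intro z
        induction z with
        | zero => simp
        | add p q hp hq => simp only [map_add]; exact add_mem hp hq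
        | tmul p q =>
          simp only [Algebra.TensorProduct.map_tmul, LinearMap.lTensor_tmul, LinearMap.mul'_apply]
          obtain ⟨r, hr⟩ := hS' q
          rw [← hr]
          exact mul_mem ⟨p, hle p.2, rfl⟩ ⟨r, hle r.2, rfl⟩
      have h := HopfAlgebra.mul_antipode_lTensor_comul_apply (R := k) x
      rw [hc, map_add, map_add, map_add, map_add, LinearMap.lTensor_tmul, LinearMap.lTensor_tmul,
        LinearMap.mul'_apply, LinearMap.mul'_apply, HopfAlgebra.antipode_one, mul_one] at h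
      have h2 : HopfAlgebraStruct.antipode (R := k) x = ψ (HopfAlgebraStruct.antipode (R := k) γ) *
          (algebraMap k A (CoalgebraStruct.counit (R := k) x) - x - LinearMap.mul' k A
            ((HopfAlgebraStruct.antipode (R := k) (A := A)).lTensor A
              (Algebra.TensorProduct.map (F1 Γ) (F1 Γ) c))) := by
        rw [← h]
        have e : ψ (HopfAlgebraStruct.antipode (R := k) γ) * ψ γ = 1 := by
          rw [← map_mul, Diag.grouplike_mul_inv hγ, map_one]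
        linear_combination (-HopfAlgebraStruct.antipode (R := k) x) * e
      rw [h2]
      exact mul_mem hgiT (sub_mem (sub_mem (Subalgebra.algebraMap_mem _ _) hxT) (hcT c))
  · rw [e]
    exact ⟨(x, y), hxy, rfl⟩

theorem isStage_psi (hψ : Function.Injective ψ) : IsStage ψ ((ψ : B →ₐ[k] A).prod (AlgHom.id k B)).range := by
  refine ⟨fun b => ⟨b, rfl⟩, ?_, ?_, ?_, ?_⟩
  · rintro ⟨_, a, rfl⟩ ⟨_, b, rfl⟩ h
    have e : a = b := hψ h
    subst e
    rfl
  · rintro _ ⟨b, rfl⟩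
    let i : B →ₐ[k] ((ψ : B →ₐ[k] A).prod (AlgHom.id k B)).range :=
      ((ψ : B →ₐ[k] A).prod (AlgHom.id k B)).rangeRestrict
    refine ⟨Algebra.TensorProduct.map i i (CoalgebraStruct.comul (R := k) b), ?_⟩
    show pair2 (((ψ : B →ₐ[k] A).prod (AlgHom.id k B)).range) _ = (CoalgebraStruct.comul (R := k) (ψ b), CoalgebraStruct.comul (R := k) b)
    rw [← CoalgHomClass.map_comp_comul_apply ψ b]
    generalize CoalgebraStruct.comul (R := k) b = z
    induction z with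
    | zero => simp only [map_zero]; rfl
    | add p q hp hq => simp only [map_add, hp, hq]; rfl
    | tmul p q => rfl
  · rintro _ ⟨b, rfl⟩
    exact CoalgHomClass.counit_comp_apply ψ b
  · rintro _ ⟨_, ⟨b, rfl⟩, rfl⟩
    exact ⟨_, ⟨HopfAlgebraStruct.antipode (R := k) b, rfl⟩, (Unip38.bialgHom_antipode ψ b).symm⟩

theorem isStage_iSup (c : Set (Subalgebra k (A × B))) (hne : c.Nonempty) (hc : IsChain (· ≤ ·) c)
    (h : ∀ Γ ∈ c, IsStage ψ Γ) : IsStage ψ (⨆ Γ : c, (Γ : Subalgebra k (A × B))) := by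
  haveI : Nonempty c := hne.to_subtype
  have hdir : Directed (· ≤ ·) fun Γ : c => (Γ : Subalgebra k (A × B)) := hc.directed
  have hmem : ∀ p, p ∈ ⨆ Γ : c, (Γ : Subalgebra k (A × B)) → ∃ Γ ∈ c, p ∈ Γ := fun p hp => by
    rw [← SetLike.mem_coe, Subalgebra.coe_iSup_of_directed hdir, Set.mem_iUnion] at hp
    exact ⟨hp.choose, hp.choose.2, hp.choose_spec⟩
  have hle : ∀ Γ ∈ c, Γ ≤ ⨆ Γ : c, (Γ : Subalgebra k (A × B)) := fun Γ hΓ =>
    le_iSup (fun Γ : c => (Γ : Subalgebra k (A × B))) ⟨Γ, hΓ⟩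
  obtain ⟨Γ₀, hΓ₀⟩ := hne
  refine ⟨fun b => hle Γ₀ hΓ₀ ((h Γ₀ hΓ₀).psi b), ?_, fun p hp => ?_, fun p hp => ?_, ?_⟩
  · rw [injective_iff_map_eq_zero]
    rintro ⟨p, hp⟩ h0
    obtain ⟨Γ, hΓ, hpΓ⟩ := hmem p hp
    have := (injective_iff_map_eq_zero (F1 Γ)).1 (h Γ hΓ).single ⟨p, hpΓ⟩ h0
    exact Subtype.ext (congrArg Subtype.val this :)
  · obtain ⟨Γ, hΓ, hpΓ⟩ := hmem p hp
    exact pair2_range_mono (hle Γ hΓ) ((h Γ hΓ).comul hpΓ)
  · obtain ⟨Γ, hΓ, hpΓ⟩ := hmem p hp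
    exact (h Γ hΓ).counit p hpΓ
  · rintro _ ⟨p, hp, rfl⟩
    obtain ⟨Γ, hΓ, hpΓ⟩ := hmem p hp
    obtain ⟨q, hq, e⟩ := (h Γ hΓ).antipode ⟨p, hpΓ, rfl⟩
    exact ⟨q, hle Γ hΓ hq, e⟩

/-- an extension of a diagonalizable group by a unipotent group splits -/
theorem exists_splitting [IsAlgClosed k] [Algebra.FiniteType k A] (hB : HopfRep.IsDiagonalizable k B)
    (hψ : Function.Injective ψ) (J : Ideal A) [J.IsHopfIdeal k]
    (hJ : J = Ideal.map (ψ : B →+* A) (RingHom.ker (Bialgebra.counitAlgHom k B)))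
    (hU : HopfRep.IsUnipotent k (A ⧸ J)) : ∃ r : A →ₐc[k] B, r.comp ψ = BialgHom.id k B := by
  classical
  obtain ⟨Γ, -, hmax⟩ := zorn_le_nonempty₀ {Γ : Subalgebra k (A × B) | IsStage ψ Γ}
    (fun c hcs hc Γ₀ hΓ₀ => ⟨⨆ Γ : c, (Γ : Subalgebra k (A × B)), isStage_iSup c ⟨Γ₀, hΓ₀⟩ hc hcs,
      fun Γ hΓ => le_iSup (fun Γ : c => (Γ : Subalgebra k (A × B))) ⟨Γ, hΓ⟩⟩)
    _ (isStage_psi hψ)
  have hΓ : IsStage ψ Γ := hmax.1
  let A' := Γ.map (AlgHom.fst k A B)
  have hA' : SubHopf.IsSubHopf A' := by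
    refine ⟨?_, fun a ha => hΓ.antipode ha⟩
    rintro _ ⟨p, hp, rfl⟩
    obtain ⟨z, hz⟩ := hΓ.comul hp
    have hz1 : Algebra.TensorProduct.map (F1 Γ) (F1 Γ) z = CoalgebraStruct.comul (R := k) p.1 := congrArg Prod.fst hz
    show CoalgebraStruct.comul (R := k) p.1 ∈ _
    rw [← hz1]
    refine ⟨Algebra.TensorProduct.map ((F1 Γ).codRestrict A' fun a => ⟨a, a.2, rfl⟩)
      ((F1 Γ).codRestrict A' fun a => ⟨a, a.2, rfl⟩) z, ?_⟩
    clear hz hz1
    induction z with
    | zero => simp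
    | add s t hs ht => simp only [map_add, hs, ht]
    | tmul s t => rfl
  have htop : A' = ⊤ := by
    by_contra hne
    obtain ⟨x, γ, hx, hγ, hc⟩ := exists_skew ψ hψ hB ⟨J, inferInstance, hJ, hU⟩ A' hA'
      (by rintro _ ⟨b, rfl⟩; exact ⟨_, hΓ.psi b, rfl⟩) hne
    obtain ⟨Γ', hΓ', hlt⟩ := exists_larger hB hΓ x hγ hx hc
    exact hlt.not_ge (hmax.2 hΓ' hlt.le)
  have hsur : Function.Surjective (F1 Γ) := fun a => by
    obtain ⟨p, hp, h⟩ : a ∈ A' := htop ▸ Algebra.mem_top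
    exact ⟨⟨p, hp⟩, h⟩
  let e := AlgEquiv.ofBijective (F1 Γ) ⟨hΓ.single, hsur⟩
  let r : A →ₐ[k] B := (F2 Γ).comp e.symm.toAlgHom
  have hr : ∀ p : Γ, r (F1 Γ p) = F2 Γ p := fun p => congrArg (F2 Γ) (e.symm_apply_apply p)
  refine ⟨BialgHom.ofAlgHom r (AlgHom.ext fun a => ?_) (AlgHom.ext fun a => ?_), BialgHom.ext fun b => ?_⟩
  · obtain ⟨p, rfl⟩ := hsur a
    show CoalgebraStruct.counit (R := k) (r (F1 Γ p)) = CoalgebraStruct.counit (R := k) (F1 Γ p)
    rw [hr]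
    exact (hΓ.counit _ p.2).symm
  · obtain ⟨p, rfl⟩ := hsur a
    obtain ⟨z, hz⟩ := hΓ.comul p.2
    show Algebra.TensorProduct.map r r (CoalgebraStruct.comul (R := k) (F1 Γ p)) =
      CoalgebraStruct.comul (R := k) (r (F1 Γ p))
    rw [hr, show CoalgebraStruct.comul (R := k) (F1 Γ p) = Algebra.TensorProduct.map (F1 Γ) (F1 Γ) z from
      (congrArg Prod.fst hz).symm, show CoalgebraStruct.comul (R := k) (F2 Γ p) =
        Algebra.TensorProduct.map (F2 Γ) (F2 Γ) z from (congrArg Prod.snd hz).symm]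
    clear hz
    induction z with
    | zero => simp
    | add s t hs ht => simp only [map_add, hs, ht]
    | tmul s t => simp only [Algebra.TensorProduct.map_tmul, hr]
  · exact hr ⟨_, hΓ.psi b⟩

end Groth.Agent.CAlg6.TrigSplit
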