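import Groth.Agent.CAlg6.TrigSplit
import Groth.Agent.CAlg6.ConilComp
import Groth.Agent.Comod33.TorsionDense
import Groth.Agent.Comod33.DimOne
import Mathlib.RingTheory.Etale.Field

/-!
Liftings of a connected group of multiplicative type in an extension by an étale unipotent group.
-/

universe u

set_option maxHeartbeats 1000000
set_option synthInstance.maxHeartbeats 100000

open TensorProduct

noncomputable section

namespace Groth.Agent.CAlg6.TrigSplit

open Groth.Agent.Comod33

variable {k : Type u} [Field k] {A B : Type u} [CommRing A] [HopfAlgebra k A] [CommRing B] [HopfAlgebra k B]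

/-- a group of multiplicative type is diagonalizable over an algebraically closed field -/
theorem isDiagonalizable_bc_of_isMultTypeConst [Algebra.FiniteType k B] (hB : SGA3b.IsMultTypeConst k B)
    (K : Type u) [Field K] [Algebra k K] [IsAlgClosed K] : HopfRep.IsDiagonalizable K (K ⊗[k] B) := by
  haveI : Coalgebra.IsCocomm k B := by
    obtain ⟨R', _, _, hff, hd⟩ := hB
    haveI := hff
    haveI : Nontrivial (R' ⊗[k] k) := Module.FaithfullyFlat.lTensor_nontrivial k R' k
    haveI : Nontrivial R' := (TensorProduct.rid k R').injective.nontrivial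
    obtain ⟨m, hm⟩ := Ideal.exists_maximal R'
    let F := R' ⧸ m
    letI : Field F := Ideal.Quotient.field m
    obtain ⟨M', _, ⟨e⟩⟩ : SGA3b.IsDiag F (F ⊗[k] B) := SGA3b53.isDiag_tower R' F hd
    have hF : HopfRep.IsDiagonalizable F (F ⊗[k] B) := by
      rw [HopfRep.IsDiagonalizable, eq_top_iff]
      intro z _
      rw [show z = e.symm (e z) from (e.toAlgEquiv.symm_apply_apply z).symm]
      induction (e z) using MonoidAlgebra.induction_linear with
      | zero => rw [map_zero]; exact zero_mem _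
      | add f g hf hg => rw [map_add]; exact add_mem hf hg
      | single m r =>
        rw [show MonoidAlgebra.single m r = r • MonoidAlgebra.of F M' m by simp, map_smul]
        exact Submodule.smul_mem _ _ (Submodule.subset_span ((MonoidAlgebra.isGroupLikeElem_of m).map e.symm))
    haveI := Diag.isCocomm_of_isDiagonalizable hF
    exact Diag.isCocomm_descend (K := F)
  exact Diag.isDiagonalizable_of_no_prim (Diag.no_prim_baseChange fun f hf => Conil.no_prim_of_isMultTypeConst hB hf)

/-- the base change of an extension -/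
theorem exists_extension_bc (ψ : B →ₐc[k] A) (hψ : Function.Injective ψ) (J : Ideal A) [J.IsHopfIdeal k]
    (hJ : J = Ideal.map (ψ : B →+* A) (RingHom.ker (Bialgebra.counitAlgHom k B)))
    (hU : HopfRep.IsUnipotent k (A ⧸ J)) (K : Type u) [Field K] [Algebra k K] :
    Function.Injective (Bialgebra.TensorProduct.map (BialgHom.id K K) ψ : K ⊗[k] B →ₐc[K] K ⊗[k] A) ∧
    ∃ (J' : Ideal (K ⊗[k] A)) (_ : J'.IsHopfIdeal K),
      J' = Ideal.map ((Bialgebra.TensorProduct.map (BialgHom.id K K) ψ : K ⊗[k] B →ₐc[K] K ⊗[k] A) :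
        K ⊗[k] B →+* K ⊗[k] A) (RingHom.ker (Bialgebra.counitAlgHom K (K ⊗[k] B))) ∧
      HopfRep.IsUnipotent K ((K ⊗[k] A) ⧸ J') ∧
      J' = J.map (Algebra.TensorProduct.includeRight : A →ₐ[k] K ⊗[k] A) := by
  let ψ' : K ⊗[k] B →ₐc[K] K ⊗[k] A := Bialgebra.TensorProduct.map (BialgHom.id K K) ψ
  refine ⟨Module.Flat.lTensor_preserves_injective_linearMap (M := K) (ψ : B →ₗ[k] A) hψ, ?_⟩
  let π := Bialgebra.TensorProduct.map (BialgHom.id K K) (Bialgebra.Quotient.mkBialgHom (R := k) J)
  let J' : Ideal (K ⊗[k] A) := RingHom.ker (π : K ⊗[k] A →ₐ[K] K ⊗[k] (A ⧸ J))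
  haveI : J'.IsHopfIdeal K := IdComp.isHopfIdeal_ker π (MultQuot.surjective_mk K J)
  have hJ' : J' = J.map (Algebra.TensorProduct.includeRight : A →ₐ[k] K ⊗[k] A) := MultQuot.ker_mk K J
  refine ⟨J', inferInstance, le_antisymm ?_ ?_, ?_, hJ'⟩
  · rw [hJ', Ideal.map_le_iff_le_comap, hJ, Ideal.map_le_iff_le_comap]
    intro b hb
    rw [Ideal.mem_comap, Ideal.mem_comap]
    refine Ideal.mem_map_of_mem (ψ' : K ⊗[k] B →+* K ⊗[k] A) (x := (1 : K) ⊗ₜ[k] b) ?_
    show CoalgebraStruct.counit (R := K) ((1 : K) ⊗ₜ[k] b) = 0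
    rw [TensorProduct.counit_tmul, show CoalgebraStruct.counit (R := k) b = 0 from hb, zero_smul]
  · rw [hJ', Ideal.map_le_iff_le_comap]
    intro x hx
    have h := MultQuot.sub_counit_mem K ψ J (fun b hb => hJ ▸ Ideal.mem_map_of_mem (ψ : B →+* A) hb)
      (x : K ⊗[k] B)
    rw [show CoalgebraStruct.counit (R := K) (x : K ⊗[k] B) = 0 from hx, map_zero, sub_zero] at h
    exact h
  · obtain ⟨f, hf⟩ := Unip38.exists_bialgHom_factor (Bialgebra.Quotient.mkBialgHom (R := K) J')
      Ideal.Quotient.mk_surjective π fun a ha => Ideal.Quotient.eq_zero_iff_mem.1 ha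
    refine MultQuot.isUnipotent_of_injective f (fun x y hxy => ?_) (isUnipotent_baseChange hU K)
    obtain ⟨x, rfl⟩ := Ideal.Quotient.mk_surjective x
    obtain ⟨y, rfl⟩ := Ideal.Quotient.mk_surjective y
    refine Ideal.Quotient.eq.2 ?_
    show π (x - y) = 0
    rw [map_sub, ← hf, ← hf]
    exact sub_eq_zero.2 hxy

/-- elements of the total algebra split along a retraction -/
theorem exists_split_hom (ψ : B →ₐc[k] A) (r : A →ₐc[k] B) (hr : r.comp ψ = BialgHom.id k B) (J : Ideal A)
    (hJ : J = Ideal.map (ψ : B →+* A) (RingHom.ker (Bialgebra.counitAlgHom k B))) :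
    ∃ e : (A ⧸ J) →ₐ[k] A, Algebra.adjoin k (Set.range ψ ∪ Set.range e) = ⊤ ∧
      ∀ a, LinearMap.mul' k A (TensorProduct.map (ψ.comp r : A →ₐ[k] A).toLinearMap
        (e.comp (Ideal.Quotient.mkₐ k J)).toLinearMap (CoalgebraStruct.comul (R := k) a)) = a := by
  let p : A →ₐ[k] A := (ψ.comp r : A →ₐc[k] A)
  let e' : A →ₐ[k] A := (Algebra.TensorProduct.lift ((HopfAlgebra.antipodeAlgHom k A).comp p) (AlgHom.id k A)
    fun _ _ => Commute.all _ _).comp (Bialgebra.comulAlgHom k A)
  have hrψ : ∀ b, r (ψ b) = b := fun b => DFunLike.congr_fun hr b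
  have hp : ∀ b, p (ψ b) = ψ b := fun b => congrArg ψ (hrψ b)
  have he'ψ : ∀ b, e' (ψ b) = algebraMap k A (CoalgebraStruct.counit (R := k) b) := by
    intro b
    rw [← CoalgHomClass.counit_comp_apply ψ b, ← HopfAlgebra.mul_antipode_rTensor_comul_apply (R := k) (ψ b)]
    show Algebra.TensorProduct.lift ((HopfAlgebra.antipodeAlgHom k A).comp p) (AlgHom.id k A)
      (fun _ _ => Commute.all _ _) (CoalgebraStruct.comul (R := k) (ψ b)) = _
    rw [← CoalgHomClass.map_comp_comul_apply ψ b]
    generalize CoalgebraStruct.comul (R := k) b = z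
    induction z with
    | zero => simp
    | add s t hs ht => simp only [map_add, hs, ht]
    | tmul s t =>
      simp only [TensorProduct.map_tmul, Algebra.TensorProduct.lift_tmul, AlgHom.comp_apply, AlgHom.id_apply,
        LinearMap.rTensor_tmul, LinearMap.mul'_apply]
      rw [show (ψ : B →ₗ[k] A) s = ψ s from rfl, hp]
      rfl
  have he'J : ∀ a ∈ J, e' a = 0 := fun a ha => by
    refine (Ideal.map_le_iff_le_comap.2 ?_ : Ideal.map (ψ : B →+* A) _ ≤ RingHom.ker e') (hJ ▸ ha)
    intro b hb
    rw [Ideal.mem_comap, RingHom.mem_ker]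
    show e' (ψ b) = 0
    rw [he'ψ, show CoalgebraStruct.counit (R := k) b = 0 from hb, map_zero]
  suffices key : ∀ a, LinearMap.mul' k A (TensorProduct.map p.toLinearMap e'.toLinearMap
      (CoalgebraStruct.comul (R := k) a)) = a by
    refine ⟨Ideal.Quotient.liftₐ J e' he'J, eq_top_iff.2 fun a _ => ?_, fun a => ?_⟩
    · rw [← key a]
      generalize CoalgebraStruct.comul (R := k) a = z
      induction z with
      | zero => simp
      | add s t hs ht => simp only [map_add]; exact add_mem hs ht
      | tmul s t =>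
        rw [TensorProduct.map_tmul, LinearMap.mul'_apply]
        exact mul_mem (Algebra.subset_adjoin (Or.inl ⟨r s, rfl⟩))
          (Algebra.subset_adjoin (Or.inr ⟨Ideal.Quotient.mk J t, rfl⟩))
    · exact key a
  intro a
  have key0 : LinearMap.mul' k A (TensorProduct.map p.toLinearMap e'.toLinearMap
      (CoalgebraStruct.comul (R := k) a)) = a := by
    have h1 : WithConv.toConv p * WithConv.toConv e' = WithConv.toConv (AlgHom.id k A) := by
      have h2 : WithConv.toConv e' = WithConv.toConv ((HopfAlgebra.antipodeAlgHom k A).comp p) *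
          WithConv.toConv (AlgHom.id k A) := WithConv.ofConv_injective (AlgHom.ext fun x => by
        rw [AlgHom.convMul_apply]; rfl)
      have h3 : WithConv.toConv p * WithConv.toConv ((HopfAlgebra.antipodeAlgHom k A).comp p) = 1 := by
        apply WithConv.ofConv_injective
        have := AlgHom.convMul_comp_bialgHom_distrib (WithConv.toConv (AlgHom.id k A))
          (WithConv.toConv (HopfAlgebra.antipodeAlgHom k A)) (ψ.comp r)
        rw [show WithConv.toConv (AlgHom.id k A) * WithConv.toConv (HopfAlgebra.antipodeAlgHom k A) = 1 from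
          mul_eq_one_comm.1 AlgHom.antipode_id_cancel] at this
        refine this.symm.trans (AlgHom.ext fun x => ?_)
        simp [AlgHom.convOne_def]
      rw [h2, ← mul_assoc, h3, one_mul]
    have h4 := congrArg (fun f : WithConv (A →ₐ[k] A) => f.ofConv a) h1
    simp only [AlgHom.convMul_apply, WithConv.ofConv_toConv, AlgHom.id_apply] at h4
    refine Eq.trans ?_ h4
    generalize CoalgebraStruct.comul (R := k) a = z
    induction z with
    | zero => simp
    | add s t hs ht => simp only [map_add, hs, ht]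
    | tmul s t => simp
  exact key0

/-- an étale algebra over an algebraically closed field is spanned by idempotents -/
theorem span_idempotents_eq_top {K : Type u} [Field K] [IsAlgClosed K] (C : Type u) [CommRing C] [Algebra K C]
    [Algebra.Etale K C] : Submodule.span K {c : C | IsIdempotentElem c} = ⊤ := by
  classical
  obtain ⟨I, hI, Ai, _, _, e, h⟩ := (Algebra.Etale.iff_exists_algEquiv_prod _ _).1 ‹Algebra.Etale K C›
  cases nonempty_fintype I
  rw [eq_top_iff]
  intro c _
  have hb : ∀ i, ∃ a : K, algebraMap K (Ai i) a = e c i := fun i => by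
    haveI := (h i).1
    exact IsAlgClosed.algebraMap_bijective_of_isIntegral.2 _
  choose a ha using hb
  have hsum : c = ∑ i, a i • e.symm (Pi.single i 1) := by
    apply e.injective
    rw [map_sum]
    funext j
    rw [Finset.sum_apply, Finset.sum_eq_single j]
    · rw [map_smul, AlgEquiv.apply_symm_apply, Pi.smul_apply, Pi.single_eq_same,
        ← Algebra.algebraMap_eq_smul_one, ha]
    · intro i _ hi
      rw [map_smul, AlgEquiv.apply_symm_apply, Pi.smul_apply, Pi.single_eq_of_ne hi.symm, smul_zero]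
    · intro h; exact absurd (Finset.mem_univ _) h
  rw [hsum]
  refine Submodule.sum_mem _ fun i _ => Submodule.smul_mem _ _ (Submodule.subset_span ?_)
  show _ * _ = _
  rw [← map_mul]
  congr 1
  funext j
  rw [Pi.mul_apply]
  by_cases hj : j = i
  · subst hj; rw [Pi.single_eq_same, one_mul]
  · rw [Pi.single_eq_of_ne hj, mul_zero]

/-- the idempotent cutting out the component of a rational point -/
theorem exists_component_idempotent {R : Type u} [CommRing R] [Algebra k R] [IsNoetherianRing R] (ε₀ : R →ₐ[k] k) :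
    ∃ e : R, IsIdempotentElem e ∧ ε₀ e = 1 ∧
      ∀ x : R ⧸ Ideal.span {1 - e}, IsIdempotentElem x → x = 0 ∨ x = 1 := by
  let E : Set (Ideal R) := {I | ∃ e : R, IsIdempotentElem e ∧ ε₀ e = 1 ∧ I = Ideal.span {1 - e}}
  have hne : E.Nonempty := ⟨_, 1, IsIdempotentElem.one, map_one _, rfl⟩
  obtain ⟨I, ⟨e, he, he1, rfl⟩, hmax⟩ :=
    set_has_maximal_iff_noetherian.2 (inferInstance : IsNoetherian R R) E hne
  refine ⟨e, he, he1, fun x hx => ?_⟩
  have key : ∀ f : R, IsIdempotentElem f → f * e = f → ε₀ f = 1 → f = e := by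
    intro f hf hfe hf1
    have hle : Ideal.span {1 - e} ≤ Ideal.span {1 - f} := by
      rw [Ideal.span_singleton_le_span_singleton]
      exact ⟨1 - e, by linear_combination (-1 : R) * hfe⟩
    have heq : Ideal.span {1 - e} = Ideal.span {1 - f} := by
      by_contra hne'
      exact hmax _ ⟨f, hf, hf1, rfl⟩ (lt_of_le_of_ne hle hne')
    obtain ⟨a, ha⟩ := Ideal.mem_span_singleton.1 (heq.ge (Ideal.mem_span_singleton_self (1 - f)))
    linear_combination (-e) * ha + (a : R) * he.eq - hfe
  obtain ⟨y, rfl⟩ := Ideal.Quotient.mk_surjective x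
  have hme : Ideal.Quotient.mk (Ideal.span {1 - e}) e = 1 := by
    rw [← map_one (Ideal.Quotient.mk _), eq_comm, Ideal.Quotient.eq]
    exact Ideal.mem_span_singleton_self _
  have hy : y * y - y ∈ Ideal.span {1 - e} := Ideal.Quotient.eq.1 (by rw [map_mul]; exact hx)
  obtain ⟨a, ha⟩ := Ideal.mem_span_singleton.1 hy
  let f := y * e
  have hf : IsIdempotentElem f := by
    show y * e * (y * e) = y * e
    linear_combination (e * e) * ha + (y - a * e) * he.eq
  have hfm : Ideal.Quotient.mk (Ideal.span {1 - e}) f = Ideal.Quotient.mk (Ideal.span {1 - e}) y := by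
    rw [map_mul, hme, mul_one]
  have hfe : f * e = f := by show y * e * e = y * e; linear_combination y * he.eq
  rcases (IsIdempotentElem.iff_eq_zero_or_one (p := ε₀ f)).1 (hf.map ε₀) with h0 | h1
  · left
    have hg : e - f = e := key (e - f)
      (by show (e - f) * (e - f) = e - f; linear_combination he.eq + hf.eq - 2 * hfe)
      (by linear_combination he.eq - hfe) (by rw [map_sub, he1, h0, sub_zero])
    rw [← hfm, show f = 0 from sub_eq_self.1 hg, map_zero]
  · right
    rw [← hfm, key f hf hfe h1, hme]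

section Lifting

variable [Algebra.FiniteType k A] (ψ : B →ₐc[k] A) (hB : SGA3b.IsMultTypeConst k B)
  (hψ : Function.Injective ψ) (J : Ideal A) [J.IsHopfIdeal k]
  (hJ : J = Ideal.map (ψ : B →+* A) (RingHom.ker (Bialgebra.counitAlgHom k B)))
  (hU : HopfRep.IsUnipotent k (A ⧸ J)) [Algebra.FiniteType k B]
  (hH : ∀ e : B, IsIdempotentElem e → e = 0 ∨ e = 1)

include hB hψ hJ hU hH in
/-- the unique lifting of a connected quotient of multiplicative type -/
theorem existsUnique_lifting [Algebra.Etale k (A ⧸ J)] :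
    ∃! r : A →ₐc[k] B, r.comp ψ = BialgHom.id k B := by
  classical
  let K := AlgebraicClosure k
  haveI : IsNoetherianRing A := Algebra.FiniteType.isNoetherianRing k A
  haveI : IsNoetherianRing B := Algebra.FiniteType.isNoetherianRing k B
  obtain ⟨e, he, he1, hQ⟩ := exists_component_idempotent (Bialgebra.counitAlgHom k A)
  let I : Ideal A := Ideal.span {1 - e}
  let ψQ : B →ₐ[k] A ⧸ I := (Ideal.Quotient.mkₐ k I).comp (ψ : B →ₐ[k] A)
  let εQ : A ⧸ I →ₐ[k] k := Ideal.Quotient.liftₐ I (Bialgebra.counitAlgHom k A) fun a ha => by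
    obtain ⟨c, rfl⟩ := Ideal.mem_span_singleton.1 ha
    rw [map_mul, map_sub, map_one, he1, sub_self, zero_mul]
  haveI : IsNoetherianRing (A ⧸ I) := inferInstance
  have hBK : ∀ x : K ⊗[k] B, IsIdempotentElem x → x = 0 ∨ x = 1 :=
    DimOne.isIdempotentElem_baseChange (Bialgebra.counitAlgHom k B) K hH
  have hQK : ∀ x : K ⊗[k] (A ⧸ I), IsIdempotentElem x → x = 0 ∨ x = 1 :=
    DimOne.isIdempotentElem_baseChange εQ K hQ
  obtain ⟨hψK, J', hJ'i, hJ', hU', hJ'e⟩ := exists_extension_bc ψ hψ J hJ hU K
  haveI := hJ'i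
  obtain ⟨rK, hrK⟩ := exists_splitting (isDiagonalizable_bc_of_isMultTypeConst hB K) hψK J' hJ' hU'
  have hrψ : ∀ w, rK (Algebra.TensorProduct.map (AlgHom.id K K) (ψ : B →ₐ[k] A) w) = w := fun w =>
    DFunLike.congr_fun hrK w
  -- a retraction kills the complement of the component
  have hre : rK ((1 : K) ⊗ₜ[k] e) = 1 := by
    refine (hBK _ ?_).resolve_left fun h0 => ?_
    · exact IsIdempotentElem.map (f := (rK : K ⊗[k] A →ₐ[K] K ⊗[k] B))
        (IsIdempotentElem.map (f := (Algebra.TensorProduct.includeRight : A →ₐ[k] K ⊗[k] A)) he)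
    · have h := CoalgHomClass.counit_comp_apply rK ((1 : K) ⊗ₜ[k] e)
      rw [h0, map_zero, TensorProduct.counit_tmul, show CoalgebraStruct.counit (R := k) e = 1 from he1,
        one_smul] at h
      simp at h
  let ψQK : K ⊗[k] B →ₐ[K] K ⊗[k] (A ⧸ I) := Algebra.TensorProduct.map (AlgHom.id K K) ψQ
  let πQ : K ⊗[k] A →ₐ[K] K ⊗[k] (A ⧸ I) := Algebra.TensorProduct.map (AlgHom.id K K) (Ideal.Quotient.mkₐ k I)
  have hψQK : ∀ w, ψQK w = πQ (Algebra.TensorProduct.map (AlgHom.id K K) (ψ : B →ₐ[k] A) w) := by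
    intro w
    induction w with
    | zero => simp
    | add s t hs ht => simp only [map_add, hs, ht]
    | tmul s t => rfl
  have hπker : ∀ z, πQ z = 0 → rK z = 0 := by
    intro z hz
    have h := Algebra.TensorProduct.lTensor_ker (A := K) (Ideal.Quotient.mkₐ k I) Ideal.Quotient.mk_surjective
    have hz' : z ∈ I.map (Algebra.TensorProduct.includeRight : A →ₐ[k] K ⊗[k] A) := by
      refine ((h.trans (congrArg (Ideal.map _) (Ideal.mk_ker (I := I)))).le) ?_
      exact hz
    refine (Ideal.map_le_iff_le_comap.2 ?_ :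
      I.map (Algebra.TensorProduct.includeRight : A →ₐ[k] K ⊗[k] A) ≤ RingHom.ker (rK : K ⊗[k] A →ₐ[K] K ⊗[k] B)) hz'
    refine Ideal.span_le.2 ?_
    rintro _ rfl
    show rK ((1 : K) ⊗ₜ[k] (1 - e)) = 0
    rw [tmul_sub, map_sub, hre, ← Algebra.TensorProduct.one_def, map_one, sub_self]
  have hQi : Function.Injective ψQK := by
    rw [injective_iff_map_eq_zero]
    intro w hw
    rw [← hrψ w]
    exact hπker _ ((hψQK w).symm.trans hw)
  have hQs : Function.Surjective ψQK := by
    obtain ⟨el, hel, -⟩ := exists_split_hom (Bialgebra.TensorProduct.map (BialgHom.id K K) ψ) rK hrK J' hJ'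
    have hspan : Submodule.span K {c : (K ⊗[k] A) ⧸ J' | IsIdempotentElem c} = ⊤ := by
      let h0 : A ⧸ J →ₐ[k] (K ⊗[k] A) ⧸ J' := Ideal.Quotient.liftₐ J
        (((Ideal.Quotient.mkₐ K J').restrictScalars k).comp Algebra.TensorProduct.includeRight) fun a ha =>
          Ideal.Quotient.eq_zero_iff_mem.2 (hJ'e ▸ Ideal.mem_map_of_mem _ ha)
      let h : K ⊗[k] (A ⧸ J) →ₐ[K] (K ⊗[k] A) ⧸ J' :=
        Algebra.TensorProduct.lift (Algebra.ofId K _) h0 fun _ _ => Commute.all _ _
      have hs : Function.Surjective h := by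
        intro c
        obtain ⟨z, rfl⟩ := Ideal.Quotient.mk_surjective c
        induction z with
        | zero => exact ⟨0, by simp⟩
        | add s t hs ht =>
          obtain ⟨s', hs'⟩ := hs
          obtain ⟨t', ht'⟩ := ht
          exact ⟨s' + t', by rw [map_add, map_add, hs', ht']⟩
        | tmul c a =>
          refine ⟨c ⊗ₜ[k] Ideal.Quotient.mk J a, ?_⟩
          rw [Algebra.TensorProduct.lift_tmul]
          show algebraMap K _ c * Ideal.Quotient.mk J' ((1 : K) ⊗ₜ[k] a) = _
          rw [← Ideal.Quotient.mk_algebraMap, ← map_mul, Algebra.TensorProduct.algebraMap_apply,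
            Algebra.TensorProduct.tmul_mul_tmul, mul_one, one_mul]
          rfl
      rw [eq_top_iff]
      rintro c -
      obtain ⟨w, rfl⟩ := hs c
      have hw := (span_idempotents_eq_top (K := K) (K ⊗[k] (A ⧸ J))).ge (Submodule.mem_top (x := w))
      induction hw using Submodule.span_induction with
      | mem x hx => exact Submodule.subset_span (IsIdempotentElem.map (f := h) hx)
      | zero => rw [map_zero]; exact zero_mem _
      | add s t _ _ hs ht => rw [map_add]; exact add_mem hs ht
      | smul a s _ hs => rw [map_smul]; exact Submodule.smul_mem _ a hs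
    intro q
    obtain ⟨z, rfl⟩ : ∃ z, πQ z = q :=
      LinearMap.lTensor_surjective K (g := (Ideal.Quotient.mkₐ k I).toLinearMap) Ideal.Quotient.mk_surjective q
    suffices h : Algebra.adjoin K (Set.range (Bialgebra.TensorProduct.map (BialgHom.id K K) ψ) ∪ Set.range el) ≤
        ψQK.range.comap πQ from h (hel ▸ Algebra.mem_top)
    refine Algebra.adjoin_le ?_
    rintro _ (⟨w, rfl⟩ | ⟨c, rfl⟩)
    · exact ⟨w, hψQK w⟩
    · show πQ (el c) ∈ ψQK.range
      induction (hspan.ge (Submodule.mem_top (x := c))) using Submodule.span_induction with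
      | mem x hx =>
        rcases hQK _ (IsIdempotentElem.map (f := πQ) (IsIdempotentElem.map (f := el) hx)) with h | h
        · rw [h]; exact zero_mem _
        · rw [h]; exact one_mem _
      | zero => rw [map_zero, map_zero]; exact zero_mem _
      | add s t _ _ hs ht => rw [map_add, map_add]; exact add_mem hs ht
      | smul a s _ hs => rw [map_smul, map_smul]; exact Subalgebra.smul_mem _ hs a
  have hbij : Function.Bijective ψQ :=
    ⟨(Module.FaithfullyFlat.lTensor_injective_iff_injective k K ψQ.toLinearMap).1 hQi,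
      (Module.FaithfullyFlat.lTensor_surjective_iff_surjective k K ψQ.toLinearMap).1 hQs⟩
  let r : A →ₐ[k] B := (AlgEquiv.ofBijective ψQ hbij).symm.toAlgHom.comp (Ideal.Quotient.mkₐ k I)
  have hrb : ∀ b, r (ψ b) = b := fun b => (AlgEquiv.ofBijective ψQ hbij).symm_apply_apply b
  have hdec : ∀ a, ∃ b, a - ψ b ∈ I := fun a => by
    obtain ⟨b, hb⟩ := hbij.2 (Ideal.Quotient.mk I a)
    exact ⟨b, Ideal.Quotient.eq.1 hb.symm⟩
  have hrI : ∀ a ∈ I, r a = 0 := fun a ha => by
    show (AlgEquiv.ofBijective ψQ hbij).symm (Ideal.Quotient.mk I a) = 0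
    rw [Ideal.Quotient.eq_zero_iff_mem.2 ha, map_zero]
  have hrr : ∀ a, rK ((1 : K) ⊗ₜ[k] a) = (1 : K) ⊗ₜ[k] r a := by
    intro a
    obtain ⟨b, hb⟩ := hdec a
    have h1 : rK ((1 : K) ⊗ₜ[k] (a - ψ b)) = 0 := hπker _ (by
      show (1 : K) ⊗ₜ[k] Ideal.Quotient.mk I (a - ψ b) = 0
      rw [Ideal.Quotient.eq_zero_iff_mem.2 hb, tmul_zero])
    have h2 := hrI _ hb
    rw [map_sub, hrb, sub_eq_zero] at h2
    rw [tmul_sub, map_sub, sub_eq_zero] at h1
    rw [h1, h2]
    exact hrψ ((1 : K) ⊗ₜ[k] b)
  let R : A →ₐc[k] B := BialgHom.ofAlgHom r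
    (AlgHom.ext fun a => by
      obtain ⟨b, hb⟩ := hdec a
      obtain ⟨c, hc⟩ := Ideal.mem_span_singleton.1 hb
      have h0 : CoalgebraStruct.counit (R := k) (a - ψ b) = 0 := by
        rw [hc, Bialgebra.counit_mul, map_sub, show CoalgebraStruct.counit (R := k) e = 1 from he1,
          Bialgebra.counit_one, sub_self, zero_mul]
      have h2 := hrI _ hb
      rw [map_sub, hrb, sub_eq_zero] at h2
      rw [map_sub, CoalgHomClass.counit_comp_apply, sub_eq_zero] at h0
      show CoalgebraStruct.counit (R := k) (r a) = CoalgebraStruct.counit (R := k) a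
      rw [h2, h0])
    (AlgHom.ext fun a => by
      show Algebra.TensorProduct.map r r (CoalgebraStruct.comul (R := k) a) = CoalgebraStruct.comul (R := k) (r a)
      refine Diag.tmul_one_injective (K := K) (k := k) ?_
      show (1 : K) ⊗ₜ[k] Algebra.TensorProduct.map r r (CoalgebraStruct.comul (R := k) a) =
        (1 : K) ⊗ₜ[k] CoalgebraStruct.comul (R := k) (r a)
      have h := congrArg Diag.collapse (CoalgHomClass.map_comp_comul_apply rK ((1 : K) ⊗ₜ[k] a))
      rw [hrr, Diag.collapse_comul, LinearMap.lTensor_tmul] at h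
      rw [← h, show CoalgebraStruct.comul (R := K) ((1 : K) ⊗ₜ[k] a) = Diag.collapse.symm
        ((1 : K) ⊗ₜ[k] CoalgebraStruct.comul (R := k) a) by
          rw [LinearEquiv.eq_symm_apply, Diag.collapse_comul, LinearMap.lTensor_tmul]]
      generalize CoalgebraStruct.comul (R := k) a = z
      induction z with
      | zero => simp
      | add s t hs ht => simp only [map_add, tmul_add, hs, ht]
      | tmul s t =>
        rw [Algebra.TensorProduct.map_tmul, show Diag.collapse.symm ((1 : K) ⊗ₜ[k] (s ⊗ₜ[k] t)) =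
          ((1 : K) ⊗ₜ[k] s) ⊗ₜ[K] ((1 : K) ⊗ₜ[k] t) by simp [Diag.collapse],
          TensorProduct.map_tmul]
        show _ = Diag.collapse (rK _ ⊗ₜ[K] rK _)
        rw [hrr, hrr]
        simp [Diag.collapse])
  refine ⟨R, BialgHom.ext hrb, fun r' hr' => BialgHom.ext fun a => ?_⟩
  have h1 : r' e = 1 := by
    refine (hH _ (IsIdempotentElem.map (f := (r' : A →ₐ[k] B)) he)).resolve_left fun h0 => ?_
    have h := CoalgHomClass.counit_comp_apply r' e
    change r' e = 0 at h0
    rw [h0, map_zero, show CoalgebraStruct.counit (R := k) e = 1 from he1] at h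
    exact zero_ne_one h
  obtain ⟨b, hb⟩ := hdec a
  obtain ⟨c, hc⟩ := Ideal.mem_span_singleton.1 hb
  show r' a = r a
  have h2 := hrI _ hb
  rw [map_sub, hrb, sub_eq_zero] at h2
  rw [h2]
  have h3 : r' (a - ψ b) = 0 := by rw [hc, map_mul, map_sub, map_one, h1, sub_self, zero_mul]
  rw [map_sub, sub_eq_zero] at h3
  exact h3.trans (DFunLike.congr_fun hr' b)

end Lifting

end Groth.Agent.CAlg6.TrigSplit
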