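import Groth.Agent.CAlg6.TrigSplitWeight
import Groth.Agent.Unip38.Infinitesimal
import Mathlib.Algebra.Polynomial.Div
import Mathlib.Algebra.Polynomial.AlgebraMap
import Mathlib.FieldTheory.IsAlgClosed.Basic
import Mathlib.Algebra.Algebra.Subalgebra.Directed

/-!
Partial retractions onto a diagonalizable quotient and their extension by one skew primitive element.
-/

universe u

set_option maxHeartbeats 1000000
set_option synthInstance.maxHeartbeats 100000

open TensorProduct Polynomial

noncomputable section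

namespace Groth.Agent.CAlg6.TrigSplit

open Groth.Agent.Comod33

variable {k : Type u} [Field k] {A B : Type u} [CommRing A] [HopfAlgebra k A] [CommRing B] [HopfAlgebra k B]

local notation "Δ" => CoalgebraStruct.comul (R := k)
local notation "ε" => CoalgebraStruct.counit (R := k)
local notation "S" => HopfAlgebraStruct.antipode (R := k)

/-- powers are additive in degrees with vanishing binomial coefficients -/
theorem smul_add_pow {R : Type*} [CommRing R] [Algebra k R] {j : ℕ} (hj : 1 ≤ j) {lam : k}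
    (h : ∀ i, 1 ≤ i → i < j → (j.choose i : k) * lam = 0) (a b : R) :
    lam • (a + b) ^ j = lam • a ^ j + lam • b ^ j := by
  rw [add_pow, Finset.smul_sum, Finset.sum_range_succ, Finset.sum_eq_single 0]
  · simp [add_comm]
  · intro i hi hi0
    rw [Finset.mem_range] at hi
    have h0 := h i (Nat.one_le_iff_ne_zero.2 hi0) hi
    rw [Algebra.smul_def, mul_comm _ ((j.choose i : ℕ) : R), ← map_natCast (algebraMap k R), ← mul_assoc,
      ← map_mul, mul_comm lam, h0, map_zero, zero_mul]
  · intro h0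
    exact absurd (Finset.mem_range.2 (by omega)) h0

variable (hB : HopfRep.IsDiagonalizable k B)

include hB in
/-- the invariant integral -/
theorem exists_integral : ∃ lam : B →ₗ[k] k, lam 1 = 1 ∧ ∀ b, rc lam (Δ b) = lam b • (1 : B) := by
  classical
  let G := GroupLike k B
  have hspan : ⊤ ≤ Submodule.span k (Set.range (GroupLike.val : G → B)) := by
    rw [← hB]
    exact Submodule.span_mono fun a ha => ⟨⟨a, ha⟩, rfl⟩
  let b := Module.Basis.mk (linearIndep_groupLikeVal (R := k) (A := B)) hspan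
  have hb : ∀ g : G, b g = (g : B) := fun g => Module.Basis.mk_apply _ hspan g
  have hval : ∀ g : G, b.coord (1 : G) (g : B) = if g = 1 then 1 else 0 := fun g => by
    rw [← hb, Module.Basis.coord_apply, b.repr_self, Finsupp.single_apply]
  refine ⟨b.coord 1, (hval 1).trans (if_pos rfl), fun x => ?_⟩
  suffices h : rc (b.coord 1) ∘ₗ (Δ : B →ₗ[k] B ⊗[k] B) = (LinearMap.toSpanSingleton k B 1) ∘ₗ b.coord 1 from
    LinearMap.congr_fun h x
  refine b.ext fun g => ?_
  show rc (b.coord 1) (Δ (b g)) = b.coord 1 (b g) • (1 : B)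
  rw [hb, g.isGroupLikeElem_val.comul_eq_tmul_self, rc_tmul, hval]
  split_ifs with hg
  · rw [hg]; rfl
  · rw [zero_smul, zero_smul]

variable {R : Type u} [CommRing R] [Algebra k R] {f1 : R →ₐ[k] A} {f2 : R →ₐ[k] B} (hf1 : Function.Injective f1)
  {δ : R →ₐ[k] R ⊗[k] R} (hδ1 : ∀ a, Algebra.TensorProduct.map f1 f1 (δ a) = CoalgebraStruct.comul (R := k) (f1 a))
  (hδ2 : ∀ a, Algebra.TensorProduct.map f2 f2 (δ a) = CoalgebraStruct.comul (R := k) (f2 a))
  (hS' : ∀ a, ∃ p, f1 p = HopfAlgebraStruct.antipode (R := k) (f1 a)) {ψ : B →ₐc[k] A} {g gi : R} {γ : B}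
  (hg1 : f1 g = ψ γ) (hg2 : f2 g = γ) (hgi : gi * g = 1)

omit [CommRing B] [HopfAlgebra k B] in
theorem tensor_map_injective {M N M' N' : Type u} [AddCommGroup M] [Module k M] [AddCommGroup N] [Module k N]
    [AddCommGroup M'] [Module k M'] [AddCommGroup N'] [Module k N'] {f : M →ₗ[k] M'} {g : N →ₗ[k] N'}
    (hf : Function.Injective f) (hg : Function.Injective g) : Function.Injective (TensorProduct.map f g) :=
  SubHopf.map_injective (k := k) hf hg

omit [CommRing B] [HopfAlgebra k B] in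
include hf1 in
theorem f11_injective : Function.Injective (Algebra.TensorProduct.map f1 f1) :=
  tensor_map_injective (f := f1.toLinearMap) (g := f1.toLinearMap) hf1 hf1

include hf1 hδ1 hδ2 hg1 hg2 hB in
/-- the additive part of the extension equation -/
theorem exists_comul_eq (x : A) (hγ : IsGroupLikeElem k γ) (c : R ⊗[k] R)
    (hc : Δ x = x ⊗ₜ[k] (1 : A) + ψ γ ⊗ₜ[k] x + Algebra.TensorProduct.map f1 f1 c) :
    ∃ y : B, Δ y = y ⊗ₜ[k] (1 : B) + γ ⊗ₜ[k] y + Algebra.TensorProduct.map f2 f2 c := by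
  obtain ⟨lam, hlam1, hlam⟩ := exists_integral hB
  let T (R' : Type u) [CommRing R'] [Algebra k R'] (f : R →ₐ[k] R') :=
    Algebra.TensorProduct.map f (Algebra.TensorProduct.map f f)
  have hnat : ∀ (R' : Type u) [CommRing R'] [Bialgebra k R'] (f : R →ₐ[k] R'),
      (∀ a, Algebra.TensorProduct.map f f (δ a) = Δ (f a)) → ∀ z : R ⊗[k] R,
      T R' f (TensorProduct.assoc k R R R (δ.toLinearMap.rTensor R z)) =
        TensorProduct.assoc k R' R' R' ((Δ : R' →ₗ[k] R' ⊗[k] R').rTensor R' (Algebra.TensorProduct.map f f z)) ∧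
      T R' f (δ.toLinearMap.lTensor R z) =
        (Δ : R' →ₗ[k] R' ⊗[k] R').lTensor R' (Algebra.TensorProduct.map f f z) ∧
      T R' f (TensorProduct.assoc k R R R (z ⊗ₜ[k] (1 : R))) =
        TensorProduct.assoc k R' R' R' (Algebra.TensorProduct.map f f z ⊗ₜ[k] (1 : R')) := by
    intro R' _ _ f hf z
    induction z with
    | zero => simp
    | add p q hp hq =>
      simp only [map_add, add_tmul, hp.1, hp.2.1, hp.2.2, hq.1, hq.2.1, hq.2.2, and_self]
    | tmul p q =>
      refine ⟨?_, ?_, ?_⟩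
      · rw [LinearMap.rTensor_tmul, AlgHom.toLinearMap_apply, Algebra.TensorProduct.map_tmul,
          LinearMap.rTensor_tmul, ← hf]
        generalize δ p = w
        induction w with
        | zero => simp
        | add s t hs ht => simp only [map_add, add_tmul, hs, ht]
        | tmul s t => simp [T]
      · simp only [LinearMap.lTensor_tmul, AlgHom.toLinearMap_apply, Algebra.TensorProduct.map_tmul, T]
        rw [← hf]
      · simp [T]
  have hinj3 : Function.Injective (TensorProduct.map f1.toLinearMap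
      (Algebra.TensorProduct.map f1 f1).toLinearMap) :=
    tensor_map_injective hf1 (f11_injective hf1)
  have hcoc : TensorProduct.assoc k R R R (δ.toLinearMap.rTensor R c) +
      TensorProduct.assoc k R R R (c ⊗ₜ[k] (1 : R)) = δ.toLinearMap.lTensor R c + g ⊗ₜ[k] c := by
    refine hinj3 ?_
    show T A f1 _ = T A f1 _
    obtain ⟨h1, h2, h3⟩ := hnat A f1 hδ1 c
    rw [map_add, map_add, h1, h2, h3]
    rw [show T A f1 (g ⊗ₜ[k] c) = ψ γ ⊗ₜ[k] Algebra.TensorProduct.map f1 f1 c from by
      rw [← hg1]; rfl]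
    generalize hcA : Algebra.TensorProduct.map f1 f1 c = cA
    rw [hcA] at hc
    have hco := Coalgebra.coassoc_apply (R := k) x
    rw [hc] at hco
    simp only [map_add, LinearMap.rTensor_tmul, LinearMap.lTensor_tmul, hc, add_tmul, tmul_add,
      (hγ.map ψ).comul_eq_tmul_self, Bialgebra.comul_one, Algebra.TensorProduct.one_def, assoc_tmul] at hco
    rw [← sub_eq_zero] at hco ⊢
    rw [← hco]
    abel
  have hB' := congrArg (T B f2) hcoc
  obtain ⟨h1, h2, h3⟩ := hnat B f2 hδ2 c
  rw [map_add, map_add, h1, h2, h3] at hB'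
  rw [show T B f2 (g ⊗ₜ[k] c) = γ ⊗ₜ[k] Algebra.TensorProduct.map f2 f2 c from by
    rw [← hg2]; rfl] at hB'
  generalize Algebra.TensorProduct.map f2 f2 c = cB at hB' ⊢
  let P : B ⊗[k] (B ⊗[k] B) →ₗ[k] B ⊗[k] B := (rc lam).lTensor B
  have p1 : ∀ w, P (TensorProduct.assoc k B B B ((Δ : B →ₗ[k] B ⊗[k] B).rTensor B w)) = Δ (rc lam w) := by
    intro w
    induction w with
    | zero => simp
    | add s t hs ht => simp only [map_add, hs, ht]
    | tmul s t =>
      rw [LinearMap.rTensor_tmul, rc_tmul, map_smul]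
      generalize Δ s = w
      induction w with
      | zero => simp
      | add s t hs ht => simp only [map_add, add_tmul, smul_add, hs, ht]
      | tmul s' t' => simp [P, tmul_smul]
  have p2 : ∀ w : B ⊗[k] B, P (TensorProduct.assoc k B B B (w ⊗ₜ[k] (1 : B))) = w := by
    intro w
    induction w with
    | zero => simp
    | add s t hs ht => simp only [map_add, add_tmul, hs, ht]
    | tmul s t => simp [P, hlam1]
  have p3 : ∀ w, P ((Δ : B →ₗ[k] B ⊗[k] B).lTensor B w) = rc lam w ⊗ₜ[k] (1 : B) := by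
    intro w
    induction w with
    | zero => simp
    | add s t hs ht => simp only [map_add, add_tmul, hs, ht]
    | tmul s t => simp [P, hlam, tmul_smul, smul_tmul']
  have p4 : P (γ ⊗ₜ[k] cB) = γ ⊗ₜ[k] rc lam cB := rfl
  have hP := congrArg P hB'
  rw [map_add, map_add, p1, p2, p3, p4] at hP
  refine ⟨-rc lam cB, ?_⟩
  rw [map_neg, neg_tmul, tmul_neg, eq_sub_of_add_eq hP]
  abel

/-- the relations of an element over a graph -/
def IsRel (f1 : R →ₐ[k] A) (x : A) (P : R[X]) : Prop := Polynomial.aevalTower f1 x P = 0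

theorem aevalTower_eq_sum {R₀ R' : Type u} [CommRing R₀] [Algebra k R₀] [CommRing R'] [Algebra k R']
    (f : R₀ →ₐ[k] R') (x : R') {P : R₀[X]} {n : ℕ} (hP : P.natDegree < n) :
    Polynomial.aevalTower f x P = ∑ j ∈ Finset.range n, f (P.coeff j) * x ^ j := by
  show Polynomial.eval₂ (f : R₀ →+* R') x P = _
  rw [Polynomial.eval₂_eq_sum_range' _ hP]
  rfl

include hf1 in
/-- the powers of `x` below the minimal relation are independent -/
theorem coeff_eq_zero_of_rel {x : A} {d : ℕ} (hd : ∀ P : R[X], P.natDegree < d → IsRel f1 x P → P = 0)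
    (Q : (R ⊗[k] R)[X]) (hQ : Q.natDegree < d)
    (h : Polynomial.eval₂ ((Algebra.TensorProduct.map (AlgHom.id k R) f1 : R ⊗[k] R →ₐ[k] R ⊗[k] A) :
      R ⊗[k] R →+* R ⊗[k] A) ((1 : R) ⊗ₜ[k] x) Q = 0) : Q = 0 := by
  classical
  let Λ : (Fin d → R) →ₗ[k] A := ∑ l : Fin d, (LinearMap.mulRight k (x ^ (l : ℕ))) ∘ₗ f1.toLinearMap ∘ₗ
    LinearMap.proj l
  have hΛ : Function.Injective Λ := by
    rw [injective_iff_map_eq_zero]
    intro w hw
    let P : R[X] := ∑ l : Fin d, Polynomial.monomial (l : ℕ) (w l)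
    have hdeg : P.natDegree < d := by
      rcases Nat.eq_zero_or_pos d with h0 | h0
      · exact absurd hQ (by omega)
      refine lt_of_le_of_lt (Polynomial.natDegree_sum_le_of_forall_le (n := d - 1) _ _ fun l _ => ?_) (by omega)
      exact le_trans (Polynomial.natDegree_monomial_le _) (by omega)
    have hrel : IsRel f1 x P := by
      unfold IsRel
      rw [map_sum, ← hw, LinearMap.sum_apply]
      refine Finset.sum_congr rfl fun l _ => ?_
      show Polynomial.eval₂ _ x (Polynomial.monomial _ _) = _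
      rw [Polynomial.eval₂_monomial]
      rfl
    funext l
    have h1 := congrArg (fun P : R[X] => P.coeff (l : ℕ)) (hd P hdeg hrel)
    simp only [P, Polynomial.finsetSum_coeff, Polynomial.coeff_monomial, Fin.val_eq_val, Finset.sum_ite_eq',
      Finset.mem_univ, if_true, Polynomial.coeff_zero] at h1
    exact h1
  let W : R ⊗[k] (Fin d → R) := ∑ l : Fin d, (LinearMap.single k (fun _ : Fin d => R) l).lTensor R (Q.coeff l)
  have hW : Λ.lTensor R W = 0 := by
    rw [← h, Polynomial.eval₂_eq_sum_range' _ hQ, ← Fin.sum_univ_eq_sum_range, map_sum]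
    refine Finset.sum_congr rfl fun l _ => ?_
    show _ = Algebra.TensorProduct.map (AlgHom.id k R) f1 (Q.coeff l) * _
    generalize Q.coeff l = w
    rw [Algebra.TensorProduct.tmul_pow, one_pow]
    induction w with
    | zero => simp
    | add p q hp hq => simp only [map_add, add_mul, hp, hq]
    | tmul p q =>
      rw [LinearMap.lTensor_tmul, LinearMap.lTensor_tmul, Algebra.TensorProduct.map_tmul,
        Algebra.TensorProduct.tmul_mul_tmul, mul_one, AlgHom.id_apply]
      congr 1
      simp [Λ, Pi.single_apply, apply_ite, ite_mul]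
  have hW0 : W = 0 := Module.Flat.lTensor_preserves_injective_linearMap (M := R) Λ hΛ (hW.trans (map_zero _).symm)
  ext n
  rcases lt_or_ge n d with hn | hn
  · have h1 := congrArg ((LinearMap.proj (R := k) (φ := fun _ : Fin d => R) ⟨n, hn⟩).lTensor R) hW0
    rw [map_sum, map_zero, Finset.sum_eq_single (⟨n, hn⟩ : Fin d)] at h1
    · rw [← LinearMap.comp_apply, ← LinearMap.lTensor_comp, LinearMap.proj_comp_single_same,
        LinearMap.lTensor_id, LinearMap.id_apply] at h1
      rw [Polynomial.coeff_zero]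
      exact h1
    · intro l _ hl
      rw [← LinearMap.comp_apply, ← LinearMap.lTensor_comp, LinearMap.proj_comp_single_ne _ _ _ _ hl.symm,
        LinearMap.lTensor_zero, LinearMap.zero_apply]
    · intro hn'; exact absurd (Finset.mem_univ _) hn'
  · rw [Polynomial.coeff_zero, Polynomial.coeff_eq_zero_of_natDegree_lt (hQ.trans_le hn)]

theorem inj_comul : Function.Injective (Δ : A →ₗ[k] A ⊗[k] A) := fun a b h => by
  have := congrArg (fun z => TensorProduct.lid k A ((ε : A →ₗ[k] k).rTensor A z)) h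
  simpa only [Coalgebra.rTensor_counit_comul, TensorProduct.lid_tmul, one_smul] using this

include hf1 hδ1 hS' hg1 in
/-- the minimal relation is monic -/
theorem exists_monic_rel {x : A} {d : ℕ} (hd : ∀ P : R[X], P.natDegree < d → IsRel f1 x P → P = 0)
    {P₁ : R[X]} (hP₁ : P₁ ≠ 0) (hd₁ : P₁.natDegree = d) (hrel₁ : IsRel f1 x P₁) (c : R ⊗[k] R)
    (hc : Δ x = x ⊗ₜ[k] (1 : A) + ψ γ ⊗ₜ[k] x + Algebra.TensorProduct.map f1 f1 c) :
    ∃ P₀ : R[X], P₀.Monic ∧ P₀.natDegree = d ∧ IsRel f1 x P₀ ∧ ∀ i ≤ d,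
      ∑ j ∈ Finset.range (d + 1), Algebra.TensorProduct.map (AlgHom.id k R) f1 (δ (P₀.coeff j)) *
        (g ⊗ₜ[k] x + Algebra.TensorProduct.map (AlgHom.id k R) f1 c) ^ (j - i) *
          (j.choose i : R ⊗[k] A) = P₀.coeff i ⊗ₜ[k] (1 : A) := by
  classical
  let E0 := Algebra.TensorProduct.map (AlgHom.id k R) f1
  let E1 := Algebra.TensorProduct.map f1 (AlgHom.id k A)
  let δA : R →ₐ[k] R ⊗[k] A := E0.comp δ
  let u : R ⊗[k] A := g ⊗ₜ[k] x + E0 c
  have hE10 : ∀ z, E1 (E0 z) = Algebra.TensorProduct.map f1 f1 z := fun z => by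
    induction z with
    | zero => simp
    | add p q hp hq => simp only [map_add, hp, hq]
    | tmul p q => rfl
  have hu : x ⊗ₜ[k] (1 : A) + E1 u = Δ x := by
    rw [map_add, hE10, hc, add_assoc, ← hg1]; rfl
  let q : R[X] → ℕ → R ⊗[k] A := fun P i =>
    ∑ j ∈ Finset.range (d + 1), δA (P.coeff j) * u ^ (j - i) * (j.choose i : R ⊗[k] A)
  have hzero : ∀ P : R[X], P.natDegree ≤ d → IsRel f1 x P →
      ∑ i ∈ Finset.range (d + 1), E1 (q P i) * ((x ^ i) ⊗ₜ[k] (1 : A)) = 0 := by
    intro P hP hrel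
    unfold IsRel at hrel
    rw [aevalTower_eq_sum _ _ (Nat.lt_succ_of_le hP)] at hrel
    have h := congrArg (Bialgebra.comulAlgHom k A) hrel
    rw [map_sum, map_zero] at h
    refine Eq.trans ?_ h
    simp only [q, map_sum, Finset.sum_mul]
    rw [Finset.sum_comm]
    refine Finset.sum_congr rfl fun j hj => ?_
    rw [map_mul (Bialgebra.comulAlgHom k A), map_pow (Bialgebra.comulAlgHom k A)]
    show _ = Δ (f1 (P.coeff j)) * (Δ x) ^ j
    rw [← hu, ← hδ1, ← hE10, add_pow, Finset.mul_sum]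
    rw [Finset.mem_range] at hj
    refine (Finset.sum_subset (Finset.range_mono (by omega)) fun i _ hi => ?_).symm.trans
      (Finset.sum_congr rfl fun i _ => ?_)
    · rw [Finset.mem_range] at hi
      rw [Nat.choose_eq_zero_of_lt (by omega : j < i), Nat.cast_zero, mul_zero, map_zero, zero_mul]
    · rw [map_mul, map_mul, map_pow, map_natCast, Algebra.TensorProduct.tmul_pow, one_pow]
      show E1 (E0 (δ _)) * _ * _ * _ = _
      ring
  let Pf : R[X] → (A →ₗ[k] k) → R[X] := fun P f =>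
    ∑ i ∈ Finset.range (d + 1), Polynomial.monomial i (rc f (q P i))
  have hPfdeg : ∀ P f, (Pf P f).natDegree ≤ d := fun P f =>
    Polynomial.natDegree_sum_le_of_forall_le _ _ fun i hi =>
      le_trans (Polynomial.natDegree_monomial_le _) (by rw [Finset.mem_range] at hi; omega)
  have hPfc : ∀ P f, ∀ i ≤ d, (Pf P f).coeff i = rc f (q P i) := fun P f i hi => by
    simp only [Pf, Polynomial.finsetSum_coeff, Polynomial.coeff_monomial, Finset.sum_ite_eq',
      Finset.mem_range, Nat.lt_succ_of_le hi, if_true]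
  have hPfrel : ∀ P f, P.natDegree ≤ d → IsRel f1 x P → IsRel f1 x (Pf P f) := by
    intro P f hP hrel
    have key : ∀ (w : R ⊗[k] A) (i : ℕ),
        rc f (E1 w * ((x ^ i) ⊗ₜ[k] (1 : A))) = f1 (rc f w) * x ^ i := by
      intro w i
      induction w with
      | zero => simp
      | add p r hp hr => simp only [map_add, add_mul, hp, hr]
      | tmul p r => simp [E1]
    have h := congrArg (rc f) (hzero P hP hrel)
    rw [map_sum, map_zero] at h
    simp only [key] at h
    unfold IsRel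
    rw [aevalTower_eq_sum _ _ (Nat.lt_succ_of_le (hPfdeg P f)), ← h]
    exact Finset.sum_congr rfl fun i hi => by
      rw [Finset.mem_range] at hi; rw [hPfc P f i (by omega)]
  have hqd : ∀ P, q P d = δA (P.coeff d) := fun P => by
    simp only [q]
    rw [Finset.sum_eq_single d, Nat.sub_self, pow_zero, mul_one, Nat.choose_self, Nat.cast_one, mul_one]
    · intro j hj hne
      rw [Finset.mem_range] at hj
      rw [Nat.choose_eq_zero_of_lt (by omega : j < d), Nat.cast_zero, mul_zero]
    · intro h; exact absurd (Finset.mem_range.2 (by omega)) h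
  -- the ideal of leading coefficients
  let L : Submodule k R :=
    { carrier := {a | ∃ P : R[X], P.natDegree ≤ d ∧ IsRel f1 x P ∧ P.coeff d = a}
      zero_mem' := ⟨0, by simp, map_zero _, by simp⟩
      add_mem' := fun {a b} ⟨P, hP, hr, ha⟩ ⟨P', hP', hr', hb⟩ => ⟨P + P',
        (Polynomial.natDegree_add_le _ _).trans (max_le hP hP'),
        by unfold IsRel at *; rw [map_add, hr, hr', add_zero], by rw [Polynomial.coeff_add, ha, hb]⟩
      smul_mem' := fun r a ⟨P, hP, hr, ha⟩ => ⟨r • P, (Polynomial.natDegree_smul_le _ _).trans hP,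
        by unfold IsRel at *; rw [map_smul, hr, smul_zero], by rw [Polynomial.coeff_smul, ha]⟩ }
  have hLmul : ∀ (s : R), ∀ a ∈ L, s * a ∈ L := fun s a ⟨P, hP, hr, ha⟩ =>
    ⟨Polynomial.C s * P, (Polynomial.natDegree_C_mul_le _ _).trans hP,
      by unfold IsRel at *; rw [map_mul, hr, mul_zero], by rw [Polynomial.coeff_C_mul, ha]⟩
  have hLT : ∀ a ∈ L, ∀ f : A →ₗ[k] k, rc f (δA a) ∈ L := fun a ⟨P, hP, hr, ha⟩ f =>
    ⟨Pf P f, hPfdeg P f, hPfrel P f hP hr, by rw [hPfc P f d le_rfl, hqd, ha]⟩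
  obtain ⟨π, hπ⟩ := f1.toLinearMap.exists_leftInverse_of_injective
    (LinearMap.ker_eq_bot.2 hf1)
  have hπ' : ∀ a, π (f1 a) = a := fun a => LinearMap.congr_fun hπ a
  have hS : ∀ a : R, f1 (π (S (f1 a))) = S (f1 a) := fun a => by
    obtain ⟨p, e⟩ := hS' a
    rw [← e, hπ']
  have hLeps : ∀ a ∈ L, ε (f1 a) • (1 : R) ∈ L := by
    intro a ha
    obtain ⟨z, hz⟩ : δ a ∈ LinearMap.range (L.subtype.rTensor R) := by
      rw [mem_range_rTensor_iff]
      intro f
      have e : ∀ w : R ⊗[k] R, rc (f ∘ₗ π) (E0 w) = rc f w := fun w => by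
        induction w with
        | zero => simp
        | add p r hp hr => simp only [map_add, hp, hr]
        | tmul p r => simp [E0, hπ']
      rw [← e]
      exact hLT a ha _
    let m : R ⊗[k] R →ₗ[k] R :=
      LinearMap.mul' k R ∘ₗ (π ∘ₗ (S : A →ₗ[k] A) ∘ₗ f1.toLinearMap).lTensor R
    have hm : m (δ a) ∈ L := by
      rw [← hz]
      clear hz
      induction z with
      | zero => simp
      | add p r hp hr => simp only [map_add]; exact add_mem hp hr
      | tmul p r =>
        show (p : R) * π (S (f1 r)) ∈ L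
        rw [mul_comm]
        exact hLmul _ _ p.2
    have e : f1 (m (δ a)) = f1 (ε (f1 a) • (1 : R)) := by
      rw [map_smul, map_one, ← Algebra.algebraMap_eq_smul_one,
        ← HopfAlgebra.mul_antipode_lTensor_comul_apply (R := k) (f1 a), ← hδ1]
      generalize δ a = w
      induction w with
      | zero => simp
      | add p r hp hr => simp only [map_add, hp, hr]
      | tmul p r => simp [m, hS]
    rw [← hf1 e]
    exact hm
  have hone : (1 : R) ∈ L := by
    have ha0 : P₁.coeff d ≠ 0 := by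
      rw [← hd₁]; exact mt Polynomial.leadingCoeff_eq_zero.1 hP₁
    obtain ⟨f, hf⟩ := Module.Projective.exists_dual_eq_one k
      (show f1 (P₁.coeff d) ≠ 0 from fun e => ha0 (hf1 (e.trans (map_zero _).symm)))
    have hmem := hLeps _ (hLT _ ⟨P₁, hd₁.le, hrel₁, rfl⟩ f)
    have e : ε (f1 (rc f (δA (P₁.coeff d)))) = 1 := by
      rw [← hf]
      have e1 : ∀ w : R ⊗[k] R, ε (f1 (rc f (E0 w))) =
          f (TensorProduct.lid k A ((ε : A →ₗ[k] k).rTensor A (Algebra.TensorProduct.map f1 f1 w))) :=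
        fun w => by
          induction w with
          | zero => simp
          | add p r hp hr => simp only [map_add, hp, hr]
          | tmul p r => simp [E0, mul_comm]
      refine (e1 _).trans ?_
      erw [hδ1, Coalgebra.rTensor_counit_comul, TensorProduct.lid_tmul, one_smul]
    rwa [e, one_smul] at hmem
  obtain ⟨P₀, hP₀, hrel₀, hlead⟩ := hone
  have hmon : P₀.Monic := Polynomial.monic_of_natDegree_le_of_coeff_eq_one d hP₀ hlead
  have hdeg : P₀.natDegree = d := le_antisymm hP₀ (le_of_not_gt fun hlt => by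
    rw [Polynomial.coeff_eq_zero_of_natDegree_lt hlt] at hlead
    have h0 : f1 0 = f1 1 := congrArg _ hlead
    haveI : Nontrivial A := Bialgebra.nontrivial (R := k) (A := A)
    rw [map_zero, map_one] at h0
    exact zero_ne_one h0)
  refine ⟨P₀, hmon, hdeg, hrel₀, fun i hi => ?_⟩
  show q P₀ i = _
  refine eq_of_rc fun f => ?_
  have hD : Pf P₀ f - f 1 • P₀ = 0 := by
    have hle : (Pf P₀ f - f 1 • P₀).natDegree ≤ d :=
      (Polynomial.natDegree_sub_le _ _).trans
        (max_le (hPfdeg _ _) ((Polynomial.natDegree_smul_le _ _).trans hP₀))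
    have htop : (Pf P₀ f - f 1 • P₀).coeff d = 0 := by
      rw [Polynomial.coeff_sub, Polynomial.coeff_smul, hPfc _ _ d le_rfl, hqd, hlead, map_one,
        Algebra.TensorProduct.one_def, rc_tmul, sub_self]
    have hrel : IsRel f1 x (Pf P₀ f - f 1 • P₀) := by
      have h1 := hPfrel P₀ f hP₀ hrel₀
      unfold IsRel at *
      rw [map_sub, map_smul, h1, hrel₀, smul_zero, sub_zero]
    by_contra hne
    rcases hle.lt_or_eq with h | h
    · exact hne (hd _ h hrel)
    · exact mt Polynomial.leadingCoeff_eq_zero.1 hne (by rw [Polynomial.leadingCoeff, h, htop])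
  rw [rc_tmul, ← hPfc P₀ f i hi]
  rw [sub_eq_zero.1 hD, Polynomial.coeff_smul]

include hf1 hδ1 hδ2 hg2 hgi in
/-- the structure of the minimal relation -/
theorem rel_structure {x : A} {d : ℕ} (hd : ∀ P : R[X], P.natDegree < d → IsRel f1 x P → P = 0)
    (c : R ⊗[k] R)
    {P₀ : R[X]} (hdeg : P₀.natDegree = d) (hrel₀ : IsRel f1 x P₀) (hd1 : 1 ≤ d)
    (hq : ∀ i ≤ d,
      ∑ j ∈ Finset.range (d + 1), Algebra.TensorProduct.map (AlgHom.id k R) f1 (δ (P₀.coeff j)) *
        (g ⊗ₜ[k] x + Algebra.TensorProduct.map (AlgHom.id k R) f1 c) ^ (j - i) *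
          (j.choose i : R ⊗[k] A) = P₀.coeff i ⊗ₜ[k] (1 : A)) :
    ∃ lam : ℕ → k, (∀ j, 1 ≤ j → j ≤ d → P₀.coeff j = lam j • (1 : R)) ∧
      (∀ j i, 1 ≤ i → i < j → j ≤ d → (j.choose i : k) * lam j = 0) ∧
      (∀ j, 1 ≤ j → j ≤ d → lam j • γ ^ j = lam j • γ ^ d) ∧
      Δ (f2 (P₀.coeff 0)) + ∑ l ∈ Finset.range d, lam (l + 1) •
          (Algebra.TensorProduct.map f2 f2 c) ^ (l + 1) =
        f2 (P₀.coeff 0) ⊗ₜ[k] (1 : B) + (γ ^ d) ⊗ₜ[k] f2 (P₀.coeff 0) := by
  classical
  let E0 := Algebra.TensorProduct.map (AlgHom.id k R) f1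
  let u : R ⊗[k] A := g ⊗ₜ[k] x + E0 c
  -- independence of the powers of `u`
  have hfreeU : ∀ Q : (R ⊗[k] R)[X], Q.natDegree < d →
      Polynomial.eval₂ (E0 : R ⊗[k] R →+* R ⊗[k] A) u Q = 0 → Q = 0 := by
    intro Q hQ h
    let l : (R ⊗[k] R)[X] := Polynomial.C (g ⊗ₜ[k] (1 : R)) * Polynomial.X + Polynomial.C c
    have hl : l.natDegree ≤ 1 := Polynomial.natDegree_linear_le
    have hQ' : Q.comp l = 0 := by
      refine coeff_eq_zero_of_rel hf1 hd _ ?_ ?_
      · refine lt_of_le_of_lt ((Polynomial.natDegree_comp_le).trans (Nat.mul_le_mul_left _ hl)) ?_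
        rwa [mul_one]
      · rw [Polynomial.eval₂_comp (f := (E0 : R ⊗[k] R →+* R ⊗[k] A))]
        have e : Polynomial.eval₂ (E0 : R ⊗[k] R →+* R ⊗[k] A) ((1 : R) ⊗ₜ[k] x) l = u := by
          simp [l, u, E0, Polynomial.eval₂_add, Polynomial.eval₂_mul]
        exact (congrArg (fun t => Polynomial.eval₂ (E0 : R ⊗[k] R →+* R ⊗[k] A) t Q) e).trans h
    have e : l.comp (Polynomial.C (gi ⊗ₜ[k] (1 : R)) * (Polynomial.X - Polynomial.C c)) = Polynomial.X := by
      simp only [l, Polynomial.add_comp, Polynomial.mul_comp, Polynomial.C_comp, Polynomial.X_comp]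
      rw [← mul_assoc, ← Polynomial.C_mul, Algebra.TensorProduct.tmul_mul_tmul, mul_comm g, hgi, mul_one,
        ← Algebra.TensorProduct.one_def, Polynomial.C_1, one_mul, sub_add_cancel]
    rw [← Polynomial.comp_X (p := Q), ← e, ← Polynomial.comp_assoc, hQ', Polynomial.zero_comp]
  have hδinj : Function.Injective δ := fun a b hab => hf1 (inj_comul (k := k) (by
    rw [← hδ1, ← hδ1, hab]))
  have hcoef : ∀ i, 1 ≤ i → i ≤ d →
      (∀ l, 1 ≤ l → i + l ≤ d → ((i + l).choose i : R) * P₀.coeff (i + l) = 0) ∧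
      δ (P₀.coeff i) = P₀.coeff i ⊗ₜ[k] (1 : R) := by
    intro i hi hid
    let Q : (R ⊗[k] R)[X] := ∑ l ∈ Finset.range (d - i + 1),
      Polynomial.monomial l (((i + l).choose i : R ⊗[k] R) * δ (P₀.coeff (i + l))) -
        Polynomial.C (P₀.coeff i ⊗ₜ[k] (1 : R))
    have hQdeg : Q.natDegree < d := by
      refine lt_of_le_of_lt ((Polynomial.natDegree_sub_le _ _).trans (max_le
        (Polynomial.natDegree_sum_le_of_forall_le (n := d - i) _ _ fun l hl =>
          le_trans (Polynomial.natDegree_monomial_le _) (by rw [Finset.mem_range] at hl; omega))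
        (by rw [Polynomial.natDegree_C]; exact Nat.zero_le _))) (by omega)
    have hQ0 : Q = 0 := by
      refine hfreeU Q hQdeg ?_
      simp only [Q, Polynomial.eval₂_sub, Polynomial.eval₂_finsetSum, Polynomial.eval₂_monomial,
        Polynomial.eval₂_C]
      rw [show (E0 : R ⊗[k] R →+* R ⊗[k] A) (P₀.coeff i ⊗ₜ[k] (1 : R)) = P₀.coeff i ⊗ₜ[k] (1 : A) by
        show E0 _ = _; simp [E0], ← hq i hid, sub_eq_zero]
      conv_rhs => rw [show d + 1 = i + (d - i + 1) by omega, Finset.sum_range_add]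
      rw [Finset.sum_eq_zero (s := Finset.range i), zero_add]
      · refine Finset.sum_congr rfl fun l _ => ?_
        rw [Nat.add_sub_cancel_left]
        show E0 (((i + l).choose i : R ⊗[k] R) * δ (P₀.coeff (i + l))) * u ^ l = _
        rw [map_mul, map_natCast]
        ring
      · intro j hj
        rw [Finset.mem_range] at hj
        rw [Nat.choose_eq_zero_of_lt hj, Nat.cast_zero, mul_zero]
    have hQc : ∀ l, l ≤ d - i → ((i + l).choose i : R ⊗[k] R) * δ (P₀.coeff (i + l)) =
        if l = 0 then P₀.coeff i ⊗ₜ[k] (1 : R) else 0 := by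
      intro l hl
      have h := congrArg (fun p : (R ⊗[k] R)[X] => p.coeff l) hQ0
      simp only [Q, Polynomial.coeff_sub, Polynomial.finsetSum_coeff, Polynomial.coeff_monomial,
        Finset.sum_ite_eq', Finset.mem_range, Nat.lt_succ_of_le hl, if_true, Polynomial.coeff_C,
        Polynomial.coeff_zero, sub_eq_zero] at h
      exact h
    refine ⟨fun l hl hld => hδinj ?_, ?_⟩
    · rw [map_mul, map_natCast, map_zero]
      simpa [show l ≠ 0 by omega] using hQc l (by omega)
    · simpa using hQc 0 (Nat.zero_le _)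
  let lam : ℕ → k := fun j => ε (f1 (P₀.coeff j))
  have hlam : ∀ j, 1 ≤ j → j ≤ d → P₀.coeff j = lam j • (1 : R) := fun j hj hjd => by
    refine hf1 ?_
    have h := congrArg (fun z => TensorProduct.lid k A ((ε : A →ₗ[k] k).rTensor A
      (Algebra.TensorProduct.map f1 f1 z))) (hcoef j hj hjd).2
    simp only [hδ1, Coalgebra.rTensor_counit_comul, TensorProduct.lid_tmul, one_smul,
      Algebra.TensorProduct.map_tmul, LinearMap.rTensor_tmul, map_one] at h
    rw [map_smul, map_one]
    exact h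
  have hchoose : ∀ j i, 1 ≤ i → i < j → j ≤ d → (j.choose i : k) * lam j = 0 := by
    intro j i hi hij hjd
    have h := (hcoef i hi (by omega)).1 (j - i) (by omega) (by omega)
    rw [show i + (j - i) = j by omega, hlam j (by omega) hjd] at h
    have h2 := congrArg (fun a => ε (f1 a)) h
    rw [← map_natCast (algebraMap k R)] at h2
    simpa [Algebra.smul_def, Bialgebra.counit_mul, Bialgebra.counit_algebraMap, Bialgebra.counit_one] using h2
  -- the constant coefficient
  have hbin : ∀ j, 1 ≤ j → j ≤ d → lam j • u ^ j = lam j • ((g ^ j) ⊗ₜ[k] (x ^ j)) + lam j • E0 (c ^ j) :=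
    fun j hj hjd => by
      show lam j • (g ⊗ₜ[k] x + E0 c) ^ j = _
      rw [smul_add_pow hj (fun i hi hij => hchoose j i hi hij hjd), Algebra.TensorProduct.tmul_pow, map_pow]
  let Q : (R ⊗[k] R)[X] := Polynomial.C (δ (P₀.coeff 0) + ∑ l ∈ Finset.range d, lam (l + 1) • c ^ (l + 1) -
      P₀.coeff 0 ⊗ₜ[k] (1 : R) - (g ^ d) ⊗ₜ[k] P₀.coeff 0) +
    ∑ l ∈ Finset.range d, Polynomial.monomial (l + 1) (lam (l + 1) • ((g ^ (l + 1) - g ^ d) ⊗ₜ[k] (1 : R)))
  have hQc : ∀ j, 1 ≤ j → j ≤ d → Q.coeff j = lam j • ((g ^ j - g ^ d) ⊗ₜ[k] (1 : R)) := by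
    intro j hj hjd
    obtain ⟨l, rfl⟩ : ∃ l, j = l + 1 := ⟨j - 1, by omega⟩
    simp only [Q, Polynomial.coeff_add, Polynomial.finsetSum_coeff, Polynomial.coeff_monomial,
      Polynomial.coeff_C, Nat.succ_ne_zero, if_false, zero_add, Nat.add_right_cancel_iff, Finset.sum_ite_eq',
      Finset.mem_range, Nat.lt_of_succ_le hjd, if_true]
  have hQ0 : Q = 0 := by
    have hQle : Q.natDegree ≤ d := (Polynomial.natDegree_add_le _ _).trans (max_le
      (by rw [Polynomial.natDegree_C]; exact Nat.zero_le _)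
      (Polynomial.natDegree_sum_le_of_forall_le _ _ fun l hl =>
        le_trans (Polynomial.natDegree_monomial_le _) (by rw [Finset.mem_range] at hl; omega)))
    by_cases hne : Q = 0
    · exact hne
    refine coeff_eq_zero_of_rel hf1 hd Q (lt_of_le_of_ne hQle fun e => ?_) ?_
    · refine mt Polynomial.leadingCoeff_eq_zero.1 hne ?_
      rw [Polynomial.leadingCoeff, e, hQc d hd1 le_rfl, sub_self, zero_tmul, smul_zero]
    · have h0 := hq 0 (Nat.zero_le _)
      simp only [Nat.sub_zero, Nat.choose_zero_right, Nat.cast_one, mul_one] at h0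
      rw [Finset.sum_range_succ', pow_zero, mul_one] at h0
      have hsum : ∀ l ∈ Finset.range d, E0 (δ (P₀.coeff (l + 1))) * u ^ (l + 1) =
          lam (l + 1) • ((g ^ (l + 1)) ⊗ₜ[k] (x ^ (l + 1))) + lam (l + 1) • E0 (c ^ (l + 1)) := fun l hl => by
        rw [Finset.mem_range] at hl
        rw [hlam (l + 1) (by omega) (by omega), map_smul, map_one, map_smul, map_one, smul_one_mul,
          hbin (l + 1) (by omega) (by omega)]
      rw [show ∑ l ∈ Finset.range d, E0 (δ (P₀.coeff (l + 1))) * u ^ (l + 1) = _ from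
        Finset.sum_congr rfl hsum, Finset.sum_add_distrib] at h0
      have hx0 : f1 (P₀.coeff 0) + ∑ l ∈ Finset.range d, lam (l + 1) • x ^ (l + 1) = 0 := by
        have h := hrel₀
        unfold IsRel at h
        rw [aevalTower_eq_sum f1 x (Nat.lt_succ_of_le hdeg.le), Finset.sum_range_succ', pow_zero, mul_one,
          add_comm] at h
        refine Eq.trans ?_ h
        refine congrArg (fun t => f1 (P₀.coeff 0) + t) (Finset.sum_congr rfl fun l hl => ?_)
        rw [Finset.mem_range] at hl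
        rw [hlam (l + 1) (by omega) (by omega), map_smul, map_one, smul_one_mul]
      have hx1 := congrArg (fun t => (g ^ d) ⊗ₜ[k] t) hx0
      simp only [tmul_add, tmul_sum, tmul_smul, tmul_zero] at hx1
      have hev : ∀ l, E0 (lam (l + 1) • ((g ^ (l + 1) - g ^ d) ⊗ₜ[k] (1 : R))) * ((1 : R) ⊗ₜ[k] x) ^ (l + 1) =
          lam (l + 1) • ((g ^ (l + 1)) ⊗ₜ[k] (x ^ (l + 1))) - lam (l + 1) • ((g ^ d) ⊗ₜ[k] (x ^ (l + 1))) := fun l => by
        rw [map_smul, smul_mul_assoc, ← smul_sub, ← sub_tmul, Algebra.TensorProduct.tmul_pow, one_pow]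
        simp [E0]
      simp only [Q, Polynomial.eval₂_add, Polynomial.eval₂_C, Polynomial.eval₂_finsetSum,
        Polynomial.eval₂_monomial]
      show E0 (_ - _ - _) + ∑ l ∈ Finset.range d, E0 _ * _ = 0
      rw [Finset.sum_congr rfl fun l _ => hev l]
      simp only [map_sub, map_add, map_sum, map_smul, Finset.sum_sub_distrib]
      rw [show E0 (P₀.coeff 0 ⊗ₜ[k] (1 : R)) = P₀.coeff 0 ⊗ₜ[k] (1 : A) by simp [E0],
        show E0 ((g ^ d) ⊗ₜ[k] P₀.coeff 0) = (g ^ d) ⊗ₜ[k] f1 (P₀.coeff 0) by simp [E0]]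
      rw [← h0, eq_neg_of_add_eq_zero_left hx1]
      abel
  refine ⟨lam, hlam, hchoose, fun j hj hjd => ?_, ?_⟩
  · have h := hQc j hj hjd
    rw [hQ0, Polynomial.coeff_zero] at h
    have h2 := congrArg (fun z => Algebra.TensorProduct.rid k k B
      (Algebra.TensorProduct.map f2 ((Bialgebra.counitAlgHom k A).comp f1) z)) h
    simp only [map_zero, map_smul, map_sub, sub_tmul, Algebra.TensorProduct.map_tmul, map_one,
      Algebra.TensorProduct.rid_tmul, one_smul, map_pow, hg2] at h2
    rw [← sub_eq_zero, ← smul_sub]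
    exact h2.symm
  · have h := congrArg (fun p : (R ⊗[k] R)[X] => p.coeff 0) hQ0
    simp only [Q, Polynomial.coeff_add, Polynomial.finsetSum_coeff, Polynomial.coeff_monomial,
      Nat.succ_ne_zero, if_false, Finset.sum_const_zero, add_zero, Polynomial.coeff_C_zero,
      Polynomial.coeff_zero] at h
    have h2 := congrArg (Algebra.TensorProduct.map f2 f2) h
    rw [map_sub, map_sub, map_add, map_zero, map_sum, hδ2, sub_sub, sub_eq_zero] at h2
    refine Eq.trans ?_ (h2.trans ?_)
    · simp only [map_smul, map_pow]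
    · simp [hg2]

include hf1 hδ1 hδ2 hS' hg1 hg2 hgi hB in
/-- a value for the new element compatible with the comultiplication and all relations -/
theorem exists_value [IsAlgClosed k] (x : A) (hγ : IsGroupLikeElem k γ) (c : R ⊗[k] R)
    (hc : Δ x = x ⊗ₜ[k] (1 : A) + ψ γ ⊗ₜ[k] x + Algebra.TensorProduct.map f1 f1 c) :
    ∃ y : B, Δ y = y ⊗ₜ[k] (1 : B) + γ ⊗ₜ[k] y + Algebra.TensorProduct.map f2 f2 c ∧
      ∀ P : R[X], IsRel f1 x P → Polynomial.aevalTower f2 y P = 0 := by
  classical
  obtain ⟨y₀, hy₀⟩ := exists_comul_eq hB hf1 hδ1 hδ2 hg1 hg2 x hγ c hc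
  by_cases htr : ∀ P : R[X], IsRel f1 x P → P = 0
  · exact ⟨y₀, hy₀, fun P hP => by rw [htr P hP, map_zero]⟩
  push Not at htr
  have hex : ∃ d, ∃ P : R[X], P ≠ 0 ∧ P.natDegree = d ∧ IsRel f1 x P :=
    let ⟨P, h1, h2⟩ := htr; ⟨_, P, h2, rfl, h1⟩
  let d := Nat.find hex
  obtain ⟨P₁, hP₁, hd₁, hrel₁⟩ := Nat.find_spec hex
  have hd : ∀ P : R[X], P.natDegree < d → IsRel f1 x P → P = 0 := fun P hlt hrel => by
    by_contra hne
    exact Nat.find_min hex hlt ⟨P, hne, rfl, hrel⟩
  obtain ⟨P₀, hmon, hdeg, hrel₀, hq⟩ := exists_monic_rel hf1 hδ1 hS' hg1 hd hP₁ hd₁ hrel₁ c hc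
  have hd1 : 1 ≤ d := by
    by_contra hd0
    have h1 : P₀ = 1 := hmon.natDegree_eq_zero.1 (by omega)
    have h2 := hrel₀
    unfold IsRel at h2
    rw [h1, map_one] at h2
    haveI : Nontrivial A := Bialgebra.nontrivial (R := k) (A := A)
    exact one_ne_zero h2
  obtain ⟨lam, hlam, hchoose, hpow, hconst⟩ := rel_structure hf1 hδ1 hδ2 hg2 hgi hd c hdeg hrel₀ hd1 hq
  have hadd : ∀ l ∈ Finset.range d, ∀ (R : Type u) [CommRing R] [Algebra k R] (a b : R),
      lam (l + 1) • (a + b) ^ (l + 1) = lam (l + 1) • a ^ (l + 1) + lam (l + 1) • b ^ (l + 1) :=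
    fun l hl R _ _ a b => smul_add_pow (by omega)
      (fun i hi hij => hchoose (l + 1) i hi hij (by rw [Finset.mem_range] at hl; omega)) a b
  have hpow' : ∀ l ∈ Finset.range d, lam (l + 1) • γ ^ (l + 1) = lam (l + 1) • γ ^ d := fun l hl =>
    hpow (l + 1) (by omega) (by rw [Finset.mem_range] at hl; omega)
  let b₀ := f2 (P₀.coeff 0)
  let cB := Algebra.TensorProduct.map f2 f2 c
  let z : B := b₀ + ∑ l ∈ Finset.range d, lam (l + 1) • y₀ ^ (l + 1)
  have hz : Δ z = z ⊗ₜ[k] (1 : B) + (γ ^ d) ⊗ₜ[k] z := by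
    have h1 : ∀ l ∈ Finset.range d, Δ (lam (l + 1) • y₀ ^ (l + 1)) =
        (lam (l + 1) • y₀ ^ (l + 1)) ⊗ₜ[k] (1 : B) + (γ ^ d) ⊗ₜ[k] (lam (l + 1) • y₀ ^ (l + 1)) +
          lam (l + 1) • cB ^ (l + 1) := fun l hl => by
      rw [map_smul, Bialgebra.comul_pow, hy₀, hadd l hl, hadd l hl, Algebra.TensorProduct.tmul_pow,
        Algebra.TensorProduct.tmul_pow, one_pow, smul_tmul', smul_tmul', hpow' l hl, tmul_smul, smul_tmul']
    have h2 := hconst
    simp only [z, map_add, map_sum, Finset.sum_congr rfl h1, Finset.sum_add_distrib, add_tmul, tmul_add,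
      sum_tmul, tmul_sum]
    rw [eq_sub_of_add_eq h2]
    abel
  obtain ⟨μ, hμ1, hμ⟩ := exists_integral hB
  have hzs : z = μ z • ((1 : B) - γ ^ d) := by
    have h := congrArg (rc μ) hz
    rw [hμ, map_add (rc μ), rc_tmul, rc_tmul, hμ1, one_smul] at h
    rw [smul_sub, eq_sub_iff_add_eq]
    exact h.symm
  let Pol : k[X] := (∑ l ∈ Finset.range d, Polynomial.monomial (l + 1) (lam (l + 1))) + Polynomial.C (μ z)
  have hlamd : lam d = 1 := by
    have h := hlam d hd1 le_rfl
    rw [← hdeg, hmon.coeff_natDegree, hdeg] at h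
    have h2 := congrArg (fun a => ε (f1 a)) h
    simpa using h2.symm
  have hPol : Pol.degree ≠ 0 := fun h0 => by
    have := Polynomial.coeff_eq_zero_of_natDegree_lt (p := Pol) (n := d)
      (by rw [Polynomial.natDegree_eq_zero_iff_degree_le_zero.2 h0.le]; exact hd1)
    simp only [Pol, Polynomial.coeff_add, Polynomial.finsetSum_coeff, Polynomial.coeff_monomial,
      Polynomial.coeff_C, show d ≠ 0 by omega, if_false, add_zero] at this
    rw [Finset.sum_eq_single (d - 1)] at this
    · rw [show d - 1 + 1 = d by omega, if_pos rfl, hlamd] at this; exact one_ne_zero this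
    · intro l _ hl; rw [if_neg (by omega)]
    · intro h; exact absurd (Finset.mem_range.2 (by omega)) h
  obtain ⟨t, ht⟩ := IsAlgClosed.exists_root Pol hPol
  have hyΔ : Δ (y₀ + t • ((1 : B) - γ)) = (y₀ + t • ((1 : B) - γ)) ⊗ₜ[k] (1 : B) +
      γ ⊗ₜ[k] (y₀ + t • ((1 : B) - γ)) + cB := by
    rw [map_add, map_smul, map_sub, Bialgebra.comul_one, hγ.comul_eq_tmul_self, hy₀,
      Algebra.TensorProduct.one_def]
    simp only [add_tmul, tmul_add, ← smul_tmul', tmul_smul, sub_tmul, tmul_sub, smul_sub]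
    abel
  refine ⟨_, hyΔ, fun P hP => ?_⟩
  have hP₀y : Polynomial.aevalTower f2 (y₀ + t • ((1 : B) - γ)) P₀ = 0 := by
    rw [aevalTower_eq_sum f2 _ (Nat.lt_succ_of_le hdeg.le), Finset.sum_range_succ', pow_zero, mul_one]
    have h1 : ∀ l ∈ Finset.range d, f2 (P₀.coeff (l + 1)) * (y₀ + t • ((1 : B) - γ)) ^ (l + 1) =
        lam (l + 1) • y₀ ^ (l + 1) + (lam (l + 1) * t ^ (l + 1)) • ((1 : B) - γ ^ d) := fun l hl => by
      have hl' := Finset.mem_range.1 hl
      have e : lam (l + 1) • ((1 : B) - γ) ^ (l + 1) = lam (l + 1) • ((1 : B) - γ ^ d) := by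
        have e1 := hadd l hl B (1 - γ) γ
        rw [sub_add_cancel, one_pow, hpow' l hl] at e1
        rw [smul_sub, eq_sub_of_add_eq e1.symm]
      rw [hlam (l + 1) (by omega) (by omega), map_smul, map_one, smul_one_mul, hadd l hl, _root_.smul_pow,
        smul_comm, e, smul_smul, mul_comm (t ^ (l + 1))]
    rw [Finset.sum_congr rfl h1, Finset.sum_add_distrib, ← Finset.sum_smul]
    have hroot : ∑ l ∈ Finset.range d, lam (l + 1) * t ^ (l + 1) = -μ z := by
      have := ht
      simp only [Pol, Polynomial.IsRoot.def, Polynomial.eval_add, Polynomial.eval_finsetSum,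
        Polynomial.eval_monomial, Polynomial.eval_C] at this
      exact eq_neg_of_add_eq_zero_left this
    rw [hroot, add_right_comm, add_comm _ b₀]
    show z + _ = 0
    rw [neg_smul, ← hzs, add_neg_cancel]
  have hmod : P %ₘ P₀ = 0 := by
    refine hd _ ?_ ?_
    · rw [← hdeg]
      exact Polynomial.natDegree_modByMonic_lt P hmon fun e => by
        rw [e, Polynomial.natDegree_one] at hdeg; omega
    · unfold IsRel at *
      rw [Polynomial.modByMonic_eq_sub_mul_div, map_sub, map_mul, hP, hrel₀, zero_mul, sub_zero]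
  rw [← Polynomial.modByMonic_add_div P P₀, hmod, zero_add, map_mul, hP₀y, zero_mul]

end Groth.Agent.CAlg6.TrigSplit
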