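import Groth.Agent.Comod33.TrigStructure
import Groth.Agent.Comod33.MultQuot
import Groth.Agent.Comod33.QuotReductive
import Groth.Agent.Comod33.UnipotentBC
import Groth.Agent.GrpFG58.Affine
import Groth.Prelude.Def_ComodSub

/-!
Weights in comodules of an extension of a diagonalizable group by a unipotent one, and skew primitive elements
modulo a Hopf subalgebra.
-/

universe u

set_option maxHeartbeats 1000000
set_option synthInstance.maxHeartbeats 100000

open TensorProduct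

noncomputable section

namespace Groth.Agent.CAlg6.TrigSplit

open Groth.Agent.Comod33

variable {k : Type u} [Field k] {A B : Type u} [CommRing A] [HopfAlgebra k A] [Algebra.FiniteType k A]
  [CommRing B] [HopfAlgebra k B]

local notation "Δ" => CoalgebraStruct.comul (R := k)
local notation "S" => HopfAlgebraStruct.antipode (R := k)

variable (ψ : B →ₐc[k] A) (hψ : Function.Injective ψ) (hB : HopfRep.IsDiagonalizable k B)
  (hU : ∃ (J : Ideal A) (_ : J.IsHopfIdeal k),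
    J = Ideal.map (ψ : B →+* A) (RingHom.ker (Bialgebra.counitAlgHom k B)) ∧ HopfRep.IsUnipotent k (A ⧸ J))

include hψ hU in
/-- some nonzero vector has its coefficients in the quotient group -/
theorem exists_coeff_mem (V : Type u) [AddCommGroup V] [Module k V] [cV : HopfRep.Comod k A V]
    [Module.Finite k V] [Nontrivial V] :
    ∃ v : V, v ≠ 0 ∧ HopfRep.Comod.coact (k := k) (A := A) v ∈
      LinearMap.range ((ψ : B →ₗ[k] A).lTensor V) := by
  classical
  obtain ⟨J, hJi, hJ, hU⟩ := hU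
  haveI := hJi
  haveI : Algebra.FiniteType k B := GrpFG58.finiteType_of_injective ψ hψ
  let π := Bialgebra.Quotient.mkBialgHom (R := k) J
  letI cJ : HopfRep.Comod k (A ⧸ J) V := push (π : A →ₗc[k] A ⧸ J) cV
  obtain ⟨v, hv, hv0⟩ := exists_fixed_of_isUnipotent hU V
  obtain ⟨r, hr, hr1⟩ := Quot.exists_linear_retraction ψ hψ
  have hker : RingHom.ker (π : A →ₐ[k] A ⧸ J) =
      Ideal.map (ψ : B →ₐ[k] A) (RingHom.ker (Bialgebra.counitAlgHom k B)) := Ideal.mk_ker.trans hJ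
  refine ⟨v, hv0, ?_⟩
  have hmem : ∀ φ' : V →ₗ[k] k, lc φ' (cV.coact v) ∈ LinearMap.range (ψ : B →ₗ[k] A) := fun φ' => by
    have h := Quot.mem_range_of_coinvariant ψ r π hker hr hr1 Ideal.Quotient.mk_surjective
      (PrimUni.coeff_coinvariant π hv φ')
    exact ⟨_, h⟩
  let R := LinearMap.range (ψ : B →ₗ[k] A)
  have h2 : TensorProduct.comm k V A (cV.coact v) ∈ LinearMap.range (R.subtype.rTensor V) := by
    rw [mem_range_rTensor_iff]
    intro φ'
    have e : ∀ z : V ⊗[k] A, rc φ' (TensorProduct.comm k V A z) = lc φ' z := by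
      intro z
      induction z with
      | zero => simp
      | add p q hp hq => simp only [map_add, hp, hq]
      | tmul p q => simp
    rw [e]
    exact hmem φ'
  obtain ⟨z, hz⟩ := h2
  obtain ⟨w, rfl⟩ := LinearMap.rTensor_surjective V (g := (ψ : B →ₗ[k] A).rangeRestrict)
    (LinearMap.surjective_rangeRestrict _) z
  refine ⟨TensorProduct.comm k B V w, ?_⟩
  apply (TensorProduct.comm k V A).injective
  rw [← hz]
  clear hz
  induction w with
  | zero => simp
  | add p q hp hq => simp only [map_add, hp, hq]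
  | tmul p q => simp [R]

include hψ hB hU in
/-- some nonzero vector is a weight vector with weight from the quotient group -/
theorem exists_weight_fin (V : Type u) [AddCommGroup V] [Module k V] [cV : HopfRep.Comod k A V]
    [Module.Finite k V] [Nontrivial V] :
    ∃ (v : V) (γ : B), v ≠ 0 ∧ IsGroupLikeElem k γ ∧
      HopfRep.Comod.coact (k := k) (A := A) v = v ⊗ₜ[k] ψ γ := by
  classical
  obtain ⟨v, hv0, y, hy⟩ := exists_coeff_mem ψ hψ hU V
  let G := GroupLike k B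
  have hspan : ⊤ ≤ Submodule.span k (Set.range (GroupLike.val : G → B)) := by
    rw [← hB]
    exact Submodule.span_mono fun a ha => ⟨⟨a, ha⟩, rfl⟩
  let b := Module.Basis.mk (linearIndep_groupLikeVal (R := k) (A := B)) hspan
  have hb : ∀ g : G, b g = (g : B) := fun g => Module.Basis.mk_apply _ hspan g
  let c := TensorProduct.equivFinsuppOfBasisRight b y
  have hexp : cV.coact v = ∑ g ∈ c.support, c g ⊗ₜ[k] ψ (g : B) := by
    rw [← hy]
    conv_lhs => rw [← (TensorProduct.equivFinsuppOfBasisRight b).symm_apply_apply y,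
      TensorProduct.equivFinsuppOfBasisRight_symm_apply, Finsupp.sum, map_sum]
    exact Finset.sum_congr rfl fun g _ => by rw [LinearMap.lTensor_tmul, hb]; rfl
  have hne : c.support.Nonempty := by
    rw [Finset.nonempty_iff_ne_empty]
    intro e
    rw [e, Finset.sum_empty] at hexp
    refine hv0 ((TensorProduct.rid k V).symm.injective ?_)
    rw [TensorProduct.rid_symm_apply, map_zero, ← counit_apply (A := A) v]
    show _ = (0 : V ⊗[k] k)
    rw [show HopfRep.Comod.coact (k := k) (A := A) v = 0 from hexp, map_zero]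
  obtain ⟨g₀, hg₀⟩ := hne
  obtain ⟨f, hf⟩ : ∃ f : A →ₗ[k] k, ∀ g : G, f (ψ (g : B)) = if g = g₀ then 1 else 0 := by
    obtain ⟨l, hl⟩ := (ψ : B →ₗ[k] A).exists_leftInverse_of_injective (LinearMap.ker_eq_bot.2 hψ)
    refine ⟨b.coord g₀ ∘ₗ l, fun g => ?_⟩
    rw [LinearMap.comp_apply, show l (ψ (g : B)) = (g : B) from LinearMap.congr_fun hl g, ← hb,
      Module.Basis.coord_apply, b.repr_self, Finsupp.single_apply]
  have hgl : ∀ g : G, Δ (ψ (g : B)) = ψ (g : B) ⊗ₜ[k] ψ (g : B) := fun g =>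
    (g.isGroupLikeElem_val.map ψ).comul_eq_tmul_self
  refine ⟨c g₀, g₀, Finsupp.mem_support_iff.1 hg₀, g₀.isGroupLikeElem_val, ?_⟩
  have h1 : (cV.coact).rTensor A (cV.coact v) =
      (TensorProduct.assoc k V A A).symm ((Δ : A →ₗ[k] A ⊗[k] A).lTensor V (cV.coact v)) :=
    (LinearEquiv.eq_symm_apply _).2 (coassoc_apply v)
  rw [hexp] at h1
  simp only [map_sum, LinearMap.rTensor_tmul, LinearMap.lTensor_tmul, hgl, TensorProduct.assoc_symm_tmul] at h1
  have h2 := congrArg (rc f) h1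
  simp only [map_sum, rc_tmul, hf, ite_smul, one_smul, zero_smul, Finset.sum_ite_eq', hg₀, if_true] at h2
  exact h2

include hψ hB hU in
/-- weights in arbitrary nonzero comodules -/
theorem exists_weight (V : Type u) [AddCommGroup V] [Module k V] [cV : HopfRep.Comod k A V] [Nontrivial V] :
    ∃ (v : V) (γ : B), v ≠ 0 ∧ IsGroupLikeElem k γ ∧
      HopfRep.Comod.coact (k := k) (A := A) v = v ⊗ₜ[k] ψ γ := by
  obtain ⟨v₀, hv₀⟩ := exists_ne (0 : V)
  obtain ⟨U, hfin, hvU, hU'⟩ := exists_finite_subcomod_mem (k := k) (A := A) v₀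
  haveI := hfin
  haveI : Nontrivial U := ⟨⟨⟨v₀, hvU⟩, 0, fun e => hv₀ (congrArg Subtype.val e)⟩⟩
  letI cU : HopfRep.Comod k A U := ComodSub.Comod.restr cV U hU'
  obtain ⟨v, γ, hv, hγ, h⟩ := exists_weight_fin ψ hψ hB hU U
  refine ⟨v, γ, fun e => hv (Subtype.ext e), hγ, ?_⟩
  have h1 := LinearMap.congr_fun (ComodSub.isComodHom_subtype cV U hU') v
  rw [LinearMap.comp_apply, LinearMap.comp_apply, h, LinearMap.rTensor_tmul] at h1
  exact h1

include hψ hB hU in
/-- a skew primitive element modulo a proper Hopf subalgebra -/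
theorem exists_skew (A' : Subalgebra k A) (hA' : SubHopf.IsSubHopf A') (hle : (ψ : B →ₐ[k] A).range ≤ A')
    (hne : A' ≠ ⊤) :
    ∃ (x : A) (γ : B), x ∉ A' ∧ IsGroupLikeElem k γ ∧
      Δ x - x ⊗ₜ[k] (1 : A) - ψ γ ⊗ₜ[k] x ∈
        LinearMap.range (TensorProduct.map A'.val.toLinearMap A'.val.toLinearMap) := by
  classical
  let W : Submodule k A := A'.toSubmodule
  have hW : HopfRep.IsSubcomod (k := k) (A := A) W := by
    intro a ha
    obtain ⟨z, hz⟩ := hA'.1 a ha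
    refine ⟨A'.val.toLinearMap.lTensor W z, ?_⟩
    show _ = Δ a
    rw [← hz]
    clear hz
    induction z with
    | zero => simp
    | add p q hp hq => simp only [map_add]; rw [← hp, ← hq]
    | tmul p q => rfl
  have hinv : ∀ δ : B, IsGroupLikeElem k δ → ψ δ * ψ (S δ) = 1 := fun δ hδ => by
    rw [← map_mul, mul_comm, Diag.grouplike_mul_inv hδ, map_one]
  have hcomulW : ∀ a ∈ W, Δ a ∈ LinearMap.range (W.subtype.lTensor A) := fun a ha => by
    obtain ⟨z, hz⟩ := hA'.1 a ha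
    refine ⟨A'.val.toLinearMap.rTensor W z, ?_⟩
    rw [← hz]
    clear hz
    induction z with
    | zero => simp
    | add p q hp hq => simp only [map_add]; rw [← hp, ← hq]
    | tmul p q => rfl
  haveI : Nontrivial (A ⧸ W) := Submodule.Quotient.nontrivial_iff.2 fun e => hne (by
    rw [eq_top_iff]; intro a _; show a ∈ W; rw [e]; trivial)
  letI cQ : HopfRep.Comod k A (A ⧸ W) := ComodSub.Comod.quot (HopfRep.Comod.regular k A) W hW
  have hQ : ∀ (a : A) (g : A), HopfRep.Comod.coact (k := k) (A := A) (W.mkQ a) = W.mkQ a ⊗ₜ[k] g ↔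
      Δ a - a ⊗ₜ[k] g ∈ LinearMap.range (W.subtype.rTensor A) := by
    intro a g
    rw [mem_range_iff_mkQ, map_sub, sub_eq_zero, LinearMap.rTensor_tmul]
    exact Iff.rfl
  -- a vector fixed modulo the subalgebra on the right
  obtain ⟨q₁, γ₁, hq₁, hγ₁, hc₁⟩ := exists_weight ψ hψ hB hU (A ⧸ W)
  obtain ⟨x₁, rfl⟩ := W.mkQ_surjective q₁
  have hx₁ : x₁ ∉ A' := fun h => hq₁ ((Submodule.Quotient.mk_eq_zero W).2 h)
  obtain ⟨z₁, hz₁⟩ := (hQ x₁ _).1 hc₁
  let y : A := S (x₁ * ψ (S γ₁))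
  have hgS : ψ (S γ₁) ∈ A' := hle ⟨_, rfl⟩
  have hy : y ∉ A' := fun h => hx₁ (by
    have h2 : x₁ * ψ (S γ₁) ∈ A' := by rw [← Quot.antipode_antipode (k := k) (x₁ * ψ (S γ₁))]; exact hA'.2 _ h
    have h3 := mul_mem h2 (hle ⟨γ₁, rfl⟩ : ψ γ₁ ∈ A')
    rwa [mul_assoc, mul_comm (ψ (S γ₁)), hinv γ₁ hγ₁, mul_one] at h3)
  -- the vectors fixed modulo the subalgebra on the left
  let W' : Submodule k A := (LinearMap.range (W.subtype.lTensor A)).comap
    (CoalgebraStruct.comul - TensorProduct.mk k A A 1)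
  have hW' : HopfRep.IsSubcomod (k := k) (A := A) W' := by
    rw [isSubcomod_iff]
    intro f u hu
    obtain ⟨z, hz⟩ := hu
    refine ⟨TensorProduct.map LinearMap.id
      ((dact f : A →ₗ[k] A).restrict ((isSubcomod_iff W).1 hW f)) z, ?_⟩
    show _ = Δ (rc f (Δ u)) - (1 : A) ⊗ₜ[k] rc f (Δ u)
    have e1 : ∀ a : A, Δ (rc f (Δ a)) = (rc f ∘ₗ (Δ : A →ₗ[k] A ⊗[k] A)).lTensor A (Δ a) := by
      intro a
      rw [LinearMap.lTensor_comp, LinearMap.comp_apply, ← Coalgebra.coassoc_apply (R := k) a]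
      generalize Δ a = w
      induction w with
      | zero => simp
      | add p q hp hq => simp only [map_add, hp, hq]
      | tmul p q =>
        rw [rc_tmul, map_smul, LinearMap.rTensor_tmul]
        generalize Δ p = v
        induction v with
        | zero => simp
        | add s t hs ht => simp only [add_tmul, map_add, smul_add, hs, ht]
        | tmul s t => simp [tmul_smul]
    rw [e1, show (1 : A) ⊗ₜ[k] rc f (Δ u) =
      (rc f ∘ₗ (Δ : A →ₗ[k] A ⊗[k] A)).lTensor A ((1 : A) ⊗ₜ[k] u) from rfl, ← map_sub]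
    have hz' : Δ u - (1 : A) ⊗ₜ[k] u = W.subtype.lTensor A z := hz.symm
    rw [hz']
    clear hz hz'
    induction z with
    | zero => simp
    | add p q hp hq => simp only [map_add, hp, hq]
    | tmul p q => rfl
  have hWW' : W ≤ W' := fun a ha =>
    sub_mem (hcomulW a ha) ⟨(1 : A) ⊗ₜ[k] (⟨a, ha⟩ : W), rfl⟩
  have hyW' : y ∈ W' := by
    show Δ y - (1 : A) ⊗ₜ[k] y ∈ LinearMap.range (W.subtype.lTensor A)
    have e1 : Δ (x₁ * ψ (S γ₁)) = W.subtype.rTensor A z₁ * (ψ (S γ₁) ⊗ₜ[k] ψ (S γ₁)) +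
        (x₁ * ψ (S γ₁)) ⊗ₜ[k] (1 : A) := by
      rw [Bialgebra.comul_mul, eq_add_of_sub_eq hz₁.symm,
        ((TrigStr.isGroupLike_antipode hγ₁).map ψ).comul_eq_tmul_self, add_mul,
        Algebra.TensorProduct.tmul_mul_tmul, hinv γ₁ hγ₁]
    show Δ (S _) - (1 : A) ⊗ₜ[k] S _ ∈ _
    rw [Hopf35.comul_antipode, e1, map_add, map_add, TensorProduct.map_tmul, TensorProduct.comm_tmul,
      HopfAlgebra.antipode_one, add_sub_cancel_right]
    clear hz₁ e1
    induction z₁ with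
    | zero => simp
    | add p q hp hq => simp only [map_add, add_mul]; exact add_mem hp hq
    | tmul p q =>
      refine ⟨S (q * ψ (S γ₁)) ⊗ₜ[k] (⟨S ((p : A) * ψ (S γ₁)), hA'.2 _ (mul_mem p.2 hgS)⟩ : W), ?_⟩
      rw [LinearMap.rTensor_tmul, Algebra.TensorProduct.tmul_mul_tmul, TensorProduct.map_tmul,
        TensorProduct.comm_tmul, LinearMap.lTensor_tmul]
      rfl
  -- its image is a nonzero subcomodule
  let E : Submodule k (A ⧸ W) := W'.map W.mkQ
  have hE : HopfRep.IsSubcomod (k := k) (A := A) E := by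
    rw [isSubcomod_iff]
    rintro f _ ⟨u, hu, rfl⟩
    exact ⟨dact f u, (isSubcomod_iff W').1 hW' f u hu,
      IsComodHom.dact (ComodSub.isComodHom_mkQ _ W hW) f u⟩
  haveI : Nontrivial E := ⟨⟨⟨W.mkQ y, y, hyW', rfl⟩, 0, fun e =>
    hy ((Submodule.Quotient.mk_eq_zero W).1 (congrArg Subtype.val e))⟩⟩
  letI cE : HopfRep.Comod k A E := ComodSub.Comod.restr cQ E hE
  obtain ⟨⟨q, u, hu, rfl⟩, γ, hq0, hγ, hc⟩ := exists_weight ψ hψ hB hU E
  have h1 := LinearMap.congr_fun (ComodSub.isComodHom_subtype cQ E hE) ⟨W.mkQ u, u, hu, rfl⟩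
  rw [LinearMap.comp_apply, LinearMap.comp_apply, hc, LinearMap.rTensor_tmul] at h1
  have hr : Δ u - u ⊗ₜ[k] ψ γ - (1 : A) ⊗ₜ[k] u ∈ LinearMap.range (W.subtype.rTensor A) :=
    sub_mem ((hQ u _).1 h1) ⟨(⟨1, one_mem A'⟩ : W) ⊗ₜ[k] u, rfl⟩
  have hl : Δ u - u ⊗ₜ[k] ψ γ - (1 : A) ⊗ₜ[k] u ∈ LinearMap.range (W.subtype.lTensor A) := by
    rw [sub_right_comm]
    exact sub_mem hu ⟨u ⊗ₜ[k] (⟨ψ γ, hle ⟨γ, rfl⟩⟩ : W), rfl⟩
  obtain ⟨r, hr'⟩ := W.subtype.exists_leftInverse_of_injective W.ker_subtype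
  have hc' : Δ u - u ⊗ₜ[k] ψ γ - (1 : A) ⊗ₜ[k] u ∈
      LinearMap.range (TensorProduct.map W.subtype W.subtype) := by
    refine ⟨TensorProduct.map r r (Δ u - u ⊗ₜ[k] ψ γ - (1 : A) ⊗ₜ[k] u), ?_⟩
    obtain ⟨a, ha⟩ := hr
    obtain ⟨b, hb⟩ := hl
    have e1 : (W.subtype ∘ₗ r).rTensor A (Δ u - u ⊗ₜ[k] ψ γ - (1 : A) ⊗ₜ[k] u) =
        Δ u - u ⊗ₜ[k] ψ γ - (1 : A) ⊗ₜ[k] u := by
      rw [← ha, ← LinearMap.comp_apply, ← LinearMap.rTensor_comp, LinearMap.comp_assoc, hr', LinearMap.comp_id]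
    have e2 : (W.subtype ∘ₗ r).lTensor A (Δ u - u ⊗ₜ[k] ψ γ - (1 : A) ⊗ₜ[k] u) =
        Δ u - u ⊗ₜ[k] ψ γ - (1 : A) ⊗ₜ[k] u := by
      rw [← hb, ← LinearMap.comp_apply, ← LinearMap.lTensor_comp, LinearMap.comp_assoc, hr', LinearMap.comp_id]
    rw [← LinearMap.comp_apply, ← TensorProduct.map_comp, ← LinearMap.rTensor_comp_lTensor,
      LinearMap.comp_apply, e2, e1]
  refine ⟨u * ψ (S γ), S γ, fun h => hq0 (Subtype.ext ((Submodule.Quotient.mk_eq_zero W).2 ?_)),
    TrigStr.isGroupLike_antipode hγ, ?_⟩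
  · show u ∈ A'
    have h3 := mul_mem h (hle ⟨γ, rfl⟩ : ψ γ ∈ A')
    rwa [mul_assoc, mul_comm (ψ (S γ)), hinv γ hγ, mul_one] at h3
  · have hg := ((TrigStr.isGroupLike_antipode hγ).map ψ).comul_eq_tmul_self
    have hS : ψ (S γ) ∈ A' := hle ⟨_, rfl⟩
    obtain ⟨c, hc⟩ : ∃ c : A' ⊗[k] A', TensorProduct.map A'.val.toLinearMap A'.val.toLinearMap c =
      Δ u - u ⊗ₜ[k] ψ γ - (1 : A) ⊗ₜ[k] u := hc'
    refine ⟨(c : A' ⊗[k] A') * ((⟨_, hS⟩ : A') ⊗ₜ[k] (⟨_, hS⟩ : A')), ?_⟩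
    show Algebra.TensorProduct.map A'.val A'.val _ = _
    rw [map_mul, Algebra.TensorProduct.map_tmul, Bialgebra.comul_mul, hg,
      show Algebra.TensorProduct.map A'.val A'.val c = TensorProduct.map A'.val.toLinearMap A'.val.toLinearMap c from rfl, hc,
      sub_mul, sub_mul, Algebra.TensorProduct.tmul_mul_tmul, Algebra.TensorProduct.tmul_mul_tmul, one_mul,
      Subalgebra.coe_val,
      hinv γ hγ]

end Groth.Agent.CAlg6.TrigSplit
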