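import Mathlib

/-!
Invariants of truncated polynomial algebras.
-/

set_option autoImplicit false
set_option linter.unusedSectionVars false

universe u

namespace Groth.Agent.CAlg6.TruncPoly


open MvPolynomial

variable {k : Type u} [Field k]

theorem finrank_quot {r : ℕ} (a : Fin r → ℕ) :
    Module.finrank k (MvPolynomial (Fin r) k ⧸ Ideal.span (Set.range fun i => (X i : MvPolynomial (Fin r) k) ^ a i)) = ∏ i, a i := by
  classical
  set I := Ideal.span (Set.range fun i => (X i : MvPolynomial (Fin r) k) ^ a i)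
  let emb : (∀ i, Fin (a i)) → (Fin r →₀ ℕ) := fun d => Finsupp.equivFunOnFinite.symm fun i => (d i : ℕ)
  have hemb : Function.Injective emb := fun d d' h => funext fun i =>
    Fin.ext (congrFun (Finsupp.equivFunOnFinite.symm.injective h) i)
  let L : MvPolynomial (Fin r) k →ₗ[k] ((∀ i, Fin (a i)) → k) := LinearMap.pi fun d => lcoeff k (emb d)
  have hI : I = Ideal.span ((fun d => monomial d (1 : k)) '' Set.range fun i => Finsupp.single i (a i)) := by
    simp only [I, ← Set.range_comp, Function.comp_def, X_pow_eq_monomial]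
  have hker : LinearMap.ker L = I.restrictScalars k := by
    ext q
    rw [LinearMap.mem_ker, Submodule.restrictScalars_mem, hI, mem_ideal_span_monomial_image]
    simp only [Set.exists_range_iff, mem_support_iff, Finsupp.single_le_iff]
    constructor
    · intro h d hd
      by_contra! hlt
      exact hd (by
        have := congrFun h fun i => ⟨d i, hlt i⟩
        simpa [L, emb] using this)
    · intro h
      funext d
      show coeff (emb d) q = 0
      by_contra hd
      obtain ⟨i, hi⟩ := h _ hd
      exact absurd (d i).2 (not_lt.2 (by simpa [emb] using hi))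
  have hsurj : Function.Surjective L := fun g => ⟨∑ d, monomial (emb d) (g d), funext fun d => by
    show coeff (emb d) _ = g d
    rw [coeff_sum, Finset.sum_eq_single d] <;> simp +contextual [coeff_monomial, hemb.eq_iff]⟩
  have e : (MvPolynomial (Fin r) k ⧸ I) ≃ₗ[k] ((∀ i, Fin (a i)) → k) :=
    (Submodule.Quotient.restrictScalarsEquiv k I).symm.trans
      ((Submodule.quotEquivOfEq _ _ hker.symm).trans (L.quotKerEquivOfSurjective hsurj))
  rw [e.finrank_eq, Module.finrank_fintype_fun_eq_card, Fintype.card_pi]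
  simp

variable (p : ℕ) [Fact p.Prime] [CharP k p]

/-- The invariant. -/
noncomputable def inv (A : Type u) [CommRing A] [Algebra k A] (n : ℕ) : ℕ :=
  Module.finrank k (A ⧸ Ideal.span ((fun a : A => a ^ p ^ n) '' {a : A | IsNilpotent a}))

theorem inv_congr {A B : Type u} [CommRing A] [Algebra k A] [CommRing B] [Algebra k B] (φ : A ≃ₐ[k] B) (n : ℕ) :
    inv (k := k) p A n = inv (k := k) p B n := by
  refine (Ideal.quotientEquivAlg _ _ φ ?_).toLinearEquiv.finrank_eq
  rw [Ideal.map_span, ← Set.image_comp]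
  congr 1
  ext b
  constructor
  · rintro ⟨c, hc, rfl⟩
    exact ⟨φ.symm c, hc.map φ.symm, by simp⟩
  · rintro ⟨a, ha, rfl⟩
    exact ⟨φ a, ha.map φ, by simp⟩

theorem inv_eq {r : ℕ} (e : Fin r → ℕ) (he : ∀ i, 1 ≤ e i) (n : ℕ) :
    inv (k := k) p (MvPolynomial (Fin r) k ⧸ Ideal.span (Set.range fun i : Fin r => (X i : MvPolynomial (Fin r) k) ^ p ^ e i)) n =
      p ^ ∑ i, min (e i) n := by
  classical
  have hp : p.Prime := Fact.out
  set P := MvPolynomial (Fin r) k
  set I := Ideal.span (Set.range fun i : Fin r => (X i : P) ^ p ^ e i)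
  have : CharP P p := inferInstance
  have hJ : Ideal.span ((fun a : P ⧸ I => a ^ p ^ n) '' {a | IsNilpotent a}) =
      (Ideal.span (Set.range fun i : Fin r => (X i : P) ^ p ^ n)).map (Ideal.Quotient.mk I) := by
    refine le_antisymm (Ideal.span_le.2 ?_) ((Ideal.map_span _ _).le.trans (Ideal.span_le.2 ?_))
    · rintro _ ⟨a, ha, rfl⟩
      obtain ⟨g, rfl⟩ := Ideal.Quotient.mk_surjective a
      show Ideal.Quotient.mk I g ^ p ^ n ∈ _
      rw [← map_pow]
      refine Ideal.mem_map_of_mem _ ?_
      have hg : g ∈ Ideal.span (Set.range (X : Fin r → P)) := by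
        suffices h0 : constantCoeff g = 0 by
          rw [← Set.image_univ, mem_ideal_span_X_image]
          intro d hd
          have hd0 : d ≠ 0 := by
            rintro rfl
            exact (mem_support_iff.1 hd) h0
          obtain ⟨i, hi⟩ := Finsupp.ne_iff.1 hd0
          exact ⟨i, trivial, by simpa using hi⟩
        obtain ⟨m, hm⟩ := ha
        rw [← map_pow, Ideal.Quotient.eq_zero_iff_mem] at hm
        have hle : I ≤ RingHom.ker (constantCoeff : P →+* k) := Ideal.span_le.2 (by
          rintro _ ⟨i, rfl⟩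
          simp [hp.ne_zero])
        exact eq_zero_of_pow_eq_zero ((map_pow _ _ _).symm.trans (hle hm))
      clear ha
      induction hg using Submodule.span_induction with
      | mem x hx => obtain ⟨i, rfl⟩ := hx; exact Ideal.subset_span ⟨i, rfl⟩
      | zero => rw [zero_pow (pow_ne_zero _ hp.ne_zero)]; exact zero_mem _
      | add x y _ _ hx hy => rw [add_pow_char_pow]; exact add_mem hx hy
      | smul c x _ hx => rw [smul_eq_mul, mul_pow]; exact Ideal.mul_mem_left _ _ hx
    · rintro _ ⟨_, ⟨i, rfl⟩, rfl⟩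
      exact Ideal.subset_span ⟨Ideal.Quotient.mk I (X i),
        ⟨p ^ e i, by rw [← map_pow, Ideal.Quotient.eq_zero_iff_mem]; exact Ideal.subset_span ⟨i, rfl⟩⟩, (map_pow _ _ _).symm⟩
  have hsup : I ⊔ Ideal.span (Set.range fun i : Fin r => (X i : P) ^ p ^ n) =
      Ideal.span (Set.range fun i : Fin r => (X i : P) ^ p ^ min (e i) n) := by
    refine le_antisymm (sup_le ?_ ?_) (Ideal.span_le.2 ?_)
    · exact Ideal.span_le.2 (by
        rintro _ ⟨i, rfl⟩
        exact Ideal.mem_of_dvd _ (pow_dvd_pow _ (Nat.pow_le_pow_right hp.pos (min_le_left _ n))) (Ideal.subset_span ⟨i, rfl⟩))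
    · exact Ideal.span_le.2 (by
        rintro _ ⟨i, rfl⟩
        exact Ideal.mem_of_dvd _ (pow_dvd_pow _ (Nat.pow_le_pow_right hp.pos (min_le_right (e i) _))) (Ideal.subset_span ⟨i, rfl⟩))
    · rintro _ ⟨i, rfl⟩
      rcases le_total (e i) n with h | h
      · simp only [min_eq_left h]; exact Ideal.mem_sup_left (Ideal.subset_span ⟨i, rfl⟩)
      · simp only [min_eq_right h]; exact Ideal.mem_sup_right (Ideal.subset_span ⟨i, rfl⟩)
  rw [inv, hJ]
  refine (DoubleQuot.quotQuotEquivQuotSupₐ k I _).toLinearEquiv.finrank_eq.trans ?_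
  rw [hsup, finrank_quot, Finset.prod_pow_eq_pow_sum]

end Groth.Agent.CAlg6.TruncPoly
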