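import Groth.Agent.CAlg6.TrigSplitEtale
import Groth.Agent.Comod33.IdentityComp
import Groth.Agent.Comod33.LieKolchin
import Groth.Agent.Comod33.Socle
import Groth.Agent.Unip38.Reduced
import Groth.Agent.S3266
import Groth.Agent.S3267
import Groth.Agent.S7967
import Groth.Agent.S5432
import Groth.Agent.CAlg5.GeomRegular
import Mathlib.FieldTheory.Galois.Infinite

/-!
Lifting of a smooth connected unipotent quotient of an affine group with multiplicative kernel.
-/

universe u

set_option maxHeartbeats 1000000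
set_option synthInstance.maxHeartbeats 100000

open TensorProduct WithConv

noncomputable section

namespace Groth.Agent.CAlg6.UniLift

open Groth.Agent.Comod33 Groth.Agent.CAlg6.TrigSplit

variable {k : Type u} [Field k]

/-- maps from unipotent groups to groups without primitive functions are trivial -/
theorem eq_smul_one_of_unipotent {B C : Type u} [CommRing B] [HopfAlgebra k B] [CommRing C] [HopfAlgebra k C]
    (hC : HopfRep.IsUnipotent k C) (hB : ∀ z : B, Diag.IsPrim (k := k) z → z = 0) (f : C →ₐc[k] B) (x : C) :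
    f x = CoalgebraStruct.counit (R := k) x • (1 : B) := by
  have key : ∀ n, ∀ x ∈ soc k C C n, f x = CoalgebraStruct.counit (R := k) x • (1 : B) := by
    intro n
    induction n with
    | zero => intro x hx; rw [show x = 0 from (Submodule.mem_bot k).1 hx]; simp
    | succ n ih =>
      intro x hx
      obtain ⟨y, hy⟩ := mem_soc_succ.1 hx
      have e : CoalgebraStruct.comul (R := k) x = (soc k C C n).subtype.rTensor C y + x ⊗ₜ[k] (1 : C) := by
        rw [hy]; exact (sub_add_cancel _ _).symm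
      obtain ⟨w, hw⟩ : ∃ w : B,
          TensorProduct.map (f : C →ₗ[k] B) (f : C →ₗ[k] B) ((soc k C C n).subtype.rTensor C y) =
            (1 : B) ⊗ₜ[k] w := by
        clear hy e
        induction y with
        | zero => exact ⟨0, by simp⟩
        | add p q hp hq =>
          obtain ⟨v, hv⟩ := hp
          obtain ⟨w, hw⟩ := hq
          exact ⟨v + w, by rw [map_add, map_add, hv, hw, tmul_add]⟩
        | tmul p q =>
          refine ⟨CoalgebraStruct.counit (R := k) (p : C) • f q, ?_⟩
          rw [LinearMap.rTensor_tmul, TensorProduct.map_tmul]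
          show f (p : C) ⊗ₜ[k] f q = _
          rw [ih p p.2, smul_tmul]
      have hΔ : CoalgebraStruct.comul (R := k) (f x) = (1 : B) ⊗ₜ[k] w + f x ⊗ₜ[k] (1 : B) := by
        rw [← CoalgHomClass.map_comp_comul_apply f x, e, map_add, hw, TensorProduct.map_tmul]
        show _ + f x ⊗ₜ[k] f (1 : C) = _
        rw [map_one]
      have hεw := congrArg (TensorProduct.lid k B) (Coalgebra.rTensor_counit_comul (R := k) (f x))
      rw [hΔ] at hεw
      simp only [map_add, LinearMap.rTensor_tmul, TensorProduct.lid_tmul, Bialgebra.counit_one, one_smul,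
        CoalgHomClass.counit_comp_apply] at hεw
      refine sub_eq_zero.1 (hB _ ?_)
      show CoalgebraStruct.comul (R := k) (f x - CoalgebraStruct.counit (R := k) x • (1 : B)) = _
      rw [map_sub, hΔ, map_smul, Bialgebra.comul_one, Algebra.TensorProduct.one_def, eq_sub_of_add_eq hεw,
        sub_tmul, tmul_sub, smul_tmul', smul_tmul]
      abel
  have hx : x ∈ ⨆ n, soc k C C n := by rw [iSup_soc_eq_top hC C]; trivial
  obtain ⟨n, hn⟩ := (Submodule.mem_iSup_of_directed _ soc_mono.directed_le).1 hx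
  exact key n x hn

/-- unipotent groups are trigonalizable -/
theorem isTrigonalizable_of_isUnipotent {C : Type u} [CommRing C] [Bialgebra k C] (hC : HopfRep.IsUnipotent k C) :
    HopfRep.IsTrigonalizable k C := by
  intro V _ _ _ hfin hV
  haveI := hfin
  haveI := hV.1
  obtain ⟨v, hv, hv0⟩ := exists_fixed_of_isUnipotent hC V
  have hsub : HopfRep.IsSubcomod (k := k) (A := C) (Submodule.span k {v}) := by
    intro w hw
    obtain ⟨c, rfl⟩ := Submodule.mem_span_singleton.1 hw
    refine ⟨(⟨c • v, Submodule.smul_mem _ c (Submodule.mem_span_singleton_self v)⟩ : Submodule.span k {v}) ⊗ₜ[k]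
      (1 : C), ?_⟩
    rw [LinearMap.rTensor_tmul, map_smul, show HopfRep.Comod.coact (k := k) (A := C) v = v ⊗ₜ[k] (1 : C) from hv,
      smul_tmul']
    rfl
  rcases hV.2 _ hsub with h | h
  · exact absurd (Submodule.span_singleton_eq_bot.1 h) hv0
  · rw [← finrank_top, ← h, finrank_span_singleton hv0]

/-- liftings over an algebraically closed field -/
theorem exists_lifting [IsAlgClosed k] {A C : Type u} [CommRing A] [HopfAlgebra k A] [Algebra.FiniteType k A]
    [CommRing C] [HopfAlgebra k C] [Algebra.FiniteType k C] [IsReduced C]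
    (hconn : ∀ e : C, IsIdempotentElem e → e = 0 ∨ e = 1) (hC : HopfRep.IsUnipotent k C)
    (ψ : C →ₐc[k] A) (hψ : Function.Injective ψ) (J : Ideal A) [J.IsHopfIdeal k]
    (hJ : J = Ideal.map (ψ : C →+* A) (RingHom.ker (Bialgebra.counitAlgHom k C)))
    (hH : HopfRep.IsDiagonalizable k (A ⧸ J)) :
    ∃ r : A →ₐc[k] C, r.comp ψ = BialgHom.id k C := by
  classical
  haveI : IsDomain C := Units.isDomain k hconn
  haveI : Coalgebra.IsCocomm k (A ⧸ J) := Diag.isCocomm_of_isDiagonalizable hH
  haveI : (nilradical A).IsHopfIdeal k := Unip38.isHopfIdeal_nilradical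
  let A₁ := A ⧸ nilradical A
  haveI : IsReduced A₁ := (Ideal.isRadical_iff_quotient_reduced _).1 (Ideal.radical_isRadical ⊥)
  haveI : Algebra.FiniteType k A₁ :=
    Algebra.FiniteType.of_surjective (Ideal.Quotient.mkₐ k (nilradical A)) Ideal.Quotient.mk_surjective
  haveI : IsNoetherianRing A₁ := Algebra.FiniteType.isNoetherianRing k A₁
  let π₁ : A →ₐc[k] A₁ := Bialgebra.Quotient.mkBialgHom (R := k) (nilradical A)
  obtain ⟨e, he, he1, hmin, hI⟩ := IdComp.exists_idem k A₁
  let I : Ideal A₁ := Ideal.span {1 - e}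
  haveI : I.IsHopfIdeal k := hI
  let G := A₁ ⧸ I
  haveI : Algebra.FiniteType k G :=
    Algebra.FiniteType.of_surjective (Ideal.Quotient.mkₐ k I) Ideal.Quotient.mk_surjective
  haveI : IsReduced G := by
    refine (Ideal.isRadical_iff_quotient_reduced _).1 ?_
    rintro x ⟨n, hn⟩
    obtain ⟨a, ha⟩ := Ideal.mem_span_singleton.1 hn
    have h0 : (x * e) ^ (n + 1) = 0 := by
      rw [mul_pow, pow_succ, pow_succ, ha]
      linear_combination (-(e ^ n) * a * x) * he.eq
    have hxe := IsReduced.eq_zero _ ⟨n + 1, h0⟩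
    exact Ideal.mem_span_singleton.2 ⟨x, by linear_combination hxe⟩
  have hGc : ∀ x : G, IsIdempotentElem x → x = 0 ∨ x = 1 := by
    intro x hx
    obtain ⟨y, rfl⟩ := Ideal.Quotient.mk_surjective x
    obtain ⟨a, ha⟩ := Ideal.mem_span_singleton.1 (Ideal.Quotient.eq.1 ((map_mul _ y y).trans hx.eq))
    have hf : IsIdempotentElem (y * e) := by
      show y * e * (y * e) = y * e
      linear_combination (e * e) * ha + (y - a * e) * he.eq
    have hme : Ideal.Quotient.mk I e = 1 := by
      rw [← map_one (Ideal.Quotient.mk I), eq_comm, Ideal.Quotient.eq]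
      exact Ideal.mem_span_singleton_self _
    have hy : Ideal.Quotient.mk I (y * e) = Ideal.Quotient.mk I y := by rw [map_mul, hme, mul_one]
    rcases IsIdempotentElem.iff_eq_zero_or_one.1 (hf.map (Bialgebra.counitAlgHom k A₁)) with h0 | h1
    · have h2 := hmin _ hf.one_sub (show Bialgebra.counitAlgHom k A₁ (1 - y * e) = 1 by
        rw [map_sub, map_one, h0, sub_zero])
      have h3 : y * e = 0 := by linear_combination (-1 : A₁) * h2 - y * he.eq
      exact Or.inl (by rw [← hy, h3, map_zero])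
    · have h2 := hmin _ hf h1
      have h3 : y * e = e := by linear_combination h2 - y * he.eq
      exact Or.inr (by rw [← hy, h3, hme])
  let π₂ : A₁ →ₐc[k] G := Bialgebra.Quotient.mkBialgHom (R := k) I
  let πG : A →ₐc[k] G := π₂.comp π₁
  have hπG : Function.Surjective πG := Ideal.Quotient.mk_surjective.comp Ideal.Quotient.mk_surjective
  let φ₁ : C →ₐc[k] A₁ := π₁.comp ψ
  have hφ₁ : Function.Injective φ₁ := by
    rw [injective_iff_map_eq_zero]
    intro c hc
    obtain ⟨n, hn⟩ : IsNilpotent (ψ c) := Ideal.Quotient.eq_zero_iff_mem.1 hc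
    refine (pow_eq_zero_iff' (n := n)).1 (hψ ?_) |>.1
    rw [map_pow, hn, map_zero]
  let φ₀ : C →ₐc[k] G := πG.comp ψ
  have hφ₀ : Function.Injective φ₀ := by
    rw [injective_iff_map_eq_zero]
    intro c hc
    obtain ⟨a, ha⟩ := Ideal.mem_span_singleton.1 (Ideal.Quotient.eq_zero_iff_mem.1 hc : φ₁ c ∈ I)
    by_contra hc0
    letI : Algebra C A₁ := (φ₁ : C →+* A₁).toAlgebra
    haveI : Module.FaithfullyFlat C A₁ := HopfFlat.faithfullyFlat_of_injective φ₁ hφ₁
    have hinj := Module.Flat.rTensor_preserves_injective_linearMap (R := C) (M := A₁)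
      (LinearMap.mulLeft C c) (fun s t h => mul_left_cancel₀ hc0 h)
    have he0 : ((1 : C) ⊗ₜ[C] e : C ⊗[C] A₁) = (1 : C) ⊗ₜ[C] (0 : A₁) := by
      refine hinj ?_
      rw [LinearMap.rTensor_tmul, LinearMap.rTensor_tmul, LinearMap.mulLeft_apply, mul_one, tmul_zero]
      apply (TensorProduct.lid C A₁).injective
      rw [TensorProduct.lid_tmul, map_zero]
      show φ₁ c * e = 0
      rw [ha]
      linear_combination (-a) * he.eq
    have he00 : e = 0 := by simpa using congrArg (TensorProduct.lid C A₁) he0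
    rw [he00, map_zero] at he1
    exact zero_ne_one he1
  -- the points of the component form a solvable group
  have hker : ∀ x y : G →ₐ[k] k, x.comp (φ₀ : C →ₐ[k] G) = Bialgebra.counitAlgHom k C →
      y.comp (φ₀ : C →ₐ[k] G) = Bialgebra.counitAlgHom k C →
      toConv x * toConv y = toConv y * toConv x := by
    intro x y hx hy
    have hxJ : ∀ z : G →ₐ[k] k, z.comp (φ₀ : C →ₐ[k] G) = Bialgebra.counitAlgHom k C →
        ∀ a ∈ J, z (πG a) = 0 := fun z hz a ha => by
      refine (Ideal.map_le_iff_le_comap.2 ?_ : Ideal.map (ψ : C →+* A) _ ≤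
        RingHom.ker (z.comp (πG : A →ₐ[k] G))) (hJ ▸ ha)
      intro c hc
      rw [Ideal.mem_comap, RingHom.mem_ker]
      exact (DFunLike.congr_fun hz c).trans hc
    let x' := Ideal.Quotient.liftₐ J (x.comp (πG : A →ₐ[k] G)) (hxJ x hx)
    let y' := Ideal.Quotient.liftₐ J (y.comp (πG : A →ₐ[k] G)) (hxJ y hy)
    refine WithConv.ofConv_injective (AlgHom.ext fun g => ?_)
    obtain ⟨a, rfl⟩ := hπG g
    have key : ∀ z z' : G →ₐ[k] k, ∀ zq zq' : A ⧸ J →ₐ[k] k,
        (∀ b, zq (Ideal.Quotient.mk J b) = z (πG b)) → (∀ b, zq' (Ideal.Quotient.mk J b) = z' (πG b)) →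
        (toConv z * toConv z').ofConv (πG a) = LinearMap.mul' k k (TensorProduct.map zq.toLinearMap zq'.toLinearMap
          (CoalgebraStruct.comul (R := k) (Ideal.Quotient.mk J a))) := by
      intro z z' zq zq' h h'
      rw [show CoalgebraStruct.comul (R := k) (Ideal.Quotient.mk J a) =
        TensorProduct.map (Ideal.Quotient.mkₐ k J).toLinearMap (Ideal.Quotient.mkₐ k J).toLinearMap
          (CoalgebraStruct.comul (R := k) a) from rfl,
        AlgHom.convMul_apply, ← CoalgHomClass.map_comp_comul_apply πG a]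
      generalize CoalgebraStruct.comul (R := k) a = w
      induction w with
      | zero => simp
      | add p q hp hq => simp only [map_add, hp, hq]
      | tmul p q => simp [h, h']
    rw [key x y x' y' (fun _ => rfl) (fun _ => rfl), key y x y' x' (fun _ => rfl) (fun _ => rfl)]
    conv_lhs => rw [← Coalgebra.comm_comul k (Ideal.Quotient.mk J a)]
    generalize CoalgebraStruct.comul (R := k) (Ideal.Quotient.mk J a) = w
    induction w with
    | zero => simp
    | add p q hp hq => simp only [map_add, hp, hq]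
    | tmul p q => simp [mul_comm]
  haveI : Group.IsSolvable (WithConv (G →ₐ[k] k)) := by
    haveI : Group.IsSolvable (WithConv (C →ₐ[k] k)) :=
      Groth.Agent.S3267.result k C (isTrigonalizable_of_isUnipotent hC)
    let θ : WithConv (G →ₐ[k] k) →* WithConv (C →ₐ[k] k) :=
      MonoidHom.mk' (fun x : WithConv (G →ₐ[k] k) => toConv (x.ofConv.comp (φ₀ : C →ₐ[k] G)))
        (fun x y => WithConv.ofConv_injective (AlgHom.convMul_comp_bialgHom_distrib x y φ₀))
    haveI : Group.IsSolvable (θ.ker : Subgroup (WithConv (G →ₐ[k] k))) := by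
      refine Group.isSolvable_of_comm fun x y => Subtype.ext ?_
      have h : ∀ z : WithConv (G →ₐ[k] k), z ∈ θ.ker → z.ofConv.comp (φ₀ : C →ₐ[k] G) =
          Bialgebra.counitAlgHom k C := fun z hz => by
        have hz' : toConv (z.ofConv.comp (φ₀ : C →ₐ[k] G)) = (1 : WithConv (C →ₐ[k] k)) := MonoidHom.mem_ker.1 hz
        refine (congrArg WithConv.ofConv hz').trans ?_
        ext c
        simp [AlgHom.convOne_def]
      exact hker _ _ (h x.1 x.2) (h y.1 y.2)
    exact Group.isSolvable_of_ker_le_range θ.ker.subtype θ (by rw [Subgroup.range_subtype])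
  have hT : HopfRep.IsTrigonalizable k G := Groth.Agent.S3266.result k G hGc
  obtain ⟨B, _, _, ψB, J', hJ'i, hψB, hBd, hJ', hD⟩ := (Groth.Agent.S7967.result k G).1 hT
  haveI := hJ'i
  obtain ⟨rB, hrB⟩ := exists_splitting hBd hψB J' hJ' hD
  obtain ⟨el, -, hel⟩ := exists_split_hom ψB rB hrB J' hJ'
  haveI : Algebra.FiniteType k (G ⧸ J') :=
    Algebra.FiniteType.of_surjective (Ideal.Quotient.mkₐ k J') Ideal.Quotient.mk_surjective
  let p : G →ₐc[k] G ⧸ J' := Bialgebra.Quotient.mkBialgHom (R := k) J'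
  let φ : C →ₐc[k] G ⧸ J' := p.comp φ₀
  have htriv : ∀ c, rB (φ₀ c) = CoalgebraStruct.counit (R := k) c • (1 : B) := fun c =>
    eq_smul_one_of_unipotent hC (fun z hz => Diag.no_prim_of_isDiagonalizable hBd hz) (rB.comp φ₀) c
  have hφ : Function.Injective φ := by
    rw [injective_iff_map_eq_zero]
    intro c hc
    refine (injective_iff_map_eq_zero φ₀).1 hφ₀ c ?_
    have e1 : φ₀ c = el (p (φ₀ c)) := by
      conv_lhs => rw [← hel (φ₀ c), ← CoalgHomClass.map_comp_comul_apply φ₀ c]
      have h3 := congrArg (fun z => el (p (φ₀ (TensorProduct.lid k C z))))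
        (Coalgebra.rTensor_counit_comul (R := k) c)
      simp only [TensorProduct.lid_tmul, one_smul] at h3
      rw [← h3]
      generalize CoalgebraStruct.comul (R := k) c = w
      induction w with
      | zero => simp
      | add s t hs ht => simp only [map_add, hs, ht]
      | tmul s t =>
        simp only [TensorProduct.map_tmul, LinearMap.mul'_apply, LinearMap.rTensor_tmul, TensorProduct.lid_tmul,
          map_smul, AlgHom.toLinearMap_apply, AlgHom.comp_apply]
        show ψB (rB (φ₀ s)) * el (p (φ₀ t)) = _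
        rw [htriv, map_smul, map_one, smul_one_mul]
    rw [e1, show p (φ₀ c) = 0 from hc, map_zero]
  have hφs : Function.Surjective φ := by
    let K : Ideal (G ⧸ J') := Ideal.map (φ : C →+* G ⧸ J') (RingHom.ker (Bialgebra.counitAlgHom k C))
    haveI : K.IsHopfIdeal k := Unip38.isHopfIdeal_map_aug φ
    let q : (G ⧸ J') →ₐc[k] (G ⧸ J') ⧸ K := Bialgebra.Quotient.mkBialgHom (R := k) K
    have hQd : HopfRep.IsDiagonalizable k ((G ⧸ J') ⧸ K) := by
      obtain ⟨f, hf⟩ := Unip38.exists_bialgHom_factor (Bialgebra.Quotient.mkBialgHom (R := k) J)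
        Ideal.Quotient.mk_surjective (q.comp (p.comp πG)) fun a ha => by
          have ha' : a ∈ J := Ideal.Quotient.eq_zero_iff_mem.1 ha
          refine (Ideal.map_le_iff_le_comap.2 ?_ : Ideal.map (ψ : C →+* A) _ ≤
            RingHom.ker (q.comp (p.comp πG) : A →ₐ[k] (G ⧸ J') ⧸ K)) (hJ ▸ ha')
          intro c hc
          rw [Ideal.mem_comap, RingHom.mem_ker]
          exact Ideal.Quotient.eq_zero_iff_mem.2 (Ideal.mem_map_of_mem (φ : C →+* G ⧸ J') hc)
      rw [HopfRep.IsDiagonalizable, eq_top_iff]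
      rintro z -
      obtain ⟨w, rfl⟩ := Ideal.Quotient.mk_surjective z
      obtain ⟨g, rfl⟩ := Ideal.Quotient.mk_surjective w
      obtain ⟨a, rfl⟩ := hπG g
      show q (p (πG a)) ∈ _
      rw [show q (p (πG a)) = f (Ideal.Quotient.mk J a) from (hf a).symm]
      generalize Ideal.Quotient.mk J a = w
      induction (hH.ge (Submodule.mem_top (x := w))) using Submodule.span_induction with
      | mem x hx => exact Submodule.subset_span ((hx : IsGroupLikeElem k x).map f)
      | zero => rw [map_zero]; exact zero_mem _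
      | add s t _ _ hs ht => rw [map_add]; exact add_mem hs ht
      | smul c s _ hs => rw [map_smul]; exact Submodule.smul_mem _ c hs
    have hq : ∀ d, q d = CoalgebraStruct.counit (R := k) d • (1 : (G ⧸ J') ⧸ K) :=
      eq_smul_one_of_unipotent hD (fun z hz => Diag.no_prim_of_isDiagonalizable hQd hz) q
    obtain ⟨r₀, hr₀, hr₁⟩ := Quot.exists_linear_retraction φ hφ
    intro d
    refine ⟨r₀ d, Quot.mem_range_of_coinvariant φ r₀ q Ideal.mk_ker hr₀ hr₁ Ideal.Quotient.mk_surjective ?_⟩
    have h2 := congrArg (fun z => TensorProduct.rid k (G ⧸ J') z) (Coalgebra.lTensor_counit_comul (R := k) d)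
    simp only [TensorProduct.rid_tmul, one_smul] at h2
    conv_rhs => rw [← h2]
    generalize CoalgebraStruct.comul (R := k) d = w
    induction w with
    | zero => simp
    | add s t hs ht => simp only [map_add, add_tmul, hs, ht]
    | tmul s t =>
      rw [LinearMap.lTensor_tmul, LinearMap.lTensor_tmul, TensorProduct.rid_tmul]
      show s ⊗ₜ[k] q t = _
      rw [hq, tmul_smul, smul_tmul']
  let E : C ≃ₐc[k] G ⧸ J' := BialgEquiv.ofBijective φ ⟨hφ, hφs⟩
  refine ⟨(E.symm : G ⧸ J' →ₐc[k] C).comp (p.comp πG), BialgHom.ext fun c => ?_⟩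
  show E.symm (φ c) = c
  exact E.symm_apply_apply c

/-- liftings are unique -/
theorem lifting_unique {A C : Type u} [CommRing A] [HopfAlgebra k A] [CommRing C] [HopfAlgebra k C]
    [Algebra.FiniteType k C] [Algebra.FormallySmooth k C] (hconn : ∀ e : C, IsIdempotentElem e → e = 0 ∨ e = 1)
    (hC : HopfRep.IsUnipotent k C) (ψ : C →ₐc[k] A) (J : Ideal A) [J.IsHopfIdeal k]
    (hJ : J = Ideal.map (ψ : C →+* A) (RingHom.ker (Bialgebra.counitAlgHom k C)))
    (hH : SGA3b.IsMultTypeConst k (A ⧸ J)) {r₁ r₂ : A →ₐc[k] C}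
    (h₁ : r₁.comp ψ = BialgHom.id k C) (h₂ : r₂.comp ψ = BialgHom.id k C) : r₁ = r₂ := by
  let d : WithConv (A →ₐ[k] C) := toConv (r₁ : A →ₐ[k] C) * (toConv (r₂ : A →ₐ[k] C))⁻¹
  have hdψ : ∀ c, d.ofConv (ψ c) = algebraMap k C (CoalgebraStruct.counit (R := k) c) := by
    intro c
    have e₁ : toConv (d.ofConv.comp (ψ : C →ₐ[k] A)) * toConv ((r₂ : A →ₐ[k] C).comp (ψ : C →ₐ[k] A)) =
        toConv ((r₁ : A →ₐ[k] C).comp (ψ : C →ₐ[k] A)) := by
      refine WithConv.ofConv_injective ?_
      have h := AlgHom.convMul_comp_bialgHom_distrib d (toConv (r₂ : A →ₐ[k] C)) ψ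
      rw [inv_mul_cancel_right] at h
      exact h.symm
    rw [show (r₂ : A →ₐ[k] C).comp (ψ : C →ₐ[k] A) = AlgHom.id k C from
      AlgHom.ext fun x => DFunLike.congr_fun h₂ x,
      show (r₁ : A →ₐ[k] C).comp (ψ : C →ₐ[k] A) = AlgHom.id k C from
      AlgHom.ext fun x => DFunLike.congr_fun h₁ x, mul_eq_right] at e₁
    have h := congrArg (fun f : WithConv (C →ₐ[k] C) => f.ofConv c) e₁
    simpa [AlgHom.convOne_def] using h
  have hdJ : ∀ a ∈ J, d.ofConv a = 0 := fun a ha => by
    refine (Ideal.map_le_iff_le_comap.2 ?_ : Ideal.map (ψ : C →+* A) _ ≤ RingHom.ker d.ofConv) (hJ ▸ ha)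
    intro c hc
    rw [Ideal.mem_comap, RingHom.mem_ker]
    show d.ofConv (ψ c) = 0
    rw [hdψ, show CoalgebraStruct.counit (R := k) c = 0 from hc, map_zero]
  have hd : d = 1 := by
    refine WithConv.ofConv_injective (AlgHom.ext fun a => ?_)
    have h := Groth.Agent.S5432.result k C (A ⧸ J) hconn hC hH (Ideal.Quotient.liftₐ J d.ofConv hdJ)
      (Ideal.Quotient.mk J a)
    have he : Bialgebra.counitAlgHom k C (d.ofConv a) = CoalgebraStruct.counit (R := k) a := by
      have hm := AlgHom.comp_convMul_distrib (Bialgebra.counitAlgHom k C) (toConv (r₁ : A →ₐ[k] C))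
        (toConv (r₂ : A →ₐ[k] C))⁻¹
      have h' : (Bialgebra.counitAlgHom k C).comp d.ofConv = Bialgebra.counitAlgHom k A := by
        have hr : ∀ r : A →ₐc[k] C, (Bialgebra.counitAlgHom k C).comp (r : A →ₐ[k] C) =
            Bialgebra.counitAlgHom k A := fun r => AlgHom.ext fun x => CoalgHomClass.counit_comp_apply r x
        have hm2 := AlgHom.comp_convMul_distrib (Bialgebra.counitAlgHom k C) d (toConv (r₂ : A →ₐ[k] C))
        rw [show d * toConv (r₂ : A →ₐ[k] C) = toConv (r₁ : A →ₐ[k] C) from inv_mul_cancel_right _ _] at hm2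
        change (Bialgebra.counitAlgHom k C).comp (r₁ : A →ₐ[k] C) = _ at hm2
        have h1 : toConv (Bialgebra.counitAlgHom k A) = (1 : WithConv (A →ₐ[k] k)) :=
          WithConv.ofConv_injective (AlgHom.ext fun x => by simp [AlgHom.convOne_def])
        rw [hr, WithConv.ofConv_toConv, hr] at hm2
        have hm3 : toConv (Bialgebra.counitAlgHom k A) = toConv ((Bialgebra.counitAlgHom k C).comp d.ofConv) *
            toConv (Bialgebra.counitAlgHom k A) := WithConv.ofConv_injective hm2
        rw [h1, mul_one] at hm3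
        exact (congrArg WithConv.ofConv hm3).symm.trans (congrArg WithConv.ofConv h1).symm
      exact DFunLike.congr_fun h' a
    change d.ofConv a = algebraMap k C (Bialgebra.counitAlgHom k C (d.ofConv a)) at h
    rw [h, he]
    simp [AlgHom.convOne_def]
  have hr := inv_mul_cancel_right (toConv (r₁ : A →ₐ[k] C)) (toConv (r₂ : A →ₐ[k] C))
  change d * _ = _ at hr
  rw [hd, one_mul] at hr
  exact BialgHom.ext fun a => (congrArg (fun f : WithConv (A →ₐ[k] C) => f.ofConv a) hr).symm

section Descent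

variable {K : Type u} [Field K] [Algebra k K] {A C : Type u} [CommRing A] [Bialgebra k A] [CommRing C] [Bialgebra k C]

theorem collapse_emb (τ : K →ₐ[k] K) (X Y : K ⊗[k] C) :
    Diag.collapse (MultQuot.emb C τ X ⊗ₜ[K] MultQuot.emb C τ Y) =
      τ.toLinearMap.rTensor (C ⊗[k] C) (Diag.collapse (X ⊗ₜ[K] Y)) := by
  induction X with
  | zero => simp
  | add p q hp hq => simp only [map_add, add_tmul, hp, hq]
  | tmul c a =>
    induction Y with
    | zero => simp
    | add p q hp hq => simp only [map_add, tmul_add, hp, hq]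
    | tmul c' a' => simp [MultQuot.emb_tmul, Diag.collapse, map_mul]

theorem comul_emb (τ : K →ₐ[k] K) (z : K ⊗[k] C) :
    Diag.collapse (CoalgebraStruct.comul (R := K) (MultQuot.emb C τ z)) =
      τ.toLinearMap.rTensor (C ⊗[k] C) (Diag.collapse (CoalgebraStruct.comul (R := K) z)) := by
  rw [Diag.collapse_comul, Diag.collapse_comul]
  induction z with
  | zero => simp
  | add p q hp hq => simp only [map_add, hp, hq]
  | tmul c a => simp [MultQuot.emb_tmul]

theorem comul_one_tmul (a : A) :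
    CoalgebraStruct.comul (R := K) ((1 : K) ⊗ₜ[k] a) =
      Diag.collapse.symm ((1 : K) ⊗ₜ[k] CoalgebraStruct.comul (R := k) a) := by
  rw [LinearEquiv.eq_symm_apply, Diag.collapse_comul, LinearMap.lTensor_tmul]

/-- the conjugate of a bialgebra map by an automorphism of the field -/
theorem exists_twist (σ : K ≃ₐ[k] K) (r : K ⊗[k] A →ₐc[K] K ⊗[k] C) :
    ∃ r' : K ⊗[k] A →ₐc[K] K ⊗[k] C,
      ∀ a, r' ((1 : K) ⊗ₜ[k] a) = MultQuot.emb C σ.toAlgHom (r ((1 : K) ⊗ₜ[k] a)) := by
  let f : A →ₐ[k] K ⊗[k] C := (MultQuot.emb C σ.toAlgHom).comp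
    (((r : K ⊗[k] A →ₐ[K] K ⊗[k] C).restrictScalars k).comp Algebra.TensorProduct.includeRight)
  let T : K ⊗[k] A →ₐ[K] K ⊗[k] C :=
    Algebra.TensorProduct.lift (Algebra.ofId K _) f fun _ _ => Commute.all _ _
  have hT : ∀ a, T ((1 : K) ⊗ₜ[k] a) = MultQuot.emb C σ.toAlgHom (r ((1 : K) ⊗ₜ[k] a)) := fun a => by
    rw [Algebra.TensorProduct.lift_tmul, map_one, one_mul]; rfl
  refine ⟨BialgHom.ofAlgHom T ?_ ?_, hT⟩
  · refine Algebra.TensorProduct.ext (Subsingleton.elim _ _) (AlgHom.ext fun a => ?_)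
    show CoalgebraStruct.counit (R := K) (T ((1 : K) ⊗ₜ[k] a)) = CoalgebraStruct.counit (R := K) ((1 : K) ⊗ₜ[k] a)
    rw [hT, MultQuot.counit_emb, CoalgHomClass.counit_comp_apply, TensorProduct.counit_tmul, map_smul]
    simp
  · refine Algebra.TensorProduct.ext (Subsingleton.elim _ _) (AlgHom.ext fun a => ?_)
    show Algebra.TensorProduct.map T T (CoalgebraStruct.comul (R := K) ((1 : K) ⊗ₜ[k] a)) =
      CoalgebraStruct.comul (R := K) (T ((1 : K) ⊗ₜ[k] a))
    apply Diag.collapse.injective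
    rw [hT, comul_emb, ← CoalgHomClass.map_comp_comul_apply r, comul_one_tmul]
    generalize CoalgebraStruct.comul (R := k) a = w
    induction w with
    | zero => simp
    | add p q hp hq => simp only [map_add, tmul_add, hp, hq]
    | tmul p q =>
      rw [show Diag.collapse.symm ((1 : K) ⊗ₜ[k] (p ⊗ₜ[k] q)) = ((1 : K) ⊗ₜ[k] p) ⊗ₜ[K] ((1 : K) ⊗ₜ[k] q) by
        simp [Diag.collapse], Algebra.TensorProduct.map_tmul, hT, hT, collapse_emb]
      rfl

/-- a bialgebra map fixed by all automorphisms is defined over the base -/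
theorem exists_descent [IsGalois k K] (r : K ⊗[k] A →ₐc[K] K ⊗[k] C)
    (h : ∀ (σ : K ≃ₐ[k] K) (a : A), MultQuot.emb C σ.toAlgHom (r ((1 : K) ⊗ₜ[k] a)) = r ((1 : K) ⊗ₜ[k] a)) :
    ∃ r₀ : A →ₐc[k] C, ∀ a, r ((1 : K) ⊗ₜ[k] a) = (1 : K) ⊗ₜ[k] r₀ a := by
  classical
  have hmem : ∀ a, ∃ c, r ((1 : K) ⊗ₜ[k] a) = (1 : K) ⊗ₜ[k] c := by
    intro a
    let b := Module.Free.chooseBasis k C
    let v := TensorProduct.equivFinsuppOfBasisRight b (r ((1 : K) ⊗ₜ[k] a))
    have hfix : ∀ i, v i ∈ Set.range (algebraMap k K) := by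
      intro i
      rw [InfiniteGalois.mem_range_algebraMap_iff_fixed]
      intro σ
      have key : ∀ z : K ⊗[k] C, TensorProduct.equivFinsuppOfBasisRight b (MultQuot.emb C σ.toAlgHom z) i =
          σ (TensorProduct.equivFinsuppOfBasisRight b z i) := by
        intro z
        induction z with
        | zero => simp
        | add p q hp hq => simp only [map_add, Finsupp.add_apply, hp, hq]
        | tmul c x => simp [MultQuot.emb_tmul, TensorProduct.equivFinsuppOfBasisRight_apply_tmul_apply, map_smul]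
      show σ (v i) = v i
      rw [← key, h]
    choose c hc using hfix
    refine ⟨∑ i ∈ v.support, c i • b i, ?_⟩
    conv_lhs => rw [← (TensorProduct.equivFinsuppOfBasisRight b).symm_apply_apply (r ((1 : K) ⊗ₜ[k] a)),
      TensorProduct.equivFinsuppOfBasisRight_symm_apply, Finsupp.sum]
    rw [tmul_sum]
    refine Finset.sum_congr rfl fun i _ => ?_
    rw [tmul_smul, smul_tmul', ← Algebra.algebraMap_eq_smul_one, hc]
  choose f hf using hmem
  have hinj := Diag.tmul_one_injective (k := k) (K := K) (A := C)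
  have hinj2 : Function.Injective fun w : C ⊗[k] C => (1 : K) ⊗ₜ[k] w :=
    Algebra.TensorProduct.includeRight_injective (algebraMap k K).injective
  let f₀ : A →ₐ[k] C :=
    { toFun := f
      map_one' := hinj (show (1 : K) ⊗ₜ[k] f 1 = (1 : K) ⊗ₜ[k] 1 by
        rw [← hf, ← Algebra.TensorProduct.one_def, map_one, Algebra.TensorProduct.one_def])
      map_mul' := fun a b => hinj (show (1 : K) ⊗ₜ[k] f (a * b) = (1 : K) ⊗ₜ[k] (f a * f b) by
        rw [← hf, ← one_mul (1 : K), ← Algebra.TensorProduct.tmul_mul_tmul, map_mul, hf, hf,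
          Algebra.TensorProduct.tmul_mul_tmul])
      map_zero' := hinj (show (1 : K) ⊗ₜ[k] f 0 = (1 : K) ⊗ₜ[k] 0 by rw [← hf, tmul_zero, map_zero, tmul_zero])
      map_add' := fun a b => hinj (show (1 : K) ⊗ₜ[k] f (a + b) = (1 : K) ⊗ₜ[k] (f a + f b) by
        rw [← hf, tmul_add, map_add, hf, hf, tmul_add])
      commutes' := fun c => hinj (show (1 : K) ⊗ₜ[k] f (algebraMap k A c) = (1 : K) ⊗ₜ[k] algebraMap k C c by
        rw [← hf, Algebra.algebraMap_eq_smul_one, Algebra.algebraMap_eq_smul_one, tmul_smul, tmul_smul,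
          ← algebraMap_smul K c, map_smul, ← Algebra.TensorProduct.one_def, map_one,
          Algebra.TensorProduct.one_def, algebraMap_smul]) }
  refine ⟨BialgHom.ofAlgHom f₀ (AlgHom.ext fun a => ?_) (AlgHom.ext fun a => ?_), hf⟩
  · refine (algebraMap k K).injective ?_
    have h1 := CoalgHomClass.counit_comp_apply r ((1 : K) ⊗ₜ[k] a)
    rw [hf, TensorProduct.counit_tmul, TensorProduct.counit_tmul] at h1
    show algebraMap k K (CoalgebraStruct.counit (R := k) (f a)) = algebraMap k K (CoalgebraStruct.counit (R := k) a)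
    simpa [Algebra.smul_def] using h1
  · refine hinj2 ?_
    show (1 : K) ⊗ₜ[k] Algebra.TensorProduct.map f₀ f₀ (CoalgebraStruct.comul (R := k) a) =
      (1 : K) ⊗ₜ[k] CoalgebraStruct.comul (R := k) (f a)
    have h1 := congrArg Diag.collapse (CoalgHomClass.map_comp_comul_apply r ((1 : K) ⊗ₜ[k] a))
    rw [hf, comul_one_tmul, comul_one_tmul, LinearEquiv.apply_symm_apply] at h1
    rw [← h1]
    generalize CoalgebraStruct.comul (R := k) a = w
    induction w with
    | zero => simp
    | add p q hp hq => simp only [map_add, tmul_add, hp, hq]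
    | tmul p q =>
      rw [show Diag.collapse.symm ((1 : K) ⊗ₜ[k] (p ⊗ₜ[k] q)) = ((1 : K) ⊗ₜ[k] p) ⊗ₜ[K] ((1 : K) ⊗ₜ[k] q) by
        simp [Diag.collapse], TensorProduct.map_tmul]
      show _ = Diag.collapse (r _ ⊗ₜ[K] r _)
      rw [hf, hf]
      simp [Diag.collapse, f₀]

end Descent

/-- over a perfect field there is exactly one lifting -/
theorem existsUnique_lifting [PerfectField k] {A C : Type u} [CommRing A] [HopfAlgebra k A] [Algebra.FiniteType k A]
    [CommRing C] [HopfAlgebra k C] [Algebra.FiniteType k C] [Algebra.FormallySmooth k C]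
    (hC : HopfRep.IsUnipotent k C) (ψ : C →ₐc[k] A) (hψ : Function.Injective ψ) (J : Ideal A) [J.IsHopfIdeal k]
    (hJ : J = Ideal.map (ψ : C →+* A) (RingHom.ker (Bialgebra.counitAlgHom k C)))
    (hH : SGA3b.IsMultTypeConst k (A ⧸ J)) (hU : ∀ e : C, IsIdempotentElem e → e = 0 ∨ e = 1) :
    ∃! r : A →ₐc[k] C, r.comp ψ = BialgHom.id k C := by
  classical
  let K := AlgebraicClosure k
  haveI : IsGalois k K := ⟨⟩
  haveI : IsNoetherianRing C := Algebra.FiniteType.isNoetherianRing k C
  haveI : Algebra.Smooth k C := ⟨inferInstance, Algebra.FinitePresentation.of_finiteType.1 inferInstance⟩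
  haveI : IsReduced (K ⊗[k] C) := CAlg5.isReduced_of_smooth (A := K)
  have hUK : ∀ x : K ⊗[k] C, IsIdempotentElem x → x = 0 ∨ x = 1 :=
    DimOne.isIdempotentElem_baseChange (Bialgebra.counitAlgHom k C) K hU
  haveI : Algebra.FiniteType k (A ⧸ J) :=
    Algebra.FiniteType.of_surjective (Ideal.Quotient.mkₐ k J) Ideal.Quotient.mk_surjective
  have hψK : Function.Injective (Bialgebra.TensorProduct.map (BialgHom.id K K) ψ : K ⊗[k] C →ₐc[K] K ⊗[k] A) :=
    Module.Flat.lTensor_preserves_injective_linearMap (M := K) (ψ : C →ₗ[k] A) hψ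
  let ψ' : K ⊗[k] C →ₐc[K] K ⊗[k] A := Bialgebra.TensorProduct.map (BialgHom.id K K) ψ
  let π := Bialgebra.TensorProduct.map (BialgHom.id K K) (Bialgebra.Quotient.mkBialgHom (R := k) J)
  let J' : Ideal (K ⊗[k] A) :=
    Ideal.map (ψ' : K ⊗[k] C →+* K ⊗[k] A) (RingHom.ker (Bialgebra.counitAlgHom K (K ⊗[k] C)))
  haveI : J'.IsHopfIdeal K := Unip38.isHopfIdeal_map_aug ψ'
  have hle : RingHom.ker (π : K ⊗[k] A →ₐ[K] K ⊗[k] (A ⧸ J)) ≤ J' := by
    rw [MultQuot.ker_mk K J, Ideal.map_le_iff_le_comap, hJ, Ideal.map_le_iff_le_comap]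
    intro b hb
    rw [Ideal.mem_comap, Ideal.mem_comap]
    refine Ideal.mem_map_of_mem (ψ' : K ⊗[k] C →+* K ⊗[k] A) (x := (1 : K) ⊗ₜ[k] b) ?_
    show CoalgebraStruct.counit (R := K) ((1 : K) ⊗ₜ[k] b) = 0
    rw [TensorProduct.counit_tmul, show CoalgebraStruct.counit (R := k) b = 0 from hb, zero_smul]
  have hHK : HopfRep.IsDiagonalizable K ((K ⊗[k] A) ⧸ J') := by
    obtain ⟨f, hf⟩ := Unip38.exists_bialgHom_factor π (MultQuot.surjective_mk K J)
      (Bialgebra.Quotient.mkBialgHom (R := K) J') fun a ha => Ideal.Quotient.eq_zero_iff_mem.2 (hle ha)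
    rw [HopfRep.IsDiagonalizable, eq_top_iff]
    rintro z -
    obtain ⟨w, rfl⟩ := Ideal.Quotient.mk_surjective z
    show Bialgebra.Quotient.mkBialgHom (R := K) J' w ∈ _
    rw [← hf]
    generalize π w = v
    induction ((isDiagonalizable_bc_of_isMultTypeConst hH K).ge (Submodule.mem_top (x := v)))
        using Submodule.span_induction with
    | mem x hx => exact Submodule.subset_span ((hx : IsGroupLikeElem K x).map f)
    | zero => rw [map_zero]; exact zero_mem _
    | add s t _ _ hs ht => rw [map_add]; exact add_mem hs ht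
    | smul c s _ hs => rw [map_smul]; exact Submodule.smul_mem _ c hs
  have hHK' : SGA3b.IsMultTypeConst K ((K ⊗[k] A) ⧸ J') := by
    refine ⟨K, inferInstance, inferInstance, inferInstance, Conil.isDiag_of_isDiagonalizable ?_⟩
    rw [HopfRep.IsDiagonalizable, eq_top_iff]
    rintro z -
    induction z with
    | zero => exact zero_mem _
    | add s t hs ht => exact add_mem hs ht
    | tmul c w =>
      rw [show c ⊗ₜ[K] w = c • ((1 : K) ⊗ₜ[K] w) by rw [smul_tmul', smul_eq_mul, mul_one]]
      refine Submodule.smul_mem _ c ?_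
      induction (hHK.ge (Submodule.mem_top (x := w))) using Submodule.span_induction with
      | mem x hx =>
        refine Submodule.subset_span ⟨?_, ?_⟩
        · rw [TensorProduct.counit_tmul, (hx : IsGroupLikeElem K x).counit_eq_one]; simp
        · apply Diag.collapse.injective
          rw [Diag.collapse_comul, LinearMap.lTensor_tmul, (hx : IsGroupLikeElem K x).comul_eq_tmul_self]
          simp [Diag.collapse]
      | zero => rw [tmul_zero]; exact zero_mem _
      | add s t _ _ hs ht => rw [tmul_add]; exact add_mem hs ht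
      | smul e s _ hs => rw [tmul_smul, ← algebraMap_smul K e]; exact Submodule.smul_mem _ _ hs
  have hCK := isUnipotent_baseChange hC K
  obtain ⟨r, hr⟩ := exists_lifting hUK hCK ψ' hψK J' rfl hHK
  have hrψ : ∀ w, r (ψ' w) = w := fun w => DFunLike.congr_fun hr w
  obtain ⟨r₀, hr₀⟩ := exists_descent r fun σ a => by
    obtain ⟨r', hr'⟩ := exists_twist σ r
    rw [← hr']
    refine DFunLike.congr_fun (lifting_unique hUK hCK ψ' J' rfl hHK' (r₁ := r') (r₂ := r) ?_ hr) _
    refine BialgHom.ext fun w => ?_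
    show r' (ψ' w) = w
    induction w with
    | zero => simp
    | add s t hs ht => simp only [map_add, hs, ht]
    | tmul c b =>
      rw [show c ⊗ₜ[k] b = c • ((1 : K) ⊗ₜ[k] b) by rw [smul_tmul', smul_eq_mul, mul_one], map_smul, map_smul,
        show ψ' ((1 : K) ⊗ₜ[k] b) = (1 : K) ⊗ₜ[k] ψ b from rfl, hr',
        show r ((1 : K) ⊗ₜ[k] ψ b) = (1 : K) ⊗ₜ[k] b from hrψ ((1 : K) ⊗ₜ[k] b), MultQuot.emb_tmul, map_one]
  refine ⟨r₀, BialgHom.ext fun b => Diag.tmul_one_injective (k := k) (K := K) ?_,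
    fun r' hr' => ?_⟩
  · show (1 : K) ⊗ₜ[k] r₀ (ψ b) = (1 : K) ⊗ₜ[k] b
    rw [← hr₀]
    exact hrψ ((1 : K) ⊗ₜ[k] b)
  · refine lifting_unique hU hC ψ J hJ hH hr' (BialgHom.ext fun b => Diag.tmul_one_injective (k := k) (K := K) ?_)
    show (1 : K) ⊗ₜ[k] r₀ (ψ b) = (1 : K) ⊗ₜ[k] b
    rw [← hr₀]
    exact hrψ ((1 : K) ⊗ₜ[k] b)

end Groth.Agent.CAlg6.UniLift
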