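import Groth.Agent.Fam20.UnibranchOpen
import Groth.Prelude.Def_EGA43

/-! Openness at one point over a unibranch point. -/

universe u

open Polynomial Topology

namespace Groth.Agent.CAlg6.UnibranchOpen

/-- the integral closure of the reduction of a unibranch ring is local -/
theorem isLocalRing_integralClosure {R L : Type u} [CommRing R] [IsLocalRing R] (hR : CAlg2.IsUnibranch R)
    [CommRing L] [IsDomain L] (φ : R →+* L) (hφ : Function.Surjective φ) (hker : RingHom.ker φ ≤ nilradical R)
    (K : Type u) [Field K] [Algebra L K] [IsFractionRing L K] : IsLocalRing (integralClosure L K) := by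
  obtain ⟨hdom, hloc⟩ := hR
  let D := CAlg2.red R
  have hnil : nilradical R = RingHom.ker φ :=
    le_antisymm (fun x hx => RingHom.mem_ker.2 ((mem_nilradical.1 hx).map φ).eq_zero) hker
  let d : D ≃+* L := (Ideal.quotEquivOfEq hnil).trans (RingHom.quotientKerEquivOfSurjective hφ)
  let _ : Algebra D L := d.toRingHom.toAlgebra
  let _ : Algebra D K := ((algebraMap L K).comp d.toRingHom).toAlgebra
  have : IsScalarTower D L K := IsScalarTower.of_algebraMap_eq fun _ => rfl
  have hfrac : IsFractionRing D K := by
    refine IsFractionRing.of_ringEquiv_left (S := L) d ?_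
    intro x
    rfl
  let e : FractionRing D ≃ₐ[D] K := FractionRing.algEquiv D K
  let g : CAlg2.normRed R →+* integralClosure L K :=
    { toFun := fun y => ⟨e y.1, IsIntegral.tower_top (A := L) (y.2.map e.toAlgHom)⟩
      map_one' := Subtype.ext (map_one e)
      map_zero' := Subtype.ext (map_zero e)
      map_add' := fun a b => Subtype.ext (map_add e a.1 b.1)
      map_mul' := fun a b => Subtype.ext (map_mul e a.1 b.1) }
  refine IsLocalRing.of_surjective' g fun x => ?_
  have : Algebra.IsIntegral D L := ⟨fun z => by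
    obtain ⟨a, rfl⟩ := d.surjective z
    exact isIntegral_algebraMap⟩
  exact ⟨⟨e.symm x.1, (isIntegral_trans (R := D) (A := L) _ x.2).map e.symm.toAlgHom⟩,
    Subtype.ext (e.apply_symm_apply x.1)⟩

variable {A : Type u} [CommRing A] [IsDomain A]

/-- one point of the normalisation over a unibranch point -/
theorem fibre_unique (p : PrimeSpectrum A) (K : Type u) [Field K] [Algebra A K] [IsFractionRing A K]
    [Algebra (Localization.AtPrime p.asIdeal) K] [IsScalarTower A (Localization.AtPrime p.asIdeal) K]
    [IsLocalRing (integralClosure (Localization.AtPrime p.asIdeal) K)]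
    (n₁ n₂ : PrimeSpectrum (integralClosure A K))
    (h₁ : PrimeSpectrum.comap (algebraMap A (integralClosure A K)) n₁ = p)
    (h₂ : PrimeSpectrum.comap (algebraMap A (integralClosure A K)) n₂ = p) : n₁ = n₂ := by
  let Ap := Localization.AtPrime p.asIdeal
  let S := integralClosure Ap K
  let ι : integralClosure A K →+* S :=
    { toFun := fun y => ⟨y.1, IsIntegral.tower_top y.2⟩
      map_one' := rfl
      map_zero' := rfl
      map_add' := fun _ _ => rfl
      map_mul' := fun _ _ => rfl }
  suffices key : ∀ n : PrimeSpectrum (integralClosure A K),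
      PrimeSpectrum.comap (algebraMap A (integralClosure A K)) n = p →
      n.asIdeal = (IsLocalRing.maximalIdeal S).comap ι from
    PrimeSpectrum.ext ((key n₁ h₁).trans (key n₂ h₂).symm)
  intro n hn
  have hnp : n.asIdeal.comap (algebraMap A (integralClosure A K)) = p.asIdeal :=
    congrArg PrimeSpectrum.asIdeal hn
  let N : Ideal S :=
    { carrier := {z | ∃ s : A, s ∉ p.asIdeal ∧ ∃ a ∈ n.asIdeal, algebraMap A S s * z = ι a}
      add_mem' := by
        rintro z z' ⟨s, hs, a, ha, h⟩ ⟨s', hs', a', ha', h'⟩
        refine ⟨s * s', fun hss => (p.2.mem_or_mem hss).elim hs hs',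
          algebraMap A _ s' * a + algebraMap A _ s * a',
          add_mem (n.asIdeal.mul_mem_left _ ha) (n.asIdeal.mul_mem_left _ ha'), ?_⟩
        rw [map_add, map_mul ι, map_mul ι, ← h, ← h', map_mul,
          show ι (algebraMap A _ s) = algebraMap A S s from
            Subtype.ext (by rfl),
          show ι (algebraMap A _ s') = algebraMap A S s' from
            Subtype.ext (by rfl)]
        ring
      zero_mem' := ⟨1, fun h1 => p.2.ne_top ((Ideal.eq_top_iff_one _).2 h1), 0, zero_mem _,
        by simp⟩
      smul_mem' := by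
        rintro c z ⟨s, hs, a, ha, h⟩
        obtain ⟨⟨t, ht⟩, htc⟩ := IsIntegral.exists_multiple_integral_of_isLocalization
          p.asIdeal.primeCompl c.1 c.2
        refine ⟨t * s, fun hts => (p.2.mem_or_mem hts).elim ht hs, ⟨_, htc⟩ * a,
          n.asIdeal.mul_mem_left _ ha, ?_⟩
        rw [map_mul ι, ← h, map_mul, smul_eq_mul]
        have : ι ⟨_, htc⟩ = algebraMap A S t * c := Subtype.ext <| by
          show t • c.1 = _
          rw [Algebra.smul_def]
          rfl
        rw [this]
        ring }
  have hN : N ≠ ⊤ := fun h => by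
    obtain ⟨s, hs, a, ha, h1⟩ := (Ideal.eq_top_iff_one N).1 h
    rw [mul_one] at h1
    have ha' : a = algebraMap A _ s := Subtype.ext <| by
      have h2 := congrArg Subtype.val h1
      exact h2.symm
    exact hs (hnp.le (by rw [ha'] at ha; exact ha))
  have hnm : n.asIdeal ≤ (IsLocalRing.maximalIdeal S).comap ι := fun a ha =>
    IsLocalRing.le_maximalIdeal hN ⟨1, fun h1 => p.2.ne_top ((Ideal.eq_top_iff_one _).2 h1),
      a, ha, by simp⟩
  refine eq_of_le_of_not_lt hnm fun hlt => ?_
  have hmA : ((IsLocalRing.maximalIdeal S).comap (algebraMap Ap S)).IsMaximal :=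
    Ideal.isMaximal_comap_of_isIntegral_of_isMaximal _
  have hcon : ((IsLocalRing.maximalIdeal S).comap ι).comap (algebraMap A (integralClosure A K)) =
      p.asIdeal := by
    refine Eq.trans ?_ (Localization.AtPrime.under_maximalIdeal (I := p.asIdeal))
    rw [← IsLocalRing.eq_maximalIdeal hmA, Ideal.under_def, Ideal.comap_comap, Ideal.comap_comap]
    congr 1
    exact RingHom.ext fun a => Subtype.ext (IsScalarTower.algebraMap_apply A Ap K a)
  have hlt' := Ideal.IsIntegral.comap_lt_comap (R := A) hlt
  rw [hnp, hcon] at hlt'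
  exact lt_irrefl _ hlt'

/-- an integral extension of domains is open at a point over a unibranch point -/
theorem isOpenAt_of_isIntegral {C : Type u} [CommRing C] [IsDomain C] [Algebra A C] [FaithfulSMul A C]
    [Algebra.IsIntegral A C] (Q : PrimeSpectrum C) (p : PrimeSpectrum A)
    (hQ : PrimeSpectrum.comap (algebraMap A C) Q = p) {R : Type u} [CommRing R] [IsLocalRing R]
    (hR : CAlg2.IsUnibranch R) (φ : R →+* Localization.AtPrime p.asIdeal) (hφ : Function.Surjective φ)
    (hker : RingHom.ker φ ≤ nilradical R) :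
    EGA43.IsOpenAt (PrimeSpectrum.comap (algebraMap A C)) Q := by
  let K := FractionRing A
  let L := FractionRing C
  let _ : Algebra K L := FractionRing.liftAlgebra A L
  let A' := integralClosure A K
  let C' := integralClosure A L
  let _ : Algebra A' C' :=
    ((IsScalarTower.toAlgHom A K L).mapIntegralClosure).toRingHom.toAlgebra
  have : IsScalarTower A A' C' := IsScalarTower.of_algebraMap_eq fun a =>
    ((IsScalarTower.toAlgHom A K L).mapIntegralClosure.commutes a).symm
  have : Algebra.IsIntegral A' C' := Algebra.IsIntegral.tower_top A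
  have : FaithfulSMul A' C' := by
    rw [faithfulSMul_iff_algebraMap_injective]
    intro a b hab
    exact Subtype.ext ((algebraMap K L).injective (congrArg Subtype.val hab))
  have : IsFractionRing A' K :=
    integralClosure.isFractionRing_of_finite_extension (A := A) K K
  have : IsIntegrallyClosed A' := by
    rw [isIntegrallyClosed_iff (R := A') (K := K)]
    intro x hx
    exact ⟨⟨x, isIntegral_trans (R := A) x hx⟩, rfl⟩
  let _ : Algebra C C' := ((IsScalarTower.toAlgHom A C L).codRestrict C'
    (fun x => (Algebra.IsIntegral.isIntegral x).map _)).toRingHom.toAlgebra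
  have : IsScalarTower A C C' := IsScalarTower.of_algebraMap_eq fun a =>
    Subtype.ext (IsScalarTower.algebraMap_apply A C L a)
  have : Algebra.IsIntegral C C' := Algebra.IsIntegral.tower_top A
  have hCC' : Function.Injective (algebraMap C C') := fun a b hab =>
    IsFractionRing.injective C L (congrArg Subtype.val hab)
  have : FaithfulSMul C C' := (faithfulSMul_iff_algebraMap_injective _ _).2 hCC'
  have hsurj : Function.Surjective (PrimeSpectrum.comap (algebraMap C C')) := fun P => by
    obtain ⟨Q, -, hQ, hQP⟩ := Ideal.exists_ideal_over_prime_of_isIntegral P.asIdeal (⊥ : Ideal C')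
      (by rw [← RingHom.ker_eq_comap_bot, (RingHom.injective_iff_ker_eq_bot _).1 hCC']; exact bot_le)
    exact ⟨⟨Q, hQ⟩, PrimeSpectrum.ext hQP⟩
  have : FaithfulSMul A A' := by
    rw [faithfulSMul_iff_algebraMap_injective]
    exact fun a b h => IsFractionRing.injective A K (congrArg Subtype.val h)
  have hsurjA : Function.Surjective (PrimeSpectrum.comap (algebraMap A A')) := fun P => by
    obtain ⟨Q, -, hQ, hQP⟩ := Ideal.exists_ideal_over_prime_of_isIntegral P.asIdeal (⊥ : Ideal A')
      (by rw [← RingHom.ker_eq_comap_bot,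
        (RingHom.injective_iff_ker_eq_bot _).1 (FaithfulSMul.algebraMap_injective A A')]; exact bot_le)
    exact ⟨⟨Q, hQ⟩, PrimeSpectrum.ext hQP⟩
  let Ap := Localization.AtPrime p.asIdeal
  have hle : p.asIdeal.primeCompl ≤ nonZeroDivisors A := fun x hx =>
    mem_nonZeroDivisors_of_ne_zero fun h0 => hx (by rw [h0]; exact p.asIdeal.zero_mem)
  have : IsDomain Ap := IsLocalization.isDomain_localization hle
  let _ : Algebra Ap K :=
    (IsLocalization.lift (S := Ap) (M := p.asIdeal.primeCompl) (g := algebraMap A K) fun y =>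
      IsUnit.mk0 _ (IsFractionRing.to_map_ne_zero_of_mem_nonZeroDivisors (hle y.2))).toAlgebra
  have : IsScalarTower A Ap K :=
    IsScalarTower.of_algebraMap_eq fun a => (IsLocalization.lift_eq _ a).symm
  have : IsFractionRing Ap K :=
    IsFractionRing.isFractionRing_of_isDomain_of_isLocalization p.asIdeal.primeCompl Ap K
  have := isLocalRing_integralClosure hR φ hφ hker K
  intro U hU
  obtain ⟨Q', hQ'⟩ := hsurj Q
  let a' := PrimeSpectrum.comap (algebraMap A' C') Q'
  have hcomp : PrimeSpectrum.comap (algebraMap A C) ∘ PrimeSpectrum.comap (algebraMap C C') =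
      PrimeSpectrum.comap (algebraMap A A') ∘ PrimeSpectrum.comap (algebraMap A' C') := by
    ext x : 1
    simp only [Function.comp_apply, ← PrimeSpectrum.comap_comp_apply,
      ← IsScalarTower.algebraMap_eq]
  have ha' : PrimeSpectrum.comap (algebraMap A A') a' = p := by
    have := congrFun hcomp Q'
    simp only [Function.comp_apply, hQ'] at this
    rw [← hQ]; exact this.symm
  obtain ⟨V, hVU, hV, hQV⟩ := mem_nhds_iff.1 hU
  let O := PrimeSpectrum.comap (algebraMap A' C') '' (PrimeSpectrum.comap (algebraMap C C') ⁻¹' V)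
  have hO : IsOpen O := Fam20.isOpenMap_comap_of_isIntegrallyClosed _ (hV.preimage (PrimeSpectrum.continuous_comap _))
  have hcl : IsClosedMap (PrimeSpectrum.comap (algebraMap A A')) :=
    PrimeSpectrum.isClosedMap_comap_of_isIntegral _ (algebraMap_isIntegral_iff.2 inferInstance)
  rw [hQ]
  refine mem_nhds_iff.2 ⟨(PrimeSpectrum.comap (algebraMap A A') '' Oᶜ)ᶜ, fun x hx => ?_,
    (hcl _ hO.isClosed_compl).isOpen_compl, ?_⟩
  · obtain ⟨x', rfl⟩ := hsurjA x
    obtain ⟨c, hc, rfl⟩ : x' ∈ O := by_contra fun h => hx ⟨x', h, rfl⟩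
    exact ⟨PrimeSpectrum.comap (algebraMap C C') c, hVU hc, congrFun hcomp c⟩
  · rintro ⟨x', hx', hxp⟩
    exact hx' (fibre_unique p K a' x' ha' hxp ▸ ⟨Q', by rw [Set.mem_preimage, hQ']; exact hQV, rfl⟩)

/-- a quasi-finite extension of domains is open at a point over a unibranch point -/
theorem isOpenAt_of_quasiFiniteAt {D : Type u} [CommRing D] [IsDomain D] [Algebra A D] [Algebra.FiniteType A D]
    (hinj : Function.Injective (algebraMap A D)) (Q : PrimeSpectrum D) [Algebra.QuasiFiniteAt A Q.asIdeal]
    (p : PrimeSpectrum A) (hQ : PrimeSpectrum.comap (algebraMap A D) Q = p) {R : Type u} [CommRing R] [IsLocalRing R]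
    (hR : CAlg2.IsUnibranch R) (φ : R →+* Localization.AtPrime p.asIdeal) (hφ : Function.Surjective φ)
    (hker : RingHom.ker φ ≤ nilradical R) :
    EGA43.IsOpenAt (PrimeSpectrum.comap (algebraMap A D)) Q := by
  intro U hU
  obtain ⟨S', hfg, r, hrQ, hbij⟩ :=
    Algebra.QuasiFiniteAt.exists_fg_and_exists_notMem_and_awayMap_bijective (R := A) Q.asIdeal
  have : Module.Finite A S' := ⟨(Submodule.fg_top _).mpr hfg⟩
  have : FaithfulSMul A S' := (faithfulSMul_iff_algebraMap_injective _ _).2
    fun a b hab => hinj (congrArg Subtype.val hab)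
  let v : S' →+* D := S'.val.toRingHom
  let Sr := Localization.Away r
  let Dr := Localization.Away (v r)
  let w : Sr →+* Dr := Localization.awayMap v r
  have hsq : w.comp (algebraMap S' Sr) = (algebraMap D Dr).comp v :=
    RingHom.ext fun x => by
      simp only [w, IsLocalization.Away.map, RingHom.comp_apply]
      exact IsLocalization.map_eq _ x
  have hw : IsOpenMap (PrimeSpectrum.comap w) :=
    (PrimeSpectrum.homeomorphOfRingEquiv (RingEquiv.ofBijective w hbij)).symm.isOpenMap
  obtain ⟨V, hVU, hV, hQV⟩ := mem_nhds_iff.1 hU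
  have hr : Set.range (PrimeSpectrum.comap (algebraMap D Dr)) =
      (PrimeSpectrum.basicOpen (v r) : Set (PrimeSpectrum D)) :=
    PrimeSpectrum.localization_away_comap_range Dr (v r)
  obtain ⟨z, hz⟩ : Q ∈ Set.range (PrimeSpectrum.comap (algebraMap D Dr)) := by rw [hr]; exact hrQ
  let Ψ := PrimeSpectrum.comap (algebraMap S' Sr) ∘ PrimeSpectrum.comap w
  have hΨ : PrimeSpectrum.comap (algebraMap A D) ∘ PrimeSpectrum.comap (algebraMap D Dr) =
      PrimeSpectrum.comap (algebraMap A S') ∘ Ψ := funext fun x => by
    simp only [Ψ, Function.comp_apply, ← PrimeSpectrum.comap_comp_apply, hsq]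
    rfl
  have hΨo : IsOpenMap Ψ := ((PrimeSpectrum.localization_away_isOpenEmbedding Sr r).isOpenMap).comp hw
  have hW : Ψ '' (PrimeSpectrum.comap (algebraMap D Dr) ⁻¹' V) ∈ 𝓝 (Ψ z) :=
    (hΨo _ (hV.preimage (PrimeSpectrum.continuous_comap _))).mem_nhds ⟨z, by rw [Set.mem_preimage, hz]; exact hQV, rfl⟩
  have hzp : PrimeSpectrum.comap (algebraMap A S') (Ψ z) = p := by
    rw [← hQ, ← hz]; exact (congrFun hΨ z).symm
  have := isOpenAt_of_isIntegral (Ψ z) p hzp hR φ hφ hker _ hW
  rw [hzp] at this
  rw [hQ]
  refine Filter.mem_of_superset this ?_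
  rintro _ ⟨_, ⟨x, hx, rfl⟩, rfl⟩
  exact ⟨_, hVU hx, congrFun hΨ x⟩

end Groth.Agent.CAlg6.UnibranchOpen
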