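import Mathlib
import Groth.Agent.EGA4Alg4.IntegralDim
import Groth.Agent.FF30.FF

/-!
Valuation subrings containing a Dedekind domain; function fields of one-dimensional affine algebras.
-/

set_option autoImplicit false
set_option linter.style.haveILetI false

universe u

open IsDedekindDomain
open Groth.Agent

namespace Groth.Agent.CAlg6

theorem eq_adic_of_le {A K : Type u} [CommRing A] [IsDedekindDomain A] [Field K] [Algebra A K]
    [IsFractionRing A K] (O : ValuationSubring K) (hA : ∀ a, algebraMap A K a ∈ O) (hO : O ≠ ⊤) :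
    ∃ v : HeightOneSpectrum A, O = (v.valuation K).valuationSubring := by
  let f : A →+* O := (algebraMap A K).codRestrict O.toSubring hA
  let P : Ideal A := (IsLocalRing.maximalIdeal O).comap f
  have hu : ∀ a, a ∉ P → (algebraMap A K a)⁻¹ ∈ O := fun a ha => by
    have : IsUnit (f a) := by
      by_contra h; exact ha h
    obtain ⟨w, hw⟩ := this
    have h1 : algebraMap A K a * ((w⁻¹ : Oˣ) : O).1 = 1 := by
      have := congrArg Subtype.val w.mul_inv
      rw [hw] at this; exact this
    rw [← eq_inv_of_mul_eq_one_right h1]; exact ((w⁻¹ : Oˣ) : O).2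
  have hP : P ≠ ⊥ := by
    intro hbot
    refine hO (eq_top_iff.2 fun z _ => ?_)
    obtain ⟨a, b, hb, rfl⟩ := IsFractionRing.div_surjective (A := A) z
    rw [div_eq_mul_inv]
    exact mul_mem (hA a) (hu b (by rw [hbot, Ideal.mem_bot]; exact nonZeroDivisors.ne_zero hb))
  let v : HeightOneSpectrum A := ⟨P, inferInstance, hP⟩
  refine ⟨v, ?_⟩
  rw [← HeightOneSpectrum.valuationSubringAtPrime_eq_valuationSubring]
  refine (ValuationSubring.eq_of_le_of_ne_top _ ?_ hO).symm
  intro z hz
  rw [← ValuationSubring.mem_toSubring, HeightOneSpectrum.valuationSubringAtPrime_toSubring] at hz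
  obtain ⟨a, s, hs, rfl⟩ := hz
  exact mul_mem (hA a) (hu s hs)

theorem ff_of_dim_one (k A F : Type u) [Field k]
    [CommRing A] [IsDomain A] [Algebra k A] [Algebra.FiniteType k A] (hA : ringKrullDim A = 1)
    [Field F] [Algebra A F] [IsFractionRing A F] [Algebra k F] [IsScalarTower k A F] :
    FF30.FF k F := by
  obtain ⟨s, g, hg, hgf⟩ := exists_finite_inj_algHom_of_fg k A
  letI : Algebra (MvPolynomial (Fin s) k) A := g.toAlgebra
  have : Module.Finite (MvPolynomial (Fin s) k) A := hgf
  have hdim := EGA4Alg4.ringKrullDim_eq_of_integral (A := MvPolynomial (Fin s) k) (B := A) hg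
  rw [hA, MvPolynomial.ringKrullDim_of_isNoetherianRing, ringKrullDim_eq_zero_of_field, zero_add] at hdim
  have hs : s = 1 := by
    have : ((s : ℕ) : WithBot ℕ∞) = ((1 : ℕ) : WithBot ℕ∞) := by simpa using hdim.symm
    exact_mod_cast this
  subst hs
  let t : A := g (MvPolynomial.X 0)
  let x : F := algebraMap A F t
  have htr : Transcendental k x := by
    have h0 : Transcendental k (MvPolynomial.X 0 : MvPolynomial (Fin 1) k) := MvPolynomial.transcendental_X k 0
    have h1 : Transcendental k t := fun h => h0 ((isAlgebraic_algHom_iff g hg).1 h)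
    exact (transcendental_algebraMap_iff (IsFractionRing.injective A F)).2 h1
  refine ⟨x, htr, ?_⟩
  let E := IntermediateField.adjoin k ({x} : Set F)
  have : Algebra.EssFiniteType A F := Algebra.EssFiniteType.of_isLocalization F (nonZeroDivisors A)
  have : Algebra.EssFiniteType k F := Algebra.EssFiniteType.comp k A F
  have : Algebra.EssFiniteType E F := Algebra.EssFiniteType.of_comp k _ _
  have hA' : ∀ a : A, IsIntegral E (algebraMap A F a) := fun a => by
    have h1 : IsIntegral (MvPolynomial (Fin 1) k) a := Algebra.IsIntegral.isIntegral a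
    have hrange : ∀ p : MvPolynomial (Fin 1) k, algebraMap A F (g p) ∈ E := fun p => by
      induction p using MvPolynomial.induction_on with
      | C a => rw [← MvPolynomial.algebraMap_eq, AlgHom.commutes, ← IsScalarTower.algebraMap_apply]; exact E.algebraMap_mem a
      | add p q hp hq => rw [map_add, map_add]; exact add_mem hp hq
      | mul_X p i hp =>
        rw [map_mul, map_mul, Fin.fin_one_eq_zero i]
        exact mul_mem hp (IntermediateField.mem_adjoin_simple_self k x)
    let φ : MvPolynomial (Fin 1) k →+* E := ((algebraMap A F).comp g.toRingHom).codRestrict E hrange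
    obtain ⟨q, hq, hqa⟩ := h1
    refine ⟨q.map φ, hq.map φ, ?_⟩
    rw [Polynomial.eval₂_map]
    have : (algebraMap E F).comp φ = (algebraMap A F).comp g.toRingHom := rfl
    rw [this, ← Polynomial.hom_eval₂]
    rw [show Polynomial.eval₂ g.toRingHom a q = 0 from hqa, map_zero]
  have halg : Algebra.IsAlgebraic E F := ⟨fun z => by
    obtain ⟨a, b, -, rfl⟩ := IsFractionRing.div_surjective (A := A) z
    rw [div_eq_mul_inv]
    exact ((hA' a).mul ((hA' b).inv)).isAlgebraic⟩
  exact Algebra.finite_of_essFiniteType_of_isAlgebraic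

end Groth.Agent.CAlg6
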